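import Cfsg.Agent.Lib.Lead.HNOut.D10

/-! # The outer automorphism group of the Harada–Norton group: the check of the table of the element number 10 (generated) -/

set_option autoImplicit false
set_option maxRecDepth 100000

namespace Cfsg.Agent.HNOut

open Cfsg.Agent.PF Cfsg.Agent.Lib.Helper6 Cfsg.Agent.Lib.Helper6.TC Cfsg.Agent.Lib.Helper6.NatArr
open Cfsg.Agent.PL (Acts evalF)

theorem eq10_0 : allR 0 2561 (fun q => Nat.beq (f10 q) ((fun q => f4 (f3 (f6 (f4 (f2 (f0 (f2 (f4 (f2 (f0 (f6 (f4 (f2 (f4 (f2 (f4 (f6 (f4 (f3 (f1 (f2 (f4 (f0 (f2 (f2 (f0 (f3 (f4 (f3 (f3 (f1 (f2 (f4 (f2 (f1 (f4 (f2 (f1 (q))))))))))))))))))))))))))))))))))))))) q)) = true := by decide +kernel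

theorem eq10_1 : allR 2561 2561 (fun q => Nat.beq (f10 q) ((fun q => f4 (f3 (f6 (f4 (f2 (f0 (f2 (f4 (f2 (f0 (f6 (f4 (f2 (f4 (f2 (f4 (f6 (f4 (f3 (f1 (f2 (f4 (f0 (f2 (f2 (f0 (f3 (f4 (f3 (f3 (f1 (f2 (f4 (f2 (f1 (f4 (f2 (f1 (q))))))))))))))))))))))))))))))))))))))) q)) = true := by decide +kernel

theorem eq10_2 : allR 5122 2561 (fun q => Nat.beq (f10 q) ((fun q => f4 (f3 (f6 (f4 (f2 (f0 (f2 (f4 (f2 (f0 (f6 (f4 (f2 (f4 (f2 (f4 (f6 (f4 (f3 (f1 (f2 (f4 (f0 (f2 (f2 (f0 (f3 (f4 (f3 (f3 (f1 (f2 (f4 (f2 (f1 (f4 (f2 (f1 (q))))))))))))))))))))))))))))))))))))))) q)) = true := by decide +kernel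

theorem eq10_3 : allR 7683 2561 (fun q => Nat.beq (f10 q) ((fun q => f4 (f3 (f6 (f4 (f2 (f0 (f2 (f4 (f2 (f0 (f6 (f4 (f2 (f4 (f2 (f4 (f6 (f4 (f3 (f1 (f2 (f4 (f0 (f2 (f2 (f0 (f3 (f4 (f3 (f3 (f1 (f2 (f4 (f2 (f1 (f4 (f2 (f1 (q))))))))))))))))))))))))))))))))))))))) q)) = true := by decide +kernel

theorem eq10_4 : allR 10244 2561 (fun q => Nat.beq (f10 q) ((fun q => f4 (f3 (f6 (f4 (f2 (f0 (f2 (f4 (f2 (f0 (f6 (f4 (f2 (f4 (f2 (f4 (f6 (f4 (f3 (f1 (f2 (f4 (f0 (f2 (f2 (f0 (f3 (f4 (f3 (f3 (f1 (f2 (f4 (f2 (f1 (f4 (f2 (f1 (q))))))))))))))))))))))))))))))))))))))) q)) = true := by decide +kernel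

theorem eq10_5 : allR 12805 2561 (fun q => Nat.beq (f10 q) ((fun q => f4 (f3 (f6 (f4 (f2 (f0 (f2 (f4 (f2 (f0 (f6 (f4 (f2 (f4 (f2 (f4 (f6 (f4 (f3 (f1 (f2 (f4 (f0 (f2 (f2 (f0 (f3 (f4 (f3 (f3 (f1 (f2 (f4 (f2 (f1 (f4 (f2 (f1 (q))))))))))))))))))))))))))))))))))))))) q)) = true := by decide +kernel

theorem eq10_6 : allR 15366 2561 (fun q => Nat.beq (f10 q) ((fun q => f4 (f3 (f6 (f4 (f2 (f0 (f2 (f4 (f2 (f0 (f6 (f4 (f2 (f4 (f2 (f4 (f6 (f4 (f3 (f1 (f2 (f4 (f0 (f2 (f2 (f0 (f3 (f4 (f3 (f3 (f1 (f2 (f4 (f2 (f1 (f4 (f2 (f1 (q))))))))))))))))))))))))))))))))))))))) q)) = true := by decide +kernel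

theorem eq10_7 : allR 17927 2561 (fun q => Nat.beq (f10 q) ((fun q => f4 (f3 (f6 (f4 (f2 (f0 (f2 (f4 (f2 (f0 (f6 (f4 (f2 (f4 (f2 (f4 (f6 (f4 (f3 (f1 (f2 (f4 (f0 (f2 (f2 (f0 (f3 (f4 (f3 (f3 (f1 (f2 (f4 (f2 (f1 (f4 (f2 (f1 (q))))))))))))))))))))))))))))))))))))))) q)) = true := by decide +kernel

theorem eq10_8 : allR 20488 2561 (fun q => Nat.beq (f10 q) ((fun q => f4 (f3 (f6 (f4 (f2 (f0 (f2 (f4 (f2 (f0 (f6 (f4 (f2 (f4 (f2 (f4 (f6 (f4 (f3 (f1 (f2 (f4 (f0 (f2 (f2 (f0 (f3 (f4 (f3 (f3 (f1 (f2 (f4 (f2 (f1 (f4 (f2 (f1 (q))))))))))))))))))))))))))))))))))))))) q)) = true := by decide +kernel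

theorem eq10_9 : allR 23049 2561 (fun q => Nat.beq (f10 q) ((fun q => f4 (f3 (f6 (f4 (f2 (f0 (f2 (f4 (f2 (f0 (f6 (f4 (f2 (f4 (f2 (f4 (f6 (f4 (f3 (f1 (f2 (f4 (f0 (f2 (f2 (f0 (f3 (f4 (f3 (f3 (f1 (f2 (f4 (f2 (f1 (f4 (f2 (f1 (q))))))))))))))))))))))))))))))))))))))) q)) = true := by decide +kernel

theorem eq10_10 : allR 25610 2561 (fun q => Nat.beq (f10 q) ((fun q => f4 (f3 (f6 (f4 (f2 (f0 (f2 (f4 (f2 (f0 (f6 (f4 (f2 (f4 (f2 (f4 (f6 (f4 (f3 (f1 (f2 (f4 (f0 (f2 (f2 (f0 (f3 (f4 (f3 (f3 (f1 (f2 (f4 (f2 (f1 (f4 (f2 (f1 (q))))))))))))))))))))))))))))))))))))))) q)) = true := by decide +kernel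

theorem eq10_11 : allR 28171 2561 (fun q => Nat.beq (f10 q) ((fun q => f4 (f3 (f6 (f4 (f2 (f0 (f2 (f4 (f2 (f0 (f6 (f4 (f2 (f4 (f2 (f4 (f6 (f4 (f3 (f1 (f2 (f4 (f0 (f2 (f2 (f0 (f3 (f4 (f3 (f3 (f1 (f2 (f4 (f2 (f1 (f4 (f2 (f1 (q))))))))))))))))))))))))))))))))))))))) q)) = true := by decide +kernel

theorem eq10_12 : allR 30732 2561 (fun q => Nat.beq (f10 q) ((fun q => f4 (f3 (f6 (f4 (f2 (f0 (f2 (f4 (f2 (f0 (f6 (f4 (f2 (f4 (f2 (f4 (f6 (f4 (f3 (f1 (f2 (f4 (f0 (f2 (f2 (f0 (f3 (f4 (f3 (f3 (f1 (f2 (f4 (f2 (f1 (f4 (f2 (f1 (q))))))))))))))))))))))))))))))))))))))) q)) = true := by decide +kernel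

theorem eq10_13 : allR 33293 2561 (fun q => Nat.beq (f10 q) ((fun q => f4 (f3 (f6 (f4 (f2 (f0 (f2 (f4 (f2 (f0 (f6 (f4 (f2 (f4 (f2 (f4 (f6 (f4 (f3 (f1 (f2 (f4 (f0 (f2 (f2 (f0 (f3 (f4 (f3 (f3 (f1 (f2 (f4 (f2 (f1 (f4 (f2 (f1 (q))))))))))))))))))))))))))))))))))))))) q)) = true := by decide +kernel

theorem eq10_14 : allR 35854 2561 (fun q => Nat.beq (f10 q) ((fun q => f4 (f3 (f6 (f4 (f2 (f0 (f2 (f4 (f2 (f0 (f6 (f4 (f2 (f4 (f2 (f4 (f6 (f4 (f3 (f1 (f2 (f4 (f0 (f2 (f2 (f0 (f3 (f4 (f3 (f3 (f1 (f2 (f4 (f2 (f1 (f4 (f2 (f1 (q))))))))))))))))))))))))))))))))))))))) q)) = true := by decide +kernel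

theorem eq10_15 : allR 38415 2561 (fun q => Nat.beq (f10 q) ((fun q => f4 (f3 (f6 (f4 (f2 (f0 (f2 (f4 (f2 (f0 (f6 (f4 (f2 (f4 (f2 (f4 (f6 (f4 (f3 (f1 (f2 (f4 (f0 (f2 (f2 (f0 (f3 (f4 (f3 (f3 (f1 (f2 (f4 (f2 (f1 (f4 (f2 (f1 (q))))))))))))))))))))))))))))))))))))))) q)) = true := by decide +kernel

theorem eq10_16 : allR 40976 2561 (fun q => Nat.beq (f10 q) ((fun q => f4 (f3 (f6 (f4 (f2 (f0 (f2 (f4 (f2 (f0 (f6 (f4 (f2 (f4 (f2 (f4 (f6 (f4 (f3 (f1 (f2 (f4 (f0 (f2 (f2 (f0 (f3 (f4 (f3 (f3 (f1 (f2 (f4 (f2 (f1 (f4 (f2 (f1 (q))))))))))))))))))))))))))))))))))))))) q)) = true := by decide +kernel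

theorem eq10_17 : allR 43537 2561 (fun q => Nat.beq (f10 q) ((fun q => f4 (f3 (f6 (f4 (f2 (f0 (f2 (f4 (f2 (f0 (f6 (f4 (f2 (f4 (f2 (f4 (f6 (f4 (f3 (f1 (f2 (f4 (f0 (f2 (f2 (f0 (f3 (f4 (f3 (f3 (f1 (f2 (f4 (f2 (f1 (f4 (f2 (f1 (q))))))))))))))))))))))))))))))))))))))) q)) = true := by decide +kernel

theorem eq10_18 : allR 46098 2561 (fun q => Nat.beq (f10 q) ((fun q => f4 (f3 (f6 (f4 (f2 (f0 (f2 (f4 (f2 (f0 (f6 (f4 (f2 (f4 (f2 (f4 (f6 (f4 (f3 (f1 (f2 (f4 (f0 (f2 (f2 (f0 (f3 (f4 (f3 (f3 (f1 (f2 (f4 (f2 (f1 (f4 (f2 (f1 (q))))))))))))))))))))))))))))))))))))))) q)) = true := by decide +kernel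

theorem eq10_19 : allR 48659 2561 (fun q => Nat.beq (f10 q) ((fun q => f4 (f3 (f6 (f4 (f2 (f0 (f2 (f4 (f2 (f0 (f6 (f4 (f2 (f4 (f2 (f4 (f6 (f4 (f3 (f1 (f2 (f4 (f0 (f2 (f2 (f0 (f3 (f4 (f3 (f3 (f1 (f2 (f4 (f2 (f1 (f4 (f2 (f1 (q))))))))))))))))))))))))))))))))))))))) q)) = true := by decide +kernel

theorem eq10_20 : allR 51220 2561 (fun q => Nat.beq (f10 q) ((fun q => f4 (f3 (f6 (f4 (f2 (f0 (f2 (f4 (f2 (f0 (f6 (f4 (f2 (f4 (f2 (f4 (f6 (f4 (f3 (f1 (f2 (f4 (f0 (f2 (f2 (f0 (f3 (f4 (f3 (f3 (f1 (f2 (f4 (f2 (f1 (f4 (f2 (f1 (q))))))))))))))))))))))))))))))))))))))) q)) = true := by decide +kernel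

theorem eq10_21 : allR 53781 2561 (fun q => Nat.beq (f10 q) ((fun q => f4 (f3 (f6 (f4 (f2 (f0 (f2 (f4 (f2 (f0 (f6 (f4 (f2 (f4 (f2 (f4 (f6 (f4 (f3 (f1 (f2 (f4 (f0 (f2 (f2 (f0 (f3 (f4 (f3 (f3 (f1 (f2 (f4 (f2 (f1 (f4 (f2 (f1 (q))))))))))))))))))))))))))))))))))))))) q)) = true := by decide +kernel

theorem eq10_22 : allR 56342 2561 (fun q => Nat.beq (f10 q) ((fun q => f4 (f3 (f6 (f4 (f2 (f0 (f2 (f4 (f2 (f0 (f6 (f4 (f2 (f4 (f2 (f4 (f6 (f4 (f3 (f1 (f2 (f4 (f0 (f2 (f2 (f0 (f3 (f4 (f3 (f3 (f1 (f2 (f4 (f2 (f1 (f4 (f2 (f1 (q))))))))))))))))))))))))))))))))))))))) q)) = true := by decide +kernel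

theorem eq10_23 : allR 58903 2561 (fun q => Nat.beq (f10 q) ((fun q => f4 (f3 (f6 (f4 (f2 (f0 (f2 (f4 (f2 (f0 (f6 (f4 (f2 (f4 (f2 (f4 (f6 (f4 (f3 (f1 (f2 (f4 (f0 (f2 (f2 (f0 (f3 (f4 (f3 (f3 (f1 (f2 (f4 (f2 (f1 (f4 (f2 (f1 (q))))))))))))))))))))))))))))))))))))))) q)) = true := by decide +kernel

theorem eq10_24 : allR 61464 2561 (fun q => Nat.beq (f10 q) ((fun q => f4 (f3 (f6 (f4 (f2 (f0 (f2 (f4 (f2 (f0 (f6 (f4 (f2 (f4 (f2 (f4 (f6 (f4 (f3 (f1 (f2 (f4 (f0 (f2 (f2 (f0 (f3 (f4 (f3 (f3 (f1 (f2 (f4 (f2 (f1 (f4 (f2 (f1 (q))))))))))))))))))))))))))))))))))))))) q)) = true := by decide +kernel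


end Cfsg.Agent.HNOut
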