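import Cfsg.Agent.Lib.Lead.HNOut.D10

/-! # The outer automorphism group of the Harada–Norton group: the check of the table of the element number 10 (generated) -/

set_option autoImplicit false
set_option maxRecDepth 100000

namespace Cfsg.Agent.HNOut

open Cfsg.Agent.PF Cfsg.Agent.Lib.Helper6 Cfsg.Agent.Lib.Helper6.TC Cfsg.Agent.Lib.Helper6.NatArr
open Cfsg.Agent.PL (Acts evalF)

theorem eq10_25 : allR 64025 2561 (fun q => Nat.beq (f10 q) ((fun q => f4 (f3 (f6 (f4 (f2 (f0 (f2 (f4 (f2 (f0 (f6 (f4 (f2 (f4 (f2 (f4 (f6 (f4 (f3 (f1 (f2 (f4 (f0 (f2 (f2 (f0 (f3 (f4 (f3 (f3 (f1 (f2 (f4 (f2 (f1 (f4 (f2 (f1 (q))))))))))))))))))))))))))))))))))))))) q)) = true := by decide +kernel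

theorem eq10_26 : allR 66586 2561 (fun q => Nat.beq (f10 q) ((fun q => f4 (f3 (f6 (f4 (f2 (f0 (f2 (f4 (f2 (f0 (f6 (f4 (f2 (f4 (f2 (f4 (f6 (f4 (f3 (f1 (f2 (f4 (f0 (f2 (f2 (f0 (f3 (f4 (f3 (f3 (f1 (f2 (f4 (f2 (f1 (f4 (f2 (f1 (q))))))))))))))))))))))))))))))))))))))) q)) = true := by decide +kernel

theorem eq10_27 : allR 69147 2561 (fun q => Nat.beq (f10 q) ((fun q => f4 (f3 (f6 (f4 (f2 (f0 (f2 (f4 (f2 (f0 (f6 (f4 (f2 (f4 (f2 (f4 (f6 (f4 (f3 (f1 (f2 (f4 (f0 (f2 (f2 (f0 (f3 (f4 (f3 (f3 (f1 (f2 (f4 (f2 (f1 (f4 (f2 (f1 (q))))))))))))))))))))))))))))))))))))))) q)) = true := by decide +kernel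

theorem eq10_28 : allR 71708 2561 (fun q => Nat.beq (f10 q) ((fun q => f4 (f3 (f6 (f4 (f2 (f0 (f2 (f4 (f2 (f0 (f6 (f4 (f2 (f4 (f2 (f4 (f6 (f4 (f3 (f1 (f2 (f4 (f0 (f2 (f2 (f0 (f3 (f4 (f3 (f3 (f1 (f2 (f4 (f2 (f1 (f4 (f2 (f1 (q))))))))))))))))))))))))))))))))))))))) q)) = true := by decide +kernel

theorem eq10_29 : allR 74269 2561 (fun q => Nat.beq (f10 q) ((fun q => f4 (f3 (f6 (f4 (f2 (f0 (f2 (f4 (f2 (f0 (f6 (f4 (f2 (f4 (f2 (f4 (f6 (f4 (f3 (f1 (f2 (f4 (f0 (f2 (f2 (f0 (f3 (f4 (f3 (f3 (f1 (f2 (f4 (f2 (f1 (f4 (f2 (f1 (q))))))))))))))))))))))))))))))))))))))) q)) = true := by decide +kernel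

theorem eq10_30 : allR 76830 2561 (fun q => Nat.beq (f10 q) ((fun q => f4 (f3 (f6 (f4 (f2 (f0 (f2 (f4 (f2 (f0 (f6 (f4 (f2 (f4 (f2 (f4 (f6 (f4 (f3 (f1 (f2 (f4 (f0 (f2 (f2 (f0 (f3 (f4 (f3 (f3 (f1 (f2 (f4 (f2 (f1 (f4 (f2 (f1 (q))))))))))))))))))))))))))))))))))))))) q)) = true := by decide +kernel

theorem eq10_31 : allR 79391 2561 (fun q => Nat.beq (f10 q) ((fun q => f4 (f3 (f6 (f4 (f2 (f0 (f2 (f4 (f2 (f0 (f6 (f4 (f2 (f4 (f2 (f4 (f6 (f4 (f3 (f1 (f2 (f4 (f0 (f2 (f2 (f0 (f3 (f4 (f3 (f3 (f1 (f2 (f4 (f2 (f1 (f4 (f2 (f1 (q))))))))))))))))))))))))))))))))))))))) q)) = true := by decide +kernel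

theorem eq10_32 : allR 81952 2561 (fun q => Nat.beq (f10 q) ((fun q => f4 (f3 (f6 (f4 (f2 (f0 (f2 (f4 (f2 (f0 (f6 (f4 (f2 (f4 (f2 (f4 (f6 (f4 (f3 (f1 (f2 (f4 (f0 (f2 (f2 (f0 (f3 (f4 (f3 (f3 (f1 (f2 (f4 (f2 (f1 (f4 (f2 (f1 (q))))))))))))))))))))))))))))))))))))))) q)) = true := by decide +kernel

theorem eq10_33 : allR 84513 2561 (fun q => Nat.beq (f10 q) ((fun q => f4 (f3 (f6 (f4 (f2 (f0 (f2 (f4 (f2 (f0 (f6 (f4 (f2 (f4 (f2 (f4 (f6 (f4 (f3 (f1 (f2 (f4 (f0 (f2 (f2 (f0 (f3 (f4 (f3 (f3 (f1 (f2 (f4 (f2 (f1 (f4 (f2 (f1 (q))))))))))))))))))))))))))))))))))))))) q)) = true := by decide +kernel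

theorem eq10_34 : allR 87074 2561 (fun q => Nat.beq (f10 q) ((fun q => f4 (f3 (f6 (f4 (f2 (f0 (f2 (f4 (f2 (f0 (f6 (f4 (f2 (f4 (f2 (f4 (f6 (f4 (f3 (f1 (f2 (f4 (f0 (f2 (f2 (f0 (f3 (f4 (f3 (f3 (f1 (f2 (f4 (f2 (f1 (f4 (f2 (f1 (q))))))))))))))))))))))))))))))))))))))) q)) = true := by decide +kernel

theorem eq10_35 : allR 89635 2561 (fun q => Nat.beq (f10 q) ((fun q => f4 (f3 (f6 (f4 (f2 (f0 (f2 (f4 (f2 (f0 (f6 (f4 (f2 (f4 (f2 (f4 (f6 (f4 (f3 (f1 (f2 (f4 (f0 (f2 (f2 (f0 (f3 (f4 (f3 (f3 (f1 (f2 (f4 (f2 (f1 (f4 (f2 (f1 (q))))))))))))))))))))))))))))))))))))))) q)) = true := by decide +kernel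

theorem eq10_36 : allR 92196 2561 (fun q => Nat.beq (f10 q) ((fun q => f4 (f3 (f6 (f4 (f2 (f0 (f2 (f4 (f2 (f0 (f6 (f4 (f2 (f4 (f2 (f4 (f6 (f4 (f3 (f1 (f2 (f4 (f0 (f2 (f2 (f0 (f3 (f4 (f3 (f3 (f1 (f2 (f4 (f2 (f1 (f4 (f2 (f1 (q))))))))))))))))))))))))))))))))))))))) q)) = true := by decide +kernel

theorem eq10_37 : allR 94757 2561 (fun q => Nat.beq (f10 q) ((fun q => f4 (f3 (f6 (f4 (f2 (f0 (f2 (f4 (f2 (f0 (f6 (f4 (f2 (f4 (f2 (f4 (f6 (f4 (f3 (f1 (f2 (f4 (f0 (f2 (f2 (f0 (f3 (f4 (f3 (f3 (f1 (f2 (f4 (f2 (f1 (f4 (f2 (f1 (q))))))))))))))))))))))))))))))))))))))) q)) = true := by decide +kernel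

theorem eq10_38 : allR 97318 2561 (fun q => Nat.beq (f10 q) ((fun q => f4 (f3 (f6 (f4 (f2 (f0 (f2 (f4 (f2 (f0 (f6 (f4 (f2 (f4 (f2 (f4 (f6 (f4 (f3 (f1 (f2 (f4 (f0 (f2 (f2 (f0 (f3 (f4 (f3 (f3 (f1 (f2 (f4 (f2 (f1 (f4 (f2 (f1 (q))))))))))))))))))))))))))))))))))))))) q)) = true := by decide +kernel

theorem eq10_39 : allR 99879 2561 (fun q => Nat.beq (f10 q) ((fun q => f4 (f3 (f6 (f4 (f2 (f0 (f2 (f4 (f2 (f0 (f6 (f4 (f2 (f4 (f2 (f4 (f6 (f4 (f3 (f1 (f2 (f4 (f0 (f2 (f2 (f0 (f3 (f4 (f3 (f3 (f1 (f2 (f4 (f2 (f1 (f4 (f2 (f1 (q))))))))))))))))))))))))))))))))))))))) q)) = true := by decide +kernel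

theorem eq10_40 : allR 102440 2561 (fun q => Nat.beq (f10 q) ((fun q => f4 (f3 (f6 (f4 (f2 (f0 (f2 (f4 (f2 (f0 (f6 (f4 (f2 (f4 (f2 (f4 (f6 (f4 (f3 (f1 (f2 (f4 (f0 (f2 (f2 (f0 (f3 (f4 (f3 (f3 (f1 (f2 (f4 (f2 (f1 (f4 (f2 (f1 (q))))))))))))))))))))))))))))))))))))))) q)) = true := by decide +kernel

theorem eq10_41 : allR 105001 2561 (fun q => Nat.beq (f10 q) ((fun q => f4 (f3 (f6 (f4 (f2 (f0 (f2 (f4 (f2 (f0 (f6 (f4 (f2 (f4 (f2 (f4 (f6 (f4 (f3 (f1 (f2 (f4 (f0 (f2 (f2 (f0 (f3 (f4 (f3 (f3 (f1 (f2 (f4 (f2 (f1 (f4 (f2 (f1 (q))))))))))))))))))))))))))))))))))))))) q)) = true := by decide +kernel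

theorem eq10_42 : allR 107562 2561 (fun q => Nat.beq (f10 q) ((fun q => f4 (f3 (f6 (f4 (f2 (f0 (f2 (f4 (f2 (f0 (f6 (f4 (f2 (f4 (f2 (f4 (f6 (f4 (f3 (f1 (f2 (f4 (f0 (f2 (f2 (f0 (f3 (f4 (f3 (f3 (f1 (f2 (f4 (f2 (f1 (f4 (f2 (f1 (q))))))))))))))))))))))))))))))))))))))) q)) = true := by decide +kernel

theorem eq10_43 : allR 110123 2561 (fun q => Nat.beq (f10 q) ((fun q => f4 (f3 (f6 (f4 (f2 (f0 (f2 (f4 (f2 (f0 (f6 (f4 (f2 (f4 (f2 (f4 (f6 (f4 (f3 (f1 (f2 (f4 (f0 (f2 (f2 (f0 (f3 (f4 (f3 (f3 (f1 (f2 (f4 (f2 (f1 (f4 (f2 (f1 (q))))))))))))))))))))))))))))))))))))))) q)) = true := by decide +kernel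

theorem eq10_44 : allR 112684 2561 (fun q => Nat.beq (f10 q) ((fun q => f4 (f3 (f6 (f4 (f2 (f0 (f2 (f4 (f2 (f0 (f6 (f4 (f2 (f4 (f2 (f4 (f6 (f4 (f3 (f1 (f2 (f4 (f0 (f2 (f2 (f0 (f3 (f4 (f3 (f3 (f1 (f2 (f4 (f2 (f1 (f4 (f2 (f1 (q))))))))))))))))))))))))))))))))))))))) q)) = true := by decide +kernel

theorem eq10_45 : allR 115245 2561 (fun q => Nat.beq (f10 q) ((fun q => f4 (f3 (f6 (f4 (f2 (f0 (f2 (f4 (f2 (f0 (f6 (f4 (f2 (f4 (f2 (f4 (f6 (f4 (f3 (f1 (f2 (f4 (f0 (f2 (f2 (f0 (f3 (f4 (f3 (f3 (f1 (f2 (f4 (f2 (f1 (f4 (f2 (f1 (q))))))))))))))))))))))))))))))))))))))) q)) = true := by decide +kernel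

theorem eq10_46 : allR 117806 2561 (fun q => Nat.beq (f10 q) ((fun q => f4 (f3 (f6 (f4 (f2 (f0 (f2 (f4 (f2 (f0 (f6 (f4 (f2 (f4 (f2 (f4 (f6 (f4 (f3 (f1 (f2 (f4 (f0 (f2 (f2 (f0 (f3 (f4 (f3 (f3 (f1 (f2 (f4 (f2 (f1 (f4 (f2 (f1 (q))))))))))))))))))))))))))))))))))))))) q)) = true := by decide +kernel

theorem eq10_47 : allR 120367 2561 (fun q => Nat.beq (f10 q) ((fun q => f4 (f3 (f6 (f4 (f2 (f0 (f2 (f4 (f2 (f0 (f6 (f4 (f2 (f4 (f2 (f4 (f6 (f4 (f3 (f1 (f2 (f4 (f0 (f2 (f2 (f0 (f3 (f4 (f3 (f3 (f1 (f2 (f4 (f2 (f1 (f4 (f2 (f1 (q))))))))))))))))))))))))))))))))))))))) q)) = true := by decide +kernel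

theorem eq10_48 : allR 122928 2561 (fun q => Nat.beq (f10 q) ((fun q => f4 (f3 (f6 (f4 (f2 (f0 (f2 (f4 (f2 (f0 (f6 (f4 (f2 (f4 (f2 (f4 (f6 (f4 (f3 (f1 (f2 (f4 (f0 (f2 (f2 (f0 (f3 (f4 (f3 (f3 (f1 (f2 (f4 (f2 (f1 (f4 (f2 (f1 (q))))))))))))))))))))))))))))))))))))))) q)) = true := by decide +kernel

theorem eq10_49 : allR 125489 2561 (fun q => Nat.beq (f10 q) ((fun q => f4 (f3 (f6 (f4 (f2 (f0 (f2 (f4 (f2 (f0 (f6 (f4 (f2 (f4 (f2 (f4 (f6 (f4 (f3 (f1 (f2 (f4 (f0 (f2 (f2 (f0 (f3 (f4 (f3 (f3 (f1 (f2 (f4 (f2 (f1 (f4 (f2 (f1 (q))))))))))))))))))))))))))))))))))))))) q)) = true := by decide +kernel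


end Cfsg.Agent.HNOut
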