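import Cfsg.Agent.Lib.Lead.HNOut.D10

/-! # The outer automorphism group of the Harada–Norton group: the check of the table of the element number 10 (generated) -/

set_option autoImplicit false
set_option maxRecDepth 100000

namespace Cfsg.Agent.HNOut

open Cfsg.Agent.PF Cfsg.Agent.Lib.Helper6 Cfsg.Agent.Lib.Helper6.TC Cfsg.Agent.Lib.Helper6.NatArr
open Cfsg.Agent.PL (Acts evalF)

theorem eq10_250 : allR 640250 2561 (fun q => Nat.beq (f10 q) ((fun q => f4 (f3 (f6 (f4 (f2 (f0 (f2 (f4 (f2 (f0 (f6 (f4 (f2 (f4 (f2 (f4 (f6 (f4 (f3 (f1 (f2 (f4 (f0 (f2 (f2 (f0 (f3 (f4 (f3 (f3 (f1 (f2 (f4 (f2 (f1 (f4 (f2 (f1 (q))))))))))))))))))))))))))))))))))))))) q)) = true := by decide +kernel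

theorem eq10_251 : allR 642811 2561 (fun q => Nat.beq (f10 q) ((fun q => f4 (f3 (f6 (f4 (f2 (f0 (f2 (f4 (f2 (f0 (f6 (f4 (f2 (f4 (f2 (f4 (f6 (f4 (f3 (f1 (f2 (f4 (f0 (f2 (f2 (f0 (f3 (f4 (f3 (f3 (f1 (f2 (f4 (f2 (f1 (f4 (f2 (f1 (q))))))))))))))))))))))))))))))))))))))) q)) = true := by decide +kernel

theorem eq10_252 : allR 645372 2561 (fun q => Nat.beq (f10 q) ((fun q => f4 (f3 (f6 (f4 (f2 (f0 (f2 (f4 (f2 (f0 (f6 (f4 (f2 (f4 (f2 (f4 (f6 (f4 (f3 (f1 (f2 (f4 (f0 (f2 (f2 (f0 (f3 (f4 (f3 (f3 (f1 (f2 (f4 (f2 (f1 (f4 (f2 (f1 (q))))))))))))))))))))))))))))))))))))))) q)) = true := by decide +kernel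

theorem eq10_253 : allR 647933 2561 (fun q => Nat.beq (f10 q) ((fun q => f4 (f3 (f6 (f4 (f2 (f0 (f2 (f4 (f2 (f0 (f6 (f4 (f2 (f4 (f2 (f4 (f6 (f4 (f3 (f1 (f2 (f4 (f0 (f2 (f2 (f0 (f3 (f4 (f3 (f3 (f1 (f2 (f4 (f2 (f1 (f4 (f2 (f1 (q))))))))))))))))))))))))))))))))))))))) q)) = true := by decide +kernel

theorem eq10_254 : allR 650494 2561 (fun q => Nat.beq (f10 q) ((fun q => f4 (f3 (f6 (f4 (f2 (f0 (f2 (f4 (f2 (f0 (f6 (f4 (f2 (f4 (f2 (f4 (f6 (f4 (f3 (f1 (f2 (f4 (f0 (f2 (f2 (f0 (f3 (f4 (f3 (f3 (f1 (f2 (f4 (f2 (f1 (f4 (f2 (f1 (q))))))))))))))))))))))))))))))))))))))) q)) = true := by decide +kernel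

theorem eq10_255 : allR 653055 2561 (fun q => Nat.beq (f10 q) ((fun q => f4 (f3 (f6 (f4 (f2 (f0 (f2 (f4 (f2 (f0 (f6 (f4 (f2 (f4 (f2 (f4 (f6 (f4 (f3 (f1 (f2 (f4 (f0 (f2 (f2 (f0 (f3 (f4 (f3 (f3 (f1 (f2 (f4 (f2 (f1 (f4 (f2 (f1 (q))))))))))))))))))))))))))))))))))))))) q)) = true := by decide +kernel

theorem eq10_256 : allR 655616 2561 (fun q => Nat.beq (f10 q) ((fun q => f4 (f3 (f6 (f4 (f2 (f0 (f2 (f4 (f2 (f0 (f6 (f4 (f2 (f4 (f2 (f4 (f6 (f4 (f3 (f1 (f2 (f4 (f0 (f2 (f2 (f0 (f3 (f4 (f3 (f3 (f1 (f2 (f4 (f2 (f1 (f4 (f2 (f1 (q))))))))))))))))))))))))))))))))))))))) q)) = true := by decide +kernel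

theorem eq10_257 : allR 658177 2561 (fun q => Nat.beq (f10 q) ((fun q => f4 (f3 (f6 (f4 (f2 (f0 (f2 (f4 (f2 (f0 (f6 (f4 (f2 (f4 (f2 (f4 (f6 (f4 (f3 (f1 (f2 (f4 (f0 (f2 (f2 (f0 (f3 (f4 (f3 (f3 (f1 (f2 (f4 (f2 (f1 (f4 (f2 (f1 (q))))))))))))))))))))))))))))))))))))))) q)) = true := by decide +kernel

theorem eq10_258 : allR 660738 2561 (fun q => Nat.beq (f10 q) ((fun q => f4 (f3 (f6 (f4 (f2 (f0 (f2 (f4 (f2 (f0 (f6 (f4 (f2 (f4 (f2 (f4 (f6 (f4 (f3 (f1 (f2 (f4 (f0 (f2 (f2 (f0 (f3 (f4 (f3 (f3 (f1 (f2 (f4 (f2 (f1 (f4 (f2 (f1 (q))))))))))))))))))))))))))))))))))))))) q)) = true := by decide +kernel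

theorem eq10_259 : allR 663299 2561 (fun q => Nat.beq (f10 q) ((fun q => f4 (f3 (f6 (f4 (f2 (f0 (f2 (f4 (f2 (f0 (f6 (f4 (f2 (f4 (f2 (f4 (f6 (f4 (f3 (f1 (f2 (f4 (f0 (f2 (f2 (f0 (f3 (f4 (f3 (f3 (f1 (f2 (f4 (f2 (f1 (f4 (f2 (f1 (q))))))))))))))))))))))))))))))))))))))) q)) = true := by decide +kernel

theorem eq10_260 : allR 665860 2561 (fun q => Nat.beq (f10 q) ((fun q => f4 (f3 (f6 (f4 (f2 (f0 (f2 (f4 (f2 (f0 (f6 (f4 (f2 (f4 (f2 (f4 (f6 (f4 (f3 (f1 (f2 (f4 (f0 (f2 (f2 (f0 (f3 (f4 (f3 (f3 (f1 (f2 (f4 (f2 (f1 (f4 (f2 (f1 (q))))))))))))))))))))))))))))))))))))))) q)) = true := by decide +kernel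

theorem eq10_261 : allR 668421 2561 (fun q => Nat.beq (f10 q) ((fun q => f4 (f3 (f6 (f4 (f2 (f0 (f2 (f4 (f2 (f0 (f6 (f4 (f2 (f4 (f2 (f4 (f6 (f4 (f3 (f1 (f2 (f4 (f0 (f2 (f2 (f0 (f3 (f4 (f3 (f3 (f1 (f2 (f4 (f2 (f1 (f4 (f2 (f1 (q))))))))))))))))))))))))))))))))))))))) q)) = true := by decide +kernel

theorem eq10_262 : allR 670982 2561 (fun q => Nat.beq (f10 q) ((fun q => f4 (f3 (f6 (f4 (f2 (f0 (f2 (f4 (f2 (f0 (f6 (f4 (f2 (f4 (f2 (f4 (f6 (f4 (f3 (f1 (f2 (f4 (f0 (f2 (f2 (f0 (f3 (f4 (f3 (f3 (f1 (f2 (f4 (f2 (f1 (f4 (f2 (f1 (q))))))))))))))))))))))))))))))))))))))) q)) = true := by decide +kernel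

theorem eq10_263 : allR 673543 2561 (fun q => Nat.beq (f10 q) ((fun q => f4 (f3 (f6 (f4 (f2 (f0 (f2 (f4 (f2 (f0 (f6 (f4 (f2 (f4 (f2 (f4 (f6 (f4 (f3 (f1 (f2 (f4 (f0 (f2 (f2 (f0 (f3 (f4 (f3 (f3 (f1 (f2 (f4 (f2 (f1 (f4 (f2 (f1 (q))))))))))))))))))))))))))))))))))))))) q)) = true := by decide +kernel

theorem eq10_264 : allR 676104 2561 (fun q => Nat.beq (f10 q) ((fun q => f4 (f3 (f6 (f4 (f2 (f0 (f2 (f4 (f2 (f0 (f6 (f4 (f2 (f4 (f2 (f4 (f6 (f4 (f3 (f1 (f2 (f4 (f0 (f2 (f2 (f0 (f3 (f4 (f3 (f3 (f1 (f2 (f4 (f2 (f1 (f4 (f2 (f1 (q))))))))))))))))))))))))))))))))))))))) q)) = true := by decide +kernel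

theorem eq10_265 : allR 678665 2561 (fun q => Nat.beq (f10 q) ((fun q => f4 (f3 (f6 (f4 (f2 (f0 (f2 (f4 (f2 (f0 (f6 (f4 (f2 (f4 (f2 (f4 (f6 (f4 (f3 (f1 (f2 (f4 (f0 (f2 (f2 (f0 (f3 (f4 (f3 (f3 (f1 (f2 (f4 (f2 (f1 (f4 (f2 (f1 (q))))))))))))))))))))))))))))))))))))))) q)) = true := by decide +kernel

theorem eq10_266 : allR 681226 2561 (fun q => Nat.beq (f10 q) ((fun q => f4 (f3 (f6 (f4 (f2 (f0 (f2 (f4 (f2 (f0 (f6 (f4 (f2 (f4 (f2 (f4 (f6 (f4 (f3 (f1 (f2 (f4 (f0 (f2 (f2 (f0 (f3 (f4 (f3 (f3 (f1 (f2 (f4 (f2 (f1 (f4 (f2 (f1 (q))))))))))))))))))))))))))))))))))))))) q)) = true := by decide +kernel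

theorem eq10_267 : allR 683787 2561 (fun q => Nat.beq (f10 q) ((fun q => f4 (f3 (f6 (f4 (f2 (f0 (f2 (f4 (f2 (f0 (f6 (f4 (f2 (f4 (f2 (f4 (f6 (f4 (f3 (f1 (f2 (f4 (f0 (f2 (f2 (f0 (f3 (f4 (f3 (f3 (f1 (f2 (f4 (f2 (f1 (f4 (f2 (f1 (q))))))))))))))))))))))))))))))))))))))) q)) = true := by decide +kernel

theorem eq10_268 : allR 686348 2561 (fun q => Nat.beq (f10 q) ((fun q => f4 (f3 (f6 (f4 (f2 (f0 (f2 (f4 (f2 (f0 (f6 (f4 (f2 (f4 (f2 (f4 (f6 (f4 (f3 (f1 (f2 (f4 (f0 (f2 (f2 (f0 (f3 (f4 (f3 (f3 (f1 (f2 (f4 (f2 (f1 (f4 (f2 (f1 (q))))))))))))))))))))))))))))))))))))))) q)) = true := by decide +kernel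

theorem eq10_269 : allR 688909 2561 (fun q => Nat.beq (f10 q) ((fun q => f4 (f3 (f6 (f4 (f2 (f0 (f2 (f4 (f2 (f0 (f6 (f4 (f2 (f4 (f2 (f4 (f6 (f4 (f3 (f1 (f2 (f4 (f0 (f2 (f2 (f0 (f3 (f4 (f3 (f3 (f1 (f2 (f4 (f2 (f1 (f4 (f2 (f1 (q))))))))))))))))))))))))))))))))))))))) q)) = true := by decide +kernel

theorem eq10_270 : allR 691470 2561 (fun q => Nat.beq (f10 q) ((fun q => f4 (f3 (f6 (f4 (f2 (f0 (f2 (f4 (f2 (f0 (f6 (f4 (f2 (f4 (f2 (f4 (f6 (f4 (f3 (f1 (f2 (f4 (f0 (f2 (f2 (f0 (f3 (f4 (f3 (f3 (f1 (f2 (f4 (f2 (f1 (f4 (f2 (f1 (q))))))))))))))))))))))))))))))))))))))) q)) = true := by decide +kernel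

theorem eq10_271 : allR 694031 2561 (fun q => Nat.beq (f10 q) ((fun q => f4 (f3 (f6 (f4 (f2 (f0 (f2 (f4 (f2 (f0 (f6 (f4 (f2 (f4 (f2 (f4 (f6 (f4 (f3 (f1 (f2 (f4 (f0 (f2 (f2 (f0 (f3 (f4 (f3 (f3 (f1 (f2 (f4 (f2 (f1 (f4 (f2 (f1 (q))))))))))))))))))))))))))))))))))))))) q)) = true := by decide +kernel

theorem eq10_272 : allR 696592 2561 (fun q => Nat.beq (f10 q) ((fun q => f4 (f3 (f6 (f4 (f2 (f0 (f2 (f4 (f2 (f0 (f6 (f4 (f2 (f4 (f2 (f4 (f6 (f4 (f3 (f1 (f2 (f4 (f0 (f2 (f2 (f0 (f3 (f4 (f3 (f3 (f1 (f2 (f4 (f2 (f1 (f4 (f2 (f1 (q))))))))))))))))))))))))))))))))))))))) q)) = true := by decide +kernel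

theorem eq10_273 : allR 699153 2561 (fun q => Nat.beq (f10 q) ((fun q => f4 (f3 (f6 (f4 (f2 (f0 (f2 (f4 (f2 (f0 (f6 (f4 (f2 (f4 (f2 (f4 (f6 (f4 (f3 (f1 (f2 (f4 (f0 (f2 (f2 (f0 (f3 (f4 (f3 (f3 (f1 (f2 (f4 (f2 (f1 (f4 (f2 (f1 (q))))))))))))))))))))))))))))))))))))))) q)) = true := by decide +kernel

theorem eq10_274 : allR 701714 2561 (fun q => Nat.beq (f10 q) ((fun q => f4 (f3 (f6 (f4 (f2 (f0 (f2 (f4 (f2 (f0 (f6 (f4 (f2 (f4 (f2 (f4 (f6 (f4 (f3 (f1 (f2 (f4 (f0 (f2 (f2 (f0 (f3 (f4 (f3 (f3 (f1 (f2 (f4 (f2 (f1 (f4 (f2 (f1 (q))))))))))))))))))))))))))))))))))))))) q)) = true := by decide +kernel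


end Cfsg.Agent.HNOut
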