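import Cfsg.Agent.Lib.Lead.HNOut.D10

/-! # The outer automorphism group of the Harada–Norton group: the check of the table of the element number 10 (generated) -/

set_option autoImplicit false
set_option maxRecDepth 100000

namespace Cfsg.Agent.HNOut

open Cfsg.Agent.PF Cfsg.Agent.Lib.Helper6 Cfsg.Agent.Lib.Helper6.TC Cfsg.Agent.Lib.Helper6.NatArr
open Cfsg.Agent.PL (Acts evalF)

theorem eq10_275 : allR 704275 2561 (fun q => Nat.beq (f10 q) ((fun q => f4 (f3 (f6 (f4 (f2 (f0 (f2 (f4 (f2 (f0 (f6 (f4 (f2 (f4 (f2 (f4 (f6 (f4 (f3 (f1 (f2 (f4 (f0 (f2 (f2 (f0 (f3 (f4 (f3 (f3 (f1 (f2 (f4 (f2 (f1 (f4 (f2 (f1 (q))))))))))))))))))))))))))))))))))))))) q)) = true := by decide +kernel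

theorem eq10_276 : allR 706836 2561 (fun q => Nat.beq (f10 q) ((fun q => f4 (f3 (f6 (f4 (f2 (f0 (f2 (f4 (f2 (f0 (f6 (f4 (f2 (f4 (f2 (f4 (f6 (f4 (f3 (f1 (f2 (f4 (f0 (f2 (f2 (f0 (f3 (f4 (f3 (f3 (f1 (f2 (f4 (f2 (f1 (f4 (f2 (f1 (q))))))))))))))))))))))))))))))))))))))) q)) = true := by decide +kernel

theorem eq10_277 : allR 709397 2561 (fun q => Nat.beq (f10 q) ((fun q => f4 (f3 (f6 (f4 (f2 (f0 (f2 (f4 (f2 (f0 (f6 (f4 (f2 (f4 (f2 (f4 (f6 (f4 (f3 (f1 (f2 (f4 (f0 (f2 (f2 (f0 (f3 (f4 (f3 (f3 (f1 (f2 (f4 (f2 (f1 (f4 (f2 (f1 (q))))))))))))))))))))))))))))))))))))))) q)) = true := by decide +kernel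

theorem eq10_278 : allR 711958 2561 (fun q => Nat.beq (f10 q) ((fun q => f4 (f3 (f6 (f4 (f2 (f0 (f2 (f4 (f2 (f0 (f6 (f4 (f2 (f4 (f2 (f4 (f6 (f4 (f3 (f1 (f2 (f4 (f0 (f2 (f2 (f0 (f3 (f4 (f3 (f3 (f1 (f2 (f4 (f2 (f1 (f4 (f2 (f1 (q))))))))))))))))))))))))))))))))))))))) q)) = true := by decide +kernel

theorem eq10_279 : allR 714519 2561 (fun q => Nat.beq (f10 q) ((fun q => f4 (f3 (f6 (f4 (f2 (f0 (f2 (f4 (f2 (f0 (f6 (f4 (f2 (f4 (f2 (f4 (f6 (f4 (f3 (f1 (f2 (f4 (f0 (f2 (f2 (f0 (f3 (f4 (f3 (f3 (f1 (f2 (f4 (f2 (f1 (f4 (f2 (f1 (q))))))))))))))))))))))))))))))))))))))) q)) = true := by decide +kernel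

theorem eq10_280 : allR 717080 2561 (fun q => Nat.beq (f10 q) ((fun q => f4 (f3 (f6 (f4 (f2 (f0 (f2 (f4 (f2 (f0 (f6 (f4 (f2 (f4 (f2 (f4 (f6 (f4 (f3 (f1 (f2 (f4 (f0 (f2 (f2 (f0 (f3 (f4 (f3 (f3 (f1 (f2 (f4 (f2 (f1 (f4 (f2 (f1 (q))))))))))))))))))))))))))))))))))))))) q)) = true := by decide +kernel

theorem eq10_281 : allR 719641 2561 (fun q => Nat.beq (f10 q) ((fun q => f4 (f3 (f6 (f4 (f2 (f0 (f2 (f4 (f2 (f0 (f6 (f4 (f2 (f4 (f2 (f4 (f6 (f4 (f3 (f1 (f2 (f4 (f0 (f2 (f2 (f0 (f3 (f4 (f3 (f3 (f1 (f2 (f4 (f2 (f1 (f4 (f2 (f1 (q))))))))))))))))))))))))))))))))))))))) q)) = true := by decide +kernel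

theorem eq10_282 : allR 722202 2561 (fun q => Nat.beq (f10 q) ((fun q => f4 (f3 (f6 (f4 (f2 (f0 (f2 (f4 (f2 (f0 (f6 (f4 (f2 (f4 (f2 (f4 (f6 (f4 (f3 (f1 (f2 (f4 (f0 (f2 (f2 (f0 (f3 (f4 (f3 (f3 (f1 (f2 (f4 (f2 (f1 (f4 (f2 (f1 (q))))))))))))))))))))))))))))))))))))))) q)) = true := by decide +kernel

theorem eq10_283 : allR 724763 2561 (fun q => Nat.beq (f10 q) ((fun q => f4 (f3 (f6 (f4 (f2 (f0 (f2 (f4 (f2 (f0 (f6 (f4 (f2 (f4 (f2 (f4 (f6 (f4 (f3 (f1 (f2 (f4 (f0 (f2 (f2 (f0 (f3 (f4 (f3 (f3 (f1 (f2 (f4 (f2 (f1 (f4 (f2 (f1 (q))))))))))))))))))))))))))))))))))))))) q)) = true := by decide +kernel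

theorem eq10_284 : allR 727324 2561 (fun q => Nat.beq (f10 q) ((fun q => f4 (f3 (f6 (f4 (f2 (f0 (f2 (f4 (f2 (f0 (f6 (f4 (f2 (f4 (f2 (f4 (f6 (f4 (f3 (f1 (f2 (f4 (f0 (f2 (f2 (f0 (f3 (f4 (f3 (f3 (f1 (f2 (f4 (f2 (f1 (f4 (f2 (f1 (q))))))))))))))))))))))))))))))))))))))) q)) = true := by decide +kernel

theorem eq10_285 : allR 729885 2561 (fun q => Nat.beq (f10 q) ((fun q => f4 (f3 (f6 (f4 (f2 (f0 (f2 (f4 (f2 (f0 (f6 (f4 (f2 (f4 (f2 (f4 (f6 (f4 (f3 (f1 (f2 (f4 (f0 (f2 (f2 (f0 (f3 (f4 (f3 (f3 (f1 (f2 (f4 (f2 (f1 (f4 (f2 (f1 (q))))))))))))))))))))))))))))))))))))))) q)) = true := by decide +kernel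

theorem eq10_286 : allR 732446 2561 (fun q => Nat.beq (f10 q) ((fun q => f4 (f3 (f6 (f4 (f2 (f0 (f2 (f4 (f2 (f0 (f6 (f4 (f2 (f4 (f2 (f4 (f6 (f4 (f3 (f1 (f2 (f4 (f0 (f2 (f2 (f0 (f3 (f4 (f3 (f3 (f1 (f2 (f4 (f2 (f1 (f4 (f2 (f1 (q))))))))))))))))))))))))))))))))))))))) q)) = true := by decide +kernel

theorem eq10_287 : allR 735007 2561 (fun q => Nat.beq (f10 q) ((fun q => f4 (f3 (f6 (f4 (f2 (f0 (f2 (f4 (f2 (f0 (f6 (f4 (f2 (f4 (f2 (f4 (f6 (f4 (f3 (f1 (f2 (f4 (f0 (f2 (f2 (f0 (f3 (f4 (f3 (f3 (f1 (f2 (f4 (f2 (f1 (f4 (f2 (f1 (q))))))))))))))))))))))))))))))))))))))) q)) = true := by decide +kernel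

theorem eq10_288 : allR 737568 2561 (fun q => Nat.beq (f10 q) ((fun q => f4 (f3 (f6 (f4 (f2 (f0 (f2 (f4 (f2 (f0 (f6 (f4 (f2 (f4 (f2 (f4 (f6 (f4 (f3 (f1 (f2 (f4 (f0 (f2 (f2 (f0 (f3 (f4 (f3 (f3 (f1 (f2 (f4 (f2 (f1 (f4 (f2 (f1 (q))))))))))))))))))))))))))))))))))))))) q)) = true := by decide +kernel

theorem eq10_289 : allR 740129 2561 (fun q => Nat.beq (f10 q) ((fun q => f4 (f3 (f6 (f4 (f2 (f0 (f2 (f4 (f2 (f0 (f6 (f4 (f2 (f4 (f2 (f4 (f6 (f4 (f3 (f1 (f2 (f4 (f0 (f2 (f2 (f0 (f3 (f4 (f3 (f3 (f1 (f2 (f4 (f2 (f1 (f4 (f2 (f1 (q))))))))))))))))))))))))))))))))))))))) q)) = true := by decide +kernel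

theorem eq10_290 : allR 742690 2561 (fun q => Nat.beq (f10 q) ((fun q => f4 (f3 (f6 (f4 (f2 (f0 (f2 (f4 (f2 (f0 (f6 (f4 (f2 (f4 (f2 (f4 (f6 (f4 (f3 (f1 (f2 (f4 (f0 (f2 (f2 (f0 (f3 (f4 (f3 (f3 (f1 (f2 (f4 (f2 (f1 (f4 (f2 (f1 (q))))))))))))))))))))))))))))))))))))))) q)) = true := by decide +kernel

theorem eq10_291 : allR 745251 2561 (fun q => Nat.beq (f10 q) ((fun q => f4 (f3 (f6 (f4 (f2 (f0 (f2 (f4 (f2 (f0 (f6 (f4 (f2 (f4 (f2 (f4 (f6 (f4 (f3 (f1 (f2 (f4 (f0 (f2 (f2 (f0 (f3 (f4 (f3 (f3 (f1 (f2 (f4 (f2 (f1 (f4 (f2 (f1 (q))))))))))))))))))))))))))))))))))))))) q)) = true := by decide +kernel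

theorem eq10_292 : allR 747812 2561 (fun q => Nat.beq (f10 q) ((fun q => f4 (f3 (f6 (f4 (f2 (f0 (f2 (f4 (f2 (f0 (f6 (f4 (f2 (f4 (f2 (f4 (f6 (f4 (f3 (f1 (f2 (f4 (f0 (f2 (f2 (f0 (f3 (f4 (f3 (f3 (f1 (f2 (f4 (f2 (f1 (f4 (f2 (f1 (q))))))))))))))))))))))))))))))))))))))) q)) = true := by decide +kernel

theorem eq10_293 : allR 750373 2561 (fun q => Nat.beq (f10 q) ((fun q => f4 (f3 (f6 (f4 (f2 (f0 (f2 (f4 (f2 (f0 (f6 (f4 (f2 (f4 (f2 (f4 (f6 (f4 (f3 (f1 (f2 (f4 (f0 (f2 (f2 (f0 (f3 (f4 (f3 (f3 (f1 (f2 (f4 (f2 (f1 (f4 (f2 (f1 (q))))))))))))))))))))))))))))))))))))))) q)) = true := by decide +kernel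

theorem eq10_294 : allR 752934 2561 (fun q => Nat.beq (f10 q) ((fun q => f4 (f3 (f6 (f4 (f2 (f0 (f2 (f4 (f2 (f0 (f6 (f4 (f2 (f4 (f2 (f4 (f6 (f4 (f3 (f1 (f2 (f4 (f0 (f2 (f2 (f0 (f3 (f4 (f3 (f3 (f1 (f2 (f4 (f2 (f1 (f4 (f2 (f1 (q))))))))))))))))))))))))))))))))))))))) q)) = true := by decide +kernel

theorem eq10_295 : allR 755495 2561 (fun q => Nat.beq (f10 q) ((fun q => f4 (f3 (f6 (f4 (f2 (f0 (f2 (f4 (f2 (f0 (f6 (f4 (f2 (f4 (f2 (f4 (f6 (f4 (f3 (f1 (f2 (f4 (f0 (f2 (f2 (f0 (f3 (f4 (f3 (f3 (f1 (f2 (f4 (f2 (f1 (f4 (f2 (f1 (q))))))))))))))))))))))))))))))))))))))) q)) = true := by decide +kernel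

theorem eq10_296 : allR 758056 2561 (fun q => Nat.beq (f10 q) ((fun q => f4 (f3 (f6 (f4 (f2 (f0 (f2 (f4 (f2 (f0 (f6 (f4 (f2 (f4 (f2 (f4 (f6 (f4 (f3 (f1 (f2 (f4 (f0 (f2 (f2 (f0 (f3 (f4 (f3 (f3 (f1 (f2 (f4 (f2 (f1 (f4 (f2 (f1 (q))))))))))))))))))))))))))))))))))))))) q)) = true := by decide +kernel

theorem eq10_297 : allR 760617 2561 (fun q => Nat.beq (f10 q) ((fun q => f4 (f3 (f6 (f4 (f2 (f0 (f2 (f4 (f2 (f0 (f6 (f4 (f2 (f4 (f2 (f4 (f6 (f4 (f3 (f1 (f2 (f4 (f0 (f2 (f2 (f0 (f3 (f4 (f3 (f3 (f1 (f2 (f4 (f2 (f1 (f4 (f2 (f1 (q))))))))))))))))))))))))))))))))))))))) q)) = true := by decide +kernel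

theorem eq10_298 : allR 763178 2561 (fun q => Nat.beq (f10 q) ((fun q => f4 (f3 (f6 (f4 (f2 (f0 (f2 (f4 (f2 (f0 (f6 (f4 (f2 (f4 (f2 (f4 (f6 (f4 (f3 (f1 (f2 (f4 (f0 (f2 (f2 (f0 (f3 (f4 (f3 (f3 (f1 (f2 (f4 (f2 (f1 (f4 (f2 (f1 (q))))))))))))))))))))))))))))))))))))))) q)) = true := by decide +kernel

theorem eq10_299 : allR 765739 2561 (fun q => Nat.beq (f10 q) ((fun q => f4 (f3 (f6 (f4 (f2 (f0 (f2 (f4 (f2 (f0 (f6 (f4 (f2 (f4 (f2 (f4 (f6 (f4 (f3 (f1 (f2 (f4 (f0 (f2 (f2 (f0 (f3 (f4 (f3 (f3 (f1 (f2 (f4 (f2 (f1 (f4 (f2 (f1 (q))))))))))))))))))))))))))))))))))))))) q)) = true := by decide +kernel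


end Cfsg.Agent.HNOut
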