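import Cfsg.Agent.Lib.Lead.HNOut.D10

/-! # The outer automorphism group of the Harada–Norton group: the check of the table of the element number 10 (generated) -/

set_option autoImplicit false
set_option maxRecDepth 100000

namespace Cfsg.Agent.HNOut

open Cfsg.Agent.PF Cfsg.Agent.Lib.Helper6 Cfsg.Agent.Lib.Helper6.TC Cfsg.Agent.Lib.Helper6.NatArr
open Cfsg.Agent.PL (Acts evalF)

theorem eq10_300 : allR 768300 2561 (fun q => Nat.beq (f10 q) ((fun q => f4 (f3 (f6 (f4 (f2 (f0 (f2 (f4 (f2 (f0 (f6 (f4 (f2 (f4 (f2 (f4 (f6 (f4 (f3 (f1 (f2 (f4 (f0 (f2 (f2 (f0 (f3 (f4 (f3 (f3 (f1 (f2 (f4 (f2 (f1 (f4 (f2 (f1 (q))))))))))))))))))))))))))))))))))))))) q)) = true := by decide +kernel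

theorem eq10_301 : allR 770861 2561 (fun q => Nat.beq (f10 q) ((fun q => f4 (f3 (f6 (f4 (f2 (f0 (f2 (f4 (f2 (f0 (f6 (f4 (f2 (f4 (f2 (f4 (f6 (f4 (f3 (f1 (f2 (f4 (f0 (f2 (f2 (f0 (f3 (f4 (f3 (f3 (f1 (f2 (f4 (f2 (f1 (f4 (f2 (f1 (q))))))))))))))))))))))))))))))))))))))) q)) = true := by decide +kernel

theorem eq10_302 : allR 773422 2561 (fun q => Nat.beq (f10 q) ((fun q => f4 (f3 (f6 (f4 (f2 (f0 (f2 (f4 (f2 (f0 (f6 (f4 (f2 (f4 (f2 (f4 (f6 (f4 (f3 (f1 (f2 (f4 (f0 (f2 (f2 (f0 (f3 (f4 (f3 (f3 (f1 (f2 (f4 (f2 (f1 (f4 (f2 (f1 (q))))))))))))))))))))))))))))))))))))))) q)) = true := by decide +kernel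

theorem eq10_303 : allR 775983 2561 (fun q => Nat.beq (f10 q) ((fun q => f4 (f3 (f6 (f4 (f2 (f0 (f2 (f4 (f2 (f0 (f6 (f4 (f2 (f4 (f2 (f4 (f6 (f4 (f3 (f1 (f2 (f4 (f0 (f2 (f2 (f0 (f3 (f4 (f3 (f3 (f1 (f2 (f4 (f2 (f1 (f4 (f2 (f1 (q))))))))))))))))))))))))))))))))))))))) q)) = true := by decide +kernel

theorem eq10_304 : allR 778544 2561 (fun q => Nat.beq (f10 q) ((fun q => f4 (f3 (f6 (f4 (f2 (f0 (f2 (f4 (f2 (f0 (f6 (f4 (f2 (f4 (f2 (f4 (f6 (f4 (f3 (f1 (f2 (f4 (f0 (f2 (f2 (f0 (f3 (f4 (f3 (f3 (f1 (f2 (f4 (f2 (f1 (f4 (f2 (f1 (q))))))))))))))))))))))))))))))))))))))) q)) = true := by decide +kernel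

theorem eq10_305 : allR 781105 2561 (fun q => Nat.beq (f10 q) ((fun q => f4 (f3 (f6 (f4 (f2 (f0 (f2 (f4 (f2 (f0 (f6 (f4 (f2 (f4 (f2 (f4 (f6 (f4 (f3 (f1 (f2 (f4 (f0 (f2 (f2 (f0 (f3 (f4 (f3 (f3 (f1 (f2 (f4 (f2 (f1 (f4 (f2 (f1 (q))))))))))))))))))))))))))))))))))))))) q)) = true := by decide +kernel

theorem eq10_306 : allR 783666 2561 (fun q => Nat.beq (f10 q) ((fun q => f4 (f3 (f6 (f4 (f2 (f0 (f2 (f4 (f2 (f0 (f6 (f4 (f2 (f4 (f2 (f4 (f6 (f4 (f3 (f1 (f2 (f4 (f0 (f2 (f2 (f0 (f3 (f4 (f3 (f3 (f1 (f2 (f4 (f2 (f1 (f4 (f2 (f1 (q))))))))))))))))))))))))))))))))))))))) q)) = true := by decide +kernel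

theorem eq10_307 : allR 786227 2561 (fun q => Nat.beq (f10 q) ((fun q => f4 (f3 (f6 (f4 (f2 (f0 (f2 (f4 (f2 (f0 (f6 (f4 (f2 (f4 (f2 (f4 (f6 (f4 (f3 (f1 (f2 (f4 (f0 (f2 (f2 (f0 (f3 (f4 (f3 (f3 (f1 (f2 (f4 (f2 (f1 (f4 (f2 (f1 (q))))))))))))))))))))))))))))))))))))))) q)) = true := by decide +kernel

theorem eq10_308 : allR 788788 2561 (fun q => Nat.beq (f10 q) ((fun q => f4 (f3 (f6 (f4 (f2 (f0 (f2 (f4 (f2 (f0 (f6 (f4 (f2 (f4 (f2 (f4 (f6 (f4 (f3 (f1 (f2 (f4 (f0 (f2 (f2 (f0 (f3 (f4 (f3 (f3 (f1 (f2 (f4 (f2 (f1 (f4 (f2 (f1 (q))))))))))))))))))))))))))))))))))))))) q)) = true := by decide +kernel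

theorem eq10_309 : allR 791349 2561 (fun q => Nat.beq (f10 q) ((fun q => f4 (f3 (f6 (f4 (f2 (f0 (f2 (f4 (f2 (f0 (f6 (f4 (f2 (f4 (f2 (f4 (f6 (f4 (f3 (f1 (f2 (f4 (f0 (f2 (f2 (f0 (f3 (f4 (f3 (f3 (f1 (f2 (f4 (f2 (f1 (f4 (f2 (f1 (q))))))))))))))))))))))))))))))))))))))) q)) = true := by decide +kernel

theorem eq10_310 : allR 793910 2561 (fun q => Nat.beq (f10 q) ((fun q => f4 (f3 (f6 (f4 (f2 (f0 (f2 (f4 (f2 (f0 (f6 (f4 (f2 (f4 (f2 (f4 (f6 (f4 (f3 (f1 (f2 (f4 (f0 (f2 (f2 (f0 (f3 (f4 (f3 (f3 (f1 (f2 (f4 (f2 (f1 (f4 (f2 (f1 (q))))))))))))))))))))))))))))))))))))))) q)) = true := by decide +kernel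

theorem eq10_311 : allR 796471 2561 (fun q => Nat.beq (f10 q) ((fun q => f4 (f3 (f6 (f4 (f2 (f0 (f2 (f4 (f2 (f0 (f6 (f4 (f2 (f4 (f2 (f4 (f6 (f4 (f3 (f1 (f2 (f4 (f0 (f2 (f2 (f0 (f3 (f4 (f3 (f3 (f1 (f2 (f4 (f2 (f1 (f4 (f2 (f1 (q))))))))))))))))))))))))))))))))))))))) q)) = true := by decide +kernel

theorem eq10_312 : allR 799032 2561 (fun q => Nat.beq (f10 q) ((fun q => f4 (f3 (f6 (f4 (f2 (f0 (f2 (f4 (f2 (f0 (f6 (f4 (f2 (f4 (f2 (f4 (f6 (f4 (f3 (f1 (f2 (f4 (f0 (f2 (f2 (f0 (f3 (f4 (f3 (f3 (f1 (f2 (f4 (f2 (f1 (f4 (f2 (f1 (q))))))))))))))))))))))))))))))))))))))) q)) = true := by decide +kernel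

theorem eq10_313 : allR 801593 2561 (fun q => Nat.beq (f10 q) ((fun q => f4 (f3 (f6 (f4 (f2 (f0 (f2 (f4 (f2 (f0 (f6 (f4 (f2 (f4 (f2 (f4 (f6 (f4 (f3 (f1 (f2 (f4 (f0 (f2 (f2 (f0 (f3 (f4 (f3 (f3 (f1 (f2 (f4 (f2 (f1 (f4 (f2 (f1 (q))))))))))))))))))))))))))))))))))))))) q)) = true := by decide +kernel

theorem eq10_314 : allR 804154 2561 (fun q => Nat.beq (f10 q) ((fun q => f4 (f3 (f6 (f4 (f2 (f0 (f2 (f4 (f2 (f0 (f6 (f4 (f2 (f4 (f2 (f4 (f6 (f4 (f3 (f1 (f2 (f4 (f0 (f2 (f2 (f0 (f3 (f4 (f3 (f3 (f1 (f2 (f4 (f2 (f1 (f4 (f2 (f1 (q))))))))))))))))))))))))))))))))))))))) q)) = true := by decide +kernel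

theorem eq10_315 : allR 806715 2561 (fun q => Nat.beq (f10 q) ((fun q => f4 (f3 (f6 (f4 (f2 (f0 (f2 (f4 (f2 (f0 (f6 (f4 (f2 (f4 (f2 (f4 (f6 (f4 (f3 (f1 (f2 (f4 (f0 (f2 (f2 (f0 (f3 (f4 (f3 (f3 (f1 (f2 (f4 (f2 (f1 (f4 (f2 (f1 (q))))))))))))))))))))))))))))))))))))))) q)) = true := by decide +kernel

theorem eq10_316 : allR 809276 2561 (fun q => Nat.beq (f10 q) ((fun q => f4 (f3 (f6 (f4 (f2 (f0 (f2 (f4 (f2 (f0 (f6 (f4 (f2 (f4 (f2 (f4 (f6 (f4 (f3 (f1 (f2 (f4 (f0 (f2 (f2 (f0 (f3 (f4 (f3 (f3 (f1 (f2 (f4 (f2 (f1 (f4 (f2 (f1 (q))))))))))))))))))))))))))))))))))))))) q)) = true := by decide +kernel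

theorem eq10_317 : allR 811837 2561 (fun q => Nat.beq (f10 q) ((fun q => f4 (f3 (f6 (f4 (f2 (f0 (f2 (f4 (f2 (f0 (f6 (f4 (f2 (f4 (f2 (f4 (f6 (f4 (f3 (f1 (f2 (f4 (f0 (f2 (f2 (f0 (f3 (f4 (f3 (f3 (f1 (f2 (f4 (f2 (f1 (f4 (f2 (f1 (q))))))))))))))))))))))))))))))))))))))) q)) = true := by decide +kernel

theorem eq10_318 : allR 814398 2561 (fun q => Nat.beq (f10 q) ((fun q => f4 (f3 (f6 (f4 (f2 (f0 (f2 (f4 (f2 (f0 (f6 (f4 (f2 (f4 (f2 (f4 (f6 (f4 (f3 (f1 (f2 (f4 (f0 (f2 (f2 (f0 (f3 (f4 (f3 (f3 (f1 (f2 (f4 (f2 (f1 (f4 (f2 (f1 (q))))))))))))))))))))))))))))))))))))))) q)) = true := by decide +kernel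

theorem eq10_319 : allR 816959 2561 (fun q => Nat.beq (f10 q) ((fun q => f4 (f3 (f6 (f4 (f2 (f0 (f2 (f4 (f2 (f0 (f6 (f4 (f2 (f4 (f2 (f4 (f6 (f4 (f3 (f1 (f2 (f4 (f0 (f2 (f2 (f0 (f3 (f4 (f3 (f3 (f1 (f2 (f4 (f2 (f1 (f4 (f2 (f1 (q))))))))))))))))))))))))))))))))))))))) q)) = true := by decide +kernel

theorem eq10_320 : allR 819520 2561 (fun q => Nat.beq (f10 q) ((fun q => f4 (f3 (f6 (f4 (f2 (f0 (f2 (f4 (f2 (f0 (f6 (f4 (f2 (f4 (f2 (f4 (f6 (f4 (f3 (f1 (f2 (f4 (f0 (f2 (f2 (f0 (f3 (f4 (f3 (f3 (f1 (f2 (f4 (f2 (f1 (f4 (f2 (f1 (q))))))))))))))))))))))))))))))))))))))) q)) = true := by decide +kernel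

theorem eq10_321 : allR 822081 2561 (fun q => Nat.beq (f10 q) ((fun q => f4 (f3 (f6 (f4 (f2 (f0 (f2 (f4 (f2 (f0 (f6 (f4 (f2 (f4 (f2 (f4 (f6 (f4 (f3 (f1 (f2 (f4 (f0 (f2 (f2 (f0 (f3 (f4 (f3 (f3 (f1 (f2 (f4 (f2 (f1 (f4 (f2 (f1 (q))))))))))))))))))))))))))))))))))))))) q)) = true := by decide +kernel

theorem eq10_322 : allR 824642 2561 (fun q => Nat.beq (f10 q) ((fun q => f4 (f3 (f6 (f4 (f2 (f0 (f2 (f4 (f2 (f0 (f6 (f4 (f2 (f4 (f2 (f4 (f6 (f4 (f3 (f1 (f2 (f4 (f0 (f2 (f2 (f0 (f3 (f4 (f3 (f3 (f1 (f2 (f4 (f2 (f1 (f4 (f2 (f1 (q))))))))))))))))))))))))))))))))))))))) q)) = true := by decide +kernel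

theorem eq10_323 : allR 827203 2561 (fun q => Nat.beq (f10 q) ((fun q => f4 (f3 (f6 (f4 (f2 (f0 (f2 (f4 (f2 (f0 (f6 (f4 (f2 (f4 (f2 (f4 (f6 (f4 (f3 (f1 (f2 (f4 (f0 (f2 (f2 (f0 (f3 (f4 (f3 (f3 (f1 (f2 (f4 (f2 (f1 (f4 (f2 (f1 (q))))))))))))))))))))))))))))))))))))))) q)) = true := by decide +kernel

theorem eq10_324 : allR 829764 2561 (fun q => Nat.beq (f10 q) ((fun q => f4 (f3 (f6 (f4 (f2 (f0 (f2 (f4 (f2 (f0 (f6 (f4 (f2 (f4 (f2 (f4 (f6 (f4 (f3 (f1 (f2 (f4 (f0 (f2 (f2 (f0 (f3 (f4 (f3 (f3 (f1 (f2 (f4 (f2 (f1 (f4 (f2 (f1 (q))))))))))))))))))))))))))))))))))))))) q)) = true := by decide +kernel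


end Cfsg.Agent.HNOut
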