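import Cfsg.Agent.Lib.Lead.HNOut.D11

/-! # The outer automorphism group of the Harada–Norton group: the check of the table of the element number 11 (generated) -/

set_option autoImplicit false
set_option maxRecDepth 100000

namespace Cfsg.Agent.HNOut

open Cfsg.Agent.PF Cfsg.Agent.Lib.Helper6 Cfsg.Agent.Lib.Helper6.TC Cfsg.Agent.Lib.Helper6.NatArr
open Cfsg.Agent.PL (Acts evalF)

theorem eq11_0 : allR 0 3998 (fun q => Nat.beq (f11 q) ((fun q => f8 (f8 (f9 (f9 (f10 (f8 (f8 (f8 (f10 (f8 (f8 (f8 (f10 (f9 (f8 (f10 (f8 (f8 (f10 (f9 (f8 (f10 (f8 (f8 (q))))))))))))))))))))))))) q)) = true := by decide +kernel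

theorem eq11_1 : allR 3998 3998 (fun q => Nat.beq (f11 q) ((fun q => f8 (f8 (f9 (f9 (f10 (f8 (f8 (f8 (f10 (f8 (f8 (f8 (f10 (f9 (f8 (f10 (f8 (f8 (f10 (f9 (f8 (f10 (f8 (f8 (q))))))))))))))))))))))))) q)) = true := by decide +kernel

theorem eq11_2 : allR 7996 3998 (fun q => Nat.beq (f11 q) ((fun q => f8 (f8 (f9 (f9 (f10 (f8 (f8 (f8 (f10 (f8 (f8 (f8 (f10 (f9 (f8 (f10 (f8 (f8 (f10 (f9 (f8 (f10 (f8 (f8 (q))))))))))))))))))))))))) q)) = true := by decide +kernel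

theorem eq11_3 : allR 11994 3998 (fun q => Nat.beq (f11 q) ((fun q => f8 (f8 (f9 (f9 (f10 (f8 (f8 (f8 (f10 (f8 (f8 (f8 (f10 (f9 (f8 (f10 (f8 (f8 (f10 (f9 (f8 (f10 (f8 (f8 (q))))))))))))))))))))))))) q)) = true := by decide +kernel

theorem eq11_4 : allR 15992 3998 (fun q => Nat.beq (f11 q) ((fun q => f8 (f8 (f9 (f9 (f10 (f8 (f8 (f8 (f10 (f8 (f8 (f8 (f10 (f9 (f8 (f10 (f8 (f8 (f10 (f9 (f8 (f10 (f8 (f8 (q))))))))))))))))))))))))) q)) = true := by decide +kernel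

theorem eq11_5 : allR 19990 3998 (fun q => Nat.beq (f11 q) ((fun q => f8 (f8 (f9 (f9 (f10 (f8 (f8 (f8 (f10 (f8 (f8 (f8 (f10 (f9 (f8 (f10 (f8 (f8 (f10 (f9 (f8 (f10 (f8 (f8 (q))))))))))))))))))))))))) q)) = true := by decide +kernel

theorem eq11_6 : allR 23988 3998 (fun q => Nat.beq (f11 q) ((fun q => f8 (f8 (f9 (f9 (f10 (f8 (f8 (f8 (f10 (f8 (f8 (f8 (f10 (f9 (f8 (f10 (f8 (f8 (f10 (f9 (f8 (f10 (f8 (f8 (q))))))))))))))))))))))))) q)) = true := by decide +kernel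

theorem eq11_7 : allR 27986 3998 (fun q => Nat.beq (f11 q) ((fun q => f8 (f8 (f9 (f9 (f10 (f8 (f8 (f8 (f10 (f8 (f8 (f8 (f10 (f9 (f8 (f10 (f8 (f8 (f10 (f9 (f8 (f10 (f8 (f8 (q))))))))))))))))))))))))) q)) = true := by decide +kernel

theorem eq11_8 : allR 31984 3998 (fun q => Nat.beq (f11 q) ((fun q => f8 (f8 (f9 (f9 (f10 (f8 (f8 (f8 (f10 (f8 (f8 (f8 (f10 (f9 (f8 (f10 (f8 (f8 (f10 (f9 (f8 (f10 (f8 (f8 (q))))))))))))))))))))))))) q)) = true := by decide +kernel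

theorem eq11_9 : allR 35982 3998 (fun q => Nat.beq (f11 q) ((fun q => f8 (f8 (f9 (f9 (f10 (f8 (f8 (f8 (f10 (f8 (f8 (f8 (f10 (f9 (f8 (f10 (f8 (f8 (f10 (f9 (f8 (f10 (f8 (f8 (q))))))))))))))))))))))))) q)) = true := by decide +kernel

theorem eq11_10 : allR 39980 3998 (fun q => Nat.beq (f11 q) ((fun q => f8 (f8 (f9 (f9 (f10 (f8 (f8 (f8 (f10 (f8 (f8 (f8 (f10 (f9 (f8 (f10 (f8 (f8 (f10 (f9 (f8 (f10 (f8 (f8 (q))))))))))))))))))))))))) q)) = true := by decide +kernel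

theorem eq11_11 : allR 43978 3998 (fun q => Nat.beq (f11 q) ((fun q => f8 (f8 (f9 (f9 (f10 (f8 (f8 (f8 (f10 (f8 (f8 (f8 (f10 (f9 (f8 (f10 (f8 (f8 (f10 (f9 (f8 (f10 (f8 (f8 (q))))))))))))))))))))))))) q)) = true := by decide +kernel

theorem eq11_12 : allR 47976 3998 (fun q => Nat.beq (f11 q) ((fun q => f8 (f8 (f9 (f9 (f10 (f8 (f8 (f8 (f10 (f8 (f8 (f8 (f10 (f9 (f8 (f10 (f8 (f8 (f10 (f9 (f8 (f10 (f8 (f8 (q))))))))))))))))))))))))) q)) = true := by decide +kernel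

theorem eq11_13 : allR 51974 3998 (fun q => Nat.beq (f11 q) ((fun q => f8 (f8 (f9 (f9 (f10 (f8 (f8 (f8 (f10 (f8 (f8 (f8 (f10 (f9 (f8 (f10 (f8 (f8 (f10 (f9 (f8 (f10 (f8 (f8 (q))))))))))))))))))))))))) q)) = true := by decide +kernel

theorem eq11_14 : allR 55972 3998 (fun q => Nat.beq (f11 q) ((fun q => f8 (f8 (f9 (f9 (f10 (f8 (f8 (f8 (f10 (f8 (f8 (f8 (f10 (f9 (f8 (f10 (f8 (f8 (f10 (f9 (f8 (f10 (f8 (f8 (q))))))))))))))))))))))))) q)) = true := by decide +kernel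

theorem eq11_15 : allR 59970 3998 (fun q => Nat.beq (f11 q) ((fun q => f8 (f8 (f9 (f9 (f10 (f8 (f8 (f8 (f10 (f8 (f8 (f8 (f10 (f9 (f8 (f10 (f8 (f8 (f10 (f9 (f8 (f10 (f8 (f8 (q))))))))))))))))))))))))) q)) = true := by decide +kernel

theorem eq11_16 : allR 63968 3998 (fun q => Nat.beq (f11 q) ((fun q => f8 (f8 (f9 (f9 (f10 (f8 (f8 (f8 (f10 (f8 (f8 (f8 (f10 (f9 (f8 (f10 (f8 (f8 (f10 (f9 (f8 (f10 (f8 (f8 (q))))))))))))))))))))))))) q)) = true := by decide +kernel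

theorem eq11_17 : allR 67966 3998 (fun q => Nat.beq (f11 q) ((fun q => f8 (f8 (f9 (f9 (f10 (f8 (f8 (f8 (f10 (f8 (f8 (f8 (f10 (f9 (f8 (f10 (f8 (f8 (f10 (f9 (f8 (f10 (f8 (f8 (q))))))))))))))))))))))))) q)) = true := by decide +kernel

theorem eq11_18 : allR 71964 3998 (fun q => Nat.beq (f11 q) ((fun q => f8 (f8 (f9 (f9 (f10 (f8 (f8 (f8 (f10 (f8 (f8 (f8 (f10 (f9 (f8 (f10 (f8 (f8 (f10 (f9 (f8 (f10 (f8 (f8 (q))))))))))))))))))))))))) q)) = true := by decide +kernel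

theorem eq11_19 : allR 75962 3998 (fun q => Nat.beq (f11 q) ((fun q => f8 (f8 (f9 (f9 (f10 (f8 (f8 (f8 (f10 (f8 (f8 (f8 (f10 (f9 (f8 (f10 (f8 (f8 (f10 (f9 (f8 (f10 (f8 (f8 (q))))))))))))))))))))))))) q)) = true := by decide +kernel

theorem eq11_20 : allR 79960 3998 (fun q => Nat.beq (f11 q) ((fun q => f8 (f8 (f9 (f9 (f10 (f8 (f8 (f8 (f10 (f8 (f8 (f8 (f10 (f9 (f8 (f10 (f8 (f8 (f10 (f9 (f8 (f10 (f8 (f8 (q))))))))))))))))))))))))) q)) = true := by decide +kernel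

theorem eq11_21 : allR 83958 3998 (fun q => Nat.beq (f11 q) ((fun q => f8 (f8 (f9 (f9 (f10 (f8 (f8 (f8 (f10 (f8 (f8 (f8 (f10 (f9 (f8 (f10 (f8 (f8 (f10 (f9 (f8 (f10 (f8 (f8 (q))))))))))))))))))))))))) q)) = true := by decide +kernel

theorem eq11_22 : allR 87956 3998 (fun q => Nat.beq (f11 q) ((fun q => f8 (f8 (f9 (f9 (f10 (f8 (f8 (f8 (f10 (f8 (f8 (f8 (f10 (f9 (f8 (f10 (f8 (f8 (f10 (f9 (f8 (f10 (f8 (f8 (q))))))))))))))))))))))))) q)) = true := by decide +kernel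

theorem eq11_23 : allR 91954 3998 (fun q => Nat.beq (f11 q) ((fun q => f8 (f8 (f9 (f9 (f10 (f8 (f8 (f8 (f10 (f8 (f8 (f8 (f10 (f9 (f8 (f10 (f8 (f8 (f10 (f9 (f8 (f10 (f8 (f8 (q))))))))))))))))))))))))) q)) = true := by decide +kernel

theorem eq11_24 : allR 95952 3998 (fun q => Nat.beq (f11 q) ((fun q => f8 (f8 (f9 (f9 (f10 (f8 (f8 (f8 (f10 (f8 (f8 (f8 (f10 (f9 (f8 (f10 (f8 (f8 (f10 (f9 (f8 (f10 (f8 (f8 (q))))))))))))))))))))))))) q)) = true := by decide +kernel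


end Cfsg.Agent.HNOut
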