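import Cfsg.Agent.Lib.Lead.HNOut.D11

/-! # The outer automorphism group of the Harada–Norton group: the check of the table of the element number 11 (generated) -/

set_option autoImplicit false
set_option maxRecDepth 100000

namespace Cfsg.Agent.HNOut

open Cfsg.Agent.PF Cfsg.Agent.Lib.Helper6 Cfsg.Agent.Lib.Helper6.TC Cfsg.Agent.Lib.Helper6.NatArr
open Cfsg.Agent.PL (Acts evalF)

theorem eq11_25 : allR 99950 3998 (fun q => Nat.beq (f11 q) ((fun q => f8 (f8 (f9 (f9 (f10 (f8 (f8 (f8 (f10 (f8 (f8 (f8 (f10 (f9 (f8 (f10 (f8 (f8 (f10 (f9 (f8 (f10 (f8 (f8 (q))))))))))))))))))))))))) q)) = true := by decide +kernel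

theorem eq11_26 : allR 103948 3998 (fun q => Nat.beq (f11 q) ((fun q => f8 (f8 (f9 (f9 (f10 (f8 (f8 (f8 (f10 (f8 (f8 (f8 (f10 (f9 (f8 (f10 (f8 (f8 (f10 (f9 (f8 (f10 (f8 (f8 (q))))))))))))))))))))))))) q)) = true := by decide +kernel

theorem eq11_27 : allR 107946 3998 (fun q => Nat.beq (f11 q) ((fun q => f8 (f8 (f9 (f9 (f10 (f8 (f8 (f8 (f10 (f8 (f8 (f8 (f10 (f9 (f8 (f10 (f8 (f8 (f10 (f9 (f8 (f10 (f8 (f8 (q))))))))))))))))))))))))) q)) = true := by decide +kernel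

theorem eq11_28 : allR 111944 3998 (fun q => Nat.beq (f11 q) ((fun q => f8 (f8 (f9 (f9 (f10 (f8 (f8 (f8 (f10 (f8 (f8 (f8 (f10 (f9 (f8 (f10 (f8 (f8 (f10 (f9 (f8 (f10 (f8 (f8 (q))))))))))))))))))))))))) q)) = true := by decide +kernel

theorem eq11_29 : allR 115942 3998 (fun q => Nat.beq (f11 q) ((fun q => f8 (f8 (f9 (f9 (f10 (f8 (f8 (f8 (f10 (f8 (f8 (f8 (f10 (f9 (f8 (f10 (f8 (f8 (f10 (f9 (f8 (f10 (f8 (f8 (q))))))))))))))))))))))))) q)) = true := by decide +kernel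

theorem eq11_30 : allR 119940 3998 (fun q => Nat.beq (f11 q) ((fun q => f8 (f8 (f9 (f9 (f10 (f8 (f8 (f8 (f10 (f8 (f8 (f8 (f10 (f9 (f8 (f10 (f8 (f8 (f10 (f9 (f8 (f10 (f8 (f8 (q))))))))))))))))))))))))) q)) = true := by decide +kernel

theorem eq11_31 : allR 123938 3998 (fun q => Nat.beq (f11 q) ((fun q => f8 (f8 (f9 (f9 (f10 (f8 (f8 (f8 (f10 (f8 (f8 (f8 (f10 (f9 (f8 (f10 (f8 (f8 (f10 (f9 (f8 (f10 (f8 (f8 (q))))))))))))))))))))))))) q)) = true := by decide +kernel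

theorem eq11_32 : allR 127936 3998 (fun q => Nat.beq (f11 q) ((fun q => f8 (f8 (f9 (f9 (f10 (f8 (f8 (f8 (f10 (f8 (f8 (f8 (f10 (f9 (f8 (f10 (f8 (f8 (f10 (f9 (f8 (f10 (f8 (f8 (q))))))))))))))))))))))))) q)) = true := by decide +kernel

theorem eq11_33 : allR 131934 3998 (fun q => Nat.beq (f11 q) ((fun q => f8 (f8 (f9 (f9 (f10 (f8 (f8 (f8 (f10 (f8 (f8 (f8 (f10 (f9 (f8 (f10 (f8 (f8 (f10 (f9 (f8 (f10 (f8 (f8 (q))))))))))))))))))))))))) q)) = true := by decide +kernel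

theorem eq11_34 : allR 135932 3998 (fun q => Nat.beq (f11 q) ((fun q => f8 (f8 (f9 (f9 (f10 (f8 (f8 (f8 (f10 (f8 (f8 (f8 (f10 (f9 (f8 (f10 (f8 (f8 (f10 (f9 (f8 (f10 (f8 (f8 (q))))))))))))))))))))))))) q)) = true := by decide +kernel

theorem eq11_35 : allR 139930 3998 (fun q => Nat.beq (f11 q) ((fun q => f8 (f8 (f9 (f9 (f10 (f8 (f8 (f8 (f10 (f8 (f8 (f8 (f10 (f9 (f8 (f10 (f8 (f8 (f10 (f9 (f8 (f10 (f8 (f8 (q))))))))))))))))))))))))) q)) = true := by decide +kernel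

theorem eq11_36 : allR 143928 3998 (fun q => Nat.beq (f11 q) ((fun q => f8 (f8 (f9 (f9 (f10 (f8 (f8 (f8 (f10 (f8 (f8 (f8 (f10 (f9 (f8 (f10 (f8 (f8 (f10 (f9 (f8 (f10 (f8 (f8 (q))))))))))))))))))))))))) q)) = true := by decide +kernel

theorem eq11_37 : allR 147926 3998 (fun q => Nat.beq (f11 q) ((fun q => f8 (f8 (f9 (f9 (f10 (f8 (f8 (f8 (f10 (f8 (f8 (f8 (f10 (f9 (f8 (f10 (f8 (f8 (f10 (f9 (f8 (f10 (f8 (f8 (q))))))))))))))))))))))))) q)) = true := by decide +kernel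

theorem eq11_38 : allR 151924 3998 (fun q => Nat.beq (f11 q) ((fun q => f8 (f8 (f9 (f9 (f10 (f8 (f8 (f8 (f10 (f8 (f8 (f8 (f10 (f9 (f8 (f10 (f8 (f8 (f10 (f9 (f8 (f10 (f8 (f8 (q))))))))))))))))))))))))) q)) = true := by decide +kernel

theorem eq11_39 : allR 155922 3998 (fun q => Nat.beq (f11 q) ((fun q => f8 (f8 (f9 (f9 (f10 (f8 (f8 (f8 (f10 (f8 (f8 (f8 (f10 (f9 (f8 (f10 (f8 (f8 (f10 (f9 (f8 (f10 (f8 (f8 (q))))))))))))))))))))))))) q)) = true := by decide +kernel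

theorem eq11_40 : allR 159920 3998 (fun q => Nat.beq (f11 q) ((fun q => f8 (f8 (f9 (f9 (f10 (f8 (f8 (f8 (f10 (f8 (f8 (f8 (f10 (f9 (f8 (f10 (f8 (f8 (f10 (f9 (f8 (f10 (f8 (f8 (q))))))))))))))))))))))))) q)) = true := by decide +kernel

theorem eq11_41 : allR 163918 3998 (fun q => Nat.beq (f11 q) ((fun q => f8 (f8 (f9 (f9 (f10 (f8 (f8 (f8 (f10 (f8 (f8 (f8 (f10 (f9 (f8 (f10 (f8 (f8 (f10 (f9 (f8 (f10 (f8 (f8 (q))))))))))))))))))))))))) q)) = true := by decide +kernel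

theorem eq11_42 : allR 167916 3998 (fun q => Nat.beq (f11 q) ((fun q => f8 (f8 (f9 (f9 (f10 (f8 (f8 (f8 (f10 (f8 (f8 (f8 (f10 (f9 (f8 (f10 (f8 (f8 (f10 (f9 (f8 (f10 (f8 (f8 (q))))))))))))))))))))))))) q)) = true := by decide +kernel

theorem eq11_43 : allR 171914 3998 (fun q => Nat.beq (f11 q) ((fun q => f8 (f8 (f9 (f9 (f10 (f8 (f8 (f8 (f10 (f8 (f8 (f8 (f10 (f9 (f8 (f10 (f8 (f8 (f10 (f9 (f8 (f10 (f8 (f8 (q))))))))))))))))))))))))) q)) = true := by decide +kernel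

theorem eq11_44 : allR 175912 3998 (fun q => Nat.beq (f11 q) ((fun q => f8 (f8 (f9 (f9 (f10 (f8 (f8 (f8 (f10 (f8 (f8 (f8 (f10 (f9 (f8 (f10 (f8 (f8 (f10 (f9 (f8 (f10 (f8 (f8 (q))))))))))))))))))))))))) q)) = true := by decide +kernel

theorem eq11_45 : allR 179910 3998 (fun q => Nat.beq (f11 q) ((fun q => f8 (f8 (f9 (f9 (f10 (f8 (f8 (f8 (f10 (f8 (f8 (f8 (f10 (f9 (f8 (f10 (f8 (f8 (f10 (f9 (f8 (f10 (f8 (f8 (q))))))))))))))))))))))))) q)) = true := by decide +kernel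

theorem eq11_46 : allR 183908 3998 (fun q => Nat.beq (f11 q) ((fun q => f8 (f8 (f9 (f9 (f10 (f8 (f8 (f8 (f10 (f8 (f8 (f8 (f10 (f9 (f8 (f10 (f8 (f8 (f10 (f9 (f8 (f10 (f8 (f8 (q))))))))))))))))))))))))) q)) = true := by decide +kernel

theorem eq11_47 : allR 187906 3998 (fun q => Nat.beq (f11 q) ((fun q => f8 (f8 (f9 (f9 (f10 (f8 (f8 (f8 (f10 (f8 (f8 (f8 (f10 (f9 (f8 (f10 (f8 (f8 (f10 (f9 (f8 (f10 (f8 (f8 (q))))))))))))))))))))))))) q)) = true := by decide +kernel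

theorem eq11_48 : allR 191904 3998 (fun q => Nat.beq (f11 q) ((fun q => f8 (f8 (f9 (f9 (f10 (f8 (f8 (f8 (f10 (f8 (f8 (f8 (f10 (f9 (f8 (f10 (f8 (f8 (f10 (f9 (f8 (f10 (f8 (f8 (q))))))))))))))))))))))))) q)) = true := by decide +kernel

theorem eq11_49 : allR 195902 3998 (fun q => Nat.beq (f11 q) ((fun q => f8 (f8 (f9 (f9 (f10 (f8 (f8 (f8 (f10 (f8 (f8 (f8 (f10 (f9 (f8 (f10 (f8 (f8 (f10 (f9 (f8 (f10 (f8 (f8 (q))))))))))))))))))))))))) q)) = true := by decide +kernel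


end Cfsg.Agent.HNOut
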