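import Cfsg.Agent.Lib.Lead.HNOut.D11

/-! # The outer automorphism group of the Harada–Norton group: the check of the table of the element number 11 (generated) -/

set_option autoImplicit false
set_option maxRecDepth 100000

namespace Cfsg.Agent.HNOut

open Cfsg.Agent.PF Cfsg.Agent.Lib.Helper6 Cfsg.Agent.Lib.Helper6.TC Cfsg.Agent.Lib.Helper6.NatArr
open Cfsg.Agent.PL (Acts evalF)

theorem eq11_250 : allR 999500 3998 (fun q => Nat.beq (f11 q) ((fun q => f8 (f8 (f9 (f9 (f10 (f8 (f8 (f8 (f10 (f8 (f8 (f8 (f10 (f9 (f8 (f10 (f8 (f8 (f10 (f9 (f8 (f10 (f8 (f8 (q))))))))))))))))))))))))) q)) = true := by decide +kernel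

theorem eq11_251 : allR 1003498 3998 (fun q => Nat.beq (f11 q) ((fun q => f8 (f8 (f9 (f9 (f10 (f8 (f8 (f8 (f10 (f8 (f8 (f8 (f10 (f9 (f8 (f10 (f8 (f8 (f10 (f9 (f8 (f10 (f8 (f8 (q))))))))))))))))))))))))) q)) = true := by decide +kernel

theorem eq11_252 : allR 1007496 3998 (fun q => Nat.beq (f11 q) ((fun q => f8 (f8 (f9 (f9 (f10 (f8 (f8 (f8 (f10 (f8 (f8 (f8 (f10 (f9 (f8 (f10 (f8 (f8 (f10 (f9 (f8 (f10 (f8 (f8 (q))))))))))))))))))))))))) q)) = true := by decide +kernel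

theorem eq11_253 : allR 1011494 3998 (fun q => Nat.beq (f11 q) ((fun q => f8 (f8 (f9 (f9 (f10 (f8 (f8 (f8 (f10 (f8 (f8 (f8 (f10 (f9 (f8 (f10 (f8 (f8 (f10 (f9 (f8 (f10 (f8 (f8 (q))))))))))))))))))))))))) q)) = true := by decide +kernel

theorem eq11_254 : allR 1015492 3998 (fun q => Nat.beq (f11 q) ((fun q => f8 (f8 (f9 (f9 (f10 (f8 (f8 (f8 (f10 (f8 (f8 (f8 (f10 (f9 (f8 (f10 (f8 (f8 (f10 (f9 (f8 (f10 (f8 (f8 (q))))))))))))))))))))))))) q)) = true := by decide +kernel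

theorem eq11_255 : allR 1019490 3998 (fun q => Nat.beq (f11 q) ((fun q => f8 (f8 (f9 (f9 (f10 (f8 (f8 (f8 (f10 (f8 (f8 (f8 (f10 (f9 (f8 (f10 (f8 (f8 (f10 (f9 (f8 (f10 (f8 (f8 (q))))))))))))))))))))))))) q)) = true := by decide +kernel

theorem eq11_256 : allR 1023488 3998 (fun q => Nat.beq (f11 q) ((fun q => f8 (f8 (f9 (f9 (f10 (f8 (f8 (f8 (f10 (f8 (f8 (f8 (f10 (f9 (f8 (f10 (f8 (f8 (f10 (f9 (f8 (f10 (f8 (f8 (q))))))))))))))))))))))))) q)) = true := by decide +kernel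

theorem eq11_257 : allR 1027486 3998 (fun q => Nat.beq (f11 q) ((fun q => f8 (f8 (f9 (f9 (f10 (f8 (f8 (f8 (f10 (f8 (f8 (f8 (f10 (f9 (f8 (f10 (f8 (f8 (f10 (f9 (f8 (f10 (f8 (f8 (q))))))))))))))))))))))))) q)) = true := by decide +kernel

theorem eq11_258 : allR 1031484 3998 (fun q => Nat.beq (f11 q) ((fun q => f8 (f8 (f9 (f9 (f10 (f8 (f8 (f8 (f10 (f8 (f8 (f8 (f10 (f9 (f8 (f10 (f8 (f8 (f10 (f9 (f8 (f10 (f8 (f8 (q))))))))))))))))))))))))) q)) = true := by decide +kernel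

theorem eq11_259 : allR 1035482 3998 (fun q => Nat.beq (f11 q) ((fun q => f8 (f8 (f9 (f9 (f10 (f8 (f8 (f8 (f10 (f8 (f8 (f8 (f10 (f9 (f8 (f10 (f8 (f8 (f10 (f9 (f8 (f10 (f8 (f8 (q))))))))))))))))))))))))) q)) = true := by decide +kernel

theorem eq11_260 : allR 1039480 3998 (fun q => Nat.beq (f11 q) ((fun q => f8 (f8 (f9 (f9 (f10 (f8 (f8 (f8 (f10 (f8 (f8 (f8 (f10 (f9 (f8 (f10 (f8 (f8 (f10 (f9 (f8 (f10 (f8 (f8 (q))))))))))))))))))))))))) q)) = true := by decide +kernel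

theorem eq11_261 : allR 1043478 3998 (fun q => Nat.beq (f11 q) ((fun q => f8 (f8 (f9 (f9 (f10 (f8 (f8 (f8 (f10 (f8 (f8 (f8 (f10 (f9 (f8 (f10 (f8 (f8 (f10 (f9 (f8 (f10 (f8 (f8 (q))))))))))))))))))))))))) q)) = true := by decide +kernel

theorem eq11_262 : allR 1047476 3998 (fun q => Nat.beq (f11 q) ((fun q => f8 (f8 (f9 (f9 (f10 (f8 (f8 (f8 (f10 (f8 (f8 (f8 (f10 (f9 (f8 (f10 (f8 (f8 (f10 (f9 (f8 (f10 (f8 (f8 (q))))))))))))))))))))))))) q)) = true := by decide +kernel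

theorem eq11_263 : allR 1051474 3998 (fun q => Nat.beq (f11 q) ((fun q => f8 (f8 (f9 (f9 (f10 (f8 (f8 (f8 (f10 (f8 (f8 (f8 (f10 (f9 (f8 (f10 (f8 (f8 (f10 (f9 (f8 (f10 (f8 (f8 (q))))))))))))))))))))))))) q)) = true := by decide +kernel

theorem eq11_264 : allR 1055472 3998 (fun q => Nat.beq (f11 q) ((fun q => f8 (f8 (f9 (f9 (f10 (f8 (f8 (f8 (f10 (f8 (f8 (f8 (f10 (f9 (f8 (f10 (f8 (f8 (f10 (f9 (f8 (f10 (f8 (f8 (q))))))))))))))))))))))))) q)) = true := by decide +kernel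

theorem eq11_265 : allR 1059470 3998 (fun q => Nat.beq (f11 q) ((fun q => f8 (f8 (f9 (f9 (f10 (f8 (f8 (f8 (f10 (f8 (f8 (f8 (f10 (f9 (f8 (f10 (f8 (f8 (f10 (f9 (f8 (f10 (f8 (f8 (q))))))))))))))))))))))))) q)) = true := by decide +kernel

theorem eq11_266 : allR 1063468 3998 (fun q => Nat.beq (f11 q) ((fun q => f8 (f8 (f9 (f9 (f10 (f8 (f8 (f8 (f10 (f8 (f8 (f8 (f10 (f9 (f8 (f10 (f8 (f8 (f10 (f9 (f8 (f10 (f8 (f8 (q))))))))))))))))))))))))) q)) = true := by decide +kernel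

theorem eq11_267 : allR 1067466 3998 (fun q => Nat.beq (f11 q) ((fun q => f8 (f8 (f9 (f9 (f10 (f8 (f8 (f8 (f10 (f8 (f8 (f8 (f10 (f9 (f8 (f10 (f8 (f8 (f10 (f9 (f8 (f10 (f8 (f8 (q))))))))))))))))))))))))) q)) = true := by decide +kernel

theorem eq11_268 : allR 1071464 3998 (fun q => Nat.beq (f11 q) ((fun q => f8 (f8 (f9 (f9 (f10 (f8 (f8 (f8 (f10 (f8 (f8 (f8 (f10 (f9 (f8 (f10 (f8 (f8 (f10 (f9 (f8 (f10 (f8 (f8 (q))))))))))))))))))))))))) q)) = true := by decide +kernel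

theorem eq11_269 : allR 1075462 3998 (fun q => Nat.beq (f11 q) ((fun q => f8 (f8 (f9 (f9 (f10 (f8 (f8 (f8 (f10 (f8 (f8 (f8 (f10 (f9 (f8 (f10 (f8 (f8 (f10 (f9 (f8 (f10 (f8 (f8 (q))))))))))))))))))))))))) q)) = true := by decide +kernel

theorem eq11_270 : allR 1079460 3998 (fun q => Nat.beq (f11 q) ((fun q => f8 (f8 (f9 (f9 (f10 (f8 (f8 (f8 (f10 (f8 (f8 (f8 (f10 (f9 (f8 (f10 (f8 (f8 (f10 (f9 (f8 (f10 (f8 (f8 (q))))))))))))))))))))))))) q)) = true := by decide +kernel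

theorem eq11_271 : allR 1083458 3998 (fun q => Nat.beq (f11 q) ((fun q => f8 (f8 (f9 (f9 (f10 (f8 (f8 (f8 (f10 (f8 (f8 (f8 (f10 (f9 (f8 (f10 (f8 (f8 (f10 (f9 (f8 (f10 (f8 (f8 (q))))))))))))))))))))))))) q)) = true := by decide +kernel

theorem eq11_272 : allR 1087456 3998 (fun q => Nat.beq (f11 q) ((fun q => f8 (f8 (f9 (f9 (f10 (f8 (f8 (f8 (f10 (f8 (f8 (f8 (f10 (f9 (f8 (f10 (f8 (f8 (f10 (f9 (f8 (f10 (f8 (f8 (q))))))))))))))))))))))))) q)) = true := by decide +kernel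

theorem eq11_273 : allR 1091454 3998 (fun q => Nat.beq (f11 q) ((fun q => f8 (f8 (f9 (f9 (f10 (f8 (f8 (f8 (f10 (f8 (f8 (f8 (f10 (f9 (f8 (f10 (f8 (f8 (f10 (f9 (f8 (f10 (f8 (f8 (q))))))))))))))))))))))))) q)) = true := by decide +kernel

theorem eq11_274 : allR 1095452 3998 (fun q => Nat.beq (f11 q) ((fun q => f8 (f8 (f9 (f9 (f10 (f8 (f8 (f8 (f10 (f8 (f8 (f8 (f10 (f9 (f8 (f10 (f8 (f8 (f10 (f9 (f8 (f10 (f8 (f8 (q))))))))))))))))))))))))) q)) = true := by decide +kernel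


end Cfsg.Agent.HNOut
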