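import Cfsg.Agent.Lib.Lead.HNOut.D11

/-! # The outer automorphism group of the Harada–Norton group: the check of the table of the element number 11 (generated) -/

set_option autoImplicit false
set_option maxRecDepth 100000

namespace Cfsg.Agent.HNOut

open Cfsg.Agent.PF Cfsg.Agent.Lib.Helper6 Cfsg.Agent.Lib.Helper6.TC Cfsg.Agent.Lib.Helper6.NatArr
open Cfsg.Agent.PL (Acts evalF)

theorem eq11_275 : allR 1099450 3998 (fun q => Nat.beq (f11 q) ((fun q => f8 (f8 (f9 (f9 (f10 (f8 (f8 (f8 (f10 (f8 (f8 (f8 (f10 (f9 (f8 (f10 (f8 (f8 (f10 (f9 (f8 (f10 (f8 (f8 (q))))))))))))))))))))))))) q)) = true := by decide +kernel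

theorem eq11_276 : allR 1103448 3998 (fun q => Nat.beq (f11 q) ((fun q => f8 (f8 (f9 (f9 (f10 (f8 (f8 (f8 (f10 (f8 (f8 (f8 (f10 (f9 (f8 (f10 (f8 (f8 (f10 (f9 (f8 (f10 (f8 (f8 (q))))))))))))))))))))))))) q)) = true := by decide +kernel

theorem eq11_277 : allR 1107446 3998 (fun q => Nat.beq (f11 q) ((fun q => f8 (f8 (f9 (f9 (f10 (f8 (f8 (f8 (f10 (f8 (f8 (f8 (f10 (f9 (f8 (f10 (f8 (f8 (f10 (f9 (f8 (f10 (f8 (f8 (q))))))))))))))))))))))))) q)) = true := by decide +kernel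

theorem eq11_278 : allR 1111444 3998 (fun q => Nat.beq (f11 q) ((fun q => f8 (f8 (f9 (f9 (f10 (f8 (f8 (f8 (f10 (f8 (f8 (f8 (f10 (f9 (f8 (f10 (f8 (f8 (f10 (f9 (f8 (f10 (f8 (f8 (q))))))))))))))))))))))))) q)) = true := by decide +kernel

theorem eq11_279 : allR 1115442 3998 (fun q => Nat.beq (f11 q) ((fun q => f8 (f8 (f9 (f9 (f10 (f8 (f8 (f8 (f10 (f8 (f8 (f8 (f10 (f9 (f8 (f10 (f8 (f8 (f10 (f9 (f8 (f10 (f8 (f8 (q))))))))))))))))))))))))) q)) = true := by decide +kernel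

theorem eq11_280 : allR 1119440 3998 (fun q => Nat.beq (f11 q) ((fun q => f8 (f8 (f9 (f9 (f10 (f8 (f8 (f8 (f10 (f8 (f8 (f8 (f10 (f9 (f8 (f10 (f8 (f8 (f10 (f9 (f8 (f10 (f8 (f8 (q))))))))))))))))))))))))) q)) = true := by decide +kernel

theorem eq11_281 : allR 1123438 3998 (fun q => Nat.beq (f11 q) ((fun q => f8 (f8 (f9 (f9 (f10 (f8 (f8 (f8 (f10 (f8 (f8 (f8 (f10 (f9 (f8 (f10 (f8 (f8 (f10 (f9 (f8 (f10 (f8 (f8 (q))))))))))))))))))))))))) q)) = true := by decide +kernel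

theorem eq11_282 : allR 1127436 3998 (fun q => Nat.beq (f11 q) ((fun q => f8 (f8 (f9 (f9 (f10 (f8 (f8 (f8 (f10 (f8 (f8 (f8 (f10 (f9 (f8 (f10 (f8 (f8 (f10 (f9 (f8 (f10 (f8 (f8 (q))))))))))))))))))))))))) q)) = true := by decide +kernel

theorem eq11_283 : allR 1131434 3998 (fun q => Nat.beq (f11 q) ((fun q => f8 (f8 (f9 (f9 (f10 (f8 (f8 (f8 (f10 (f8 (f8 (f8 (f10 (f9 (f8 (f10 (f8 (f8 (f10 (f9 (f8 (f10 (f8 (f8 (q))))))))))))))))))))))))) q)) = true := by decide +kernel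

theorem eq11_284 : allR 1135432 3998 (fun q => Nat.beq (f11 q) ((fun q => f8 (f8 (f9 (f9 (f10 (f8 (f8 (f8 (f10 (f8 (f8 (f8 (f10 (f9 (f8 (f10 (f8 (f8 (f10 (f9 (f8 (f10 (f8 (f8 (q))))))))))))))))))))))))) q)) = true := by decide +kernel

theorem eq11_285 : allR 1139430 3998 (fun q => Nat.beq (f11 q) ((fun q => f8 (f8 (f9 (f9 (f10 (f8 (f8 (f8 (f10 (f8 (f8 (f8 (f10 (f9 (f8 (f10 (f8 (f8 (f10 (f9 (f8 (f10 (f8 (f8 (q))))))))))))))))))))))))) q)) = true := by decide +kernel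

theorem eq11_286 : allR 1143428 3998 (fun q => Nat.beq (f11 q) ((fun q => f8 (f8 (f9 (f9 (f10 (f8 (f8 (f8 (f10 (f8 (f8 (f8 (f10 (f9 (f8 (f10 (f8 (f8 (f10 (f9 (f8 (f10 (f8 (f8 (q))))))))))))))))))))))))) q)) = true := by decide +kernel

theorem eq11_287 : allR 1147426 3998 (fun q => Nat.beq (f11 q) ((fun q => f8 (f8 (f9 (f9 (f10 (f8 (f8 (f8 (f10 (f8 (f8 (f8 (f10 (f9 (f8 (f10 (f8 (f8 (f10 (f9 (f8 (f10 (f8 (f8 (q))))))))))))))))))))))))) q)) = true := by decide +kernel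

theorem eq11_288 : allR 1151424 3998 (fun q => Nat.beq (f11 q) ((fun q => f8 (f8 (f9 (f9 (f10 (f8 (f8 (f8 (f10 (f8 (f8 (f8 (f10 (f9 (f8 (f10 (f8 (f8 (f10 (f9 (f8 (f10 (f8 (f8 (q))))))))))))))))))))))))) q)) = true := by decide +kernel

theorem eq11_289 : allR 1155422 3998 (fun q => Nat.beq (f11 q) ((fun q => f8 (f8 (f9 (f9 (f10 (f8 (f8 (f8 (f10 (f8 (f8 (f8 (f10 (f9 (f8 (f10 (f8 (f8 (f10 (f9 (f8 (f10 (f8 (f8 (q))))))))))))))))))))))))) q)) = true := by decide +kernel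

theorem eq11_290 : allR 1159420 3998 (fun q => Nat.beq (f11 q) ((fun q => f8 (f8 (f9 (f9 (f10 (f8 (f8 (f8 (f10 (f8 (f8 (f8 (f10 (f9 (f8 (f10 (f8 (f8 (f10 (f9 (f8 (f10 (f8 (f8 (q))))))))))))))))))))))))) q)) = true := by decide +kernel

theorem eq11_291 : allR 1163418 3998 (fun q => Nat.beq (f11 q) ((fun q => f8 (f8 (f9 (f9 (f10 (f8 (f8 (f8 (f10 (f8 (f8 (f8 (f10 (f9 (f8 (f10 (f8 (f8 (f10 (f9 (f8 (f10 (f8 (f8 (q))))))))))))))))))))))))) q)) = true := by decide +kernel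

theorem eq11_292 : allR 1167416 3998 (fun q => Nat.beq (f11 q) ((fun q => f8 (f8 (f9 (f9 (f10 (f8 (f8 (f8 (f10 (f8 (f8 (f8 (f10 (f9 (f8 (f10 (f8 (f8 (f10 (f9 (f8 (f10 (f8 (f8 (q))))))))))))))))))))))))) q)) = true := by decide +kernel

theorem eq11_293 : allR 1171414 3998 (fun q => Nat.beq (f11 q) ((fun q => f8 (f8 (f9 (f9 (f10 (f8 (f8 (f8 (f10 (f8 (f8 (f8 (f10 (f9 (f8 (f10 (f8 (f8 (f10 (f9 (f8 (f10 (f8 (f8 (q))))))))))))))))))))))))) q)) = true := by decide +kernel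

theorem eq11_294 : allR 1175412 3998 (fun q => Nat.beq (f11 q) ((fun q => f8 (f8 (f9 (f9 (f10 (f8 (f8 (f8 (f10 (f8 (f8 (f8 (f10 (f9 (f8 (f10 (f8 (f8 (f10 (f9 (f8 (f10 (f8 (f8 (q))))))))))))))))))))))))) q)) = true := by decide +kernel

theorem eq11_295 : allR 1179410 3998 (fun q => Nat.beq (f11 q) ((fun q => f8 (f8 (f9 (f9 (f10 (f8 (f8 (f8 (f10 (f8 (f8 (f8 (f10 (f9 (f8 (f10 (f8 (f8 (f10 (f9 (f8 (f10 (f8 (f8 (q))))))))))))))))))))))))) q)) = true := by decide +kernel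

theorem eq11_296 : allR 1183408 3998 (fun q => Nat.beq (f11 q) ((fun q => f8 (f8 (f9 (f9 (f10 (f8 (f8 (f8 (f10 (f8 (f8 (f8 (f10 (f9 (f8 (f10 (f8 (f8 (f10 (f9 (f8 (f10 (f8 (f8 (q))))))))))))))))))))))))) q)) = true := by decide +kernel

theorem eq11_297 : allR 1187406 3998 (fun q => Nat.beq (f11 q) ((fun q => f8 (f8 (f9 (f9 (f10 (f8 (f8 (f8 (f10 (f8 (f8 (f8 (f10 (f9 (f8 (f10 (f8 (f8 (f10 (f9 (f8 (f10 (f8 (f8 (q))))))))))))))))))))))))) q)) = true := by decide +kernel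

theorem eq11_298 : allR 1191404 3998 (fun q => Nat.beq (f11 q) ((fun q => f8 (f8 (f9 (f9 (f10 (f8 (f8 (f8 (f10 (f8 (f8 (f8 (f10 (f9 (f8 (f10 (f8 (f8 (f10 (f9 (f8 (f10 (f8 (f8 (q))))))))))))))))))))))))) q)) = true := by decide +kernel

theorem eq11_299 : allR 1195402 3998 (fun q => Nat.beq (f11 q) ((fun q => f8 (f8 (f9 (f9 (f10 (f8 (f8 (f8 (f10 (f8 (f8 (f8 (f10 (f9 (f8 (f10 (f8 (f8 (f10 (f9 (f8 (f10 (f8 (f8 (q))))))))))))))))))))))))) q)) = true := by decide +kernel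


end Cfsg.Agent.HNOut
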