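import Cfsg.Agent.Lib.Lead.HNOut.D11

/-! # The outer automorphism group of the Harada–Norton group: the check of the table of the element number 11 (generated) -/

set_option autoImplicit false
set_option maxRecDepth 100000

namespace Cfsg.Agent.HNOut

open Cfsg.Agent.PF Cfsg.Agent.Lib.Helper6 Cfsg.Agent.Lib.Helper6.TC Cfsg.Agent.Lib.Helper6.NatArr
open Cfsg.Agent.PL (Acts evalF)

theorem eq11_300 : allR 1199400 3998 (fun q => Nat.beq (f11 q) ((fun q => f8 (f8 (f9 (f9 (f10 (f8 (f8 (f8 (f10 (f8 (f8 (f8 (f10 (f9 (f8 (f10 (f8 (f8 (f10 (f9 (f8 (f10 (f8 (f8 (q))))))))))))))))))))))))) q)) = true := by decide +kernel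

theorem eq11_301 : allR 1203398 3998 (fun q => Nat.beq (f11 q) ((fun q => f8 (f8 (f9 (f9 (f10 (f8 (f8 (f8 (f10 (f8 (f8 (f8 (f10 (f9 (f8 (f10 (f8 (f8 (f10 (f9 (f8 (f10 (f8 (f8 (q))))))))))))))))))))))))) q)) = true := by decide +kernel

theorem eq11_302 : allR 1207396 3998 (fun q => Nat.beq (f11 q) ((fun q => f8 (f8 (f9 (f9 (f10 (f8 (f8 (f8 (f10 (f8 (f8 (f8 (f10 (f9 (f8 (f10 (f8 (f8 (f10 (f9 (f8 (f10 (f8 (f8 (q))))))))))))))))))))))))) q)) = true := by decide +kernel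

theorem eq11_303 : allR 1211394 3998 (fun q => Nat.beq (f11 q) ((fun q => f8 (f8 (f9 (f9 (f10 (f8 (f8 (f8 (f10 (f8 (f8 (f8 (f10 (f9 (f8 (f10 (f8 (f8 (f10 (f9 (f8 (f10 (f8 (f8 (q))))))))))))))))))))))))) q)) = true := by decide +kernel

theorem eq11_304 : allR 1215392 3998 (fun q => Nat.beq (f11 q) ((fun q => f8 (f8 (f9 (f9 (f10 (f8 (f8 (f8 (f10 (f8 (f8 (f8 (f10 (f9 (f8 (f10 (f8 (f8 (f10 (f9 (f8 (f10 (f8 (f8 (q))))))))))))))))))))))))) q)) = true := by decide +kernel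

theorem eq11_305 : allR 1219390 3998 (fun q => Nat.beq (f11 q) ((fun q => f8 (f8 (f9 (f9 (f10 (f8 (f8 (f8 (f10 (f8 (f8 (f8 (f10 (f9 (f8 (f10 (f8 (f8 (f10 (f9 (f8 (f10 (f8 (f8 (q))))))))))))))))))))))))) q)) = true := by decide +kernel

theorem eq11_306 : allR 1223388 3998 (fun q => Nat.beq (f11 q) ((fun q => f8 (f8 (f9 (f9 (f10 (f8 (f8 (f8 (f10 (f8 (f8 (f8 (f10 (f9 (f8 (f10 (f8 (f8 (f10 (f9 (f8 (f10 (f8 (f8 (q))))))))))))))))))))))))) q)) = true := by decide +kernel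

theorem eq11_307 : allR 1227386 3998 (fun q => Nat.beq (f11 q) ((fun q => f8 (f8 (f9 (f9 (f10 (f8 (f8 (f8 (f10 (f8 (f8 (f8 (f10 (f9 (f8 (f10 (f8 (f8 (f10 (f9 (f8 (f10 (f8 (f8 (q))))))))))))))))))))))))) q)) = true := by decide +kernel

theorem eq11_308 : allR 1231384 3998 (fun q => Nat.beq (f11 q) ((fun q => f8 (f8 (f9 (f9 (f10 (f8 (f8 (f8 (f10 (f8 (f8 (f8 (f10 (f9 (f8 (f10 (f8 (f8 (f10 (f9 (f8 (f10 (f8 (f8 (q))))))))))))))))))))))))) q)) = true := by decide +kernel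

theorem eq11_309 : allR 1235382 3998 (fun q => Nat.beq (f11 q) ((fun q => f8 (f8 (f9 (f9 (f10 (f8 (f8 (f8 (f10 (f8 (f8 (f8 (f10 (f9 (f8 (f10 (f8 (f8 (f10 (f9 (f8 (f10 (f8 (f8 (q))))))))))))))))))))))))) q)) = true := by decide +kernel

theorem eq11_310 : allR 1239380 3998 (fun q => Nat.beq (f11 q) ((fun q => f8 (f8 (f9 (f9 (f10 (f8 (f8 (f8 (f10 (f8 (f8 (f8 (f10 (f9 (f8 (f10 (f8 (f8 (f10 (f9 (f8 (f10 (f8 (f8 (q))))))))))))))))))))))))) q)) = true := by decide +kernel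

theorem eq11_311 : allR 1243378 3998 (fun q => Nat.beq (f11 q) ((fun q => f8 (f8 (f9 (f9 (f10 (f8 (f8 (f8 (f10 (f8 (f8 (f8 (f10 (f9 (f8 (f10 (f8 (f8 (f10 (f9 (f8 (f10 (f8 (f8 (q))))))))))))))))))))))))) q)) = true := by decide +kernel

theorem eq11_312 : allR 1247376 3998 (fun q => Nat.beq (f11 q) ((fun q => f8 (f8 (f9 (f9 (f10 (f8 (f8 (f8 (f10 (f8 (f8 (f8 (f10 (f9 (f8 (f10 (f8 (f8 (f10 (f9 (f8 (f10 (f8 (f8 (q))))))))))))))))))))))))) q)) = true := by decide +kernel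

theorem eq11_313 : allR 1251374 3998 (fun q => Nat.beq (f11 q) ((fun q => f8 (f8 (f9 (f9 (f10 (f8 (f8 (f8 (f10 (f8 (f8 (f8 (f10 (f9 (f8 (f10 (f8 (f8 (f10 (f9 (f8 (f10 (f8 (f8 (q))))))))))))))))))))))))) q)) = true := by decide +kernel

theorem eq11_314 : allR 1255372 3998 (fun q => Nat.beq (f11 q) ((fun q => f8 (f8 (f9 (f9 (f10 (f8 (f8 (f8 (f10 (f8 (f8 (f8 (f10 (f9 (f8 (f10 (f8 (f8 (f10 (f9 (f8 (f10 (f8 (f8 (q))))))))))))))))))))))))) q)) = true := by decide +kernel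

theorem eq11_315 : allR 1259370 3998 (fun q => Nat.beq (f11 q) ((fun q => f8 (f8 (f9 (f9 (f10 (f8 (f8 (f8 (f10 (f8 (f8 (f8 (f10 (f9 (f8 (f10 (f8 (f8 (f10 (f9 (f8 (f10 (f8 (f8 (q))))))))))))))))))))))))) q)) = true := by decide +kernel

theorem eq11_316 : allR 1263368 3998 (fun q => Nat.beq (f11 q) ((fun q => f8 (f8 (f9 (f9 (f10 (f8 (f8 (f8 (f10 (f8 (f8 (f8 (f10 (f9 (f8 (f10 (f8 (f8 (f10 (f9 (f8 (f10 (f8 (f8 (q))))))))))))))))))))))))) q)) = true := by decide +kernel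

theorem eq11_317 : allR 1267366 3998 (fun q => Nat.beq (f11 q) ((fun q => f8 (f8 (f9 (f9 (f10 (f8 (f8 (f8 (f10 (f8 (f8 (f8 (f10 (f9 (f8 (f10 (f8 (f8 (f10 (f9 (f8 (f10 (f8 (f8 (q))))))))))))))))))))))))) q)) = true := by decide +kernel

theorem eq11_318 : allR 1271364 3998 (fun q => Nat.beq (f11 q) ((fun q => f8 (f8 (f9 (f9 (f10 (f8 (f8 (f8 (f10 (f8 (f8 (f8 (f10 (f9 (f8 (f10 (f8 (f8 (f10 (f9 (f8 (f10 (f8 (f8 (q))))))))))))))))))))))))) q)) = true := by decide +kernel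

theorem eq11_319 : allR 1275362 3998 (fun q => Nat.beq (f11 q) ((fun q => f8 (f8 (f9 (f9 (f10 (f8 (f8 (f8 (f10 (f8 (f8 (f8 (f10 (f9 (f8 (f10 (f8 (f8 (f10 (f9 (f8 (f10 (f8 (f8 (q))))))))))))))))))))))))) q)) = true := by decide +kernel

theorem eq11_320 : allR 1279360 3998 (fun q => Nat.beq (f11 q) ((fun q => f8 (f8 (f9 (f9 (f10 (f8 (f8 (f8 (f10 (f8 (f8 (f8 (f10 (f9 (f8 (f10 (f8 (f8 (f10 (f9 (f8 (f10 (f8 (f8 (q))))))))))))))))))))))))) q)) = true := by decide +kernel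

theorem eq11_321 : allR 1283358 3998 (fun q => Nat.beq (f11 q) ((fun q => f8 (f8 (f9 (f9 (f10 (f8 (f8 (f8 (f10 (f8 (f8 (f8 (f10 (f9 (f8 (f10 (f8 (f8 (f10 (f9 (f8 (f10 (f8 (f8 (q))))))))))))))))))))))))) q)) = true := by decide +kernel

theorem eq11_322 : allR 1287356 3998 (fun q => Nat.beq (f11 q) ((fun q => f8 (f8 (f9 (f9 (f10 (f8 (f8 (f8 (f10 (f8 (f8 (f8 (f10 (f9 (f8 (f10 (f8 (f8 (f10 (f9 (f8 (f10 (f8 (f8 (q))))))))))))))))))))))))) q)) = true := by decide +kernel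

theorem eq11_323 : allR 1291354 3998 (fun q => Nat.beq (f11 q) ((fun q => f8 (f8 (f9 (f9 (f10 (f8 (f8 (f8 (f10 (f8 (f8 (f8 (f10 (f9 (f8 (f10 (f8 (f8 (f10 (f9 (f8 (f10 (f8 (f8 (q))))))))))))))))))))))))) q)) = true := by decide +kernel

theorem eq11_324 : allR 1295352 3998 (fun q => Nat.beq (f11 q) ((fun q => f8 (f8 (f9 (f9 (f10 (f8 (f8 (f8 (f10 (f8 (f8 (f8 (f10 (f9 (f8 (f10 (f8 (f8 (f10 (f9 (f8 (f10 (f8 (f8 (q))))))))))))))))))))))))) q)) = true := by decide +kernel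


end Cfsg.Agent.HNOut
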