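import Cfsg.Agent.Lib.Lead.HNOut.D12

/-! # The outer automorphism group of the Harada–Norton group: the check of the table of the element number 12 (generated) -/

set_option autoImplicit false
set_option maxRecDepth 100000

namespace Cfsg.Agent.HNOut

open Cfsg.Agent.PF Cfsg.Agent.Lib.Helper6 Cfsg.Agent.Lib.Helper6.TC Cfsg.Agent.Lib.Helper6.NatArr
open Cfsg.Agent.PL (Acts evalF)

theorem eq12_0 : allR 0 6231 (fun q => Nat.beq (f12 q) ((fun q => f10 (f9 (f10 (f8 (f8 (f8 (f9 (f11 (f8 (f10 (f9 (f10 (f8 (f9 (f10 (q)))))))))))))))) q)) = true := by decide +kernel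

theorem eq12_1 : allR 6231 6231 (fun q => Nat.beq (f12 q) ((fun q => f10 (f9 (f10 (f8 (f8 (f8 (f9 (f11 (f8 (f10 (f9 (f10 (f8 (f9 (f10 (q)))))))))))))))) q)) = true := by decide +kernel

theorem eq12_2 : allR 12462 6231 (fun q => Nat.beq (f12 q) ((fun q => f10 (f9 (f10 (f8 (f8 (f8 (f9 (f11 (f8 (f10 (f9 (f10 (f8 (f9 (f10 (q)))))))))))))))) q)) = true := by decide +kernel

theorem eq12_3 : allR 18693 6231 (fun q => Nat.beq (f12 q) ((fun q => f10 (f9 (f10 (f8 (f8 (f8 (f9 (f11 (f8 (f10 (f9 (f10 (f8 (f9 (f10 (q)))))))))))))))) q)) = true := by decide +kernel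

theorem eq12_4 : allR 24924 6231 (fun q => Nat.beq (f12 q) ((fun q => f10 (f9 (f10 (f8 (f8 (f8 (f9 (f11 (f8 (f10 (f9 (f10 (f8 (f9 (f10 (q)))))))))))))))) q)) = true := by decide +kernel

theorem eq12_5 : allR 31155 6231 (fun q => Nat.beq (f12 q) ((fun q => f10 (f9 (f10 (f8 (f8 (f8 (f9 (f11 (f8 (f10 (f9 (f10 (f8 (f9 (f10 (q)))))))))))))))) q)) = true := by decide +kernel

theorem eq12_6 : allR 37386 6231 (fun q => Nat.beq (f12 q) ((fun q => f10 (f9 (f10 (f8 (f8 (f8 (f9 (f11 (f8 (f10 (f9 (f10 (f8 (f9 (f10 (q)))))))))))))))) q)) = true := by decide +kernel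

theorem eq12_7 : allR 43617 6231 (fun q => Nat.beq (f12 q) ((fun q => f10 (f9 (f10 (f8 (f8 (f8 (f9 (f11 (f8 (f10 (f9 (f10 (f8 (f9 (f10 (q)))))))))))))))) q)) = true := by decide +kernel

theorem eq12_8 : allR 49848 6231 (fun q => Nat.beq (f12 q) ((fun q => f10 (f9 (f10 (f8 (f8 (f8 (f9 (f11 (f8 (f10 (f9 (f10 (f8 (f9 (f10 (q)))))))))))))))) q)) = true := by decide +kernel

theorem eq12_9 : allR 56079 6231 (fun q => Nat.beq (f12 q) ((fun q => f10 (f9 (f10 (f8 (f8 (f8 (f9 (f11 (f8 (f10 (f9 (f10 (f8 (f9 (f10 (q)))))))))))))))) q)) = true := by decide +kernel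

theorem eq12_10 : allR 62310 6231 (fun q => Nat.beq (f12 q) ((fun q => f10 (f9 (f10 (f8 (f8 (f8 (f9 (f11 (f8 (f10 (f9 (f10 (f8 (f9 (f10 (q)))))))))))))))) q)) = true := by decide +kernel

theorem eq12_11 : allR 68541 6231 (fun q => Nat.beq (f12 q) ((fun q => f10 (f9 (f10 (f8 (f8 (f8 (f9 (f11 (f8 (f10 (f9 (f10 (f8 (f9 (f10 (q)))))))))))))))) q)) = true := by decide +kernel

theorem eq12_12 : allR 74772 6231 (fun q => Nat.beq (f12 q) ((fun q => f10 (f9 (f10 (f8 (f8 (f8 (f9 (f11 (f8 (f10 (f9 (f10 (f8 (f9 (f10 (q)))))))))))))))) q)) = true := by decide +kernel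

theorem eq12_13 : allR 81003 6231 (fun q => Nat.beq (f12 q) ((fun q => f10 (f9 (f10 (f8 (f8 (f8 (f9 (f11 (f8 (f10 (f9 (f10 (f8 (f9 (f10 (q)))))))))))))))) q)) = true := by decide +kernel

theorem eq12_14 : allR 87234 6231 (fun q => Nat.beq (f12 q) ((fun q => f10 (f9 (f10 (f8 (f8 (f8 (f9 (f11 (f8 (f10 (f9 (f10 (f8 (f9 (f10 (q)))))))))))))))) q)) = true := by decide +kernel

theorem eq12_15 : allR 93465 6231 (fun q => Nat.beq (f12 q) ((fun q => f10 (f9 (f10 (f8 (f8 (f8 (f9 (f11 (f8 (f10 (f9 (f10 (f8 (f9 (f10 (q)))))))))))))))) q)) = true := by decide +kernel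

theorem eq12_16 : allR 99696 6231 (fun q => Nat.beq (f12 q) ((fun q => f10 (f9 (f10 (f8 (f8 (f8 (f9 (f11 (f8 (f10 (f9 (f10 (f8 (f9 (f10 (q)))))))))))))))) q)) = true := by decide +kernel

theorem eq12_17 : allR 105927 6231 (fun q => Nat.beq (f12 q) ((fun q => f10 (f9 (f10 (f8 (f8 (f8 (f9 (f11 (f8 (f10 (f9 (f10 (f8 (f9 (f10 (q)))))))))))))))) q)) = true := by decide +kernel

theorem eq12_18 : allR 112158 6231 (fun q => Nat.beq (f12 q) ((fun q => f10 (f9 (f10 (f8 (f8 (f8 (f9 (f11 (f8 (f10 (f9 (f10 (f8 (f9 (f10 (q)))))))))))))))) q)) = true := by decide +kernel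

theorem eq12_19 : allR 118389 6231 (fun q => Nat.beq (f12 q) ((fun q => f10 (f9 (f10 (f8 (f8 (f8 (f9 (f11 (f8 (f10 (f9 (f10 (f8 (f9 (f10 (q)))))))))))))))) q)) = true := by decide +kernel

theorem eq12_20 : allR 124620 6231 (fun q => Nat.beq (f12 q) ((fun q => f10 (f9 (f10 (f8 (f8 (f8 (f9 (f11 (f8 (f10 (f9 (f10 (f8 (f9 (f10 (q)))))))))))))))) q)) = true := by decide +kernel

theorem eq12_21 : allR 130851 6231 (fun q => Nat.beq (f12 q) ((fun q => f10 (f9 (f10 (f8 (f8 (f8 (f9 (f11 (f8 (f10 (f9 (f10 (f8 (f9 (f10 (q)))))))))))))))) q)) = true := by decide +kernel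

theorem eq12_22 : allR 137082 6231 (fun q => Nat.beq (f12 q) ((fun q => f10 (f9 (f10 (f8 (f8 (f8 (f9 (f11 (f8 (f10 (f9 (f10 (f8 (f9 (f10 (q)))))))))))))))) q)) = true := by decide +kernel

theorem eq12_23 : allR 143313 6231 (fun q => Nat.beq (f12 q) ((fun q => f10 (f9 (f10 (f8 (f8 (f8 (f9 (f11 (f8 (f10 (f9 (f10 (f8 (f9 (f10 (q)))))))))))))))) q)) = true := by decide +kernel

theorem eq12_24 : allR 149544 6231 (fun q => Nat.beq (f12 q) ((fun q => f10 (f9 (f10 (f8 (f8 (f8 (f9 (f11 (f8 (f10 (f9 (f10 (f8 (f9 (f10 (q)))))))))))))))) q)) = true := by decide +kernel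


end Cfsg.Agent.HNOut
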