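import Cfsg.Agent.Lib.Lead.HNOut.D12

/-! # The outer automorphism group of the Harada–Norton group: the check of the table of the element number 12 (generated) -/

set_option autoImplicit false
set_option maxRecDepth 100000

namespace Cfsg.Agent.HNOut

open Cfsg.Agent.PF Cfsg.Agent.Lib.Helper6 Cfsg.Agent.Lib.Helper6.TC Cfsg.Agent.Lib.Helper6.NatArr
open Cfsg.Agent.PL (Acts evalF)

theorem eq12_25 : allR 155775 6231 (fun q => Nat.beq (f12 q) ((fun q => f10 (f9 (f10 (f8 (f8 (f8 (f9 (f11 (f8 (f10 (f9 (f10 (f8 (f9 (f10 (q)))))))))))))))) q)) = true := by decide +kernel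

theorem eq12_26 : allR 162006 6231 (fun q => Nat.beq (f12 q) ((fun q => f10 (f9 (f10 (f8 (f8 (f8 (f9 (f11 (f8 (f10 (f9 (f10 (f8 (f9 (f10 (q)))))))))))))))) q)) = true := by decide +kernel

theorem eq12_27 : allR 168237 6231 (fun q => Nat.beq (f12 q) ((fun q => f10 (f9 (f10 (f8 (f8 (f8 (f9 (f11 (f8 (f10 (f9 (f10 (f8 (f9 (f10 (q)))))))))))))))) q)) = true := by decide +kernel

theorem eq12_28 : allR 174468 6231 (fun q => Nat.beq (f12 q) ((fun q => f10 (f9 (f10 (f8 (f8 (f8 (f9 (f11 (f8 (f10 (f9 (f10 (f8 (f9 (f10 (q)))))))))))))))) q)) = true := by decide +kernel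

theorem eq12_29 : allR 180699 6231 (fun q => Nat.beq (f12 q) ((fun q => f10 (f9 (f10 (f8 (f8 (f8 (f9 (f11 (f8 (f10 (f9 (f10 (f8 (f9 (f10 (q)))))))))))))))) q)) = true := by decide +kernel

theorem eq12_30 : allR 186930 6231 (fun q => Nat.beq (f12 q) ((fun q => f10 (f9 (f10 (f8 (f8 (f8 (f9 (f11 (f8 (f10 (f9 (f10 (f8 (f9 (f10 (q)))))))))))))))) q)) = true := by decide +kernel

theorem eq12_31 : allR 193161 6231 (fun q => Nat.beq (f12 q) ((fun q => f10 (f9 (f10 (f8 (f8 (f8 (f9 (f11 (f8 (f10 (f9 (f10 (f8 (f9 (f10 (q)))))))))))))))) q)) = true := by decide +kernel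

theorem eq12_32 : allR 199392 6231 (fun q => Nat.beq (f12 q) ((fun q => f10 (f9 (f10 (f8 (f8 (f8 (f9 (f11 (f8 (f10 (f9 (f10 (f8 (f9 (f10 (q)))))))))))))))) q)) = true := by decide +kernel

theorem eq12_33 : allR 205623 6231 (fun q => Nat.beq (f12 q) ((fun q => f10 (f9 (f10 (f8 (f8 (f8 (f9 (f11 (f8 (f10 (f9 (f10 (f8 (f9 (f10 (q)))))))))))))))) q)) = true := by decide +kernel

theorem eq12_34 : allR 211854 6231 (fun q => Nat.beq (f12 q) ((fun q => f10 (f9 (f10 (f8 (f8 (f8 (f9 (f11 (f8 (f10 (f9 (f10 (f8 (f9 (f10 (q)))))))))))))))) q)) = true := by decide +kernel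

theorem eq12_35 : allR 218085 6231 (fun q => Nat.beq (f12 q) ((fun q => f10 (f9 (f10 (f8 (f8 (f8 (f9 (f11 (f8 (f10 (f9 (f10 (f8 (f9 (f10 (q)))))))))))))))) q)) = true := by decide +kernel

theorem eq12_36 : allR 224316 6231 (fun q => Nat.beq (f12 q) ((fun q => f10 (f9 (f10 (f8 (f8 (f8 (f9 (f11 (f8 (f10 (f9 (f10 (f8 (f9 (f10 (q)))))))))))))))) q)) = true := by decide +kernel

theorem eq12_37 : allR 230547 6231 (fun q => Nat.beq (f12 q) ((fun q => f10 (f9 (f10 (f8 (f8 (f8 (f9 (f11 (f8 (f10 (f9 (f10 (f8 (f9 (f10 (q)))))))))))))))) q)) = true := by decide +kernel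

theorem eq12_38 : allR 236778 6231 (fun q => Nat.beq (f12 q) ((fun q => f10 (f9 (f10 (f8 (f8 (f8 (f9 (f11 (f8 (f10 (f9 (f10 (f8 (f9 (f10 (q)))))))))))))))) q)) = true := by decide +kernel

theorem eq12_39 : allR 243009 6231 (fun q => Nat.beq (f12 q) ((fun q => f10 (f9 (f10 (f8 (f8 (f8 (f9 (f11 (f8 (f10 (f9 (f10 (f8 (f9 (f10 (q)))))))))))))))) q)) = true := by decide +kernel

theorem eq12_40 : allR 249240 6231 (fun q => Nat.beq (f12 q) ((fun q => f10 (f9 (f10 (f8 (f8 (f8 (f9 (f11 (f8 (f10 (f9 (f10 (f8 (f9 (f10 (q)))))))))))))))) q)) = true := by decide +kernel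

theorem eq12_41 : allR 255471 6231 (fun q => Nat.beq (f12 q) ((fun q => f10 (f9 (f10 (f8 (f8 (f8 (f9 (f11 (f8 (f10 (f9 (f10 (f8 (f9 (f10 (q)))))))))))))))) q)) = true := by decide +kernel

theorem eq12_42 : allR 261702 6231 (fun q => Nat.beq (f12 q) ((fun q => f10 (f9 (f10 (f8 (f8 (f8 (f9 (f11 (f8 (f10 (f9 (f10 (f8 (f9 (f10 (q)))))))))))))))) q)) = true := by decide +kernel

theorem eq12_43 : allR 267933 6231 (fun q => Nat.beq (f12 q) ((fun q => f10 (f9 (f10 (f8 (f8 (f8 (f9 (f11 (f8 (f10 (f9 (f10 (f8 (f9 (f10 (q)))))))))))))))) q)) = true := by decide +kernel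

theorem eq12_44 : allR 274164 6231 (fun q => Nat.beq (f12 q) ((fun q => f10 (f9 (f10 (f8 (f8 (f8 (f9 (f11 (f8 (f10 (f9 (f10 (f8 (f9 (f10 (q)))))))))))))))) q)) = true := by decide +kernel

theorem eq12_45 : allR 280395 6231 (fun q => Nat.beq (f12 q) ((fun q => f10 (f9 (f10 (f8 (f8 (f8 (f9 (f11 (f8 (f10 (f9 (f10 (f8 (f9 (f10 (q)))))))))))))))) q)) = true := by decide +kernel

theorem eq12_46 : allR 286626 6231 (fun q => Nat.beq (f12 q) ((fun q => f10 (f9 (f10 (f8 (f8 (f8 (f9 (f11 (f8 (f10 (f9 (f10 (f8 (f9 (f10 (q)))))))))))))))) q)) = true := by decide +kernel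

theorem eq12_47 : allR 292857 6231 (fun q => Nat.beq (f12 q) ((fun q => f10 (f9 (f10 (f8 (f8 (f8 (f9 (f11 (f8 (f10 (f9 (f10 (f8 (f9 (f10 (q)))))))))))))))) q)) = true := by decide +kernel

theorem eq12_48 : allR 299088 6231 (fun q => Nat.beq (f12 q) ((fun q => f10 (f9 (f10 (f8 (f8 (f8 (f9 (f11 (f8 (f10 (f9 (f10 (f8 (f9 (f10 (q)))))))))))))))) q)) = true := by decide +kernel

theorem eq12_49 : allR 305319 6231 (fun q => Nat.beq (f12 q) ((fun q => f10 (f9 (f10 (f8 (f8 (f8 (f9 (f11 (f8 (f10 (f9 (f10 (f8 (f9 (f10 (q)))))))))))))))) q)) = true := by decide +kernel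


end Cfsg.Agent.HNOut
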