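import Cfsg.Agent.Lib.Lead.HNOut.D12

/-! # The outer automorphism group of the Harada–Norton group: the check of the table of the element number 12 (generated) -/

set_option autoImplicit false
set_option maxRecDepth 100000

namespace Cfsg.Agent.HNOut

open Cfsg.Agent.PF Cfsg.Agent.Lib.Helper6 Cfsg.Agent.Lib.Helper6.TC Cfsg.Agent.Lib.Helper6.NatArr
open Cfsg.Agent.PL (Acts evalF)

theorem eq12_50 : allR 311550 6231 (fun q => Nat.beq (f12 q) ((fun q => f10 (f9 (f10 (f8 (f8 (f8 (f9 (f11 (f8 (f10 (f9 (f10 (f8 (f9 (f10 (q)))))))))))))))) q)) = true := by decide +kernel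

theorem eq12_51 : allR 317781 6231 (fun q => Nat.beq (f12 q) ((fun q => f10 (f9 (f10 (f8 (f8 (f8 (f9 (f11 (f8 (f10 (f9 (f10 (f8 (f9 (f10 (q)))))))))))))))) q)) = true := by decide +kernel

theorem eq12_52 : allR 324012 6231 (fun q => Nat.beq (f12 q) ((fun q => f10 (f9 (f10 (f8 (f8 (f8 (f9 (f11 (f8 (f10 (f9 (f10 (f8 (f9 (f10 (q)))))))))))))))) q)) = true := by decide +kernel

theorem eq12_53 : allR 330243 6231 (fun q => Nat.beq (f12 q) ((fun q => f10 (f9 (f10 (f8 (f8 (f8 (f9 (f11 (f8 (f10 (f9 (f10 (f8 (f9 (f10 (q)))))))))))))))) q)) = true := by decide +kernel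

theorem eq12_54 : allR 336474 6231 (fun q => Nat.beq (f12 q) ((fun q => f10 (f9 (f10 (f8 (f8 (f8 (f9 (f11 (f8 (f10 (f9 (f10 (f8 (f9 (f10 (q)))))))))))))))) q)) = true := by decide +kernel

theorem eq12_55 : allR 342705 6231 (fun q => Nat.beq (f12 q) ((fun q => f10 (f9 (f10 (f8 (f8 (f8 (f9 (f11 (f8 (f10 (f9 (f10 (f8 (f9 (f10 (q)))))))))))))))) q)) = true := by decide +kernel

theorem eq12_56 : allR 348936 6231 (fun q => Nat.beq (f12 q) ((fun q => f10 (f9 (f10 (f8 (f8 (f8 (f9 (f11 (f8 (f10 (f9 (f10 (f8 (f9 (f10 (q)))))))))))))))) q)) = true := by decide +kernel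

theorem eq12_57 : allR 355167 6231 (fun q => Nat.beq (f12 q) ((fun q => f10 (f9 (f10 (f8 (f8 (f8 (f9 (f11 (f8 (f10 (f9 (f10 (f8 (f9 (f10 (q)))))))))))))))) q)) = true := by decide +kernel

theorem eq12_58 : allR 361398 6231 (fun q => Nat.beq (f12 q) ((fun q => f10 (f9 (f10 (f8 (f8 (f8 (f9 (f11 (f8 (f10 (f9 (f10 (f8 (f9 (f10 (q)))))))))))))))) q)) = true := by decide +kernel

theorem eq12_59 : allR 367629 6231 (fun q => Nat.beq (f12 q) ((fun q => f10 (f9 (f10 (f8 (f8 (f8 (f9 (f11 (f8 (f10 (f9 (f10 (f8 (f9 (f10 (q)))))))))))))))) q)) = true := by decide +kernel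

theorem eq12_60 : allR 373860 6231 (fun q => Nat.beq (f12 q) ((fun q => f10 (f9 (f10 (f8 (f8 (f8 (f9 (f11 (f8 (f10 (f9 (f10 (f8 (f9 (f10 (q)))))))))))))))) q)) = true := by decide +kernel

theorem eq12_61 : allR 380091 6231 (fun q => Nat.beq (f12 q) ((fun q => f10 (f9 (f10 (f8 (f8 (f8 (f9 (f11 (f8 (f10 (f9 (f10 (f8 (f9 (f10 (q)))))))))))))))) q)) = true := by decide +kernel

theorem eq12_62 : allR 386322 6231 (fun q => Nat.beq (f12 q) ((fun q => f10 (f9 (f10 (f8 (f8 (f8 (f9 (f11 (f8 (f10 (f9 (f10 (f8 (f9 (f10 (q)))))))))))))))) q)) = true := by decide +kernel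

theorem eq12_63 : allR 392553 6231 (fun q => Nat.beq (f12 q) ((fun q => f10 (f9 (f10 (f8 (f8 (f8 (f9 (f11 (f8 (f10 (f9 (f10 (f8 (f9 (f10 (q)))))))))))))))) q)) = true := by decide +kernel

theorem eq12_64 : allR 398784 6231 (fun q => Nat.beq (f12 q) ((fun q => f10 (f9 (f10 (f8 (f8 (f8 (f9 (f11 (f8 (f10 (f9 (f10 (f8 (f9 (f10 (q)))))))))))))))) q)) = true := by decide +kernel

theorem eq12_65 : allR 405015 6231 (fun q => Nat.beq (f12 q) ((fun q => f10 (f9 (f10 (f8 (f8 (f8 (f9 (f11 (f8 (f10 (f9 (f10 (f8 (f9 (f10 (q)))))))))))))))) q)) = true := by decide +kernel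

theorem eq12_66 : allR 411246 6231 (fun q => Nat.beq (f12 q) ((fun q => f10 (f9 (f10 (f8 (f8 (f8 (f9 (f11 (f8 (f10 (f9 (f10 (f8 (f9 (f10 (q)))))))))))))))) q)) = true := by decide +kernel

theorem eq12_67 : allR 417477 6231 (fun q => Nat.beq (f12 q) ((fun q => f10 (f9 (f10 (f8 (f8 (f8 (f9 (f11 (f8 (f10 (f9 (f10 (f8 (f9 (f10 (q)))))))))))))))) q)) = true := by decide +kernel

theorem eq12_68 : allR 423708 6231 (fun q => Nat.beq (f12 q) ((fun q => f10 (f9 (f10 (f8 (f8 (f8 (f9 (f11 (f8 (f10 (f9 (f10 (f8 (f9 (f10 (q)))))))))))))))) q)) = true := by decide +kernel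

theorem eq12_69 : allR 429939 6231 (fun q => Nat.beq (f12 q) ((fun q => f10 (f9 (f10 (f8 (f8 (f8 (f9 (f11 (f8 (f10 (f9 (f10 (f8 (f9 (f10 (q)))))))))))))))) q)) = true := by decide +kernel

theorem eq12_70 : allR 436170 6231 (fun q => Nat.beq (f12 q) ((fun q => f10 (f9 (f10 (f8 (f8 (f8 (f9 (f11 (f8 (f10 (f9 (f10 (f8 (f9 (f10 (q)))))))))))))))) q)) = true := by decide +kernel

theorem eq12_71 : allR 442401 6231 (fun q => Nat.beq (f12 q) ((fun q => f10 (f9 (f10 (f8 (f8 (f8 (f9 (f11 (f8 (f10 (f9 (f10 (f8 (f9 (f10 (q)))))))))))))))) q)) = true := by decide +kernel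

theorem eq12_72 : allR 448632 6231 (fun q => Nat.beq (f12 q) ((fun q => f10 (f9 (f10 (f8 (f8 (f8 (f9 (f11 (f8 (f10 (f9 (f10 (f8 (f9 (f10 (q)))))))))))))))) q)) = true := by decide +kernel

theorem eq12_73 : allR 454863 6231 (fun q => Nat.beq (f12 q) ((fun q => f10 (f9 (f10 (f8 (f8 (f8 (f9 (f11 (f8 (f10 (f9 (f10 (f8 (f9 (f10 (q)))))))))))))))) q)) = true := by decide +kernel

theorem eq12_74 : allR 461094 6231 (fun q => Nat.beq (f12 q) ((fun q => f10 (f9 (f10 (f8 (f8 (f8 (f9 (f11 (f8 (f10 (f9 (f10 (f8 (f9 (f10 (q)))))))))))))))) q)) = true := by decide +kernel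


end Cfsg.Agent.HNOut
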