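import Cfsg.Agent.Lib.Lead.HNOut.D12

/-! # The outer automorphism group of the Harada–Norton group: the check of the table of the element number 12 (generated) -/

set_option autoImplicit false
set_option maxRecDepth 100000

namespace Cfsg.Agent.HNOut

open Cfsg.Agent.PF Cfsg.Agent.Lib.Helper6 Cfsg.Agent.Lib.Helper6.TC Cfsg.Agent.Lib.Helper6.NatArr
open Cfsg.Agent.PL (Acts evalF)

theorem eq12_100 : allR 623100 6231 (fun q => Nat.beq (f12 q) ((fun q => f10 (f9 (f10 (f8 (f8 (f8 (f9 (f11 (f8 (f10 (f9 (f10 (f8 (f9 (f10 (q)))))))))))))))) q)) = true := by decide +kernel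

theorem eq12_101 : allR 629331 6231 (fun q => Nat.beq (f12 q) ((fun q => f10 (f9 (f10 (f8 (f8 (f8 (f9 (f11 (f8 (f10 (f9 (f10 (f8 (f9 (f10 (q)))))))))))))))) q)) = true := by decide +kernel

theorem eq12_102 : allR 635562 6231 (fun q => Nat.beq (f12 q) ((fun q => f10 (f9 (f10 (f8 (f8 (f8 (f9 (f11 (f8 (f10 (f9 (f10 (f8 (f9 (f10 (q)))))))))))))))) q)) = true := by decide +kernel

theorem eq12_103 : allR 641793 6231 (fun q => Nat.beq (f12 q) ((fun q => f10 (f9 (f10 (f8 (f8 (f8 (f9 (f11 (f8 (f10 (f9 (f10 (f8 (f9 (f10 (q)))))))))))))))) q)) = true := by decide +kernel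

theorem eq12_104 : allR 648024 6231 (fun q => Nat.beq (f12 q) ((fun q => f10 (f9 (f10 (f8 (f8 (f8 (f9 (f11 (f8 (f10 (f9 (f10 (f8 (f9 (f10 (q)))))))))))))))) q)) = true := by decide +kernel

theorem eq12_105 : allR 654255 6231 (fun q => Nat.beq (f12 q) ((fun q => f10 (f9 (f10 (f8 (f8 (f8 (f9 (f11 (f8 (f10 (f9 (f10 (f8 (f9 (f10 (q)))))))))))))))) q)) = true := by decide +kernel

theorem eq12_106 : allR 660486 6231 (fun q => Nat.beq (f12 q) ((fun q => f10 (f9 (f10 (f8 (f8 (f8 (f9 (f11 (f8 (f10 (f9 (f10 (f8 (f9 (f10 (q)))))))))))))))) q)) = true := by decide +kernel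

theorem eq12_107 : allR 666717 6231 (fun q => Nat.beq (f12 q) ((fun q => f10 (f9 (f10 (f8 (f8 (f8 (f9 (f11 (f8 (f10 (f9 (f10 (f8 (f9 (f10 (q)))))))))))))))) q)) = true := by decide +kernel

theorem eq12_108 : allR 672948 6231 (fun q => Nat.beq (f12 q) ((fun q => f10 (f9 (f10 (f8 (f8 (f8 (f9 (f11 (f8 (f10 (f9 (f10 (f8 (f9 (f10 (q)))))))))))))))) q)) = true := by decide +kernel

theorem eq12_109 : allR 679179 6231 (fun q => Nat.beq (f12 q) ((fun q => f10 (f9 (f10 (f8 (f8 (f8 (f9 (f11 (f8 (f10 (f9 (f10 (f8 (f9 (f10 (q)))))))))))))))) q)) = true := by decide +kernel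

theorem eq12_110 : allR 685410 6231 (fun q => Nat.beq (f12 q) ((fun q => f10 (f9 (f10 (f8 (f8 (f8 (f9 (f11 (f8 (f10 (f9 (f10 (f8 (f9 (f10 (q)))))))))))))))) q)) = true := by decide +kernel

theorem eq12_111 : allR 691641 6231 (fun q => Nat.beq (f12 q) ((fun q => f10 (f9 (f10 (f8 (f8 (f8 (f9 (f11 (f8 (f10 (f9 (f10 (f8 (f9 (f10 (q)))))))))))))))) q)) = true := by decide +kernel

theorem eq12_112 : allR 697872 6231 (fun q => Nat.beq (f12 q) ((fun q => f10 (f9 (f10 (f8 (f8 (f8 (f9 (f11 (f8 (f10 (f9 (f10 (f8 (f9 (f10 (q)))))))))))))))) q)) = true := by decide +kernel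

theorem eq12_113 : allR 704103 6231 (fun q => Nat.beq (f12 q) ((fun q => f10 (f9 (f10 (f8 (f8 (f8 (f9 (f11 (f8 (f10 (f9 (f10 (f8 (f9 (f10 (q)))))))))))))))) q)) = true := by decide +kernel

theorem eq12_114 : allR 710334 6231 (fun q => Nat.beq (f12 q) ((fun q => f10 (f9 (f10 (f8 (f8 (f8 (f9 (f11 (f8 (f10 (f9 (f10 (f8 (f9 (f10 (q)))))))))))))))) q)) = true := by decide +kernel

theorem eq12_115 : allR 716565 6231 (fun q => Nat.beq (f12 q) ((fun q => f10 (f9 (f10 (f8 (f8 (f8 (f9 (f11 (f8 (f10 (f9 (f10 (f8 (f9 (f10 (q)))))))))))))))) q)) = true := by decide +kernel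

theorem eq12_116 : allR 722796 6231 (fun q => Nat.beq (f12 q) ((fun q => f10 (f9 (f10 (f8 (f8 (f8 (f9 (f11 (f8 (f10 (f9 (f10 (f8 (f9 (f10 (q)))))))))))))))) q)) = true := by decide +kernel

theorem eq12_117 : allR 729027 6231 (fun q => Nat.beq (f12 q) ((fun q => f10 (f9 (f10 (f8 (f8 (f8 (f9 (f11 (f8 (f10 (f9 (f10 (f8 (f9 (f10 (q)))))))))))))))) q)) = true := by decide +kernel

theorem eq12_118 : allR 735258 6231 (fun q => Nat.beq (f12 q) ((fun q => f10 (f9 (f10 (f8 (f8 (f8 (f9 (f11 (f8 (f10 (f9 (f10 (f8 (f9 (f10 (q)))))))))))))))) q)) = true := by decide +kernel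

theorem eq12_119 : allR 741489 6231 (fun q => Nat.beq (f12 q) ((fun q => f10 (f9 (f10 (f8 (f8 (f8 (f9 (f11 (f8 (f10 (f9 (f10 (f8 (f9 (f10 (q)))))))))))))))) q)) = true := by decide +kernel

theorem eq12_120 : allR 747720 6231 (fun q => Nat.beq (f12 q) ((fun q => f10 (f9 (f10 (f8 (f8 (f8 (f9 (f11 (f8 (f10 (f9 (f10 (f8 (f9 (f10 (q)))))))))))))))) q)) = true := by decide +kernel

theorem eq12_121 : allR 753951 6231 (fun q => Nat.beq (f12 q) ((fun q => f10 (f9 (f10 (f8 (f8 (f8 (f9 (f11 (f8 (f10 (f9 (f10 (f8 (f9 (f10 (q)))))))))))))))) q)) = true := by decide +kernel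

theorem eq12_122 : allR 760182 6231 (fun q => Nat.beq (f12 q) ((fun q => f10 (f9 (f10 (f8 (f8 (f8 (f9 (f11 (f8 (f10 (f9 (f10 (f8 (f9 (f10 (q)))))))))))))))) q)) = true := by decide +kernel

theorem eq12_123 : allR 766413 6231 (fun q => Nat.beq (f12 q) ((fun q => f10 (f9 (f10 (f8 (f8 (f8 (f9 (f11 (f8 (f10 (f9 (f10 (f8 (f9 (f10 (q)))))))))))))))) q)) = true := by decide +kernel

theorem eq12_124 : allR 772644 6231 (fun q => Nat.beq (f12 q) ((fun q => f10 (f9 (f10 (f8 (f8 (f8 (f9 (f11 (f8 (f10 (f9 (f10 (f8 (f9 (f10 (q)))))))))))))))) q)) = true := by decide +kernel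


end Cfsg.Agent.HNOut
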