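import Cfsg.Agent.Lib.Lead.HNOut.D13

/-! # The outer automorphism group of the Harada–Norton group: the check of the table of the element number 13 (generated) -/

set_option autoImplicit false
set_option maxRecDepth 100000

namespace Cfsg.Agent.HNOut

open Cfsg.Agent.PF Cfsg.Agent.Lib.Helper6 Cfsg.Agent.Lib.Helper6.TC Cfsg.Agent.Lib.Helper6.NatArr
open Cfsg.Agent.PL (Acts evalF)

theorem eq13_0 : allR 0 2773 (fun q => Nat.beq (f13 q) ((fun q => f11 (f12 (f11 (f12 (f12 (f11 (f11 (f11 (f11 (f11 (f12 (f11 (f11 (f12 (f12 (f12 (f11 (f12 (f9 (f11 (f8 (f11 (f11 (f12 (f9 (f11 (f9 (f9 (f10 (f12 (f9 (f10 (f10 (f11 (f10 (q)))))))))))))))))))))))))))))))))))) q)) = true := by decide +kernel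

theorem eq13_1 : allR 2773 2773 (fun q => Nat.beq (f13 q) ((fun q => f11 (f12 (f11 (f12 (f12 (f11 (f11 (f11 (f11 (f11 (f12 (f11 (f11 (f12 (f12 (f12 (f11 (f12 (f9 (f11 (f8 (f11 (f11 (f12 (f9 (f11 (f9 (f9 (f10 (f12 (f9 (f10 (f10 (f11 (f10 (q)))))))))))))))))))))))))))))))))))) q)) = true := by decide +kernel

theorem eq13_2 : allR 5546 2773 (fun q => Nat.beq (f13 q) ((fun q => f11 (f12 (f11 (f12 (f12 (f11 (f11 (f11 (f11 (f11 (f12 (f11 (f11 (f12 (f12 (f12 (f11 (f12 (f9 (f11 (f8 (f11 (f11 (f12 (f9 (f11 (f9 (f9 (f10 (f12 (f9 (f10 (f10 (f11 (f10 (q)))))))))))))))))))))))))))))))))))) q)) = true := by decide +kernel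

theorem eq13_3 : allR 8319 2773 (fun q => Nat.beq (f13 q) ((fun q => f11 (f12 (f11 (f12 (f12 (f11 (f11 (f11 (f11 (f11 (f12 (f11 (f11 (f12 (f12 (f12 (f11 (f12 (f9 (f11 (f8 (f11 (f11 (f12 (f9 (f11 (f9 (f9 (f10 (f12 (f9 (f10 (f10 (f11 (f10 (q)))))))))))))))))))))))))))))))))))) q)) = true := by decide +kernel

theorem eq13_4 : allR 11092 2773 (fun q => Nat.beq (f13 q) ((fun q => f11 (f12 (f11 (f12 (f12 (f11 (f11 (f11 (f11 (f11 (f12 (f11 (f11 (f12 (f12 (f12 (f11 (f12 (f9 (f11 (f8 (f11 (f11 (f12 (f9 (f11 (f9 (f9 (f10 (f12 (f9 (f10 (f10 (f11 (f10 (q)))))))))))))))))))))))))))))))))))) q)) = true := by decide +kernel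

theorem eq13_5 : allR 13865 2773 (fun q => Nat.beq (f13 q) ((fun q => f11 (f12 (f11 (f12 (f12 (f11 (f11 (f11 (f11 (f11 (f12 (f11 (f11 (f12 (f12 (f12 (f11 (f12 (f9 (f11 (f8 (f11 (f11 (f12 (f9 (f11 (f9 (f9 (f10 (f12 (f9 (f10 (f10 (f11 (f10 (q)))))))))))))))))))))))))))))))))))) q)) = true := by decide +kernel

theorem eq13_6 : allR 16638 2773 (fun q => Nat.beq (f13 q) ((fun q => f11 (f12 (f11 (f12 (f12 (f11 (f11 (f11 (f11 (f11 (f12 (f11 (f11 (f12 (f12 (f12 (f11 (f12 (f9 (f11 (f8 (f11 (f11 (f12 (f9 (f11 (f9 (f9 (f10 (f12 (f9 (f10 (f10 (f11 (f10 (q)))))))))))))))))))))))))))))))))))) q)) = true := by decide +kernel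

theorem eq13_7 : allR 19411 2773 (fun q => Nat.beq (f13 q) ((fun q => f11 (f12 (f11 (f12 (f12 (f11 (f11 (f11 (f11 (f11 (f12 (f11 (f11 (f12 (f12 (f12 (f11 (f12 (f9 (f11 (f8 (f11 (f11 (f12 (f9 (f11 (f9 (f9 (f10 (f12 (f9 (f10 (f10 (f11 (f10 (q)))))))))))))))))))))))))))))))))))) q)) = true := by decide +kernel

theorem eq13_8 : allR 22184 2773 (fun q => Nat.beq (f13 q) ((fun q => f11 (f12 (f11 (f12 (f12 (f11 (f11 (f11 (f11 (f11 (f12 (f11 (f11 (f12 (f12 (f12 (f11 (f12 (f9 (f11 (f8 (f11 (f11 (f12 (f9 (f11 (f9 (f9 (f10 (f12 (f9 (f10 (f10 (f11 (f10 (q)))))))))))))))))))))))))))))))))))) q)) = true := by decide +kernel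

theorem eq13_9 : allR 24957 2773 (fun q => Nat.beq (f13 q) ((fun q => f11 (f12 (f11 (f12 (f12 (f11 (f11 (f11 (f11 (f11 (f12 (f11 (f11 (f12 (f12 (f12 (f11 (f12 (f9 (f11 (f8 (f11 (f11 (f12 (f9 (f11 (f9 (f9 (f10 (f12 (f9 (f10 (f10 (f11 (f10 (q)))))))))))))))))))))))))))))))))))) q)) = true := by decide +kernel

theorem eq13_10 : allR 27730 2773 (fun q => Nat.beq (f13 q) ((fun q => f11 (f12 (f11 (f12 (f12 (f11 (f11 (f11 (f11 (f11 (f12 (f11 (f11 (f12 (f12 (f12 (f11 (f12 (f9 (f11 (f8 (f11 (f11 (f12 (f9 (f11 (f9 (f9 (f10 (f12 (f9 (f10 (f10 (f11 (f10 (q)))))))))))))))))))))))))))))))))))) q)) = true := by decide +kernel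

theorem eq13_11 : allR 30503 2773 (fun q => Nat.beq (f13 q) ((fun q => f11 (f12 (f11 (f12 (f12 (f11 (f11 (f11 (f11 (f11 (f12 (f11 (f11 (f12 (f12 (f12 (f11 (f12 (f9 (f11 (f8 (f11 (f11 (f12 (f9 (f11 (f9 (f9 (f10 (f12 (f9 (f10 (f10 (f11 (f10 (q)))))))))))))))))))))))))))))))))))) q)) = true := by decide +kernel

theorem eq13_12 : allR 33276 2773 (fun q => Nat.beq (f13 q) ((fun q => f11 (f12 (f11 (f12 (f12 (f11 (f11 (f11 (f11 (f11 (f12 (f11 (f11 (f12 (f12 (f12 (f11 (f12 (f9 (f11 (f8 (f11 (f11 (f12 (f9 (f11 (f9 (f9 (f10 (f12 (f9 (f10 (f10 (f11 (f10 (q)))))))))))))))))))))))))))))))))))) q)) = true := by decide +kernel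

theorem eq13_13 : allR 36049 2773 (fun q => Nat.beq (f13 q) ((fun q => f11 (f12 (f11 (f12 (f12 (f11 (f11 (f11 (f11 (f11 (f12 (f11 (f11 (f12 (f12 (f12 (f11 (f12 (f9 (f11 (f8 (f11 (f11 (f12 (f9 (f11 (f9 (f9 (f10 (f12 (f9 (f10 (f10 (f11 (f10 (q)))))))))))))))))))))))))))))))))))) q)) = true := by decide +kernel

theorem eq13_14 : allR 38822 2773 (fun q => Nat.beq (f13 q) ((fun q => f11 (f12 (f11 (f12 (f12 (f11 (f11 (f11 (f11 (f11 (f12 (f11 (f11 (f12 (f12 (f12 (f11 (f12 (f9 (f11 (f8 (f11 (f11 (f12 (f9 (f11 (f9 (f9 (f10 (f12 (f9 (f10 (f10 (f11 (f10 (q)))))))))))))))))))))))))))))))))))) q)) = true := by decide +kernel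

theorem eq13_15 : allR 41595 2773 (fun q => Nat.beq (f13 q) ((fun q => f11 (f12 (f11 (f12 (f12 (f11 (f11 (f11 (f11 (f11 (f12 (f11 (f11 (f12 (f12 (f12 (f11 (f12 (f9 (f11 (f8 (f11 (f11 (f12 (f9 (f11 (f9 (f9 (f10 (f12 (f9 (f10 (f10 (f11 (f10 (q)))))))))))))))))))))))))))))))))))) q)) = true := by decide +kernel

theorem eq13_16 : allR 44368 2773 (fun q => Nat.beq (f13 q) ((fun q => f11 (f12 (f11 (f12 (f12 (f11 (f11 (f11 (f11 (f11 (f12 (f11 (f11 (f12 (f12 (f12 (f11 (f12 (f9 (f11 (f8 (f11 (f11 (f12 (f9 (f11 (f9 (f9 (f10 (f12 (f9 (f10 (f10 (f11 (f10 (q)))))))))))))))))))))))))))))))))))) q)) = true := by decide +kernel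

theorem eq13_17 : allR 47141 2773 (fun q => Nat.beq (f13 q) ((fun q => f11 (f12 (f11 (f12 (f12 (f11 (f11 (f11 (f11 (f11 (f12 (f11 (f11 (f12 (f12 (f12 (f11 (f12 (f9 (f11 (f8 (f11 (f11 (f12 (f9 (f11 (f9 (f9 (f10 (f12 (f9 (f10 (f10 (f11 (f10 (q)))))))))))))))))))))))))))))))))))) q)) = true := by decide +kernel

theorem eq13_18 : allR 49914 2773 (fun q => Nat.beq (f13 q) ((fun q => f11 (f12 (f11 (f12 (f12 (f11 (f11 (f11 (f11 (f11 (f12 (f11 (f11 (f12 (f12 (f12 (f11 (f12 (f9 (f11 (f8 (f11 (f11 (f12 (f9 (f11 (f9 (f9 (f10 (f12 (f9 (f10 (f10 (f11 (f10 (q)))))))))))))))))))))))))))))))))))) q)) = true := by decide +kernel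

theorem eq13_19 : allR 52687 2773 (fun q => Nat.beq (f13 q) ((fun q => f11 (f12 (f11 (f12 (f12 (f11 (f11 (f11 (f11 (f11 (f12 (f11 (f11 (f12 (f12 (f12 (f11 (f12 (f9 (f11 (f8 (f11 (f11 (f12 (f9 (f11 (f9 (f9 (f10 (f12 (f9 (f10 (f10 (f11 (f10 (q)))))))))))))))))))))))))))))))))))) q)) = true := by decide +kernel

theorem eq13_20 : allR 55460 2773 (fun q => Nat.beq (f13 q) ((fun q => f11 (f12 (f11 (f12 (f12 (f11 (f11 (f11 (f11 (f11 (f12 (f11 (f11 (f12 (f12 (f12 (f11 (f12 (f9 (f11 (f8 (f11 (f11 (f12 (f9 (f11 (f9 (f9 (f10 (f12 (f9 (f10 (f10 (f11 (f10 (q)))))))))))))))))))))))))))))))))))) q)) = true := by decide +kernel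

theorem eq13_21 : allR 58233 2773 (fun q => Nat.beq (f13 q) ((fun q => f11 (f12 (f11 (f12 (f12 (f11 (f11 (f11 (f11 (f11 (f12 (f11 (f11 (f12 (f12 (f12 (f11 (f12 (f9 (f11 (f8 (f11 (f11 (f12 (f9 (f11 (f9 (f9 (f10 (f12 (f9 (f10 (f10 (f11 (f10 (q)))))))))))))))))))))))))))))))))))) q)) = true := by decide +kernel

theorem eq13_22 : allR 61006 2773 (fun q => Nat.beq (f13 q) ((fun q => f11 (f12 (f11 (f12 (f12 (f11 (f11 (f11 (f11 (f11 (f12 (f11 (f11 (f12 (f12 (f12 (f11 (f12 (f9 (f11 (f8 (f11 (f11 (f12 (f9 (f11 (f9 (f9 (f10 (f12 (f9 (f10 (f10 (f11 (f10 (q)))))))))))))))))))))))))))))))))))) q)) = true := by decide +kernel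

theorem eq13_23 : allR 63779 2773 (fun q => Nat.beq (f13 q) ((fun q => f11 (f12 (f11 (f12 (f12 (f11 (f11 (f11 (f11 (f11 (f12 (f11 (f11 (f12 (f12 (f12 (f11 (f12 (f9 (f11 (f8 (f11 (f11 (f12 (f9 (f11 (f9 (f9 (f10 (f12 (f9 (f10 (f10 (f11 (f10 (q)))))))))))))))))))))))))))))))))))) q)) = true := by decide +kernel

theorem eq13_24 : allR 66552 2773 (fun q => Nat.beq (f13 q) ((fun q => f11 (f12 (f11 (f12 (f12 (f11 (f11 (f11 (f11 (f11 (f12 (f11 (f11 (f12 (f12 (f12 (f11 (f12 (f9 (f11 (f8 (f11 (f11 (f12 (f9 (f11 (f9 (f9 (f10 (f12 (f9 (f10 (f10 (f11 (f10 (q)))))))))))))))))))))))))))))))))))) q)) = true := by decide +kernel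


end Cfsg.Agent.HNOut
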