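import Cfsg.Agent.Lib.Lead.HNOut.D13

/-! # The outer automorphism group of the Harada–Norton group: the check of the table of the element number 13 (generated) -/

set_option autoImplicit false
set_option maxRecDepth 100000

namespace Cfsg.Agent.HNOut

open Cfsg.Agent.PF Cfsg.Agent.Lib.Helper6 Cfsg.Agent.Lib.Helper6.TC Cfsg.Agent.Lib.Helper6.NatArr
open Cfsg.Agent.PL (Acts evalF)

theorem eq13_25 : allR 69325 2773 (fun q => Nat.beq (f13 q) ((fun q => f11 (f12 (f11 (f12 (f12 (f11 (f11 (f11 (f11 (f11 (f12 (f11 (f11 (f12 (f12 (f12 (f11 (f12 (f9 (f11 (f8 (f11 (f11 (f12 (f9 (f11 (f9 (f9 (f10 (f12 (f9 (f10 (f10 (f11 (f10 (q)))))))))))))))))))))))))))))))))))) q)) = true := by decide +kernel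

theorem eq13_26 : allR 72098 2773 (fun q => Nat.beq (f13 q) ((fun q => f11 (f12 (f11 (f12 (f12 (f11 (f11 (f11 (f11 (f11 (f12 (f11 (f11 (f12 (f12 (f12 (f11 (f12 (f9 (f11 (f8 (f11 (f11 (f12 (f9 (f11 (f9 (f9 (f10 (f12 (f9 (f10 (f10 (f11 (f10 (q)))))))))))))))))))))))))))))))))))) q)) = true := by decide +kernel

theorem eq13_27 : allR 74871 2773 (fun q => Nat.beq (f13 q) ((fun q => f11 (f12 (f11 (f12 (f12 (f11 (f11 (f11 (f11 (f11 (f12 (f11 (f11 (f12 (f12 (f12 (f11 (f12 (f9 (f11 (f8 (f11 (f11 (f12 (f9 (f11 (f9 (f9 (f10 (f12 (f9 (f10 (f10 (f11 (f10 (q)))))))))))))))))))))))))))))))))))) q)) = true := by decide +kernel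

theorem eq13_28 : allR 77644 2773 (fun q => Nat.beq (f13 q) ((fun q => f11 (f12 (f11 (f12 (f12 (f11 (f11 (f11 (f11 (f11 (f12 (f11 (f11 (f12 (f12 (f12 (f11 (f12 (f9 (f11 (f8 (f11 (f11 (f12 (f9 (f11 (f9 (f9 (f10 (f12 (f9 (f10 (f10 (f11 (f10 (q)))))))))))))))))))))))))))))))))))) q)) = true := by decide +kernel

theorem eq13_29 : allR 80417 2773 (fun q => Nat.beq (f13 q) ((fun q => f11 (f12 (f11 (f12 (f12 (f11 (f11 (f11 (f11 (f11 (f12 (f11 (f11 (f12 (f12 (f12 (f11 (f12 (f9 (f11 (f8 (f11 (f11 (f12 (f9 (f11 (f9 (f9 (f10 (f12 (f9 (f10 (f10 (f11 (f10 (q)))))))))))))))))))))))))))))))))))) q)) = true := by decide +kernel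

theorem eq13_30 : allR 83190 2773 (fun q => Nat.beq (f13 q) ((fun q => f11 (f12 (f11 (f12 (f12 (f11 (f11 (f11 (f11 (f11 (f12 (f11 (f11 (f12 (f12 (f12 (f11 (f12 (f9 (f11 (f8 (f11 (f11 (f12 (f9 (f11 (f9 (f9 (f10 (f12 (f9 (f10 (f10 (f11 (f10 (q)))))))))))))))))))))))))))))))))))) q)) = true := by decide +kernel

theorem eq13_31 : allR 85963 2773 (fun q => Nat.beq (f13 q) ((fun q => f11 (f12 (f11 (f12 (f12 (f11 (f11 (f11 (f11 (f11 (f12 (f11 (f11 (f12 (f12 (f12 (f11 (f12 (f9 (f11 (f8 (f11 (f11 (f12 (f9 (f11 (f9 (f9 (f10 (f12 (f9 (f10 (f10 (f11 (f10 (q)))))))))))))))))))))))))))))))))))) q)) = true := by decide +kernel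

theorem eq13_32 : allR 88736 2773 (fun q => Nat.beq (f13 q) ((fun q => f11 (f12 (f11 (f12 (f12 (f11 (f11 (f11 (f11 (f11 (f12 (f11 (f11 (f12 (f12 (f12 (f11 (f12 (f9 (f11 (f8 (f11 (f11 (f12 (f9 (f11 (f9 (f9 (f10 (f12 (f9 (f10 (f10 (f11 (f10 (q)))))))))))))))))))))))))))))))))))) q)) = true := by decide +kernel

theorem eq13_33 : allR 91509 2773 (fun q => Nat.beq (f13 q) ((fun q => f11 (f12 (f11 (f12 (f12 (f11 (f11 (f11 (f11 (f11 (f12 (f11 (f11 (f12 (f12 (f12 (f11 (f12 (f9 (f11 (f8 (f11 (f11 (f12 (f9 (f11 (f9 (f9 (f10 (f12 (f9 (f10 (f10 (f11 (f10 (q)))))))))))))))))))))))))))))))))))) q)) = true := by decide +kernel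

theorem eq13_34 : allR 94282 2773 (fun q => Nat.beq (f13 q) ((fun q => f11 (f12 (f11 (f12 (f12 (f11 (f11 (f11 (f11 (f11 (f12 (f11 (f11 (f12 (f12 (f12 (f11 (f12 (f9 (f11 (f8 (f11 (f11 (f12 (f9 (f11 (f9 (f9 (f10 (f12 (f9 (f10 (f10 (f11 (f10 (q)))))))))))))))))))))))))))))))))))) q)) = true := by decide +kernel

theorem eq13_35 : allR 97055 2773 (fun q => Nat.beq (f13 q) ((fun q => f11 (f12 (f11 (f12 (f12 (f11 (f11 (f11 (f11 (f11 (f12 (f11 (f11 (f12 (f12 (f12 (f11 (f12 (f9 (f11 (f8 (f11 (f11 (f12 (f9 (f11 (f9 (f9 (f10 (f12 (f9 (f10 (f10 (f11 (f10 (q)))))))))))))))))))))))))))))))))))) q)) = true := by decide +kernel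

theorem eq13_36 : allR 99828 2773 (fun q => Nat.beq (f13 q) ((fun q => f11 (f12 (f11 (f12 (f12 (f11 (f11 (f11 (f11 (f11 (f12 (f11 (f11 (f12 (f12 (f12 (f11 (f12 (f9 (f11 (f8 (f11 (f11 (f12 (f9 (f11 (f9 (f9 (f10 (f12 (f9 (f10 (f10 (f11 (f10 (q)))))))))))))))))))))))))))))))))))) q)) = true := by decide +kernel

theorem eq13_37 : allR 102601 2773 (fun q => Nat.beq (f13 q) ((fun q => f11 (f12 (f11 (f12 (f12 (f11 (f11 (f11 (f11 (f11 (f12 (f11 (f11 (f12 (f12 (f12 (f11 (f12 (f9 (f11 (f8 (f11 (f11 (f12 (f9 (f11 (f9 (f9 (f10 (f12 (f9 (f10 (f10 (f11 (f10 (q)))))))))))))))))))))))))))))))))))) q)) = true := by decide +kernel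

theorem eq13_38 : allR 105374 2773 (fun q => Nat.beq (f13 q) ((fun q => f11 (f12 (f11 (f12 (f12 (f11 (f11 (f11 (f11 (f11 (f12 (f11 (f11 (f12 (f12 (f12 (f11 (f12 (f9 (f11 (f8 (f11 (f11 (f12 (f9 (f11 (f9 (f9 (f10 (f12 (f9 (f10 (f10 (f11 (f10 (q)))))))))))))))))))))))))))))))))))) q)) = true := by decide +kernel

theorem eq13_39 : allR 108147 2773 (fun q => Nat.beq (f13 q) ((fun q => f11 (f12 (f11 (f12 (f12 (f11 (f11 (f11 (f11 (f11 (f12 (f11 (f11 (f12 (f12 (f12 (f11 (f12 (f9 (f11 (f8 (f11 (f11 (f12 (f9 (f11 (f9 (f9 (f10 (f12 (f9 (f10 (f10 (f11 (f10 (q)))))))))))))))))))))))))))))))))))) q)) = true := by decide +kernel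

theorem eq13_40 : allR 110920 2773 (fun q => Nat.beq (f13 q) ((fun q => f11 (f12 (f11 (f12 (f12 (f11 (f11 (f11 (f11 (f11 (f12 (f11 (f11 (f12 (f12 (f12 (f11 (f12 (f9 (f11 (f8 (f11 (f11 (f12 (f9 (f11 (f9 (f9 (f10 (f12 (f9 (f10 (f10 (f11 (f10 (q)))))))))))))))))))))))))))))))))))) q)) = true := by decide +kernel

theorem eq13_41 : allR 113693 2773 (fun q => Nat.beq (f13 q) ((fun q => f11 (f12 (f11 (f12 (f12 (f11 (f11 (f11 (f11 (f11 (f12 (f11 (f11 (f12 (f12 (f12 (f11 (f12 (f9 (f11 (f8 (f11 (f11 (f12 (f9 (f11 (f9 (f9 (f10 (f12 (f9 (f10 (f10 (f11 (f10 (q)))))))))))))))))))))))))))))))))))) q)) = true := by decide +kernel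

theorem eq13_42 : allR 116466 2773 (fun q => Nat.beq (f13 q) ((fun q => f11 (f12 (f11 (f12 (f12 (f11 (f11 (f11 (f11 (f11 (f12 (f11 (f11 (f12 (f12 (f12 (f11 (f12 (f9 (f11 (f8 (f11 (f11 (f12 (f9 (f11 (f9 (f9 (f10 (f12 (f9 (f10 (f10 (f11 (f10 (q)))))))))))))))))))))))))))))))))))) q)) = true := by decide +kernel

theorem eq13_43 : allR 119239 2773 (fun q => Nat.beq (f13 q) ((fun q => f11 (f12 (f11 (f12 (f12 (f11 (f11 (f11 (f11 (f11 (f12 (f11 (f11 (f12 (f12 (f12 (f11 (f12 (f9 (f11 (f8 (f11 (f11 (f12 (f9 (f11 (f9 (f9 (f10 (f12 (f9 (f10 (f10 (f11 (f10 (q)))))))))))))))))))))))))))))))))))) q)) = true := by decide +kernel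

theorem eq13_44 : allR 122012 2773 (fun q => Nat.beq (f13 q) ((fun q => f11 (f12 (f11 (f12 (f12 (f11 (f11 (f11 (f11 (f11 (f12 (f11 (f11 (f12 (f12 (f12 (f11 (f12 (f9 (f11 (f8 (f11 (f11 (f12 (f9 (f11 (f9 (f9 (f10 (f12 (f9 (f10 (f10 (f11 (f10 (q)))))))))))))))))))))))))))))))))))) q)) = true := by decide +kernel

theorem eq13_45 : allR 124785 2773 (fun q => Nat.beq (f13 q) ((fun q => f11 (f12 (f11 (f12 (f12 (f11 (f11 (f11 (f11 (f11 (f12 (f11 (f11 (f12 (f12 (f12 (f11 (f12 (f9 (f11 (f8 (f11 (f11 (f12 (f9 (f11 (f9 (f9 (f10 (f12 (f9 (f10 (f10 (f11 (f10 (q)))))))))))))))))))))))))))))))))))) q)) = true := by decide +kernel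

theorem eq13_46 : allR 127558 2773 (fun q => Nat.beq (f13 q) ((fun q => f11 (f12 (f11 (f12 (f12 (f11 (f11 (f11 (f11 (f11 (f12 (f11 (f11 (f12 (f12 (f12 (f11 (f12 (f9 (f11 (f8 (f11 (f11 (f12 (f9 (f11 (f9 (f9 (f10 (f12 (f9 (f10 (f10 (f11 (f10 (q)))))))))))))))))))))))))))))))))))) q)) = true := by decide +kernel

theorem eq13_47 : allR 130331 2773 (fun q => Nat.beq (f13 q) ((fun q => f11 (f12 (f11 (f12 (f12 (f11 (f11 (f11 (f11 (f11 (f12 (f11 (f11 (f12 (f12 (f12 (f11 (f12 (f9 (f11 (f8 (f11 (f11 (f12 (f9 (f11 (f9 (f9 (f10 (f12 (f9 (f10 (f10 (f11 (f10 (q)))))))))))))))))))))))))))))))))))) q)) = true := by decide +kernel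

theorem eq13_48 : allR 133104 2773 (fun q => Nat.beq (f13 q) ((fun q => f11 (f12 (f11 (f12 (f12 (f11 (f11 (f11 (f11 (f11 (f12 (f11 (f11 (f12 (f12 (f12 (f11 (f12 (f9 (f11 (f8 (f11 (f11 (f12 (f9 (f11 (f9 (f9 (f10 (f12 (f9 (f10 (f10 (f11 (f10 (q)))))))))))))))))))))))))))))))))))) q)) = true := by decide +kernel

theorem eq13_49 : allR 135877 2773 (fun q => Nat.beq (f13 q) ((fun q => f11 (f12 (f11 (f12 (f12 (f11 (f11 (f11 (f11 (f11 (f12 (f11 (f11 (f12 (f12 (f12 (f11 (f12 (f9 (f11 (f8 (f11 (f11 (f12 (f9 (f11 (f9 (f9 (f10 (f12 (f9 (f10 (f10 (f11 (f10 (q)))))))))))))))))))))))))))))))))))) q)) = true := by decide +kernel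


end Cfsg.Agent.HNOut
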