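import Cfsg.Agent.Lib.Lead.HNOut.D13

/-! # The outer automorphism group of the Harada–Norton group: the check of the table of the element number 13 (generated) -/

set_option autoImplicit false
set_option maxRecDepth 100000

namespace Cfsg.Agent.HNOut

open Cfsg.Agent.PF Cfsg.Agent.Lib.Helper6 Cfsg.Agent.Lib.Helper6.TC Cfsg.Agent.Lib.Helper6.NatArr
open Cfsg.Agent.PL (Acts evalF)

theorem eq13_250 : allR 693250 2773 (fun q => Nat.beq (f13 q) ((fun q => f11 (f12 (f11 (f12 (f12 (f11 (f11 (f11 (f11 (f11 (f12 (f11 (f11 (f12 (f12 (f12 (f11 (f12 (f9 (f11 (f8 (f11 (f11 (f12 (f9 (f11 (f9 (f9 (f10 (f12 (f9 (f10 (f10 (f11 (f10 (q)))))))))))))))))))))))))))))))))))) q)) = true := by decide +kernel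

theorem eq13_251 : allR 696023 2773 (fun q => Nat.beq (f13 q) ((fun q => f11 (f12 (f11 (f12 (f12 (f11 (f11 (f11 (f11 (f11 (f12 (f11 (f11 (f12 (f12 (f12 (f11 (f12 (f9 (f11 (f8 (f11 (f11 (f12 (f9 (f11 (f9 (f9 (f10 (f12 (f9 (f10 (f10 (f11 (f10 (q)))))))))))))))))))))))))))))))))))) q)) = true := by decide +kernel

theorem eq13_252 : allR 698796 2773 (fun q => Nat.beq (f13 q) ((fun q => f11 (f12 (f11 (f12 (f12 (f11 (f11 (f11 (f11 (f11 (f12 (f11 (f11 (f12 (f12 (f12 (f11 (f12 (f9 (f11 (f8 (f11 (f11 (f12 (f9 (f11 (f9 (f9 (f10 (f12 (f9 (f10 (f10 (f11 (f10 (q)))))))))))))))))))))))))))))))))))) q)) = true := by decide +kernel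

theorem eq13_253 : allR 701569 2773 (fun q => Nat.beq (f13 q) ((fun q => f11 (f12 (f11 (f12 (f12 (f11 (f11 (f11 (f11 (f11 (f12 (f11 (f11 (f12 (f12 (f12 (f11 (f12 (f9 (f11 (f8 (f11 (f11 (f12 (f9 (f11 (f9 (f9 (f10 (f12 (f9 (f10 (f10 (f11 (f10 (q)))))))))))))))))))))))))))))))))))) q)) = true := by decide +kernel

theorem eq13_254 : allR 704342 2773 (fun q => Nat.beq (f13 q) ((fun q => f11 (f12 (f11 (f12 (f12 (f11 (f11 (f11 (f11 (f11 (f12 (f11 (f11 (f12 (f12 (f12 (f11 (f12 (f9 (f11 (f8 (f11 (f11 (f12 (f9 (f11 (f9 (f9 (f10 (f12 (f9 (f10 (f10 (f11 (f10 (q)))))))))))))))))))))))))))))))))))) q)) = true := by decide +kernel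

theorem eq13_255 : allR 707115 2773 (fun q => Nat.beq (f13 q) ((fun q => f11 (f12 (f11 (f12 (f12 (f11 (f11 (f11 (f11 (f11 (f12 (f11 (f11 (f12 (f12 (f12 (f11 (f12 (f9 (f11 (f8 (f11 (f11 (f12 (f9 (f11 (f9 (f9 (f10 (f12 (f9 (f10 (f10 (f11 (f10 (q)))))))))))))))))))))))))))))))))))) q)) = true := by decide +kernel

theorem eq13_256 : allR 709888 2773 (fun q => Nat.beq (f13 q) ((fun q => f11 (f12 (f11 (f12 (f12 (f11 (f11 (f11 (f11 (f11 (f12 (f11 (f11 (f12 (f12 (f12 (f11 (f12 (f9 (f11 (f8 (f11 (f11 (f12 (f9 (f11 (f9 (f9 (f10 (f12 (f9 (f10 (f10 (f11 (f10 (q)))))))))))))))))))))))))))))))))))) q)) = true := by decide +kernel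

theorem eq13_257 : allR 712661 2773 (fun q => Nat.beq (f13 q) ((fun q => f11 (f12 (f11 (f12 (f12 (f11 (f11 (f11 (f11 (f11 (f12 (f11 (f11 (f12 (f12 (f12 (f11 (f12 (f9 (f11 (f8 (f11 (f11 (f12 (f9 (f11 (f9 (f9 (f10 (f12 (f9 (f10 (f10 (f11 (f10 (q)))))))))))))))))))))))))))))))))))) q)) = true := by decide +kernel

theorem eq13_258 : allR 715434 2773 (fun q => Nat.beq (f13 q) ((fun q => f11 (f12 (f11 (f12 (f12 (f11 (f11 (f11 (f11 (f11 (f12 (f11 (f11 (f12 (f12 (f12 (f11 (f12 (f9 (f11 (f8 (f11 (f11 (f12 (f9 (f11 (f9 (f9 (f10 (f12 (f9 (f10 (f10 (f11 (f10 (q)))))))))))))))))))))))))))))))))))) q)) = true := by decide +kernel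

theorem eq13_259 : allR 718207 2773 (fun q => Nat.beq (f13 q) ((fun q => f11 (f12 (f11 (f12 (f12 (f11 (f11 (f11 (f11 (f11 (f12 (f11 (f11 (f12 (f12 (f12 (f11 (f12 (f9 (f11 (f8 (f11 (f11 (f12 (f9 (f11 (f9 (f9 (f10 (f12 (f9 (f10 (f10 (f11 (f10 (q)))))))))))))))))))))))))))))))))))) q)) = true := by decide +kernel

theorem eq13_260 : allR 720980 2773 (fun q => Nat.beq (f13 q) ((fun q => f11 (f12 (f11 (f12 (f12 (f11 (f11 (f11 (f11 (f11 (f12 (f11 (f11 (f12 (f12 (f12 (f11 (f12 (f9 (f11 (f8 (f11 (f11 (f12 (f9 (f11 (f9 (f9 (f10 (f12 (f9 (f10 (f10 (f11 (f10 (q)))))))))))))))))))))))))))))))))))) q)) = true := by decide +kernel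

theorem eq13_261 : allR 723753 2773 (fun q => Nat.beq (f13 q) ((fun q => f11 (f12 (f11 (f12 (f12 (f11 (f11 (f11 (f11 (f11 (f12 (f11 (f11 (f12 (f12 (f12 (f11 (f12 (f9 (f11 (f8 (f11 (f11 (f12 (f9 (f11 (f9 (f9 (f10 (f12 (f9 (f10 (f10 (f11 (f10 (q)))))))))))))))))))))))))))))))))))) q)) = true := by decide +kernel

theorem eq13_262 : allR 726526 2773 (fun q => Nat.beq (f13 q) ((fun q => f11 (f12 (f11 (f12 (f12 (f11 (f11 (f11 (f11 (f11 (f12 (f11 (f11 (f12 (f12 (f12 (f11 (f12 (f9 (f11 (f8 (f11 (f11 (f12 (f9 (f11 (f9 (f9 (f10 (f12 (f9 (f10 (f10 (f11 (f10 (q)))))))))))))))))))))))))))))))))))) q)) = true := by decide +kernel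

theorem eq13_263 : allR 729299 2773 (fun q => Nat.beq (f13 q) ((fun q => f11 (f12 (f11 (f12 (f12 (f11 (f11 (f11 (f11 (f11 (f12 (f11 (f11 (f12 (f12 (f12 (f11 (f12 (f9 (f11 (f8 (f11 (f11 (f12 (f9 (f11 (f9 (f9 (f10 (f12 (f9 (f10 (f10 (f11 (f10 (q)))))))))))))))))))))))))))))))))))) q)) = true := by decide +kernel

theorem eq13_264 : allR 732072 2773 (fun q => Nat.beq (f13 q) ((fun q => f11 (f12 (f11 (f12 (f12 (f11 (f11 (f11 (f11 (f11 (f12 (f11 (f11 (f12 (f12 (f12 (f11 (f12 (f9 (f11 (f8 (f11 (f11 (f12 (f9 (f11 (f9 (f9 (f10 (f12 (f9 (f10 (f10 (f11 (f10 (q)))))))))))))))))))))))))))))))))))) q)) = true := by decide +kernel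

theorem eq13_265 : allR 734845 2773 (fun q => Nat.beq (f13 q) ((fun q => f11 (f12 (f11 (f12 (f12 (f11 (f11 (f11 (f11 (f11 (f12 (f11 (f11 (f12 (f12 (f12 (f11 (f12 (f9 (f11 (f8 (f11 (f11 (f12 (f9 (f11 (f9 (f9 (f10 (f12 (f9 (f10 (f10 (f11 (f10 (q)))))))))))))))))))))))))))))))))))) q)) = true := by decide +kernel

theorem eq13_266 : allR 737618 2773 (fun q => Nat.beq (f13 q) ((fun q => f11 (f12 (f11 (f12 (f12 (f11 (f11 (f11 (f11 (f11 (f12 (f11 (f11 (f12 (f12 (f12 (f11 (f12 (f9 (f11 (f8 (f11 (f11 (f12 (f9 (f11 (f9 (f9 (f10 (f12 (f9 (f10 (f10 (f11 (f10 (q)))))))))))))))))))))))))))))))))))) q)) = true := by decide +kernel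

theorem eq13_267 : allR 740391 2773 (fun q => Nat.beq (f13 q) ((fun q => f11 (f12 (f11 (f12 (f12 (f11 (f11 (f11 (f11 (f11 (f12 (f11 (f11 (f12 (f12 (f12 (f11 (f12 (f9 (f11 (f8 (f11 (f11 (f12 (f9 (f11 (f9 (f9 (f10 (f12 (f9 (f10 (f10 (f11 (f10 (q)))))))))))))))))))))))))))))))))))) q)) = true := by decide +kernel

theorem eq13_268 : allR 743164 2773 (fun q => Nat.beq (f13 q) ((fun q => f11 (f12 (f11 (f12 (f12 (f11 (f11 (f11 (f11 (f11 (f12 (f11 (f11 (f12 (f12 (f12 (f11 (f12 (f9 (f11 (f8 (f11 (f11 (f12 (f9 (f11 (f9 (f9 (f10 (f12 (f9 (f10 (f10 (f11 (f10 (q)))))))))))))))))))))))))))))))))))) q)) = true := by decide +kernel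

theorem eq13_269 : allR 745937 2773 (fun q => Nat.beq (f13 q) ((fun q => f11 (f12 (f11 (f12 (f12 (f11 (f11 (f11 (f11 (f11 (f12 (f11 (f11 (f12 (f12 (f12 (f11 (f12 (f9 (f11 (f8 (f11 (f11 (f12 (f9 (f11 (f9 (f9 (f10 (f12 (f9 (f10 (f10 (f11 (f10 (q)))))))))))))))))))))))))))))))))))) q)) = true := by decide +kernel

theorem eq13_270 : allR 748710 2773 (fun q => Nat.beq (f13 q) ((fun q => f11 (f12 (f11 (f12 (f12 (f11 (f11 (f11 (f11 (f11 (f12 (f11 (f11 (f12 (f12 (f12 (f11 (f12 (f9 (f11 (f8 (f11 (f11 (f12 (f9 (f11 (f9 (f9 (f10 (f12 (f9 (f10 (f10 (f11 (f10 (q)))))))))))))))))))))))))))))))))))) q)) = true := by decide +kernel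

theorem eq13_271 : allR 751483 2773 (fun q => Nat.beq (f13 q) ((fun q => f11 (f12 (f11 (f12 (f12 (f11 (f11 (f11 (f11 (f11 (f12 (f11 (f11 (f12 (f12 (f12 (f11 (f12 (f9 (f11 (f8 (f11 (f11 (f12 (f9 (f11 (f9 (f9 (f10 (f12 (f9 (f10 (f10 (f11 (f10 (q)))))))))))))))))))))))))))))))))))) q)) = true := by decide +kernel

theorem eq13_272 : allR 754256 2773 (fun q => Nat.beq (f13 q) ((fun q => f11 (f12 (f11 (f12 (f12 (f11 (f11 (f11 (f11 (f11 (f12 (f11 (f11 (f12 (f12 (f12 (f11 (f12 (f9 (f11 (f8 (f11 (f11 (f12 (f9 (f11 (f9 (f9 (f10 (f12 (f9 (f10 (f10 (f11 (f10 (q)))))))))))))))))))))))))))))))))))) q)) = true := by decide +kernel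

theorem eq13_273 : allR 757029 2773 (fun q => Nat.beq (f13 q) ((fun q => f11 (f12 (f11 (f12 (f12 (f11 (f11 (f11 (f11 (f11 (f12 (f11 (f11 (f12 (f12 (f12 (f11 (f12 (f9 (f11 (f8 (f11 (f11 (f12 (f9 (f11 (f9 (f9 (f10 (f12 (f9 (f10 (f10 (f11 (f10 (q)))))))))))))))))))))))))))))))))))) q)) = true := by decide +kernel

theorem eq13_274 : allR 759802 2773 (fun q => Nat.beq (f13 q) ((fun q => f11 (f12 (f11 (f12 (f12 (f11 (f11 (f11 (f11 (f11 (f12 (f11 (f11 (f12 (f12 (f12 (f11 (f12 (f9 (f11 (f8 (f11 (f11 (f12 (f9 (f11 (f9 (f9 (f10 (f12 (f9 (f10 (f10 (f11 (f10 (q)))))))))))))))))))))))))))))))))))) q)) = true := by decide +kernel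


end Cfsg.Agent.HNOut
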