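import Cfsg.Agent.Lib.Lead.HNOut.D13

/-! # The outer automorphism group of the Harada–Norton group: the check of the table of the element number 13 (generated) -/

set_option autoImplicit false
set_option maxRecDepth 100000

namespace Cfsg.Agent.HNOut

open Cfsg.Agent.PF Cfsg.Agent.Lib.Helper6 Cfsg.Agent.Lib.Helper6.TC Cfsg.Agent.Lib.Helper6.NatArr
open Cfsg.Agent.PL (Acts evalF)

theorem eq13_275 : allR 762575 2773 (fun q => Nat.beq (f13 q) ((fun q => f11 (f12 (f11 (f12 (f12 (f11 (f11 (f11 (f11 (f11 (f12 (f11 (f11 (f12 (f12 (f12 (f11 (f12 (f9 (f11 (f8 (f11 (f11 (f12 (f9 (f11 (f9 (f9 (f10 (f12 (f9 (f10 (f10 (f11 (f10 (q)))))))))))))))))))))))))))))))))))) q)) = true := by decide +kernel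

theorem eq13_276 : allR 765348 2773 (fun q => Nat.beq (f13 q) ((fun q => f11 (f12 (f11 (f12 (f12 (f11 (f11 (f11 (f11 (f11 (f12 (f11 (f11 (f12 (f12 (f12 (f11 (f12 (f9 (f11 (f8 (f11 (f11 (f12 (f9 (f11 (f9 (f9 (f10 (f12 (f9 (f10 (f10 (f11 (f10 (q)))))))))))))))))))))))))))))))))))) q)) = true := by decide +kernel

theorem eq13_277 : allR 768121 2773 (fun q => Nat.beq (f13 q) ((fun q => f11 (f12 (f11 (f12 (f12 (f11 (f11 (f11 (f11 (f11 (f12 (f11 (f11 (f12 (f12 (f12 (f11 (f12 (f9 (f11 (f8 (f11 (f11 (f12 (f9 (f11 (f9 (f9 (f10 (f12 (f9 (f10 (f10 (f11 (f10 (q)))))))))))))))))))))))))))))))))))) q)) = true := by decide +kernel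

theorem eq13_278 : allR 770894 2773 (fun q => Nat.beq (f13 q) ((fun q => f11 (f12 (f11 (f12 (f12 (f11 (f11 (f11 (f11 (f11 (f12 (f11 (f11 (f12 (f12 (f12 (f11 (f12 (f9 (f11 (f8 (f11 (f11 (f12 (f9 (f11 (f9 (f9 (f10 (f12 (f9 (f10 (f10 (f11 (f10 (q)))))))))))))))))))))))))))))))))))) q)) = true := by decide +kernel

theorem eq13_279 : allR 773667 2773 (fun q => Nat.beq (f13 q) ((fun q => f11 (f12 (f11 (f12 (f12 (f11 (f11 (f11 (f11 (f11 (f12 (f11 (f11 (f12 (f12 (f12 (f11 (f12 (f9 (f11 (f8 (f11 (f11 (f12 (f9 (f11 (f9 (f9 (f10 (f12 (f9 (f10 (f10 (f11 (f10 (q)))))))))))))))))))))))))))))))))))) q)) = true := by decide +kernel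

theorem eq13_280 : allR 776440 2773 (fun q => Nat.beq (f13 q) ((fun q => f11 (f12 (f11 (f12 (f12 (f11 (f11 (f11 (f11 (f11 (f12 (f11 (f11 (f12 (f12 (f12 (f11 (f12 (f9 (f11 (f8 (f11 (f11 (f12 (f9 (f11 (f9 (f9 (f10 (f12 (f9 (f10 (f10 (f11 (f10 (q)))))))))))))))))))))))))))))))))))) q)) = true := by decide +kernel

theorem eq13_281 : allR 779213 2773 (fun q => Nat.beq (f13 q) ((fun q => f11 (f12 (f11 (f12 (f12 (f11 (f11 (f11 (f11 (f11 (f12 (f11 (f11 (f12 (f12 (f12 (f11 (f12 (f9 (f11 (f8 (f11 (f11 (f12 (f9 (f11 (f9 (f9 (f10 (f12 (f9 (f10 (f10 (f11 (f10 (q)))))))))))))))))))))))))))))))))))) q)) = true := by decide +kernel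

theorem eq13_282 : allR 781986 2773 (fun q => Nat.beq (f13 q) ((fun q => f11 (f12 (f11 (f12 (f12 (f11 (f11 (f11 (f11 (f11 (f12 (f11 (f11 (f12 (f12 (f12 (f11 (f12 (f9 (f11 (f8 (f11 (f11 (f12 (f9 (f11 (f9 (f9 (f10 (f12 (f9 (f10 (f10 (f11 (f10 (q)))))))))))))))))))))))))))))))))))) q)) = true := by decide +kernel

theorem eq13_283 : allR 784759 2773 (fun q => Nat.beq (f13 q) ((fun q => f11 (f12 (f11 (f12 (f12 (f11 (f11 (f11 (f11 (f11 (f12 (f11 (f11 (f12 (f12 (f12 (f11 (f12 (f9 (f11 (f8 (f11 (f11 (f12 (f9 (f11 (f9 (f9 (f10 (f12 (f9 (f10 (f10 (f11 (f10 (q)))))))))))))))))))))))))))))))))))) q)) = true := by decide +kernel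

theorem eq13_284 : allR 787532 2773 (fun q => Nat.beq (f13 q) ((fun q => f11 (f12 (f11 (f12 (f12 (f11 (f11 (f11 (f11 (f11 (f12 (f11 (f11 (f12 (f12 (f12 (f11 (f12 (f9 (f11 (f8 (f11 (f11 (f12 (f9 (f11 (f9 (f9 (f10 (f12 (f9 (f10 (f10 (f11 (f10 (q)))))))))))))))))))))))))))))))))))) q)) = true := by decide +kernel

theorem eq13_285 : allR 790305 2773 (fun q => Nat.beq (f13 q) ((fun q => f11 (f12 (f11 (f12 (f12 (f11 (f11 (f11 (f11 (f11 (f12 (f11 (f11 (f12 (f12 (f12 (f11 (f12 (f9 (f11 (f8 (f11 (f11 (f12 (f9 (f11 (f9 (f9 (f10 (f12 (f9 (f10 (f10 (f11 (f10 (q)))))))))))))))))))))))))))))))))))) q)) = true := by decide +kernel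

theorem eq13_286 : allR 793078 2773 (fun q => Nat.beq (f13 q) ((fun q => f11 (f12 (f11 (f12 (f12 (f11 (f11 (f11 (f11 (f11 (f12 (f11 (f11 (f12 (f12 (f12 (f11 (f12 (f9 (f11 (f8 (f11 (f11 (f12 (f9 (f11 (f9 (f9 (f10 (f12 (f9 (f10 (f10 (f11 (f10 (q)))))))))))))))))))))))))))))))))))) q)) = true := by decide +kernel

theorem eq13_287 : allR 795851 2773 (fun q => Nat.beq (f13 q) ((fun q => f11 (f12 (f11 (f12 (f12 (f11 (f11 (f11 (f11 (f11 (f12 (f11 (f11 (f12 (f12 (f12 (f11 (f12 (f9 (f11 (f8 (f11 (f11 (f12 (f9 (f11 (f9 (f9 (f10 (f12 (f9 (f10 (f10 (f11 (f10 (q)))))))))))))))))))))))))))))))))))) q)) = true := by decide +kernel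

theorem eq13_288 : allR 798624 2773 (fun q => Nat.beq (f13 q) ((fun q => f11 (f12 (f11 (f12 (f12 (f11 (f11 (f11 (f11 (f11 (f12 (f11 (f11 (f12 (f12 (f12 (f11 (f12 (f9 (f11 (f8 (f11 (f11 (f12 (f9 (f11 (f9 (f9 (f10 (f12 (f9 (f10 (f10 (f11 (f10 (q)))))))))))))))))))))))))))))))))))) q)) = true := by decide +kernel

theorem eq13_289 : allR 801397 2773 (fun q => Nat.beq (f13 q) ((fun q => f11 (f12 (f11 (f12 (f12 (f11 (f11 (f11 (f11 (f11 (f12 (f11 (f11 (f12 (f12 (f12 (f11 (f12 (f9 (f11 (f8 (f11 (f11 (f12 (f9 (f11 (f9 (f9 (f10 (f12 (f9 (f10 (f10 (f11 (f10 (q)))))))))))))))))))))))))))))))))))) q)) = true := by decide +kernel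

theorem eq13_290 : allR 804170 2773 (fun q => Nat.beq (f13 q) ((fun q => f11 (f12 (f11 (f12 (f12 (f11 (f11 (f11 (f11 (f11 (f12 (f11 (f11 (f12 (f12 (f12 (f11 (f12 (f9 (f11 (f8 (f11 (f11 (f12 (f9 (f11 (f9 (f9 (f10 (f12 (f9 (f10 (f10 (f11 (f10 (q)))))))))))))))))))))))))))))))))))) q)) = true := by decide +kernel

theorem eq13_291 : allR 806943 2773 (fun q => Nat.beq (f13 q) ((fun q => f11 (f12 (f11 (f12 (f12 (f11 (f11 (f11 (f11 (f11 (f12 (f11 (f11 (f12 (f12 (f12 (f11 (f12 (f9 (f11 (f8 (f11 (f11 (f12 (f9 (f11 (f9 (f9 (f10 (f12 (f9 (f10 (f10 (f11 (f10 (q)))))))))))))))))))))))))))))))))))) q)) = true := by decide +kernel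

theorem eq13_292 : allR 809716 2773 (fun q => Nat.beq (f13 q) ((fun q => f11 (f12 (f11 (f12 (f12 (f11 (f11 (f11 (f11 (f11 (f12 (f11 (f11 (f12 (f12 (f12 (f11 (f12 (f9 (f11 (f8 (f11 (f11 (f12 (f9 (f11 (f9 (f9 (f10 (f12 (f9 (f10 (f10 (f11 (f10 (q)))))))))))))))))))))))))))))))))))) q)) = true := by decide +kernel

theorem eq13_293 : allR 812489 2773 (fun q => Nat.beq (f13 q) ((fun q => f11 (f12 (f11 (f12 (f12 (f11 (f11 (f11 (f11 (f11 (f12 (f11 (f11 (f12 (f12 (f12 (f11 (f12 (f9 (f11 (f8 (f11 (f11 (f12 (f9 (f11 (f9 (f9 (f10 (f12 (f9 (f10 (f10 (f11 (f10 (q)))))))))))))))))))))))))))))))))))) q)) = true := by decide +kernel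

theorem eq13_294 : allR 815262 2773 (fun q => Nat.beq (f13 q) ((fun q => f11 (f12 (f11 (f12 (f12 (f11 (f11 (f11 (f11 (f11 (f12 (f11 (f11 (f12 (f12 (f12 (f11 (f12 (f9 (f11 (f8 (f11 (f11 (f12 (f9 (f11 (f9 (f9 (f10 (f12 (f9 (f10 (f10 (f11 (f10 (q)))))))))))))))))))))))))))))))))))) q)) = true := by decide +kernel

theorem eq13_295 : allR 818035 2773 (fun q => Nat.beq (f13 q) ((fun q => f11 (f12 (f11 (f12 (f12 (f11 (f11 (f11 (f11 (f11 (f12 (f11 (f11 (f12 (f12 (f12 (f11 (f12 (f9 (f11 (f8 (f11 (f11 (f12 (f9 (f11 (f9 (f9 (f10 (f12 (f9 (f10 (f10 (f11 (f10 (q)))))))))))))))))))))))))))))))))))) q)) = true := by decide +kernel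

theorem eq13_296 : allR 820808 2773 (fun q => Nat.beq (f13 q) ((fun q => f11 (f12 (f11 (f12 (f12 (f11 (f11 (f11 (f11 (f11 (f12 (f11 (f11 (f12 (f12 (f12 (f11 (f12 (f9 (f11 (f8 (f11 (f11 (f12 (f9 (f11 (f9 (f9 (f10 (f12 (f9 (f10 (f10 (f11 (f10 (q)))))))))))))))))))))))))))))))))))) q)) = true := by decide +kernel

theorem eq13_297 : allR 823581 2773 (fun q => Nat.beq (f13 q) ((fun q => f11 (f12 (f11 (f12 (f12 (f11 (f11 (f11 (f11 (f11 (f12 (f11 (f11 (f12 (f12 (f12 (f11 (f12 (f9 (f11 (f8 (f11 (f11 (f12 (f9 (f11 (f9 (f9 (f10 (f12 (f9 (f10 (f10 (f11 (f10 (q)))))))))))))))))))))))))))))))))))) q)) = true := by decide +kernel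

theorem eq13_298 : allR 826354 2773 (fun q => Nat.beq (f13 q) ((fun q => f11 (f12 (f11 (f12 (f12 (f11 (f11 (f11 (f11 (f11 (f12 (f11 (f11 (f12 (f12 (f12 (f11 (f12 (f9 (f11 (f8 (f11 (f11 (f12 (f9 (f11 (f9 (f9 (f10 (f12 (f9 (f10 (f10 (f11 (f10 (q)))))))))))))))))))))))))))))))))))) q)) = true := by decide +kernel

theorem eq13_299 : allR 829127 2773 (fun q => Nat.beq (f13 q) ((fun q => f11 (f12 (f11 (f12 (f12 (f11 (f11 (f11 (f11 (f11 (f12 (f11 (f11 (f12 (f12 (f12 (f11 (f12 (f9 (f11 (f8 (f11 (f11 (f12 (f9 (f11 (f9 (f9 (f10 (f12 (f9 (f10 (f10 (f11 (f10 (q)))))))))))))))))))))))))))))))))))) q)) = true := by decide +kernel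


end Cfsg.Agent.HNOut
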