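import Cfsg.Agent.Lib.Lead.HNOut.D13

/-! # The outer automorphism group of the Harada–Norton group: the check of the table of the element number 13 (generated) -/

set_option autoImplicit false
set_option maxRecDepth 100000

namespace Cfsg.Agent.HNOut

open Cfsg.Agent.PF Cfsg.Agent.Lib.Helper6 Cfsg.Agent.Lib.Helper6.TC Cfsg.Agent.Lib.Helper6.NatArr
open Cfsg.Agent.PL (Acts evalF)

theorem eq13_300 : allR 831900 2773 (fun q => Nat.beq (f13 q) ((fun q => f11 (f12 (f11 (f12 (f12 (f11 (f11 (f11 (f11 (f11 (f12 (f11 (f11 (f12 (f12 (f12 (f11 (f12 (f9 (f11 (f8 (f11 (f11 (f12 (f9 (f11 (f9 (f9 (f10 (f12 (f9 (f10 (f10 (f11 (f10 (q)))))))))))))))))))))))))))))))))))) q)) = true := by decide +kernel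

theorem eq13_301 : allR 834673 2773 (fun q => Nat.beq (f13 q) ((fun q => f11 (f12 (f11 (f12 (f12 (f11 (f11 (f11 (f11 (f11 (f12 (f11 (f11 (f12 (f12 (f12 (f11 (f12 (f9 (f11 (f8 (f11 (f11 (f12 (f9 (f11 (f9 (f9 (f10 (f12 (f9 (f10 (f10 (f11 (f10 (q)))))))))))))))))))))))))))))))))))) q)) = true := by decide +kernel

theorem eq13_302 : allR 837446 2773 (fun q => Nat.beq (f13 q) ((fun q => f11 (f12 (f11 (f12 (f12 (f11 (f11 (f11 (f11 (f11 (f12 (f11 (f11 (f12 (f12 (f12 (f11 (f12 (f9 (f11 (f8 (f11 (f11 (f12 (f9 (f11 (f9 (f9 (f10 (f12 (f9 (f10 (f10 (f11 (f10 (q)))))))))))))))))))))))))))))))))))) q)) = true := by decide +kernel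

theorem eq13_303 : allR 840219 2773 (fun q => Nat.beq (f13 q) ((fun q => f11 (f12 (f11 (f12 (f12 (f11 (f11 (f11 (f11 (f11 (f12 (f11 (f11 (f12 (f12 (f12 (f11 (f12 (f9 (f11 (f8 (f11 (f11 (f12 (f9 (f11 (f9 (f9 (f10 (f12 (f9 (f10 (f10 (f11 (f10 (q)))))))))))))))))))))))))))))))))))) q)) = true := by decide +kernel

theorem eq13_304 : allR 842992 2773 (fun q => Nat.beq (f13 q) ((fun q => f11 (f12 (f11 (f12 (f12 (f11 (f11 (f11 (f11 (f11 (f12 (f11 (f11 (f12 (f12 (f12 (f11 (f12 (f9 (f11 (f8 (f11 (f11 (f12 (f9 (f11 (f9 (f9 (f10 (f12 (f9 (f10 (f10 (f11 (f10 (q)))))))))))))))))))))))))))))))))))) q)) = true := by decide +kernel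

theorem eq13_305 : allR 845765 2773 (fun q => Nat.beq (f13 q) ((fun q => f11 (f12 (f11 (f12 (f12 (f11 (f11 (f11 (f11 (f11 (f12 (f11 (f11 (f12 (f12 (f12 (f11 (f12 (f9 (f11 (f8 (f11 (f11 (f12 (f9 (f11 (f9 (f9 (f10 (f12 (f9 (f10 (f10 (f11 (f10 (q)))))))))))))))))))))))))))))))))))) q)) = true := by decide +kernel

theorem eq13_306 : allR 848538 2773 (fun q => Nat.beq (f13 q) ((fun q => f11 (f12 (f11 (f12 (f12 (f11 (f11 (f11 (f11 (f11 (f12 (f11 (f11 (f12 (f12 (f12 (f11 (f12 (f9 (f11 (f8 (f11 (f11 (f12 (f9 (f11 (f9 (f9 (f10 (f12 (f9 (f10 (f10 (f11 (f10 (q)))))))))))))))))))))))))))))))))))) q)) = true := by decide +kernel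

theorem eq13_307 : allR 851311 2773 (fun q => Nat.beq (f13 q) ((fun q => f11 (f12 (f11 (f12 (f12 (f11 (f11 (f11 (f11 (f11 (f12 (f11 (f11 (f12 (f12 (f12 (f11 (f12 (f9 (f11 (f8 (f11 (f11 (f12 (f9 (f11 (f9 (f9 (f10 (f12 (f9 (f10 (f10 (f11 (f10 (q)))))))))))))))))))))))))))))))))))) q)) = true := by decide +kernel

theorem eq13_308 : allR 854084 2773 (fun q => Nat.beq (f13 q) ((fun q => f11 (f12 (f11 (f12 (f12 (f11 (f11 (f11 (f11 (f11 (f12 (f11 (f11 (f12 (f12 (f12 (f11 (f12 (f9 (f11 (f8 (f11 (f11 (f12 (f9 (f11 (f9 (f9 (f10 (f12 (f9 (f10 (f10 (f11 (f10 (q)))))))))))))))))))))))))))))))))))) q)) = true := by decide +kernel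

theorem eq13_309 : allR 856857 2773 (fun q => Nat.beq (f13 q) ((fun q => f11 (f12 (f11 (f12 (f12 (f11 (f11 (f11 (f11 (f11 (f12 (f11 (f11 (f12 (f12 (f12 (f11 (f12 (f9 (f11 (f8 (f11 (f11 (f12 (f9 (f11 (f9 (f9 (f10 (f12 (f9 (f10 (f10 (f11 (f10 (q)))))))))))))))))))))))))))))))))))) q)) = true := by decide +kernel

theorem eq13_310 : allR 859630 2773 (fun q => Nat.beq (f13 q) ((fun q => f11 (f12 (f11 (f12 (f12 (f11 (f11 (f11 (f11 (f11 (f12 (f11 (f11 (f12 (f12 (f12 (f11 (f12 (f9 (f11 (f8 (f11 (f11 (f12 (f9 (f11 (f9 (f9 (f10 (f12 (f9 (f10 (f10 (f11 (f10 (q)))))))))))))))))))))))))))))))))))) q)) = true := by decide +kernel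

theorem eq13_311 : allR 862403 2773 (fun q => Nat.beq (f13 q) ((fun q => f11 (f12 (f11 (f12 (f12 (f11 (f11 (f11 (f11 (f11 (f12 (f11 (f11 (f12 (f12 (f12 (f11 (f12 (f9 (f11 (f8 (f11 (f11 (f12 (f9 (f11 (f9 (f9 (f10 (f12 (f9 (f10 (f10 (f11 (f10 (q)))))))))))))))))))))))))))))))))))) q)) = true := by decide +kernel

theorem eq13_312 : allR 865176 2773 (fun q => Nat.beq (f13 q) ((fun q => f11 (f12 (f11 (f12 (f12 (f11 (f11 (f11 (f11 (f11 (f12 (f11 (f11 (f12 (f12 (f12 (f11 (f12 (f9 (f11 (f8 (f11 (f11 (f12 (f9 (f11 (f9 (f9 (f10 (f12 (f9 (f10 (f10 (f11 (f10 (q)))))))))))))))))))))))))))))))))))) q)) = true := by decide +kernel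

theorem eq13_313 : allR 867949 2773 (fun q => Nat.beq (f13 q) ((fun q => f11 (f12 (f11 (f12 (f12 (f11 (f11 (f11 (f11 (f11 (f12 (f11 (f11 (f12 (f12 (f12 (f11 (f12 (f9 (f11 (f8 (f11 (f11 (f12 (f9 (f11 (f9 (f9 (f10 (f12 (f9 (f10 (f10 (f11 (f10 (q)))))))))))))))))))))))))))))))))))) q)) = true := by decide +kernel

theorem eq13_314 : allR 870722 2773 (fun q => Nat.beq (f13 q) ((fun q => f11 (f12 (f11 (f12 (f12 (f11 (f11 (f11 (f11 (f11 (f12 (f11 (f11 (f12 (f12 (f12 (f11 (f12 (f9 (f11 (f8 (f11 (f11 (f12 (f9 (f11 (f9 (f9 (f10 (f12 (f9 (f10 (f10 (f11 (f10 (q)))))))))))))))))))))))))))))))))))) q)) = true := by decide +kernel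

theorem eq13_315 : allR 873495 2773 (fun q => Nat.beq (f13 q) ((fun q => f11 (f12 (f11 (f12 (f12 (f11 (f11 (f11 (f11 (f11 (f12 (f11 (f11 (f12 (f12 (f12 (f11 (f12 (f9 (f11 (f8 (f11 (f11 (f12 (f9 (f11 (f9 (f9 (f10 (f12 (f9 (f10 (f10 (f11 (f10 (q)))))))))))))))))))))))))))))))))))) q)) = true := by decide +kernel

theorem eq13_316 : allR 876268 2773 (fun q => Nat.beq (f13 q) ((fun q => f11 (f12 (f11 (f12 (f12 (f11 (f11 (f11 (f11 (f11 (f12 (f11 (f11 (f12 (f12 (f12 (f11 (f12 (f9 (f11 (f8 (f11 (f11 (f12 (f9 (f11 (f9 (f9 (f10 (f12 (f9 (f10 (f10 (f11 (f10 (q)))))))))))))))))))))))))))))))))))) q)) = true := by decide +kernel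

theorem eq13_317 : allR 879041 2773 (fun q => Nat.beq (f13 q) ((fun q => f11 (f12 (f11 (f12 (f12 (f11 (f11 (f11 (f11 (f11 (f12 (f11 (f11 (f12 (f12 (f12 (f11 (f12 (f9 (f11 (f8 (f11 (f11 (f12 (f9 (f11 (f9 (f9 (f10 (f12 (f9 (f10 (f10 (f11 (f10 (q)))))))))))))))))))))))))))))))))))) q)) = true := by decide +kernel

theorem eq13_318 : allR 881814 2773 (fun q => Nat.beq (f13 q) ((fun q => f11 (f12 (f11 (f12 (f12 (f11 (f11 (f11 (f11 (f11 (f12 (f11 (f11 (f12 (f12 (f12 (f11 (f12 (f9 (f11 (f8 (f11 (f11 (f12 (f9 (f11 (f9 (f9 (f10 (f12 (f9 (f10 (f10 (f11 (f10 (q)))))))))))))))))))))))))))))))))))) q)) = true := by decide +kernel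

theorem eq13_319 : allR 884587 2773 (fun q => Nat.beq (f13 q) ((fun q => f11 (f12 (f11 (f12 (f12 (f11 (f11 (f11 (f11 (f11 (f12 (f11 (f11 (f12 (f12 (f12 (f11 (f12 (f9 (f11 (f8 (f11 (f11 (f12 (f9 (f11 (f9 (f9 (f10 (f12 (f9 (f10 (f10 (f11 (f10 (q)))))))))))))))))))))))))))))))))))) q)) = true := by decide +kernel

theorem eq13_320 : allR 887360 2773 (fun q => Nat.beq (f13 q) ((fun q => f11 (f12 (f11 (f12 (f12 (f11 (f11 (f11 (f11 (f11 (f12 (f11 (f11 (f12 (f12 (f12 (f11 (f12 (f9 (f11 (f8 (f11 (f11 (f12 (f9 (f11 (f9 (f9 (f10 (f12 (f9 (f10 (f10 (f11 (f10 (q)))))))))))))))))))))))))))))))))))) q)) = true := by decide +kernel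

theorem eq13_321 : allR 890133 2773 (fun q => Nat.beq (f13 q) ((fun q => f11 (f12 (f11 (f12 (f12 (f11 (f11 (f11 (f11 (f11 (f12 (f11 (f11 (f12 (f12 (f12 (f11 (f12 (f9 (f11 (f8 (f11 (f11 (f12 (f9 (f11 (f9 (f9 (f10 (f12 (f9 (f10 (f10 (f11 (f10 (q)))))))))))))))))))))))))))))))))))) q)) = true := by decide +kernel

theorem eq13_322 : allR 892906 2773 (fun q => Nat.beq (f13 q) ((fun q => f11 (f12 (f11 (f12 (f12 (f11 (f11 (f11 (f11 (f11 (f12 (f11 (f11 (f12 (f12 (f12 (f11 (f12 (f9 (f11 (f8 (f11 (f11 (f12 (f9 (f11 (f9 (f9 (f10 (f12 (f9 (f10 (f10 (f11 (f10 (q)))))))))))))))))))))))))))))))))))) q)) = true := by decide +kernel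

theorem eq13_323 : allR 895679 2773 (fun q => Nat.beq (f13 q) ((fun q => f11 (f12 (f11 (f12 (f12 (f11 (f11 (f11 (f11 (f11 (f12 (f11 (f11 (f12 (f12 (f12 (f11 (f12 (f9 (f11 (f8 (f11 (f11 (f12 (f9 (f11 (f9 (f9 (f10 (f12 (f9 (f10 (f10 (f11 (f10 (q)))))))))))))))))))))))))))))))))))) q)) = true := by decide +kernel

theorem eq13_324 : allR 898452 2773 (fun q => Nat.beq (f13 q) ((fun q => f11 (f12 (f11 (f12 (f12 (f11 (f11 (f11 (f11 (f11 (f12 (f11 (f11 (f12 (f12 (f12 (f11 (f12 (f9 (f11 (f8 (f11 (f11 (f12 (f9 (f11 (f9 (f9 (f10 (f12 (f9 (f10 (f10 (f11 (f10 (q)))))))))))))))))))))))))))))))))))) q)) = true := by decide +kernel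


end Cfsg.Agent.HNOut
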