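import Cfsg.Agent.Lib.Lead.HNOut.D14

/-! # The outer automorphism group of the Harada–Norton group: the check of the table of the element number 14 (generated) -/

set_option autoImplicit false
set_option maxRecDepth 100000

namespace Cfsg.Agent.HNOut

open Cfsg.Agent.PF Cfsg.Agent.Lib.Helper6 Cfsg.Agent.Lib.Helper6.TC Cfsg.Agent.Lib.Helper6.NatArr
open Cfsg.Agent.PL (Acts evalF)

theorem eq14_0 : allR 0 3220 (fun q => Nat.beq (f14 q) ((fun q => f11 (f11 (f13 (f12 (f12 (f11 (f13 (f12 (f13 (f11 (f13 (f13 (f13 (f8 (f9 (f10 (f8 (f10 (f9 (f8 (f12 (f9 (f8 (f10 (f11 (f10 (f11 (f9 (f10 (f8 (q))))))))))))))))))))))))))))))) q)) = true := by decide +kernel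

theorem eq14_1 : allR 3220 3220 (fun q => Nat.beq (f14 q) ((fun q => f11 (f11 (f13 (f12 (f12 (f11 (f13 (f12 (f13 (f11 (f13 (f13 (f13 (f8 (f9 (f10 (f8 (f10 (f9 (f8 (f12 (f9 (f8 (f10 (f11 (f10 (f11 (f9 (f10 (f8 (q))))))))))))))))))))))))))))))) q)) = true := by decide +kernel

theorem eq14_2 : allR 6440 3220 (fun q => Nat.beq (f14 q) ((fun q => f11 (f11 (f13 (f12 (f12 (f11 (f13 (f12 (f13 (f11 (f13 (f13 (f13 (f8 (f9 (f10 (f8 (f10 (f9 (f8 (f12 (f9 (f8 (f10 (f11 (f10 (f11 (f9 (f10 (f8 (q))))))))))))))))))))))))))))))) q)) = true := by decide +kernel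

theorem eq14_3 : allR 9660 3220 (fun q => Nat.beq (f14 q) ((fun q => f11 (f11 (f13 (f12 (f12 (f11 (f13 (f12 (f13 (f11 (f13 (f13 (f13 (f8 (f9 (f10 (f8 (f10 (f9 (f8 (f12 (f9 (f8 (f10 (f11 (f10 (f11 (f9 (f10 (f8 (q))))))))))))))))))))))))))))))) q)) = true := by decide +kernel

theorem eq14_4 : allR 12880 3220 (fun q => Nat.beq (f14 q) ((fun q => f11 (f11 (f13 (f12 (f12 (f11 (f13 (f12 (f13 (f11 (f13 (f13 (f13 (f8 (f9 (f10 (f8 (f10 (f9 (f8 (f12 (f9 (f8 (f10 (f11 (f10 (f11 (f9 (f10 (f8 (q))))))))))))))))))))))))))))))) q)) = true := by decide +kernel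

theorem eq14_5 : allR 16100 3220 (fun q => Nat.beq (f14 q) ((fun q => f11 (f11 (f13 (f12 (f12 (f11 (f13 (f12 (f13 (f11 (f13 (f13 (f13 (f8 (f9 (f10 (f8 (f10 (f9 (f8 (f12 (f9 (f8 (f10 (f11 (f10 (f11 (f9 (f10 (f8 (q))))))))))))))))))))))))))))))) q)) = true := by decide +kernel

theorem eq14_6 : allR 19320 3220 (fun q => Nat.beq (f14 q) ((fun q => f11 (f11 (f13 (f12 (f12 (f11 (f13 (f12 (f13 (f11 (f13 (f13 (f13 (f8 (f9 (f10 (f8 (f10 (f9 (f8 (f12 (f9 (f8 (f10 (f11 (f10 (f11 (f9 (f10 (f8 (q))))))))))))))))))))))))))))))) q)) = true := by decide +kernel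

theorem eq14_7 : allR 22540 3220 (fun q => Nat.beq (f14 q) ((fun q => f11 (f11 (f13 (f12 (f12 (f11 (f13 (f12 (f13 (f11 (f13 (f13 (f13 (f8 (f9 (f10 (f8 (f10 (f9 (f8 (f12 (f9 (f8 (f10 (f11 (f10 (f11 (f9 (f10 (f8 (q))))))))))))))))))))))))))))))) q)) = true := by decide +kernel

theorem eq14_8 : allR 25760 3220 (fun q => Nat.beq (f14 q) ((fun q => f11 (f11 (f13 (f12 (f12 (f11 (f13 (f12 (f13 (f11 (f13 (f13 (f13 (f8 (f9 (f10 (f8 (f10 (f9 (f8 (f12 (f9 (f8 (f10 (f11 (f10 (f11 (f9 (f10 (f8 (q))))))))))))))))))))))))))))))) q)) = true := by decide +kernel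

theorem eq14_9 : allR 28980 3220 (fun q => Nat.beq (f14 q) ((fun q => f11 (f11 (f13 (f12 (f12 (f11 (f13 (f12 (f13 (f11 (f13 (f13 (f13 (f8 (f9 (f10 (f8 (f10 (f9 (f8 (f12 (f9 (f8 (f10 (f11 (f10 (f11 (f9 (f10 (f8 (q))))))))))))))))))))))))))))))) q)) = true := by decide +kernel

theorem eq14_10 : allR 32200 3220 (fun q => Nat.beq (f14 q) ((fun q => f11 (f11 (f13 (f12 (f12 (f11 (f13 (f12 (f13 (f11 (f13 (f13 (f13 (f8 (f9 (f10 (f8 (f10 (f9 (f8 (f12 (f9 (f8 (f10 (f11 (f10 (f11 (f9 (f10 (f8 (q))))))))))))))))))))))))))))))) q)) = true := by decide +kernel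

theorem eq14_11 : allR 35420 3220 (fun q => Nat.beq (f14 q) ((fun q => f11 (f11 (f13 (f12 (f12 (f11 (f13 (f12 (f13 (f11 (f13 (f13 (f13 (f8 (f9 (f10 (f8 (f10 (f9 (f8 (f12 (f9 (f8 (f10 (f11 (f10 (f11 (f9 (f10 (f8 (q))))))))))))))))))))))))))))))) q)) = true := by decide +kernel

theorem eq14_12 : allR 38640 3220 (fun q => Nat.beq (f14 q) ((fun q => f11 (f11 (f13 (f12 (f12 (f11 (f13 (f12 (f13 (f11 (f13 (f13 (f13 (f8 (f9 (f10 (f8 (f10 (f9 (f8 (f12 (f9 (f8 (f10 (f11 (f10 (f11 (f9 (f10 (f8 (q))))))))))))))))))))))))))))))) q)) = true := by decide +kernel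

theorem eq14_13 : allR 41860 3220 (fun q => Nat.beq (f14 q) ((fun q => f11 (f11 (f13 (f12 (f12 (f11 (f13 (f12 (f13 (f11 (f13 (f13 (f13 (f8 (f9 (f10 (f8 (f10 (f9 (f8 (f12 (f9 (f8 (f10 (f11 (f10 (f11 (f9 (f10 (f8 (q))))))))))))))))))))))))))))))) q)) = true := by decide +kernel

theorem eq14_14 : allR 45080 3220 (fun q => Nat.beq (f14 q) ((fun q => f11 (f11 (f13 (f12 (f12 (f11 (f13 (f12 (f13 (f11 (f13 (f13 (f13 (f8 (f9 (f10 (f8 (f10 (f9 (f8 (f12 (f9 (f8 (f10 (f11 (f10 (f11 (f9 (f10 (f8 (q))))))))))))))))))))))))))))))) q)) = true := by decide +kernel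

theorem eq14_15 : allR 48300 3220 (fun q => Nat.beq (f14 q) ((fun q => f11 (f11 (f13 (f12 (f12 (f11 (f13 (f12 (f13 (f11 (f13 (f13 (f13 (f8 (f9 (f10 (f8 (f10 (f9 (f8 (f12 (f9 (f8 (f10 (f11 (f10 (f11 (f9 (f10 (f8 (q))))))))))))))))))))))))))))))) q)) = true := by decide +kernel

theorem eq14_16 : allR 51520 3220 (fun q => Nat.beq (f14 q) ((fun q => f11 (f11 (f13 (f12 (f12 (f11 (f13 (f12 (f13 (f11 (f13 (f13 (f13 (f8 (f9 (f10 (f8 (f10 (f9 (f8 (f12 (f9 (f8 (f10 (f11 (f10 (f11 (f9 (f10 (f8 (q))))))))))))))))))))))))))))))) q)) = true := by decide +kernel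

theorem eq14_17 : allR 54740 3220 (fun q => Nat.beq (f14 q) ((fun q => f11 (f11 (f13 (f12 (f12 (f11 (f13 (f12 (f13 (f11 (f13 (f13 (f13 (f8 (f9 (f10 (f8 (f10 (f9 (f8 (f12 (f9 (f8 (f10 (f11 (f10 (f11 (f9 (f10 (f8 (q))))))))))))))))))))))))))))))) q)) = true := by decide +kernel

theorem eq14_18 : allR 57960 3220 (fun q => Nat.beq (f14 q) ((fun q => f11 (f11 (f13 (f12 (f12 (f11 (f13 (f12 (f13 (f11 (f13 (f13 (f13 (f8 (f9 (f10 (f8 (f10 (f9 (f8 (f12 (f9 (f8 (f10 (f11 (f10 (f11 (f9 (f10 (f8 (q))))))))))))))))))))))))))))))) q)) = true := by decide +kernel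

theorem eq14_19 : allR 61180 3220 (fun q => Nat.beq (f14 q) ((fun q => f11 (f11 (f13 (f12 (f12 (f11 (f13 (f12 (f13 (f11 (f13 (f13 (f13 (f8 (f9 (f10 (f8 (f10 (f9 (f8 (f12 (f9 (f8 (f10 (f11 (f10 (f11 (f9 (f10 (f8 (q))))))))))))))))))))))))))))))) q)) = true := by decide +kernel

theorem eq14_20 : allR 64400 3220 (fun q => Nat.beq (f14 q) ((fun q => f11 (f11 (f13 (f12 (f12 (f11 (f13 (f12 (f13 (f11 (f13 (f13 (f13 (f8 (f9 (f10 (f8 (f10 (f9 (f8 (f12 (f9 (f8 (f10 (f11 (f10 (f11 (f9 (f10 (f8 (q))))))))))))))))))))))))))))))) q)) = true := by decide +kernel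

theorem eq14_21 : allR 67620 3220 (fun q => Nat.beq (f14 q) ((fun q => f11 (f11 (f13 (f12 (f12 (f11 (f13 (f12 (f13 (f11 (f13 (f13 (f13 (f8 (f9 (f10 (f8 (f10 (f9 (f8 (f12 (f9 (f8 (f10 (f11 (f10 (f11 (f9 (f10 (f8 (q))))))))))))))))))))))))))))))) q)) = true := by decide +kernel

theorem eq14_22 : allR 70840 3220 (fun q => Nat.beq (f14 q) ((fun q => f11 (f11 (f13 (f12 (f12 (f11 (f13 (f12 (f13 (f11 (f13 (f13 (f13 (f8 (f9 (f10 (f8 (f10 (f9 (f8 (f12 (f9 (f8 (f10 (f11 (f10 (f11 (f9 (f10 (f8 (q))))))))))))))))))))))))))))))) q)) = true := by decide +kernel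

theorem eq14_23 : allR 74060 3220 (fun q => Nat.beq (f14 q) ((fun q => f11 (f11 (f13 (f12 (f12 (f11 (f13 (f12 (f13 (f11 (f13 (f13 (f13 (f8 (f9 (f10 (f8 (f10 (f9 (f8 (f12 (f9 (f8 (f10 (f11 (f10 (f11 (f9 (f10 (f8 (q))))))))))))))))))))))))))))))) q)) = true := by decide +kernel

theorem eq14_24 : allR 77280 3220 (fun q => Nat.beq (f14 q) ((fun q => f11 (f11 (f13 (f12 (f12 (f11 (f13 (f12 (f13 (f11 (f13 (f13 (f13 (f8 (f9 (f10 (f8 (f10 (f9 (f8 (f12 (f9 (f8 (f10 (f11 (f10 (f11 (f9 (f10 (f8 (q))))))))))))))))))))))))))))))) q)) = true := by decide +kernel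


end Cfsg.Agent.HNOut
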