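import Cfsg.Agent.Lib.Lead.HNOut.D14

/-! # The outer automorphism group of the Harada–Norton group: the check of the table of the element number 14 (generated) -/

set_option autoImplicit false
set_option maxRecDepth 100000

namespace Cfsg.Agent.HNOut

open Cfsg.Agent.PF Cfsg.Agent.Lib.Helper6 Cfsg.Agent.Lib.Helper6.TC Cfsg.Agent.Lib.Helper6.NatArr
open Cfsg.Agent.PL (Acts evalF)

theorem eq14_25 : allR 80500 3220 (fun q => Nat.beq (f14 q) ((fun q => f11 (f11 (f13 (f12 (f12 (f11 (f13 (f12 (f13 (f11 (f13 (f13 (f13 (f8 (f9 (f10 (f8 (f10 (f9 (f8 (f12 (f9 (f8 (f10 (f11 (f10 (f11 (f9 (f10 (f8 (q))))))))))))))))))))))))))))))) q)) = true := by decide +kernel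

theorem eq14_26 : allR 83720 3220 (fun q => Nat.beq (f14 q) ((fun q => f11 (f11 (f13 (f12 (f12 (f11 (f13 (f12 (f13 (f11 (f13 (f13 (f13 (f8 (f9 (f10 (f8 (f10 (f9 (f8 (f12 (f9 (f8 (f10 (f11 (f10 (f11 (f9 (f10 (f8 (q))))))))))))))))))))))))))))))) q)) = true := by decide +kernel

theorem eq14_27 : allR 86940 3220 (fun q => Nat.beq (f14 q) ((fun q => f11 (f11 (f13 (f12 (f12 (f11 (f13 (f12 (f13 (f11 (f13 (f13 (f13 (f8 (f9 (f10 (f8 (f10 (f9 (f8 (f12 (f9 (f8 (f10 (f11 (f10 (f11 (f9 (f10 (f8 (q))))))))))))))))))))))))))))))) q)) = true := by decide +kernel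

theorem eq14_28 : allR 90160 3220 (fun q => Nat.beq (f14 q) ((fun q => f11 (f11 (f13 (f12 (f12 (f11 (f13 (f12 (f13 (f11 (f13 (f13 (f13 (f8 (f9 (f10 (f8 (f10 (f9 (f8 (f12 (f9 (f8 (f10 (f11 (f10 (f11 (f9 (f10 (f8 (q))))))))))))))))))))))))))))))) q)) = true := by decide +kernel

theorem eq14_29 : allR 93380 3220 (fun q => Nat.beq (f14 q) ((fun q => f11 (f11 (f13 (f12 (f12 (f11 (f13 (f12 (f13 (f11 (f13 (f13 (f13 (f8 (f9 (f10 (f8 (f10 (f9 (f8 (f12 (f9 (f8 (f10 (f11 (f10 (f11 (f9 (f10 (f8 (q))))))))))))))))))))))))))))))) q)) = true := by decide +kernel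

theorem eq14_30 : allR 96600 3220 (fun q => Nat.beq (f14 q) ((fun q => f11 (f11 (f13 (f12 (f12 (f11 (f13 (f12 (f13 (f11 (f13 (f13 (f13 (f8 (f9 (f10 (f8 (f10 (f9 (f8 (f12 (f9 (f8 (f10 (f11 (f10 (f11 (f9 (f10 (f8 (q))))))))))))))))))))))))))))))) q)) = true := by decide +kernel

theorem eq14_31 : allR 99820 3220 (fun q => Nat.beq (f14 q) ((fun q => f11 (f11 (f13 (f12 (f12 (f11 (f13 (f12 (f13 (f11 (f13 (f13 (f13 (f8 (f9 (f10 (f8 (f10 (f9 (f8 (f12 (f9 (f8 (f10 (f11 (f10 (f11 (f9 (f10 (f8 (q))))))))))))))))))))))))))))))) q)) = true := by decide +kernel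

theorem eq14_32 : allR 103040 3220 (fun q => Nat.beq (f14 q) ((fun q => f11 (f11 (f13 (f12 (f12 (f11 (f13 (f12 (f13 (f11 (f13 (f13 (f13 (f8 (f9 (f10 (f8 (f10 (f9 (f8 (f12 (f9 (f8 (f10 (f11 (f10 (f11 (f9 (f10 (f8 (q))))))))))))))))))))))))))))))) q)) = true := by decide +kernel

theorem eq14_33 : allR 106260 3220 (fun q => Nat.beq (f14 q) ((fun q => f11 (f11 (f13 (f12 (f12 (f11 (f13 (f12 (f13 (f11 (f13 (f13 (f13 (f8 (f9 (f10 (f8 (f10 (f9 (f8 (f12 (f9 (f8 (f10 (f11 (f10 (f11 (f9 (f10 (f8 (q))))))))))))))))))))))))))))))) q)) = true := by decide +kernel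

theorem eq14_34 : allR 109480 3220 (fun q => Nat.beq (f14 q) ((fun q => f11 (f11 (f13 (f12 (f12 (f11 (f13 (f12 (f13 (f11 (f13 (f13 (f13 (f8 (f9 (f10 (f8 (f10 (f9 (f8 (f12 (f9 (f8 (f10 (f11 (f10 (f11 (f9 (f10 (f8 (q))))))))))))))))))))))))))))))) q)) = true := by decide +kernel

theorem eq14_35 : allR 112700 3220 (fun q => Nat.beq (f14 q) ((fun q => f11 (f11 (f13 (f12 (f12 (f11 (f13 (f12 (f13 (f11 (f13 (f13 (f13 (f8 (f9 (f10 (f8 (f10 (f9 (f8 (f12 (f9 (f8 (f10 (f11 (f10 (f11 (f9 (f10 (f8 (q))))))))))))))))))))))))))))))) q)) = true := by decide +kernel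

theorem eq14_36 : allR 115920 3220 (fun q => Nat.beq (f14 q) ((fun q => f11 (f11 (f13 (f12 (f12 (f11 (f13 (f12 (f13 (f11 (f13 (f13 (f13 (f8 (f9 (f10 (f8 (f10 (f9 (f8 (f12 (f9 (f8 (f10 (f11 (f10 (f11 (f9 (f10 (f8 (q))))))))))))))))))))))))))))))) q)) = true := by decide +kernel

theorem eq14_37 : allR 119140 3220 (fun q => Nat.beq (f14 q) ((fun q => f11 (f11 (f13 (f12 (f12 (f11 (f13 (f12 (f13 (f11 (f13 (f13 (f13 (f8 (f9 (f10 (f8 (f10 (f9 (f8 (f12 (f9 (f8 (f10 (f11 (f10 (f11 (f9 (f10 (f8 (q))))))))))))))))))))))))))))))) q)) = true := by decide +kernel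

theorem eq14_38 : allR 122360 3220 (fun q => Nat.beq (f14 q) ((fun q => f11 (f11 (f13 (f12 (f12 (f11 (f13 (f12 (f13 (f11 (f13 (f13 (f13 (f8 (f9 (f10 (f8 (f10 (f9 (f8 (f12 (f9 (f8 (f10 (f11 (f10 (f11 (f9 (f10 (f8 (q))))))))))))))))))))))))))))))) q)) = true := by decide +kernel

theorem eq14_39 : allR 125580 3220 (fun q => Nat.beq (f14 q) ((fun q => f11 (f11 (f13 (f12 (f12 (f11 (f13 (f12 (f13 (f11 (f13 (f13 (f13 (f8 (f9 (f10 (f8 (f10 (f9 (f8 (f12 (f9 (f8 (f10 (f11 (f10 (f11 (f9 (f10 (f8 (q))))))))))))))))))))))))))))))) q)) = true := by decide +kernel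

theorem eq14_40 : allR 128800 3220 (fun q => Nat.beq (f14 q) ((fun q => f11 (f11 (f13 (f12 (f12 (f11 (f13 (f12 (f13 (f11 (f13 (f13 (f13 (f8 (f9 (f10 (f8 (f10 (f9 (f8 (f12 (f9 (f8 (f10 (f11 (f10 (f11 (f9 (f10 (f8 (q))))))))))))))))))))))))))))))) q)) = true := by decide +kernel

theorem eq14_41 : allR 132020 3220 (fun q => Nat.beq (f14 q) ((fun q => f11 (f11 (f13 (f12 (f12 (f11 (f13 (f12 (f13 (f11 (f13 (f13 (f13 (f8 (f9 (f10 (f8 (f10 (f9 (f8 (f12 (f9 (f8 (f10 (f11 (f10 (f11 (f9 (f10 (f8 (q))))))))))))))))))))))))))))))) q)) = true := by decide +kernel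

theorem eq14_42 : allR 135240 3220 (fun q => Nat.beq (f14 q) ((fun q => f11 (f11 (f13 (f12 (f12 (f11 (f13 (f12 (f13 (f11 (f13 (f13 (f13 (f8 (f9 (f10 (f8 (f10 (f9 (f8 (f12 (f9 (f8 (f10 (f11 (f10 (f11 (f9 (f10 (f8 (q))))))))))))))))))))))))))))))) q)) = true := by decide +kernel

theorem eq14_43 : allR 138460 3220 (fun q => Nat.beq (f14 q) ((fun q => f11 (f11 (f13 (f12 (f12 (f11 (f13 (f12 (f13 (f11 (f13 (f13 (f13 (f8 (f9 (f10 (f8 (f10 (f9 (f8 (f12 (f9 (f8 (f10 (f11 (f10 (f11 (f9 (f10 (f8 (q))))))))))))))))))))))))))))))) q)) = true := by decide +kernel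

theorem eq14_44 : allR 141680 3220 (fun q => Nat.beq (f14 q) ((fun q => f11 (f11 (f13 (f12 (f12 (f11 (f13 (f12 (f13 (f11 (f13 (f13 (f13 (f8 (f9 (f10 (f8 (f10 (f9 (f8 (f12 (f9 (f8 (f10 (f11 (f10 (f11 (f9 (f10 (f8 (q))))))))))))))))))))))))))))))) q)) = true := by decide +kernel

theorem eq14_45 : allR 144900 3220 (fun q => Nat.beq (f14 q) ((fun q => f11 (f11 (f13 (f12 (f12 (f11 (f13 (f12 (f13 (f11 (f13 (f13 (f13 (f8 (f9 (f10 (f8 (f10 (f9 (f8 (f12 (f9 (f8 (f10 (f11 (f10 (f11 (f9 (f10 (f8 (q))))))))))))))))))))))))))))))) q)) = true := by decide +kernel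

theorem eq14_46 : allR 148120 3220 (fun q => Nat.beq (f14 q) ((fun q => f11 (f11 (f13 (f12 (f12 (f11 (f13 (f12 (f13 (f11 (f13 (f13 (f13 (f8 (f9 (f10 (f8 (f10 (f9 (f8 (f12 (f9 (f8 (f10 (f11 (f10 (f11 (f9 (f10 (f8 (q))))))))))))))))))))))))))))))) q)) = true := by decide +kernel

theorem eq14_47 : allR 151340 3220 (fun q => Nat.beq (f14 q) ((fun q => f11 (f11 (f13 (f12 (f12 (f11 (f13 (f12 (f13 (f11 (f13 (f13 (f13 (f8 (f9 (f10 (f8 (f10 (f9 (f8 (f12 (f9 (f8 (f10 (f11 (f10 (f11 (f9 (f10 (f8 (q))))))))))))))))))))))))))))))) q)) = true := by decide +kernel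

theorem eq14_48 : allR 154560 3220 (fun q => Nat.beq (f14 q) ((fun q => f11 (f11 (f13 (f12 (f12 (f11 (f13 (f12 (f13 (f11 (f13 (f13 (f13 (f8 (f9 (f10 (f8 (f10 (f9 (f8 (f12 (f9 (f8 (f10 (f11 (f10 (f11 (f9 (f10 (f8 (q))))))))))))))))))))))))))))))) q)) = true := by decide +kernel

theorem eq14_49 : allR 157780 3220 (fun q => Nat.beq (f14 q) ((fun q => f11 (f11 (f13 (f12 (f12 (f11 (f13 (f12 (f13 (f11 (f13 (f13 (f13 (f8 (f9 (f10 (f8 (f10 (f9 (f8 (f12 (f9 (f8 (f10 (f11 (f10 (f11 (f9 (f10 (f8 (q))))))))))))))))))))))))))))))) q)) = true := by decide +kernel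


end Cfsg.Agent.HNOut
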