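import Cfsg.Agent.Lib.Lead.HNOut.D14

/-! # The outer automorphism group of the Harada–Norton group: the check of the table of the element number 14 (generated) -/

set_option autoImplicit false
set_option maxRecDepth 100000

namespace Cfsg.Agent.HNOut

open Cfsg.Agent.PF Cfsg.Agent.Lib.Helper6 Cfsg.Agent.Lib.Helper6.TC Cfsg.Agent.Lib.Helper6.NatArr
open Cfsg.Agent.PL (Acts evalF)

theorem eq14_250 : allR 805000 3220 (fun q => Nat.beq (f14 q) ((fun q => f11 (f11 (f13 (f12 (f12 (f11 (f13 (f12 (f13 (f11 (f13 (f13 (f13 (f8 (f9 (f10 (f8 (f10 (f9 (f8 (f12 (f9 (f8 (f10 (f11 (f10 (f11 (f9 (f10 (f8 (q))))))))))))))))))))))))))))))) q)) = true := by decide +kernel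

theorem eq14_251 : allR 808220 3220 (fun q => Nat.beq (f14 q) ((fun q => f11 (f11 (f13 (f12 (f12 (f11 (f13 (f12 (f13 (f11 (f13 (f13 (f13 (f8 (f9 (f10 (f8 (f10 (f9 (f8 (f12 (f9 (f8 (f10 (f11 (f10 (f11 (f9 (f10 (f8 (q))))))))))))))))))))))))))))))) q)) = true := by decide +kernel

theorem eq14_252 : allR 811440 3220 (fun q => Nat.beq (f14 q) ((fun q => f11 (f11 (f13 (f12 (f12 (f11 (f13 (f12 (f13 (f11 (f13 (f13 (f13 (f8 (f9 (f10 (f8 (f10 (f9 (f8 (f12 (f9 (f8 (f10 (f11 (f10 (f11 (f9 (f10 (f8 (q))))))))))))))))))))))))))))))) q)) = true := by decide +kernel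

theorem eq14_253 : allR 814660 3220 (fun q => Nat.beq (f14 q) ((fun q => f11 (f11 (f13 (f12 (f12 (f11 (f13 (f12 (f13 (f11 (f13 (f13 (f13 (f8 (f9 (f10 (f8 (f10 (f9 (f8 (f12 (f9 (f8 (f10 (f11 (f10 (f11 (f9 (f10 (f8 (q))))))))))))))))))))))))))))))) q)) = true := by decide +kernel

theorem eq14_254 : allR 817880 3220 (fun q => Nat.beq (f14 q) ((fun q => f11 (f11 (f13 (f12 (f12 (f11 (f13 (f12 (f13 (f11 (f13 (f13 (f13 (f8 (f9 (f10 (f8 (f10 (f9 (f8 (f12 (f9 (f8 (f10 (f11 (f10 (f11 (f9 (f10 (f8 (q))))))))))))))))))))))))))))))) q)) = true := by decide +kernel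

theorem eq14_255 : allR 821100 3220 (fun q => Nat.beq (f14 q) ((fun q => f11 (f11 (f13 (f12 (f12 (f11 (f13 (f12 (f13 (f11 (f13 (f13 (f13 (f8 (f9 (f10 (f8 (f10 (f9 (f8 (f12 (f9 (f8 (f10 (f11 (f10 (f11 (f9 (f10 (f8 (q))))))))))))))))))))))))))))))) q)) = true := by decide +kernel

theorem eq14_256 : allR 824320 3220 (fun q => Nat.beq (f14 q) ((fun q => f11 (f11 (f13 (f12 (f12 (f11 (f13 (f12 (f13 (f11 (f13 (f13 (f13 (f8 (f9 (f10 (f8 (f10 (f9 (f8 (f12 (f9 (f8 (f10 (f11 (f10 (f11 (f9 (f10 (f8 (q))))))))))))))))))))))))))))))) q)) = true := by decide +kernel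

theorem eq14_257 : allR 827540 3220 (fun q => Nat.beq (f14 q) ((fun q => f11 (f11 (f13 (f12 (f12 (f11 (f13 (f12 (f13 (f11 (f13 (f13 (f13 (f8 (f9 (f10 (f8 (f10 (f9 (f8 (f12 (f9 (f8 (f10 (f11 (f10 (f11 (f9 (f10 (f8 (q))))))))))))))))))))))))))))))) q)) = true := by decide +kernel

theorem eq14_258 : allR 830760 3220 (fun q => Nat.beq (f14 q) ((fun q => f11 (f11 (f13 (f12 (f12 (f11 (f13 (f12 (f13 (f11 (f13 (f13 (f13 (f8 (f9 (f10 (f8 (f10 (f9 (f8 (f12 (f9 (f8 (f10 (f11 (f10 (f11 (f9 (f10 (f8 (q))))))))))))))))))))))))))))))) q)) = true := by decide +kernel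

theorem eq14_259 : allR 833980 3220 (fun q => Nat.beq (f14 q) ((fun q => f11 (f11 (f13 (f12 (f12 (f11 (f13 (f12 (f13 (f11 (f13 (f13 (f13 (f8 (f9 (f10 (f8 (f10 (f9 (f8 (f12 (f9 (f8 (f10 (f11 (f10 (f11 (f9 (f10 (f8 (q))))))))))))))))))))))))))))))) q)) = true := by decide +kernel

theorem eq14_260 : allR 837200 3220 (fun q => Nat.beq (f14 q) ((fun q => f11 (f11 (f13 (f12 (f12 (f11 (f13 (f12 (f13 (f11 (f13 (f13 (f13 (f8 (f9 (f10 (f8 (f10 (f9 (f8 (f12 (f9 (f8 (f10 (f11 (f10 (f11 (f9 (f10 (f8 (q))))))))))))))))))))))))))))))) q)) = true := by decide +kernel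

theorem eq14_261 : allR 840420 3220 (fun q => Nat.beq (f14 q) ((fun q => f11 (f11 (f13 (f12 (f12 (f11 (f13 (f12 (f13 (f11 (f13 (f13 (f13 (f8 (f9 (f10 (f8 (f10 (f9 (f8 (f12 (f9 (f8 (f10 (f11 (f10 (f11 (f9 (f10 (f8 (q))))))))))))))))))))))))))))))) q)) = true := by decide +kernel

theorem eq14_262 : allR 843640 3220 (fun q => Nat.beq (f14 q) ((fun q => f11 (f11 (f13 (f12 (f12 (f11 (f13 (f12 (f13 (f11 (f13 (f13 (f13 (f8 (f9 (f10 (f8 (f10 (f9 (f8 (f12 (f9 (f8 (f10 (f11 (f10 (f11 (f9 (f10 (f8 (q))))))))))))))))))))))))))))))) q)) = true := by decide +kernel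

theorem eq14_263 : allR 846860 3220 (fun q => Nat.beq (f14 q) ((fun q => f11 (f11 (f13 (f12 (f12 (f11 (f13 (f12 (f13 (f11 (f13 (f13 (f13 (f8 (f9 (f10 (f8 (f10 (f9 (f8 (f12 (f9 (f8 (f10 (f11 (f10 (f11 (f9 (f10 (f8 (q))))))))))))))))))))))))))))))) q)) = true := by decide +kernel

theorem eq14_264 : allR 850080 3220 (fun q => Nat.beq (f14 q) ((fun q => f11 (f11 (f13 (f12 (f12 (f11 (f13 (f12 (f13 (f11 (f13 (f13 (f13 (f8 (f9 (f10 (f8 (f10 (f9 (f8 (f12 (f9 (f8 (f10 (f11 (f10 (f11 (f9 (f10 (f8 (q))))))))))))))))))))))))))))))) q)) = true := by decide +kernel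

theorem eq14_265 : allR 853300 3220 (fun q => Nat.beq (f14 q) ((fun q => f11 (f11 (f13 (f12 (f12 (f11 (f13 (f12 (f13 (f11 (f13 (f13 (f13 (f8 (f9 (f10 (f8 (f10 (f9 (f8 (f12 (f9 (f8 (f10 (f11 (f10 (f11 (f9 (f10 (f8 (q))))))))))))))))))))))))))))))) q)) = true := by decide +kernel

theorem eq14_266 : allR 856520 3220 (fun q => Nat.beq (f14 q) ((fun q => f11 (f11 (f13 (f12 (f12 (f11 (f13 (f12 (f13 (f11 (f13 (f13 (f13 (f8 (f9 (f10 (f8 (f10 (f9 (f8 (f12 (f9 (f8 (f10 (f11 (f10 (f11 (f9 (f10 (f8 (q))))))))))))))))))))))))))))))) q)) = true := by decide +kernel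

theorem eq14_267 : allR 859740 3220 (fun q => Nat.beq (f14 q) ((fun q => f11 (f11 (f13 (f12 (f12 (f11 (f13 (f12 (f13 (f11 (f13 (f13 (f13 (f8 (f9 (f10 (f8 (f10 (f9 (f8 (f12 (f9 (f8 (f10 (f11 (f10 (f11 (f9 (f10 (f8 (q))))))))))))))))))))))))))))))) q)) = true := by decide +kernel

theorem eq14_268 : allR 862960 3220 (fun q => Nat.beq (f14 q) ((fun q => f11 (f11 (f13 (f12 (f12 (f11 (f13 (f12 (f13 (f11 (f13 (f13 (f13 (f8 (f9 (f10 (f8 (f10 (f9 (f8 (f12 (f9 (f8 (f10 (f11 (f10 (f11 (f9 (f10 (f8 (q))))))))))))))))))))))))))))))) q)) = true := by decide +kernel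

theorem eq14_269 : allR 866180 3220 (fun q => Nat.beq (f14 q) ((fun q => f11 (f11 (f13 (f12 (f12 (f11 (f13 (f12 (f13 (f11 (f13 (f13 (f13 (f8 (f9 (f10 (f8 (f10 (f9 (f8 (f12 (f9 (f8 (f10 (f11 (f10 (f11 (f9 (f10 (f8 (q))))))))))))))))))))))))))))))) q)) = true := by decide +kernel

theorem eq14_270 : allR 869400 3220 (fun q => Nat.beq (f14 q) ((fun q => f11 (f11 (f13 (f12 (f12 (f11 (f13 (f12 (f13 (f11 (f13 (f13 (f13 (f8 (f9 (f10 (f8 (f10 (f9 (f8 (f12 (f9 (f8 (f10 (f11 (f10 (f11 (f9 (f10 (f8 (q))))))))))))))))))))))))))))))) q)) = true := by decide +kernel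

theorem eq14_271 : allR 872620 3220 (fun q => Nat.beq (f14 q) ((fun q => f11 (f11 (f13 (f12 (f12 (f11 (f13 (f12 (f13 (f11 (f13 (f13 (f13 (f8 (f9 (f10 (f8 (f10 (f9 (f8 (f12 (f9 (f8 (f10 (f11 (f10 (f11 (f9 (f10 (f8 (q))))))))))))))))))))))))))))))) q)) = true := by decide +kernel

theorem eq14_272 : allR 875840 3220 (fun q => Nat.beq (f14 q) ((fun q => f11 (f11 (f13 (f12 (f12 (f11 (f13 (f12 (f13 (f11 (f13 (f13 (f13 (f8 (f9 (f10 (f8 (f10 (f9 (f8 (f12 (f9 (f8 (f10 (f11 (f10 (f11 (f9 (f10 (f8 (q))))))))))))))))))))))))))))))) q)) = true := by decide +kernel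

theorem eq14_273 : allR 879060 3220 (fun q => Nat.beq (f14 q) ((fun q => f11 (f11 (f13 (f12 (f12 (f11 (f13 (f12 (f13 (f11 (f13 (f13 (f13 (f8 (f9 (f10 (f8 (f10 (f9 (f8 (f12 (f9 (f8 (f10 (f11 (f10 (f11 (f9 (f10 (f8 (q))))))))))))))))))))))))))))))) q)) = true := by decide +kernel

theorem eq14_274 : allR 882280 3220 (fun q => Nat.beq (f14 q) ((fun q => f11 (f11 (f13 (f12 (f12 (f11 (f13 (f12 (f13 (f11 (f13 (f13 (f13 (f8 (f9 (f10 (f8 (f10 (f9 (f8 (f12 (f9 (f8 (f10 (f11 (f10 (f11 (f9 (f10 (f8 (q))))))))))))))))))))))))))))))) q)) = true := by decide +kernel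


end Cfsg.Agent.HNOut
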