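import Cfsg.Agent.Lib.Lead.HNOut.D14

/-! # The outer automorphism group of the Harada–Norton group: the check of the table of the element number 14 (generated) -/

set_option autoImplicit false
set_option maxRecDepth 100000

namespace Cfsg.Agent.HNOut

open Cfsg.Agent.PF Cfsg.Agent.Lib.Helper6 Cfsg.Agent.Lib.Helper6.TC Cfsg.Agent.Lib.Helper6.NatArr
open Cfsg.Agent.PL (Acts evalF)

theorem eq14_275 : allR 885500 3220 (fun q => Nat.beq (f14 q) ((fun q => f11 (f11 (f13 (f12 (f12 (f11 (f13 (f12 (f13 (f11 (f13 (f13 (f13 (f8 (f9 (f10 (f8 (f10 (f9 (f8 (f12 (f9 (f8 (f10 (f11 (f10 (f11 (f9 (f10 (f8 (q))))))))))))))))))))))))))))))) q)) = true := by decide +kernel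

theorem eq14_276 : allR 888720 3220 (fun q => Nat.beq (f14 q) ((fun q => f11 (f11 (f13 (f12 (f12 (f11 (f13 (f12 (f13 (f11 (f13 (f13 (f13 (f8 (f9 (f10 (f8 (f10 (f9 (f8 (f12 (f9 (f8 (f10 (f11 (f10 (f11 (f9 (f10 (f8 (q))))))))))))))))))))))))))))))) q)) = true := by decide +kernel

theorem eq14_277 : allR 891940 3220 (fun q => Nat.beq (f14 q) ((fun q => f11 (f11 (f13 (f12 (f12 (f11 (f13 (f12 (f13 (f11 (f13 (f13 (f13 (f8 (f9 (f10 (f8 (f10 (f9 (f8 (f12 (f9 (f8 (f10 (f11 (f10 (f11 (f9 (f10 (f8 (q))))))))))))))))))))))))))))))) q)) = true := by decide +kernel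

theorem eq14_278 : allR 895160 3220 (fun q => Nat.beq (f14 q) ((fun q => f11 (f11 (f13 (f12 (f12 (f11 (f13 (f12 (f13 (f11 (f13 (f13 (f13 (f8 (f9 (f10 (f8 (f10 (f9 (f8 (f12 (f9 (f8 (f10 (f11 (f10 (f11 (f9 (f10 (f8 (q))))))))))))))))))))))))))))))) q)) = true := by decide +kernel

theorem eq14_279 : allR 898380 3220 (fun q => Nat.beq (f14 q) ((fun q => f11 (f11 (f13 (f12 (f12 (f11 (f13 (f12 (f13 (f11 (f13 (f13 (f13 (f8 (f9 (f10 (f8 (f10 (f9 (f8 (f12 (f9 (f8 (f10 (f11 (f10 (f11 (f9 (f10 (f8 (q))))))))))))))))))))))))))))))) q)) = true := by decide +kernel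

theorem eq14_280 : allR 901600 3220 (fun q => Nat.beq (f14 q) ((fun q => f11 (f11 (f13 (f12 (f12 (f11 (f13 (f12 (f13 (f11 (f13 (f13 (f13 (f8 (f9 (f10 (f8 (f10 (f9 (f8 (f12 (f9 (f8 (f10 (f11 (f10 (f11 (f9 (f10 (f8 (q))))))))))))))))))))))))))))))) q)) = true := by decide +kernel

theorem eq14_281 : allR 904820 3220 (fun q => Nat.beq (f14 q) ((fun q => f11 (f11 (f13 (f12 (f12 (f11 (f13 (f12 (f13 (f11 (f13 (f13 (f13 (f8 (f9 (f10 (f8 (f10 (f9 (f8 (f12 (f9 (f8 (f10 (f11 (f10 (f11 (f9 (f10 (f8 (q))))))))))))))))))))))))))))))) q)) = true := by decide +kernel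

theorem eq14_282 : allR 908040 3220 (fun q => Nat.beq (f14 q) ((fun q => f11 (f11 (f13 (f12 (f12 (f11 (f13 (f12 (f13 (f11 (f13 (f13 (f13 (f8 (f9 (f10 (f8 (f10 (f9 (f8 (f12 (f9 (f8 (f10 (f11 (f10 (f11 (f9 (f10 (f8 (q))))))))))))))))))))))))))))))) q)) = true := by decide +kernel

theorem eq14_283 : allR 911260 3220 (fun q => Nat.beq (f14 q) ((fun q => f11 (f11 (f13 (f12 (f12 (f11 (f13 (f12 (f13 (f11 (f13 (f13 (f13 (f8 (f9 (f10 (f8 (f10 (f9 (f8 (f12 (f9 (f8 (f10 (f11 (f10 (f11 (f9 (f10 (f8 (q))))))))))))))))))))))))))))))) q)) = true := by decide +kernel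

theorem eq14_284 : allR 914480 3220 (fun q => Nat.beq (f14 q) ((fun q => f11 (f11 (f13 (f12 (f12 (f11 (f13 (f12 (f13 (f11 (f13 (f13 (f13 (f8 (f9 (f10 (f8 (f10 (f9 (f8 (f12 (f9 (f8 (f10 (f11 (f10 (f11 (f9 (f10 (f8 (q))))))))))))))))))))))))))))))) q)) = true := by decide +kernel

theorem eq14_285 : allR 917700 3220 (fun q => Nat.beq (f14 q) ((fun q => f11 (f11 (f13 (f12 (f12 (f11 (f13 (f12 (f13 (f11 (f13 (f13 (f13 (f8 (f9 (f10 (f8 (f10 (f9 (f8 (f12 (f9 (f8 (f10 (f11 (f10 (f11 (f9 (f10 (f8 (q))))))))))))))))))))))))))))))) q)) = true := by decide +kernel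

theorem eq14_286 : allR 920920 3220 (fun q => Nat.beq (f14 q) ((fun q => f11 (f11 (f13 (f12 (f12 (f11 (f13 (f12 (f13 (f11 (f13 (f13 (f13 (f8 (f9 (f10 (f8 (f10 (f9 (f8 (f12 (f9 (f8 (f10 (f11 (f10 (f11 (f9 (f10 (f8 (q))))))))))))))))))))))))))))))) q)) = true := by decide +kernel

theorem eq14_287 : allR 924140 3220 (fun q => Nat.beq (f14 q) ((fun q => f11 (f11 (f13 (f12 (f12 (f11 (f13 (f12 (f13 (f11 (f13 (f13 (f13 (f8 (f9 (f10 (f8 (f10 (f9 (f8 (f12 (f9 (f8 (f10 (f11 (f10 (f11 (f9 (f10 (f8 (q))))))))))))))))))))))))))))))) q)) = true := by decide +kernel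

theorem eq14_288 : allR 927360 3220 (fun q => Nat.beq (f14 q) ((fun q => f11 (f11 (f13 (f12 (f12 (f11 (f13 (f12 (f13 (f11 (f13 (f13 (f13 (f8 (f9 (f10 (f8 (f10 (f9 (f8 (f12 (f9 (f8 (f10 (f11 (f10 (f11 (f9 (f10 (f8 (q))))))))))))))))))))))))))))))) q)) = true := by decide +kernel

theorem eq14_289 : allR 930580 3220 (fun q => Nat.beq (f14 q) ((fun q => f11 (f11 (f13 (f12 (f12 (f11 (f13 (f12 (f13 (f11 (f13 (f13 (f13 (f8 (f9 (f10 (f8 (f10 (f9 (f8 (f12 (f9 (f8 (f10 (f11 (f10 (f11 (f9 (f10 (f8 (q))))))))))))))))))))))))))))))) q)) = true := by decide +kernel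

theorem eq14_290 : allR 933800 3220 (fun q => Nat.beq (f14 q) ((fun q => f11 (f11 (f13 (f12 (f12 (f11 (f13 (f12 (f13 (f11 (f13 (f13 (f13 (f8 (f9 (f10 (f8 (f10 (f9 (f8 (f12 (f9 (f8 (f10 (f11 (f10 (f11 (f9 (f10 (f8 (q))))))))))))))))))))))))))))))) q)) = true := by decide +kernel

theorem eq14_291 : allR 937020 3220 (fun q => Nat.beq (f14 q) ((fun q => f11 (f11 (f13 (f12 (f12 (f11 (f13 (f12 (f13 (f11 (f13 (f13 (f13 (f8 (f9 (f10 (f8 (f10 (f9 (f8 (f12 (f9 (f8 (f10 (f11 (f10 (f11 (f9 (f10 (f8 (q))))))))))))))))))))))))))))))) q)) = true := by decide +kernel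

theorem eq14_292 : allR 940240 3220 (fun q => Nat.beq (f14 q) ((fun q => f11 (f11 (f13 (f12 (f12 (f11 (f13 (f12 (f13 (f11 (f13 (f13 (f13 (f8 (f9 (f10 (f8 (f10 (f9 (f8 (f12 (f9 (f8 (f10 (f11 (f10 (f11 (f9 (f10 (f8 (q))))))))))))))))))))))))))))))) q)) = true := by decide +kernel

theorem eq14_293 : allR 943460 3220 (fun q => Nat.beq (f14 q) ((fun q => f11 (f11 (f13 (f12 (f12 (f11 (f13 (f12 (f13 (f11 (f13 (f13 (f13 (f8 (f9 (f10 (f8 (f10 (f9 (f8 (f12 (f9 (f8 (f10 (f11 (f10 (f11 (f9 (f10 (f8 (q))))))))))))))))))))))))))))))) q)) = true := by decide +kernel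

theorem eq14_294 : allR 946680 3220 (fun q => Nat.beq (f14 q) ((fun q => f11 (f11 (f13 (f12 (f12 (f11 (f13 (f12 (f13 (f11 (f13 (f13 (f13 (f8 (f9 (f10 (f8 (f10 (f9 (f8 (f12 (f9 (f8 (f10 (f11 (f10 (f11 (f9 (f10 (f8 (q))))))))))))))))))))))))))))))) q)) = true := by decide +kernel

theorem eq14_295 : allR 949900 3220 (fun q => Nat.beq (f14 q) ((fun q => f11 (f11 (f13 (f12 (f12 (f11 (f13 (f12 (f13 (f11 (f13 (f13 (f13 (f8 (f9 (f10 (f8 (f10 (f9 (f8 (f12 (f9 (f8 (f10 (f11 (f10 (f11 (f9 (f10 (f8 (q))))))))))))))))))))))))))))))) q)) = true := by decide +kernel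

theorem eq14_296 : allR 953120 3220 (fun q => Nat.beq (f14 q) ((fun q => f11 (f11 (f13 (f12 (f12 (f11 (f13 (f12 (f13 (f11 (f13 (f13 (f13 (f8 (f9 (f10 (f8 (f10 (f9 (f8 (f12 (f9 (f8 (f10 (f11 (f10 (f11 (f9 (f10 (f8 (q))))))))))))))))))))))))))))))) q)) = true := by decide +kernel

theorem eq14_297 : allR 956340 3220 (fun q => Nat.beq (f14 q) ((fun q => f11 (f11 (f13 (f12 (f12 (f11 (f13 (f12 (f13 (f11 (f13 (f13 (f13 (f8 (f9 (f10 (f8 (f10 (f9 (f8 (f12 (f9 (f8 (f10 (f11 (f10 (f11 (f9 (f10 (f8 (q))))))))))))))))))))))))))))))) q)) = true := by decide +kernel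

theorem eq14_298 : allR 959560 3220 (fun q => Nat.beq (f14 q) ((fun q => f11 (f11 (f13 (f12 (f12 (f11 (f13 (f12 (f13 (f11 (f13 (f13 (f13 (f8 (f9 (f10 (f8 (f10 (f9 (f8 (f12 (f9 (f8 (f10 (f11 (f10 (f11 (f9 (f10 (f8 (q))))))))))))))))))))))))))))))) q)) = true := by decide +kernel

theorem eq14_299 : allR 962780 3220 (fun q => Nat.beq (f14 q) ((fun q => f11 (f11 (f13 (f12 (f12 (f11 (f13 (f12 (f13 (f11 (f13 (f13 (f13 (f8 (f9 (f10 (f8 (f10 (f9 (f8 (f12 (f9 (f8 (f10 (f11 (f10 (f11 (f9 (f10 (f8 (q))))))))))))))))))))))))))))))) q)) = true := by decide +kernel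


end Cfsg.Agent.HNOut
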