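import Cfsg.Agent.Lib.Lead.HNOut.D14

/-! # The outer automorphism group of the Harada–Norton group: the check of the table of the element number 14 (generated) -/

set_option autoImplicit false
set_option maxRecDepth 100000

namespace Cfsg.Agent.HNOut

open Cfsg.Agent.PF Cfsg.Agent.Lib.Helper6 Cfsg.Agent.Lib.Helper6.TC Cfsg.Agent.Lib.Helper6.NatArr
open Cfsg.Agent.PL (Acts evalF)

theorem eq14_300 : allR 966000 3220 (fun q => Nat.beq (f14 q) ((fun q => f11 (f11 (f13 (f12 (f12 (f11 (f13 (f12 (f13 (f11 (f13 (f13 (f13 (f8 (f9 (f10 (f8 (f10 (f9 (f8 (f12 (f9 (f8 (f10 (f11 (f10 (f11 (f9 (f10 (f8 (q))))))))))))))))))))))))))))))) q)) = true := by decide +kernel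

theorem eq14_301 : allR 969220 3220 (fun q => Nat.beq (f14 q) ((fun q => f11 (f11 (f13 (f12 (f12 (f11 (f13 (f12 (f13 (f11 (f13 (f13 (f13 (f8 (f9 (f10 (f8 (f10 (f9 (f8 (f12 (f9 (f8 (f10 (f11 (f10 (f11 (f9 (f10 (f8 (q))))))))))))))))))))))))))))))) q)) = true := by decide +kernel

theorem eq14_302 : allR 972440 3220 (fun q => Nat.beq (f14 q) ((fun q => f11 (f11 (f13 (f12 (f12 (f11 (f13 (f12 (f13 (f11 (f13 (f13 (f13 (f8 (f9 (f10 (f8 (f10 (f9 (f8 (f12 (f9 (f8 (f10 (f11 (f10 (f11 (f9 (f10 (f8 (q))))))))))))))))))))))))))))))) q)) = true := by decide +kernel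

theorem eq14_303 : allR 975660 3220 (fun q => Nat.beq (f14 q) ((fun q => f11 (f11 (f13 (f12 (f12 (f11 (f13 (f12 (f13 (f11 (f13 (f13 (f13 (f8 (f9 (f10 (f8 (f10 (f9 (f8 (f12 (f9 (f8 (f10 (f11 (f10 (f11 (f9 (f10 (f8 (q))))))))))))))))))))))))))))))) q)) = true := by decide +kernel

theorem eq14_304 : allR 978880 3220 (fun q => Nat.beq (f14 q) ((fun q => f11 (f11 (f13 (f12 (f12 (f11 (f13 (f12 (f13 (f11 (f13 (f13 (f13 (f8 (f9 (f10 (f8 (f10 (f9 (f8 (f12 (f9 (f8 (f10 (f11 (f10 (f11 (f9 (f10 (f8 (q))))))))))))))))))))))))))))))) q)) = true := by decide +kernel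

theorem eq14_305 : allR 982100 3220 (fun q => Nat.beq (f14 q) ((fun q => f11 (f11 (f13 (f12 (f12 (f11 (f13 (f12 (f13 (f11 (f13 (f13 (f13 (f8 (f9 (f10 (f8 (f10 (f9 (f8 (f12 (f9 (f8 (f10 (f11 (f10 (f11 (f9 (f10 (f8 (q))))))))))))))))))))))))))))))) q)) = true := by decide +kernel

theorem eq14_306 : allR 985320 3220 (fun q => Nat.beq (f14 q) ((fun q => f11 (f11 (f13 (f12 (f12 (f11 (f13 (f12 (f13 (f11 (f13 (f13 (f13 (f8 (f9 (f10 (f8 (f10 (f9 (f8 (f12 (f9 (f8 (f10 (f11 (f10 (f11 (f9 (f10 (f8 (q))))))))))))))))))))))))))))))) q)) = true := by decide +kernel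

theorem eq14_307 : allR 988540 3220 (fun q => Nat.beq (f14 q) ((fun q => f11 (f11 (f13 (f12 (f12 (f11 (f13 (f12 (f13 (f11 (f13 (f13 (f13 (f8 (f9 (f10 (f8 (f10 (f9 (f8 (f12 (f9 (f8 (f10 (f11 (f10 (f11 (f9 (f10 (f8 (q))))))))))))))))))))))))))))))) q)) = true := by decide +kernel

theorem eq14_308 : allR 991760 3220 (fun q => Nat.beq (f14 q) ((fun q => f11 (f11 (f13 (f12 (f12 (f11 (f13 (f12 (f13 (f11 (f13 (f13 (f13 (f8 (f9 (f10 (f8 (f10 (f9 (f8 (f12 (f9 (f8 (f10 (f11 (f10 (f11 (f9 (f10 (f8 (q))))))))))))))))))))))))))))))) q)) = true := by decide +kernel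

theorem eq14_309 : allR 994980 3220 (fun q => Nat.beq (f14 q) ((fun q => f11 (f11 (f13 (f12 (f12 (f11 (f13 (f12 (f13 (f11 (f13 (f13 (f13 (f8 (f9 (f10 (f8 (f10 (f9 (f8 (f12 (f9 (f8 (f10 (f11 (f10 (f11 (f9 (f10 (f8 (q))))))))))))))))))))))))))))))) q)) = true := by decide +kernel

theorem eq14_310 : allR 998200 3220 (fun q => Nat.beq (f14 q) ((fun q => f11 (f11 (f13 (f12 (f12 (f11 (f13 (f12 (f13 (f11 (f13 (f13 (f13 (f8 (f9 (f10 (f8 (f10 (f9 (f8 (f12 (f9 (f8 (f10 (f11 (f10 (f11 (f9 (f10 (f8 (q))))))))))))))))))))))))))))))) q)) = true := by decide +kernel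

theorem eq14_311 : allR 1001420 3220 (fun q => Nat.beq (f14 q) ((fun q => f11 (f11 (f13 (f12 (f12 (f11 (f13 (f12 (f13 (f11 (f13 (f13 (f13 (f8 (f9 (f10 (f8 (f10 (f9 (f8 (f12 (f9 (f8 (f10 (f11 (f10 (f11 (f9 (f10 (f8 (q))))))))))))))))))))))))))))))) q)) = true := by decide +kernel

theorem eq14_312 : allR 1004640 3220 (fun q => Nat.beq (f14 q) ((fun q => f11 (f11 (f13 (f12 (f12 (f11 (f13 (f12 (f13 (f11 (f13 (f13 (f13 (f8 (f9 (f10 (f8 (f10 (f9 (f8 (f12 (f9 (f8 (f10 (f11 (f10 (f11 (f9 (f10 (f8 (q))))))))))))))))))))))))))))))) q)) = true := by decide +kernel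

theorem eq14_313 : allR 1007860 3220 (fun q => Nat.beq (f14 q) ((fun q => f11 (f11 (f13 (f12 (f12 (f11 (f13 (f12 (f13 (f11 (f13 (f13 (f13 (f8 (f9 (f10 (f8 (f10 (f9 (f8 (f12 (f9 (f8 (f10 (f11 (f10 (f11 (f9 (f10 (f8 (q))))))))))))))))))))))))))))))) q)) = true := by decide +kernel

theorem eq14_314 : allR 1011080 3220 (fun q => Nat.beq (f14 q) ((fun q => f11 (f11 (f13 (f12 (f12 (f11 (f13 (f12 (f13 (f11 (f13 (f13 (f13 (f8 (f9 (f10 (f8 (f10 (f9 (f8 (f12 (f9 (f8 (f10 (f11 (f10 (f11 (f9 (f10 (f8 (q))))))))))))))))))))))))))))))) q)) = true := by decide +kernel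

theorem eq14_315 : allR 1014300 3220 (fun q => Nat.beq (f14 q) ((fun q => f11 (f11 (f13 (f12 (f12 (f11 (f13 (f12 (f13 (f11 (f13 (f13 (f13 (f8 (f9 (f10 (f8 (f10 (f9 (f8 (f12 (f9 (f8 (f10 (f11 (f10 (f11 (f9 (f10 (f8 (q))))))))))))))))))))))))))))))) q)) = true := by decide +kernel

theorem eq14_316 : allR 1017520 3220 (fun q => Nat.beq (f14 q) ((fun q => f11 (f11 (f13 (f12 (f12 (f11 (f13 (f12 (f13 (f11 (f13 (f13 (f13 (f8 (f9 (f10 (f8 (f10 (f9 (f8 (f12 (f9 (f8 (f10 (f11 (f10 (f11 (f9 (f10 (f8 (q))))))))))))))))))))))))))))))) q)) = true := by decide +kernel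

theorem eq14_317 : allR 1020740 3220 (fun q => Nat.beq (f14 q) ((fun q => f11 (f11 (f13 (f12 (f12 (f11 (f13 (f12 (f13 (f11 (f13 (f13 (f13 (f8 (f9 (f10 (f8 (f10 (f9 (f8 (f12 (f9 (f8 (f10 (f11 (f10 (f11 (f9 (f10 (f8 (q))))))))))))))))))))))))))))))) q)) = true := by decide +kernel

theorem eq14_318 : allR 1023960 3220 (fun q => Nat.beq (f14 q) ((fun q => f11 (f11 (f13 (f12 (f12 (f11 (f13 (f12 (f13 (f11 (f13 (f13 (f13 (f8 (f9 (f10 (f8 (f10 (f9 (f8 (f12 (f9 (f8 (f10 (f11 (f10 (f11 (f9 (f10 (f8 (q))))))))))))))))))))))))))))))) q)) = true := by decide +kernel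

theorem eq14_319 : allR 1027180 3220 (fun q => Nat.beq (f14 q) ((fun q => f11 (f11 (f13 (f12 (f12 (f11 (f13 (f12 (f13 (f11 (f13 (f13 (f13 (f8 (f9 (f10 (f8 (f10 (f9 (f8 (f12 (f9 (f8 (f10 (f11 (f10 (f11 (f9 (f10 (f8 (q))))))))))))))))))))))))))))))) q)) = true := by decide +kernel

theorem eq14_320 : allR 1030400 3220 (fun q => Nat.beq (f14 q) ((fun q => f11 (f11 (f13 (f12 (f12 (f11 (f13 (f12 (f13 (f11 (f13 (f13 (f13 (f8 (f9 (f10 (f8 (f10 (f9 (f8 (f12 (f9 (f8 (f10 (f11 (f10 (f11 (f9 (f10 (f8 (q))))))))))))))))))))))))))))))) q)) = true := by decide +kernel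

theorem eq14_321 : allR 1033620 3220 (fun q => Nat.beq (f14 q) ((fun q => f11 (f11 (f13 (f12 (f12 (f11 (f13 (f12 (f13 (f11 (f13 (f13 (f13 (f8 (f9 (f10 (f8 (f10 (f9 (f8 (f12 (f9 (f8 (f10 (f11 (f10 (f11 (f9 (f10 (f8 (q))))))))))))))))))))))))))))))) q)) = true := by decide +kernel

theorem eq14_322 : allR 1036840 3220 (fun q => Nat.beq (f14 q) ((fun q => f11 (f11 (f13 (f12 (f12 (f11 (f13 (f12 (f13 (f11 (f13 (f13 (f13 (f8 (f9 (f10 (f8 (f10 (f9 (f8 (f12 (f9 (f8 (f10 (f11 (f10 (f11 (f9 (f10 (f8 (q))))))))))))))))))))))))))))))) q)) = true := by decide +kernel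

theorem eq14_323 : allR 1040060 3220 (fun q => Nat.beq (f14 q) ((fun q => f11 (f11 (f13 (f12 (f12 (f11 (f13 (f12 (f13 (f11 (f13 (f13 (f13 (f8 (f9 (f10 (f8 (f10 (f9 (f8 (f12 (f9 (f8 (f10 (f11 (f10 (f11 (f9 (f10 (f8 (q))))))))))))))))))))))))))))))) q)) = true := by decide +kernel

theorem eq14_324 : allR 1043280 3220 (fun q => Nat.beq (f14 q) ((fun q => f11 (f11 (f13 (f12 (f12 (f11 (f13 (f12 (f13 (f11 (f13 (f13 (f13 (f8 (f9 (f10 (f8 (f10 (f9 (f8 (f12 (f9 (f8 (f10 (f11 (f10 (f11 (f9 (f10 (f8 (q))))))))))))))))))))))))))))))) q)) = true := by decide +kernel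


end Cfsg.Agent.HNOut
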