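import Cfsg.Agent.Lib.Lead.HNOut.D15

/-! # The outer automorphism group of the Harada–Norton group: the check of the table of the element number 15 (generated) -/

set_option autoImplicit false
set_option maxRecDepth 100000

namespace Cfsg.Agent.HNOut

open Cfsg.Agent.PF Cfsg.Agent.Lib.Helper6 Cfsg.Agent.Lib.Helper6.TC Cfsg.Agent.Lib.Helper6.NatArr
open Cfsg.Agent.PL (Acts evalF)

theorem eq15_0 : allR 0 4540 (fun q => Nat.beq (f15 q) ((fun q => f12 (f14 (f12 (f11 (f14 (f13 (f13 (f13 (f9 (f12 (f14 (f8 (f9 (f9 (f14 (f14 (f8 (f8 (f8 (f10 (f14 (q)))))))))))))))))))))) q)) = true := by decide +kernel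

theorem eq15_1 : allR 4540 4540 (fun q => Nat.beq (f15 q) ((fun q => f12 (f14 (f12 (f11 (f14 (f13 (f13 (f13 (f9 (f12 (f14 (f8 (f9 (f9 (f14 (f14 (f8 (f8 (f8 (f10 (f14 (q)))))))))))))))))))))) q)) = true := by decide +kernel

theorem eq15_2 : allR 9080 4540 (fun q => Nat.beq (f15 q) ((fun q => f12 (f14 (f12 (f11 (f14 (f13 (f13 (f13 (f9 (f12 (f14 (f8 (f9 (f9 (f14 (f14 (f8 (f8 (f8 (f10 (f14 (q)))))))))))))))))))))) q)) = true := by decide +kernel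

theorem eq15_3 : allR 13620 4540 (fun q => Nat.beq (f15 q) ((fun q => f12 (f14 (f12 (f11 (f14 (f13 (f13 (f13 (f9 (f12 (f14 (f8 (f9 (f9 (f14 (f14 (f8 (f8 (f8 (f10 (f14 (q)))))))))))))))))))))) q)) = true := by decide +kernel

theorem eq15_4 : allR 18160 4540 (fun q => Nat.beq (f15 q) ((fun q => f12 (f14 (f12 (f11 (f14 (f13 (f13 (f13 (f9 (f12 (f14 (f8 (f9 (f9 (f14 (f14 (f8 (f8 (f8 (f10 (f14 (q)))))))))))))))))))))) q)) = true := by decide +kernel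

theorem eq15_5 : allR 22700 4540 (fun q => Nat.beq (f15 q) ((fun q => f12 (f14 (f12 (f11 (f14 (f13 (f13 (f13 (f9 (f12 (f14 (f8 (f9 (f9 (f14 (f14 (f8 (f8 (f8 (f10 (f14 (q)))))))))))))))))))))) q)) = true := by decide +kernel

theorem eq15_6 : allR 27240 4540 (fun q => Nat.beq (f15 q) ((fun q => f12 (f14 (f12 (f11 (f14 (f13 (f13 (f13 (f9 (f12 (f14 (f8 (f9 (f9 (f14 (f14 (f8 (f8 (f8 (f10 (f14 (q)))))))))))))))))))))) q)) = true := by decide +kernel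

theorem eq15_7 : allR 31780 4540 (fun q => Nat.beq (f15 q) ((fun q => f12 (f14 (f12 (f11 (f14 (f13 (f13 (f13 (f9 (f12 (f14 (f8 (f9 (f9 (f14 (f14 (f8 (f8 (f8 (f10 (f14 (q)))))))))))))))))))))) q)) = true := by decide +kernel

theorem eq15_8 : allR 36320 4540 (fun q => Nat.beq (f15 q) ((fun q => f12 (f14 (f12 (f11 (f14 (f13 (f13 (f13 (f9 (f12 (f14 (f8 (f9 (f9 (f14 (f14 (f8 (f8 (f8 (f10 (f14 (q)))))))))))))))))))))) q)) = true := by decide +kernel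

theorem eq15_9 : allR 40860 4540 (fun q => Nat.beq (f15 q) ((fun q => f12 (f14 (f12 (f11 (f14 (f13 (f13 (f13 (f9 (f12 (f14 (f8 (f9 (f9 (f14 (f14 (f8 (f8 (f8 (f10 (f14 (q)))))))))))))))))))))) q)) = true := by decide +kernel

theorem eq15_10 : allR 45400 4540 (fun q => Nat.beq (f15 q) ((fun q => f12 (f14 (f12 (f11 (f14 (f13 (f13 (f13 (f9 (f12 (f14 (f8 (f9 (f9 (f14 (f14 (f8 (f8 (f8 (f10 (f14 (q)))))))))))))))))))))) q)) = true := by decide +kernel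

theorem eq15_11 : allR 49940 4540 (fun q => Nat.beq (f15 q) ((fun q => f12 (f14 (f12 (f11 (f14 (f13 (f13 (f13 (f9 (f12 (f14 (f8 (f9 (f9 (f14 (f14 (f8 (f8 (f8 (f10 (f14 (q)))))))))))))))))))))) q)) = true := by decide +kernel

theorem eq15_12 : allR 54480 4540 (fun q => Nat.beq (f15 q) ((fun q => f12 (f14 (f12 (f11 (f14 (f13 (f13 (f13 (f9 (f12 (f14 (f8 (f9 (f9 (f14 (f14 (f8 (f8 (f8 (f10 (f14 (q)))))))))))))))))))))) q)) = true := by decide +kernel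

theorem eq15_13 : allR 59020 4540 (fun q => Nat.beq (f15 q) ((fun q => f12 (f14 (f12 (f11 (f14 (f13 (f13 (f13 (f9 (f12 (f14 (f8 (f9 (f9 (f14 (f14 (f8 (f8 (f8 (f10 (f14 (q)))))))))))))))))))))) q)) = true := by decide +kernel

theorem eq15_14 : allR 63560 4540 (fun q => Nat.beq (f15 q) ((fun q => f12 (f14 (f12 (f11 (f14 (f13 (f13 (f13 (f9 (f12 (f14 (f8 (f9 (f9 (f14 (f14 (f8 (f8 (f8 (f10 (f14 (q)))))))))))))))))))))) q)) = true := by decide +kernel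

theorem eq15_15 : allR 68100 4540 (fun q => Nat.beq (f15 q) ((fun q => f12 (f14 (f12 (f11 (f14 (f13 (f13 (f13 (f9 (f12 (f14 (f8 (f9 (f9 (f14 (f14 (f8 (f8 (f8 (f10 (f14 (q)))))))))))))))))))))) q)) = true := by decide +kernel

theorem eq15_16 : allR 72640 4540 (fun q => Nat.beq (f15 q) ((fun q => f12 (f14 (f12 (f11 (f14 (f13 (f13 (f13 (f9 (f12 (f14 (f8 (f9 (f9 (f14 (f14 (f8 (f8 (f8 (f10 (f14 (q)))))))))))))))))))))) q)) = true := by decide +kernel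

theorem eq15_17 : allR 77180 4540 (fun q => Nat.beq (f15 q) ((fun q => f12 (f14 (f12 (f11 (f14 (f13 (f13 (f13 (f9 (f12 (f14 (f8 (f9 (f9 (f14 (f14 (f8 (f8 (f8 (f10 (f14 (q)))))))))))))))))))))) q)) = true := by decide +kernel

theorem eq15_18 : allR 81720 4540 (fun q => Nat.beq (f15 q) ((fun q => f12 (f14 (f12 (f11 (f14 (f13 (f13 (f13 (f9 (f12 (f14 (f8 (f9 (f9 (f14 (f14 (f8 (f8 (f8 (f10 (f14 (q)))))))))))))))))))))) q)) = true := by decide +kernel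

theorem eq15_19 : allR 86260 4540 (fun q => Nat.beq (f15 q) ((fun q => f12 (f14 (f12 (f11 (f14 (f13 (f13 (f13 (f9 (f12 (f14 (f8 (f9 (f9 (f14 (f14 (f8 (f8 (f8 (f10 (f14 (q)))))))))))))))))))))) q)) = true := by decide +kernel

theorem eq15_20 : allR 90800 4540 (fun q => Nat.beq (f15 q) ((fun q => f12 (f14 (f12 (f11 (f14 (f13 (f13 (f13 (f9 (f12 (f14 (f8 (f9 (f9 (f14 (f14 (f8 (f8 (f8 (f10 (f14 (q)))))))))))))))))))))) q)) = true := by decide +kernel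

theorem eq15_21 : allR 95340 4540 (fun q => Nat.beq (f15 q) ((fun q => f12 (f14 (f12 (f11 (f14 (f13 (f13 (f13 (f9 (f12 (f14 (f8 (f9 (f9 (f14 (f14 (f8 (f8 (f8 (f10 (f14 (q)))))))))))))))))))))) q)) = true := by decide +kernel

theorem eq15_22 : allR 99880 4540 (fun q => Nat.beq (f15 q) ((fun q => f12 (f14 (f12 (f11 (f14 (f13 (f13 (f13 (f9 (f12 (f14 (f8 (f9 (f9 (f14 (f14 (f8 (f8 (f8 (f10 (f14 (q)))))))))))))))))))))) q)) = true := by decide +kernel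

theorem eq15_23 : allR 104420 4540 (fun q => Nat.beq (f15 q) ((fun q => f12 (f14 (f12 (f11 (f14 (f13 (f13 (f13 (f9 (f12 (f14 (f8 (f9 (f9 (f14 (f14 (f8 (f8 (f8 (f10 (f14 (q)))))))))))))))))))))) q)) = true := by decide +kernel

theorem eq15_24 : allR 108960 4540 (fun q => Nat.beq (f15 q) ((fun q => f12 (f14 (f12 (f11 (f14 (f13 (f13 (f13 (f9 (f12 (f14 (f8 (f9 (f9 (f14 (f14 (f8 (f8 (f8 (f10 (f14 (q)))))))))))))))))))))) q)) = true := by decide +kernel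


end Cfsg.Agent.HNOut
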