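import Cfsg.Agent.Lib.Lead.HNOut.D15

/-! # The outer automorphism group of the Harada–Norton group: the check of the table of the element number 15 (generated) -/

set_option autoImplicit false
set_option maxRecDepth 100000

namespace Cfsg.Agent.HNOut

open Cfsg.Agent.PF Cfsg.Agent.Lib.Helper6 Cfsg.Agent.Lib.Helper6.TC Cfsg.Agent.Lib.Helper6.NatArr
open Cfsg.Agent.PL (Acts evalF)

theorem eq15_25 : allR 113500 4540 (fun q => Nat.beq (f15 q) ((fun q => f12 (f14 (f12 (f11 (f14 (f13 (f13 (f13 (f9 (f12 (f14 (f8 (f9 (f9 (f14 (f14 (f8 (f8 (f8 (f10 (f14 (q)))))))))))))))))))))) q)) = true := by decide +kernel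

theorem eq15_26 : allR 118040 4540 (fun q => Nat.beq (f15 q) ((fun q => f12 (f14 (f12 (f11 (f14 (f13 (f13 (f13 (f9 (f12 (f14 (f8 (f9 (f9 (f14 (f14 (f8 (f8 (f8 (f10 (f14 (q)))))))))))))))))))))) q)) = true := by decide +kernel

theorem eq15_27 : allR 122580 4540 (fun q => Nat.beq (f15 q) ((fun q => f12 (f14 (f12 (f11 (f14 (f13 (f13 (f13 (f9 (f12 (f14 (f8 (f9 (f9 (f14 (f14 (f8 (f8 (f8 (f10 (f14 (q)))))))))))))))))))))) q)) = true := by decide +kernel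

theorem eq15_28 : allR 127120 4540 (fun q => Nat.beq (f15 q) ((fun q => f12 (f14 (f12 (f11 (f14 (f13 (f13 (f13 (f9 (f12 (f14 (f8 (f9 (f9 (f14 (f14 (f8 (f8 (f8 (f10 (f14 (q)))))))))))))))))))))) q)) = true := by decide +kernel

theorem eq15_29 : allR 131660 4540 (fun q => Nat.beq (f15 q) ((fun q => f12 (f14 (f12 (f11 (f14 (f13 (f13 (f13 (f9 (f12 (f14 (f8 (f9 (f9 (f14 (f14 (f8 (f8 (f8 (f10 (f14 (q)))))))))))))))))))))) q)) = true := by decide +kernel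

theorem eq15_30 : allR 136200 4540 (fun q => Nat.beq (f15 q) ((fun q => f12 (f14 (f12 (f11 (f14 (f13 (f13 (f13 (f9 (f12 (f14 (f8 (f9 (f9 (f14 (f14 (f8 (f8 (f8 (f10 (f14 (q)))))))))))))))))))))) q)) = true := by decide +kernel

theorem eq15_31 : allR 140740 4540 (fun q => Nat.beq (f15 q) ((fun q => f12 (f14 (f12 (f11 (f14 (f13 (f13 (f13 (f9 (f12 (f14 (f8 (f9 (f9 (f14 (f14 (f8 (f8 (f8 (f10 (f14 (q)))))))))))))))))))))) q)) = true := by decide +kernel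

theorem eq15_32 : allR 145280 4540 (fun q => Nat.beq (f15 q) ((fun q => f12 (f14 (f12 (f11 (f14 (f13 (f13 (f13 (f9 (f12 (f14 (f8 (f9 (f9 (f14 (f14 (f8 (f8 (f8 (f10 (f14 (q)))))))))))))))))))))) q)) = true := by decide +kernel

theorem eq15_33 : allR 149820 4540 (fun q => Nat.beq (f15 q) ((fun q => f12 (f14 (f12 (f11 (f14 (f13 (f13 (f13 (f9 (f12 (f14 (f8 (f9 (f9 (f14 (f14 (f8 (f8 (f8 (f10 (f14 (q)))))))))))))))))))))) q)) = true := by decide +kernel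

theorem eq15_34 : allR 154360 4540 (fun q => Nat.beq (f15 q) ((fun q => f12 (f14 (f12 (f11 (f14 (f13 (f13 (f13 (f9 (f12 (f14 (f8 (f9 (f9 (f14 (f14 (f8 (f8 (f8 (f10 (f14 (q)))))))))))))))))))))) q)) = true := by decide +kernel

theorem eq15_35 : allR 158900 4540 (fun q => Nat.beq (f15 q) ((fun q => f12 (f14 (f12 (f11 (f14 (f13 (f13 (f13 (f9 (f12 (f14 (f8 (f9 (f9 (f14 (f14 (f8 (f8 (f8 (f10 (f14 (q)))))))))))))))))))))) q)) = true := by decide +kernel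

theorem eq15_36 : allR 163440 4540 (fun q => Nat.beq (f15 q) ((fun q => f12 (f14 (f12 (f11 (f14 (f13 (f13 (f13 (f9 (f12 (f14 (f8 (f9 (f9 (f14 (f14 (f8 (f8 (f8 (f10 (f14 (q)))))))))))))))))))))) q)) = true := by decide +kernel

theorem eq15_37 : allR 167980 4540 (fun q => Nat.beq (f15 q) ((fun q => f12 (f14 (f12 (f11 (f14 (f13 (f13 (f13 (f9 (f12 (f14 (f8 (f9 (f9 (f14 (f14 (f8 (f8 (f8 (f10 (f14 (q)))))))))))))))))))))) q)) = true := by decide +kernel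

theorem eq15_38 : allR 172520 4540 (fun q => Nat.beq (f15 q) ((fun q => f12 (f14 (f12 (f11 (f14 (f13 (f13 (f13 (f9 (f12 (f14 (f8 (f9 (f9 (f14 (f14 (f8 (f8 (f8 (f10 (f14 (q)))))))))))))))))))))) q)) = true := by decide +kernel

theorem eq15_39 : allR 177060 4540 (fun q => Nat.beq (f15 q) ((fun q => f12 (f14 (f12 (f11 (f14 (f13 (f13 (f13 (f9 (f12 (f14 (f8 (f9 (f9 (f14 (f14 (f8 (f8 (f8 (f10 (f14 (q)))))))))))))))))))))) q)) = true := by decide +kernel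

theorem eq15_40 : allR 181600 4540 (fun q => Nat.beq (f15 q) ((fun q => f12 (f14 (f12 (f11 (f14 (f13 (f13 (f13 (f9 (f12 (f14 (f8 (f9 (f9 (f14 (f14 (f8 (f8 (f8 (f10 (f14 (q)))))))))))))))))))))) q)) = true := by decide +kernel

theorem eq15_41 : allR 186140 4540 (fun q => Nat.beq (f15 q) ((fun q => f12 (f14 (f12 (f11 (f14 (f13 (f13 (f13 (f9 (f12 (f14 (f8 (f9 (f9 (f14 (f14 (f8 (f8 (f8 (f10 (f14 (q)))))))))))))))))))))) q)) = true := by decide +kernel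

theorem eq15_42 : allR 190680 4540 (fun q => Nat.beq (f15 q) ((fun q => f12 (f14 (f12 (f11 (f14 (f13 (f13 (f13 (f9 (f12 (f14 (f8 (f9 (f9 (f14 (f14 (f8 (f8 (f8 (f10 (f14 (q)))))))))))))))))))))) q)) = true := by decide +kernel

theorem eq15_43 : allR 195220 4540 (fun q => Nat.beq (f15 q) ((fun q => f12 (f14 (f12 (f11 (f14 (f13 (f13 (f13 (f9 (f12 (f14 (f8 (f9 (f9 (f14 (f14 (f8 (f8 (f8 (f10 (f14 (q)))))))))))))))))))))) q)) = true := by decide +kernel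

theorem eq15_44 : allR 199760 4540 (fun q => Nat.beq (f15 q) ((fun q => f12 (f14 (f12 (f11 (f14 (f13 (f13 (f13 (f9 (f12 (f14 (f8 (f9 (f9 (f14 (f14 (f8 (f8 (f8 (f10 (f14 (q)))))))))))))))))))))) q)) = true := by decide +kernel

theorem eq15_45 : allR 204300 4540 (fun q => Nat.beq (f15 q) ((fun q => f12 (f14 (f12 (f11 (f14 (f13 (f13 (f13 (f9 (f12 (f14 (f8 (f9 (f9 (f14 (f14 (f8 (f8 (f8 (f10 (f14 (q)))))))))))))))))))))) q)) = true := by decide +kernel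

theorem eq15_46 : allR 208840 4540 (fun q => Nat.beq (f15 q) ((fun q => f12 (f14 (f12 (f11 (f14 (f13 (f13 (f13 (f9 (f12 (f14 (f8 (f9 (f9 (f14 (f14 (f8 (f8 (f8 (f10 (f14 (q)))))))))))))))))))))) q)) = true := by decide +kernel

theorem eq15_47 : allR 213380 4540 (fun q => Nat.beq (f15 q) ((fun q => f12 (f14 (f12 (f11 (f14 (f13 (f13 (f13 (f9 (f12 (f14 (f8 (f9 (f9 (f14 (f14 (f8 (f8 (f8 (f10 (f14 (q)))))))))))))))))))))) q)) = true := by decide +kernel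

theorem eq15_48 : allR 217920 4540 (fun q => Nat.beq (f15 q) ((fun q => f12 (f14 (f12 (f11 (f14 (f13 (f13 (f13 (f9 (f12 (f14 (f8 (f9 (f9 (f14 (f14 (f8 (f8 (f8 (f10 (f14 (q)))))))))))))))))))))) q)) = true := by decide +kernel

theorem eq15_49 : allR 222460 4540 (fun q => Nat.beq (f15 q) ((fun q => f12 (f14 (f12 (f11 (f14 (f13 (f13 (f13 (f9 (f12 (f14 (f8 (f9 (f9 (f14 (f14 (f8 (f8 (f8 (f10 (f14 (q)))))))))))))))))))))) q)) = true := by decide +kernel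


end Cfsg.Agent.HNOut
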