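import Cfsg.Agent.Lib.Lead.HNOut.D15

/-! # The outer automorphism group of the Harada–Norton group: the check of the table of the element number 15 (generated) -/

set_option autoImplicit false
set_option maxRecDepth 100000

namespace Cfsg.Agent.HNOut

open Cfsg.Agent.PF Cfsg.Agent.Lib.Helper6 Cfsg.Agent.Lib.Helper6.TC Cfsg.Agent.Lib.Helper6.NatArr
open Cfsg.Agent.PL (Acts evalF)

theorem eq15_250 : allR 1135000 4540 (fun q => Nat.beq (f15 q) ((fun q => f12 (f14 (f12 (f11 (f14 (f13 (f13 (f13 (f9 (f12 (f14 (f8 (f9 (f9 (f14 (f14 (f8 (f8 (f8 (f10 (f14 (q)))))))))))))))))))))) q)) = true := by decide +kernel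

theorem eq15_251 : allR 1139540 4540 (fun q => Nat.beq (f15 q) ((fun q => f12 (f14 (f12 (f11 (f14 (f13 (f13 (f13 (f9 (f12 (f14 (f8 (f9 (f9 (f14 (f14 (f8 (f8 (f8 (f10 (f14 (q)))))))))))))))))))))) q)) = true := by decide +kernel

theorem eq15_252 : allR 1144080 4540 (fun q => Nat.beq (f15 q) ((fun q => f12 (f14 (f12 (f11 (f14 (f13 (f13 (f13 (f9 (f12 (f14 (f8 (f9 (f9 (f14 (f14 (f8 (f8 (f8 (f10 (f14 (q)))))))))))))))))))))) q)) = true := by decide +kernel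

theorem eq15_253 : allR 1148620 4540 (fun q => Nat.beq (f15 q) ((fun q => f12 (f14 (f12 (f11 (f14 (f13 (f13 (f13 (f9 (f12 (f14 (f8 (f9 (f9 (f14 (f14 (f8 (f8 (f8 (f10 (f14 (q)))))))))))))))))))))) q)) = true := by decide +kernel

theorem eq15_254 : allR 1153160 4540 (fun q => Nat.beq (f15 q) ((fun q => f12 (f14 (f12 (f11 (f14 (f13 (f13 (f13 (f9 (f12 (f14 (f8 (f9 (f9 (f14 (f14 (f8 (f8 (f8 (f10 (f14 (q)))))))))))))))))))))) q)) = true := by decide +kernel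

theorem eq15_255 : allR 1157700 4540 (fun q => Nat.beq (f15 q) ((fun q => f12 (f14 (f12 (f11 (f14 (f13 (f13 (f13 (f9 (f12 (f14 (f8 (f9 (f9 (f14 (f14 (f8 (f8 (f8 (f10 (f14 (q)))))))))))))))))))))) q)) = true := by decide +kernel

theorem eq15_256 : allR 1162240 4540 (fun q => Nat.beq (f15 q) ((fun q => f12 (f14 (f12 (f11 (f14 (f13 (f13 (f13 (f9 (f12 (f14 (f8 (f9 (f9 (f14 (f14 (f8 (f8 (f8 (f10 (f14 (q)))))))))))))))))))))) q)) = true := by decide +kernel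

theorem eq15_257 : allR 1166780 4540 (fun q => Nat.beq (f15 q) ((fun q => f12 (f14 (f12 (f11 (f14 (f13 (f13 (f13 (f9 (f12 (f14 (f8 (f9 (f9 (f14 (f14 (f8 (f8 (f8 (f10 (f14 (q)))))))))))))))))))))) q)) = true := by decide +kernel

theorem eq15_258 : allR 1171320 4540 (fun q => Nat.beq (f15 q) ((fun q => f12 (f14 (f12 (f11 (f14 (f13 (f13 (f13 (f9 (f12 (f14 (f8 (f9 (f9 (f14 (f14 (f8 (f8 (f8 (f10 (f14 (q)))))))))))))))))))))) q)) = true := by decide +kernel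

theorem eq15_259 : allR 1175860 4540 (fun q => Nat.beq (f15 q) ((fun q => f12 (f14 (f12 (f11 (f14 (f13 (f13 (f13 (f9 (f12 (f14 (f8 (f9 (f9 (f14 (f14 (f8 (f8 (f8 (f10 (f14 (q)))))))))))))))))))))) q)) = true := by decide +kernel

theorem eq15_260 : allR 1180400 4540 (fun q => Nat.beq (f15 q) ((fun q => f12 (f14 (f12 (f11 (f14 (f13 (f13 (f13 (f9 (f12 (f14 (f8 (f9 (f9 (f14 (f14 (f8 (f8 (f8 (f10 (f14 (q)))))))))))))))))))))) q)) = true := by decide +kernel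

theorem eq15_261 : allR 1184940 4540 (fun q => Nat.beq (f15 q) ((fun q => f12 (f14 (f12 (f11 (f14 (f13 (f13 (f13 (f9 (f12 (f14 (f8 (f9 (f9 (f14 (f14 (f8 (f8 (f8 (f10 (f14 (q)))))))))))))))))))))) q)) = true := by decide +kernel

theorem eq15_262 : allR 1189480 4540 (fun q => Nat.beq (f15 q) ((fun q => f12 (f14 (f12 (f11 (f14 (f13 (f13 (f13 (f9 (f12 (f14 (f8 (f9 (f9 (f14 (f14 (f8 (f8 (f8 (f10 (f14 (q)))))))))))))))))))))) q)) = true := by decide +kernel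

theorem eq15_263 : allR 1194020 4540 (fun q => Nat.beq (f15 q) ((fun q => f12 (f14 (f12 (f11 (f14 (f13 (f13 (f13 (f9 (f12 (f14 (f8 (f9 (f9 (f14 (f14 (f8 (f8 (f8 (f10 (f14 (q)))))))))))))))))))))) q)) = true := by decide +kernel

theorem eq15_264 : allR 1198560 4540 (fun q => Nat.beq (f15 q) ((fun q => f12 (f14 (f12 (f11 (f14 (f13 (f13 (f13 (f9 (f12 (f14 (f8 (f9 (f9 (f14 (f14 (f8 (f8 (f8 (f10 (f14 (q)))))))))))))))))))))) q)) = true := by decide +kernel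

theorem eq15_265 : allR 1203100 4540 (fun q => Nat.beq (f15 q) ((fun q => f12 (f14 (f12 (f11 (f14 (f13 (f13 (f13 (f9 (f12 (f14 (f8 (f9 (f9 (f14 (f14 (f8 (f8 (f8 (f10 (f14 (q)))))))))))))))))))))) q)) = true := by decide +kernel

theorem eq15_266 : allR 1207640 4540 (fun q => Nat.beq (f15 q) ((fun q => f12 (f14 (f12 (f11 (f14 (f13 (f13 (f13 (f9 (f12 (f14 (f8 (f9 (f9 (f14 (f14 (f8 (f8 (f8 (f10 (f14 (q)))))))))))))))))))))) q)) = true := by decide +kernel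

theorem eq15_267 : allR 1212180 4540 (fun q => Nat.beq (f15 q) ((fun q => f12 (f14 (f12 (f11 (f14 (f13 (f13 (f13 (f9 (f12 (f14 (f8 (f9 (f9 (f14 (f14 (f8 (f8 (f8 (f10 (f14 (q)))))))))))))))))))))) q)) = true := by decide +kernel

theorem eq15_268 : allR 1216720 4540 (fun q => Nat.beq (f15 q) ((fun q => f12 (f14 (f12 (f11 (f14 (f13 (f13 (f13 (f9 (f12 (f14 (f8 (f9 (f9 (f14 (f14 (f8 (f8 (f8 (f10 (f14 (q)))))))))))))))))))))) q)) = true := by decide +kernel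

theorem eq15_269 : allR 1221260 4540 (fun q => Nat.beq (f15 q) ((fun q => f12 (f14 (f12 (f11 (f14 (f13 (f13 (f13 (f9 (f12 (f14 (f8 (f9 (f9 (f14 (f14 (f8 (f8 (f8 (f10 (f14 (q)))))))))))))))))))))) q)) = true := by decide +kernel

theorem eq15_270 : allR 1225800 4540 (fun q => Nat.beq (f15 q) ((fun q => f12 (f14 (f12 (f11 (f14 (f13 (f13 (f13 (f9 (f12 (f14 (f8 (f9 (f9 (f14 (f14 (f8 (f8 (f8 (f10 (f14 (q)))))))))))))))))))))) q)) = true := by decide +kernel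

theorem eq15_271 : allR 1230340 4540 (fun q => Nat.beq (f15 q) ((fun q => f12 (f14 (f12 (f11 (f14 (f13 (f13 (f13 (f9 (f12 (f14 (f8 (f9 (f9 (f14 (f14 (f8 (f8 (f8 (f10 (f14 (q)))))))))))))))))))))) q)) = true := by decide +kernel

theorem eq15_272 : allR 1234880 4540 (fun q => Nat.beq (f15 q) ((fun q => f12 (f14 (f12 (f11 (f14 (f13 (f13 (f13 (f9 (f12 (f14 (f8 (f9 (f9 (f14 (f14 (f8 (f8 (f8 (f10 (f14 (q)))))))))))))))))))))) q)) = true := by decide +kernel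

theorem eq15_273 : allR 1239420 4540 (fun q => Nat.beq (f15 q) ((fun q => f12 (f14 (f12 (f11 (f14 (f13 (f13 (f13 (f9 (f12 (f14 (f8 (f9 (f9 (f14 (f14 (f8 (f8 (f8 (f10 (f14 (q)))))))))))))))))))))) q)) = true := by decide +kernel

theorem eq15_274 : allR 1243960 4540 (fun q => Nat.beq (f15 q) ((fun q => f12 (f14 (f12 (f11 (f14 (f13 (f13 (f13 (f9 (f12 (f14 (f8 (f9 (f9 (f14 (f14 (f8 (f8 (f8 (f10 (f14 (q)))))))))))))))))))))) q)) = true := by decide +kernel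


end Cfsg.Agent.HNOut
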