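import Cfsg.Agent.Lib.Lead.HNOut.D15

/-! # The outer automorphism group of the Harada–Norton group: the check of the table of the element number 15 (generated) -/

set_option autoImplicit false
set_option maxRecDepth 100000

namespace Cfsg.Agent.HNOut

open Cfsg.Agent.PF Cfsg.Agent.Lib.Helper6 Cfsg.Agent.Lib.Helper6.TC Cfsg.Agent.Lib.Helper6.NatArr
open Cfsg.Agent.PL (Acts evalF)

theorem eq15_275 : allR 1248500 4540 (fun q => Nat.beq (f15 q) ((fun q => f12 (f14 (f12 (f11 (f14 (f13 (f13 (f13 (f9 (f12 (f14 (f8 (f9 (f9 (f14 (f14 (f8 (f8 (f8 (f10 (f14 (q)))))))))))))))))))))) q)) = true := by decide +kernel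

theorem eq15_276 : allR 1253040 4540 (fun q => Nat.beq (f15 q) ((fun q => f12 (f14 (f12 (f11 (f14 (f13 (f13 (f13 (f9 (f12 (f14 (f8 (f9 (f9 (f14 (f14 (f8 (f8 (f8 (f10 (f14 (q)))))))))))))))))))))) q)) = true := by decide +kernel

theorem eq15_277 : allR 1257580 4540 (fun q => Nat.beq (f15 q) ((fun q => f12 (f14 (f12 (f11 (f14 (f13 (f13 (f13 (f9 (f12 (f14 (f8 (f9 (f9 (f14 (f14 (f8 (f8 (f8 (f10 (f14 (q)))))))))))))))))))))) q)) = true := by decide +kernel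

theorem eq15_278 : allR 1262120 4540 (fun q => Nat.beq (f15 q) ((fun q => f12 (f14 (f12 (f11 (f14 (f13 (f13 (f13 (f9 (f12 (f14 (f8 (f9 (f9 (f14 (f14 (f8 (f8 (f8 (f10 (f14 (q)))))))))))))))))))))) q)) = true := by decide +kernel

theorem eq15_279 : allR 1266660 4540 (fun q => Nat.beq (f15 q) ((fun q => f12 (f14 (f12 (f11 (f14 (f13 (f13 (f13 (f9 (f12 (f14 (f8 (f9 (f9 (f14 (f14 (f8 (f8 (f8 (f10 (f14 (q)))))))))))))))))))))) q)) = true := by decide +kernel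

theorem eq15_280 : allR 1271200 4540 (fun q => Nat.beq (f15 q) ((fun q => f12 (f14 (f12 (f11 (f14 (f13 (f13 (f13 (f9 (f12 (f14 (f8 (f9 (f9 (f14 (f14 (f8 (f8 (f8 (f10 (f14 (q)))))))))))))))))))))) q)) = true := by decide +kernel

theorem eq15_281 : allR 1275740 4540 (fun q => Nat.beq (f15 q) ((fun q => f12 (f14 (f12 (f11 (f14 (f13 (f13 (f13 (f9 (f12 (f14 (f8 (f9 (f9 (f14 (f14 (f8 (f8 (f8 (f10 (f14 (q)))))))))))))))))))))) q)) = true := by decide +kernel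

theorem eq15_282 : allR 1280280 4540 (fun q => Nat.beq (f15 q) ((fun q => f12 (f14 (f12 (f11 (f14 (f13 (f13 (f13 (f9 (f12 (f14 (f8 (f9 (f9 (f14 (f14 (f8 (f8 (f8 (f10 (f14 (q)))))))))))))))))))))) q)) = true := by decide +kernel

theorem eq15_283 : allR 1284820 4540 (fun q => Nat.beq (f15 q) ((fun q => f12 (f14 (f12 (f11 (f14 (f13 (f13 (f13 (f9 (f12 (f14 (f8 (f9 (f9 (f14 (f14 (f8 (f8 (f8 (f10 (f14 (q)))))))))))))))))))))) q)) = true := by decide +kernel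

theorem eq15_284 : allR 1289360 4540 (fun q => Nat.beq (f15 q) ((fun q => f12 (f14 (f12 (f11 (f14 (f13 (f13 (f13 (f9 (f12 (f14 (f8 (f9 (f9 (f14 (f14 (f8 (f8 (f8 (f10 (f14 (q)))))))))))))))))))))) q)) = true := by decide +kernel

theorem eq15_285 : allR 1293900 4540 (fun q => Nat.beq (f15 q) ((fun q => f12 (f14 (f12 (f11 (f14 (f13 (f13 (f13 (f9 (f12 (f14 (f8 (f9 (f9 (f14 (f14 (f8 (f8 (f8 (f10 (f14 (q)))))))))))))))))))))) q)) = true := by decide +kernel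

theorem eq15_286 : allR 1298440 4540 (fun q => Nat.beq (f15 q) ((fun q => f12 (f14 (f12 (f11 (f14 (f13 (f13 (f13 (f9 (f12 (f14 (f8 (f9 (f9 (f14 (f14 (f8 (f8 (f8 (f10 (f14 (q)))))))))))))))))))))) q)) = true := by decide +kernel

theorem eq15_287 : allR 1302980 4540 (fun q => Nat.beq (f15 q) ((fun q => f12 (f14 (f12 (f11 (f14 (f13 (f13 (f13 (f9 (f12 (f14 (f8 (f9 (f9 (f14 (f14 (f8 (f8 (f8 (f10 (f14 (q)))))))))))))))))))))) q)) = true := by decide +kernel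

theorem eq15_288 : allR 1307520 4540 (fun q => Nat.beq (f15 q) ((fun q => f12 (f14 (f12 (f11 (f14 (f13 (f13 (f13 (f9 (f12 (f14 (f8 (f9 (f9 (f14 (f14 (f8 (f8 (f8 (f10 (f14 (q)))))))))))))))))))))) q)) = true := by decide +kernel

theorem eq15_289 : allR 1312060 4540 (fun q => Nat.beq (f15 q) ((fun q => f12 (f14 (f12 (f11 (f14 (f13 (f13 (f13 (f9 (f12 (f14 (f8 (f9 (f9 (f14 (f14 (f8 (f8 (f8 (f10 (f14 (q)))))))))))))))))))))) q)) = true := by decide +kernel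

theorem eq15_290 : allR 1316600 4540 (fun q => Nat.beq (f15 q) ((fun q => f12 (f14 (f12 (f11 (f14 (f13 (f13 (f13 (f9 (f12 (f14 (f8 (f9 (f9 (f14 (f14 (f8 (f8 (f8 (f10 (f14 (q)))))))))))))))))))))) q)) = true := by decide +kernel

theorem eq15_291 : allR 1321140 4540 (fun q => Nat.beq (f15 q) ((fun q => f12 (f14 (f12 (f11 (f14 (f13 (f13 (f13 (f9 (f12 (f14 (f8 (f9 (f9 (f14 (f14 (f8 (f8 (f8 (f10 (f14 (q)))))))))))))))))))))) q)) = true := by decide +kernel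

theorem eq15_292 : allR 1325680 4540 (fun q => Nat.beq (f15 q) ((fun q => f12 (f14 (f12 (f11 (f14 (f13 (f13 (f13 (f9 (f12 (f14 (f8 (f9 (f9 (f14 (f14 (f8 (f8 (f8 (f10 (f14 (q)))))))))))))))))))))) q)) = true := by decide +kernel

theorem eq15_293 : allR 1330220 4540 (fun q => Nat.beq (f15 q) ((fun q => f12 (f14 (f12 (f11 (f14 (f13 (f13 (f13 (f9 (f12 (f14 (f8 (f9 (f9 (f14 (f14 (f8 (f8 (f8 (f10 (f14 (q)))))))))))))))))))))) q)) = true := by decide +kernel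

theorem eq15_294 : allR 1334760 4540 (fun q => Nat.beq (f15 q) ((fun q => f12 (f14 (f12 (f11 (f14 (f13 (f13 (f13 (f9 (f12 (f14 (f8 (f9 (f9 (f14 (f14 (f8 (f8 (f8 (f10 (f14 (q)))))))))))))))))))))) q)) = true := by decide +kernel

theorem eq15_295 : allR 1339300 4540 (fun q => Nat.beq (f15 q) ((fun q => f12 (f14 (f12 (f11 (f14 (f13 (f13 (f13 (f9 (f12 (f14 (f8 (f9 (f9 (f14 (f14 (f8 (f8 (f8 (f10 (f14 (q)))))))))))))))))))))) q)) = true := by decide +kernel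

theorem eq15_296 : allR 1343840 4540 (fun q => Nat.beq (f15 q) ((fun q => f12 (f14 (f12 (f11 (f14 (f13 (f13 (f13 (f9 (f12 (f14 (f8 (f9 (f9 (f14 (f14 (f8 (f8 (f8 (f10 (f14 (q)))))))))))))))))))))) q)) = true := by decide +kernel

theorem eq15_297 : allR 1348380 4540 (fun q => Nat.beq (f15 q) ((fun q => f12 (f14 (f12 (f11 (f14 (f13 (f13 (f13 (f9 (f12 (f14 (f8 (f9 (f9 (f14 (f14 (f8 (f8 (f8 (f10 (f14 (q)))))))))))))))))))))) q)) = true := by decide +kernel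

theorem eq15_298 : allR 1352920 4540 (fun q => Nat.beq (f15 q) ((fun q => f12 (f14 (f12 (f11 (f14 (f13 (f13 (f13 (f9 (f12 (f14 (f8 (f9 (f9 (f14 (f14 (f8 (f8 (f8 (f10 (f14 (q)))))))))))))))))))))) q)) = true := by decide +kernel

theorem eq15_299 : allR 1357460 4540 (fun q => Nat.beq (f15 q) ((fun q => f12 (f14 (f12 (f11 (f14 (f13 (f13 (f13 (f9 (f12 (f14 (f8 (f9 (f9 (f14 (f14 (f8 (f8 (f8 (f10 (f14 (q)))))))))))))))))))))) q)) = true := by decide +kernel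


end Cfsg.Agent.HNOut
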