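import Cfsg.Agent.Lib.Lead.HNOut.D15

/-! # The outer automorphism group of the Harada–Norton group: the check of the table of the element number 15 (generated) -/

set_option autoImplicit false
set_option maxRecDepth 100000

namespace Cfsg.Agent.HNOut

open Cfsg.Agent.PF Cfsg.Agent.Lib.Helper6 Cfsg.Agent.Lib.Helper6.TC Cfsg.Agent.Lib.Helper6.NatArr
open Cfsg.Agent.PL (Acts evalF)

theorem eq15_300 : allR 1362000 4540 (fun q => Nat.beq (f15 q) ((fun q => f12 (f14 (f12 (f11 (f14 (f13 (f13 (f13 (f9 (f12 (f14 (f8 (f9 (f9 (f14 (f14 (f8 (f8 (f8 (f10 (f14 (q)))))))))))))))))))))) q)) = true := by decide +kernel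

theorem eq15_301 : allR 1366540 4540 (fun q => Nat.beq (f15 q) ((fun q => f12 (f14 (f12 (f11 (f14 (f13 (f13 (f13 (f9 (f12 (f14 (f8 (f9 (f9 (f14 (f14 (f8 (f8 (f8 (f10 (f14 (q)))))))))))))))))))))) q)) = true := by decide +kernel

theorem eq15_302 : allR 1371080 4540 (fun q => Nat.beq (f15 q) ((fun q => f12 (f14 (f12 (f11 (f14 (f13 (f13 (f13 (f9 (f12 (f14 (f8 (f9 (f9 (f14 (f14 (f8 (f8 (f8 (f10 (f14 (q)))))))))))))))))))))) q)) = true := by decide +kernel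

theorem eq15_303 : allR 1375620 4540 (fun q => Nat.beq (f15 q) ((fun q => f12 (f14 (f12 (f11 (f14 (f13 (f13 (f13 (f9 (f12 (f14 (f8 (f9 (f9 (f14 (f14 (f8 (f8 (f8 (f10 (f14 (q)))))))))))))))))))))) q)) = true := by decide +kernel

theorem eq15_304 : allR 1380160 4540 (fun q => Nat.beq (f15 q) ((fun q => f12 (f14 (f12 (f11 (f14 (f13 (f13 (f13 (f9 (f12 (f14 (f8 (f9 (f9 (f14 (f14 (f8 (f8 (f8 (f10 (f14 (q)))))))))))))))))))))) q)) = true := by decide +kernel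

theorem eq15_305 : allR 1384700 4540 (fun q => Nat.beq (f15 q) ((fun q => f12 (f14 (f12 (f11 (f14 (f13 (f13 (f13 (f9 (f12 (f14 (f8 (f9 (f9 (f14 (f14 (f8 (f8 (f8 (f10 (f14 (q)))))))))))))))))))))) q)) = true := by decide +kernel

theorem eq15_306 : allR 1389240 4540 (fun q => Nat.beq (f15 q) ((fun q => f12 (f14 (f12 (f11 (f14 (f13 (f13 (f13 (f9 (f12 (f14 (f8 (f9 (f9 (f14 (f14 (f8 (f8 (f8 (f10 (f14 (q)))))))))))))))))))))) q)) = true := by decide +kernel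

theorem eq15_307 : allR 1393780 4540 (fun q => Nat.beq (f15 q) ((fun q => f12 (f14 (f12 (f11 (f14 (f13 (f13 (f13 (f9 (f12 (f14 (f8 (f9 (f9 (f14 (f14 (f8 (f8 (f8 (f10 (f14 (q)))))))))))))))))))))) q)) = true := by decide +kernel

theorem eq15_308 : allR 1398320 4540 (fun q => Nat.beq (f15 q) ((fun q => f12 (f14 (f12 (f11 (f14 (f13 (f13 (f13 (f9 (f12 (f14 (f8 (f9 (f9 (f14 (f14 (f8 (f8 (f8 (f10 (f14 (q)))))))))))))))))))))) q)) = true := by decide +kernel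

theorem eq15_309 : allR 1402860 4540 (fun q => Nat.beq (f15 q) ((fun q => f12 (f14 (f12 (f11 (f14 (f13 (f13 (f13 (f9 (f12 (f14 (f8 (f9 (f9 (f14 (f14 (f8 (f8 (f8 (f10 (f14 (q)))))))))))))))))))))) q)) = true := by decide +kernel

theorem eq15_310 : allR 1407400 4540 (fun q => Nat.beq (f15 q) ((fun q => f12 (f14 (f12 (f11 (f14 (f13 (f13 (f13 (f9 (f12 (f14 (f8 (f9 (f9 (f14 (f14 (f8 (f8 (f8 (f10 (f14 (q)))))))))))))))))))))) q)) = true := by decide +kernel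

theorem eq15_311 : allR 1411940 4540 (fun q => Nat.beq (f15 q) ((fun q => f12 (f14 (f12 (f11 (f14 (f13 (f13 (f13 (f9 (f12 (f14 (f8 (f9 (f9 (f14 (f14 (f8 (f8 (f8 (f10 (f14 (q)))))))))))))))))))))) q)) = true := by decide +kernel

theorem eq15_312 : allR 1416480 4540 (fun q => Nat.beq (f15 q) ((fun q => f12 (f14 (f12 (f11 (f14 (f13 (f13 (f13 (f9 (f12 (f14 (f8 (f9 (f9 (f14 (f14 (f8 (f8 (f8 (f10 (f14 (q)))))))))))))))))))))) q)) = true := by decide +kernel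

theorem eq15_313 : allR 1421020 4540 (fun q => Nat.beq (f15 q) ((fun q => f12 (f14 (f12 (f11 (f14 (f13 (f13 (f13 (f9 (f12 (f14 (f8 (f9 (f9 (f14 (f14 (f8 (f8 (f8 (f10 (f14 (q)))))))))))))))))))))) q)) = true := by decide +kernel

theorem eq15_314 : allR 1425560 4540 (fun q => Nat.beq (f15 q) ((fun q => f12 (f14 (f12 (f11 (f14 (f13 (f13 (f13 (f9 (f12 (f14 (f8 (f9 (f9 (f14 (f14 (f8 (f8 (f8 (f10 (f14 (q)))))))))))))))))))))) q)) = true := by decide +kernel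

theorem eq15_315 : allR 1430100 4540 (fun q => Nat.beq (f15 q) ((fun q => f12 (f14 (f12 (f11 (f14 (f13 (f13 (f13 (f9 (f12 (f14 (f8 (f9 (f9 (f14 (f14 (f8 (f8 (f8 (f10 (f14 (q)))))))))))))))))))))) q)) = true := by decide +kernel

theorem eq15_316 : allR 1434640 4540 (fun q => Nat.beq (f15 q) ((fun q => f12 (f14 (f12 (f11 (f14 (f13 (f13 (f13 (f9 (f12 (f14 (f8 (f9 (f9 (f14 (f14 (f8 (f8 (f8 (f10 (f14 (q)))))))))))))))))))))) q)) = true := by decide +kernel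

theorem eq15_317 : allR 1439180 4540 (fun q => Nat.beq (f15 q) ((fun q => f12 (f14 (f12 (f11 (f14 (f13 (f13 (f13 (f9 (f12 (f14 (f8 (f9 (f9 (f14 (f14 (f8 (f8 (f8 (f10 (f14 (q)))))))))))))))))))))) q)) = true := by decide +kernel

theorem eq15_318 : allR 1443720 4540 (fun q => Nat.beq (f15 q) ((fun q => f12 (f14 (f12 (f11 (f14 (f13 (f13 (f13 (f9 (f12 (f14 (f8 (f9 (f9 (f14 (f14 (f8 (f8 (f8 (f10 (f14 (q)))))))))))))))))))))) q)) = true := by decide +kernel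

theorem eq15_319 : allR 1448260 4540 (fun q => Nat.beq (f15 q) ((fun q => f12 (f14 (f12 (f11 (f14 (f13 (f13 (f13 (f9 (f12 (f14 (f8 (f9 (f9 (f14 (f14 (f8 (f8 (f8 (f10 (f14 (q)))))))))))))))))))))) q)) = true := by decide +kernel

theorem eq15_320 : allR 1452800 4540 (fun q => Nat.beq (f15 q) ((fun q => f12 (f14 (f12 (f11 (f14 (f13 (f13 (f13 (f9 (f12 (f14 (f8 (f9 (f9 (f14 (f14 (f8 (f8 (f8 (f10 (f14 (q)))))))))))))))))))))) q)) = true := by decide +kernel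

theorem eq15_321 : allR 1457340 4540 (fun q => Nat.beq (f15 q) ((fun q => f12 (f14 (f12 (f11 (f14 (f13 (f13 (f13 (f9 (f12 (f14 (f8 (f9 (f9 (f14 (f14 (f8 (f8 (f8 (f10 (f14 (q)))))))))))))))))))))) q)) = true := by decide +kernel

theorem eq15_322 : allR 1461880 4540 (fun q => Nat.beq (f15 q) ((fun q => f12 (f14 (f12 (f11 (f14 (f13 (f13 (f13 (f9 (f12 (f14 (f8 (f9 (f9 (f14 (f14 (f8 (f8 (f8 (f10 (f14 (q)))))))))))))))))))))) q)) = true := by decide +kernel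

theorem eq15_323 : allR 1466420 4540 (fun q => Nat.beq (f15 q) ((fun q => f12 (f14 (f12 (f11 (f14 (f13 (f13 (f13 (f9 (f12 (f14 (f8 (f9 (f9 (f14 (f14 (f8 (f8 (f8 (f10 (f14 (q)))))))))))))))))))))) q)) = true := by decide +kernel

theorem eq15_324 : allR 1470960 4540 (fun q => Nat.beq (f15 q) ((fun q => f12 (f14 (f12 (f11 (f14 (f13 (f13 (f13 (f9 (f12 (f14 (f8 (f9 (f9 (f14 (f14 (f8 (f8 (f8 (f10 (f14 (q)))))))))))))))))))))) q)) = true := by decide +kernel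


end Cfsg.Agent.HNOut
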