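import Cfsg.Agent.Lib.Lead.HNOut.D16

/-! # The outer automorphism group of the Harada–Norton group: the check of the table of the element number 16 (generated) -/

set_option autoImplicit false
set_option maxRecDepth 100000

namespace Cfsg.Agent.HNOut

open Cfsg.Agent.PF Cfsg.Agent.Lib.Helper6 Cfsg.Agent.Lib.Helper6.TC Cfsg.Agent.Lib.Helper6.NatArr
open Cfsg.Agent.PL (Acts evalF)

theorem eq16_0 : allR 0 6231 (fun q => Nat.beq (f16 q) ((fun q => f11 (f13 (f15 (f13 (f12 (f15 (f13 (f13 (f13 (f13 (f15 (f12 (f15 (f11 (f15 (q)))))))))))))))) q)) = true := by decide +kernel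

theorem eq16_1 : allR 6231 6231 (fun q => Nat.beq (f16 q) ((fun q => f11 (f13 (f15 (f13 (f12 (f15 (f13 (f13 (f13 (f13 (f15 (f12 (f15 (f11 (f15 (q)))))))))))))))) q)) = true := by decide +kernel

theorem eq16_2 : allR 12462 6231 (fun q => Nat.beq (f16 q) ((fun q => f11 (f13 (f15 (f13 (f12 (f15 (f13 (f13 (f13 (f13 (f15 (f12 (f15 (f11 (f15 (q)))))))))))))))) q)) = true := by decide +kernel

theorem eq16_3 : allR 18693 6231 (fun q => Nat.beq (f16 q) ((fun q => f11 (f13 (f15 (f13 (f12 (f15 (f13 (f13 (f13 (f13 (f15 (f12 (f15 (f11 (f15 (q)))))))))))))))) q)) = true := by decide +kernel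

theorem eq16_4 : allR 24924 6231 (fun q => Nat.beq (f16 q) ((fun q => f11 (f13 (f15 (f13 (f12 (f15 (f13 (f13 (f13 (f13 (f15 (f12 (f15 (f11 (f15 (q)))))))))))))))) q)) = true := by decide +kernel

theorem eq16_5 : allR 31155 6231 (fun q => Nat.beq (f16 q) ((fun q => f11 (f13 (f15 (f13 (f12 (f15 (f13 (f13 (f13 (f13 (f15 (f12 (f15 (f11 (f15 (q)))))))))))))))) q)) = true := by decide +kernel

theorem eq16_6 : allR 37386 6231 (fun q => Nat.beq (f16 q) ((fun q => f11 (f13 (f15 (f13 (f12 (f15 (f13 (f13 (f13 (f13 (f15 (f12 (f15 (f11 (f15 (q)))))))))))))))) q)) = true := by decide +kernel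

theorem eq16_7 : allR 43617 6231 (fun q => Nat.beq (f16 q) ((fun q => f11 (f13 (f15 (f13 (f12 (f15 (f13 (f13 (f13 (f13 (f15 (f12 (f15 (f11 (f15 (q)))))))))))))))) q)) = true := by decide +kernel

theorem eq16_8 : allR 49848 6231 (fun q => Nat.beq (f16 q) ((fun q => f11 (f13 (f15 (f13 (f12 (f15 (f13 (f13 (f13 (f13 (f15 (f12 (f15 (f11 (f15 (q)))))))))))))))) q)) = true := by decide +kernel

theorem eq16_9 : allR 56079 6231 (fun q => Nat.beq (f16 q) ((fun q => f11 (f13 (f15 (f13 (f12 (f15 (f13 (f13 (f13 (f13 (f15 (f12 (f15 (f11 (f15 (q)))))))))))))))) q)) = true := by decide +kernel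

theorem eq16_10 : allR 62310 6231 (fun q => Nat.beq (f16 q) ((fun q => f11 (f13 (f15 (f13 (f12 (f15 (f13 (f13 (f13 (f13 (f15 (f12 (f15 (f11 (f15 (q)))))))))))))))) q)) = true := by decide +kernel

theorem eq16_11 : allR 68541 6231 (fun q => Nat.beq (f16 q) ((fun q => f11 (f13 (f15 (f13 (f12 (f15 (f13 (f13 (f13 (f13 (f15 (f12 (f15 (f11 (f15 (q)))))))))))))))) q)) = true := by decide +kernel

theorem eq16_12 : allR 74772 6231 (fun q => Nat.beq (f16 q) ((fun q => f11 (f13 (f15 (f13 (f12 (f15 (f13 (f13 (f13 (f13 (f15 (f12 (f15 (f11 (f15 (q)))))))))))))))) q)) = true := by decide +kernel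

theorem eq16_13 : allR 81003 6231 (fun q => Nat.beq (f16 q) ((fun q => f11 (f13 (f15 (f13 (f12 (f15 (f13 (f13 (f13 (f13 (f15 (f12 (f15 (f11 (f15 (q)))))))))))))))) q)) = true := by decide +kernel

theorem eq16_14 : allR 87234 6231 (fun q => Nat.beq (f16 q) ((fun q => f11 (f13 (f15 (f13 (f12 (f15 (f13 (f13 (f13 (f13 (f15 (f12 (f15 (f11 (f15 (q)))))))))))))))) q)) = true := by decide +kernel

theorem eq16_15 : allR 93465 6231 (fun q => Nat.beq (f16 q) ((fun q => f11 (f13 (f15 (f13 (f12 (f15 (f13 (f13 (f13 (f13 (f15 (f12 (f15 (f11 (f15 (q)))))))))))))))) q)) = true := by decide +kernel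

theorem eq16_16 : allR 99696 6231 (fun q => Nat.beq (f16 q) ((fun q => f11 (f13 (f15 (f13 (f12 (f15 (f13 (f13 (f13 (f13 (f15 (f12 (f15 (f11 (f15 (q)))))))))))))))) q)) = true := by decide +kernel

theorem eq16_17 : allR 105927 6231 (fun q => Nat.beq (f16 q) ((fun q => f11 (f13 (f15 (f13 (f12 (f15 (f13 (f13 (f13 (f13 (f15 (f12 (f15 (f11 (f15 (q)))))))))))))))) q)) = true := by decide +kernel

theorem eq16_18 : allR 112158 6231 (fun q => Nat.beq (f16 q) ((fun q => f11 (f13 (f15 (f13 (f12 (f15 (f13 (f13 (f13 (f13 (f15 (f12 (f15 (f11 (f15 (q)))))))))))))))) q)) = true := by decide +kernel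

theorem eq16_19 : allR 118389 6231 (fun q => Nat.beq (f16 q) ((fun q => f11 (f13 (f15 (f13 (f12 (f15 (f13 (f13 (f13 (f13 (f15 (f12 (f15 (f11 (f15 (q)))))))))))))))) q)) = true := by decide +kernel

theorem eq16_20 : allR 124620 6231 (fun q => Nat.beq (f16 q) ((fun q => f11 (f13 (f15 (f13 (f12 (f15 (f13 (f13 (f13 (f13 (f15 (f12 (f15 (f11 (f15 (q)))))))))))))))) q)) = true := by decide +kernel

theorem eq16_21 : allR 130851 6231 (fun q => Nat.beq (f16 q) ((fun q => f11 (f13 (f15 (f13 (f12 (f15 (f13 (f13 (f13 (f13 (f15 (f12 (f15 (f11 (f15 (q)))))))))))))))) q)) = true := by decide +kernel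

theorem eq16_22 : allR 137082 6231 (fun q => Nat.beq (f16 q) ((fun q => f11 (f13 (f15 (f13 (f12 (f15 (f13 (f13 (f13 (f13 (f15 (f12 (f15 (f11 (f15 (q)))))))))))))))) q)) = true := by decide +kernel

theorem eq16_23 : allR 143313 6231 (fun q => Nat.beq (f16 q) ((fun q => f11 (f13 (f15 (f13 (f12 (f15 (f13 (f13 (f13 (f13 (f15 (f12 (f15 (f11 (f15 (q)))))))))))))))) q)) = true := by decide +kernel

theorem eq16_24 : allR 149544 6231 (fun q => Nat.beq (f16 q) ((fun q => f11 (f13 (f15 (f13 (f12 (f15 (f13 (f13 (f13 (f13 (f15 (f12 (f15 (f11 (f15 (q)))))))))))))))) q)) = true := by decide +kernel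


end Cfsg.Agent.HNOut
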