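import Cfsg.Agent.Lib.Lead.HNOut.D16

/-! # The outer automorphism group of the Harada–Norton group: the check of the table of the element number 16 (generated) -/

set_option autoImplicit false
set_option maxRecDepth 100000

namespace Cfsg.Agent.HNOut

open Cfsg.Agent.PF Cfsg.Agent.Lib.Helper6 Cfsg.Agent.Lib.Helper6.TC Cfsg.Agent.Lib.Helper6.NatArr
open Cfsg.Agent.PL (Acts evalF)

theorem eq16_25 : allR 155775 6231 (fun q => Nat.beq (f16 q) ((fun q => f11 (f13 (f15 (f13 (f12 (f15 (f13 (f13 (f13 (f13 (f15 (f12 (f15 (f11 (f15 (q)))))))))))))))) q)) = true := by decide +kernel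

theorem eq16_26 : allR 162006 6231 (fun q => Nat.beq (f16 q) ((fun q => f11 (f13 (f15 (f13 (f12 (f15 (f13 (f13 (f13 (f13 (f15 (f12 (f15 (f11 (f15 (q)))))))))))))))) q)) = true := by decide +kernel

theorem eq16_27 : allR 168237 6231 (fun q => Nat.beq (f16 q) ((fun q => f11 (f13 (f15 (f13 (f12 (f15 (f13 (f13 (f13 (f13 (f15 (f12 (f15 (f11 (f15 (q)))))))))))))))) q)) = true := by decide +kernel

theorem eq16_28 : allR 174468 6231 (fun q => Nat.beq (f16 q) ((fun q => f11 (f13 (f15 (f13 (f12 (f15 (f13 (f13 (f13 (f13 (f15 (f12 (f15 (f11 (f15 (q)))))))))))))))) q)) = true := by decide +kernel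

theorem eq16_29 : allR 180699 6231 (fun q => Nat.beq (f16 q) ((fun q => f11 (f13 (f15 (f13 (f12 (f15 (f13 (f13 (f13 (f13 (f15 (f12 (f15 (f11 (f15 (q)))))))))))))))) q)) = true := by decide +kernel

theorem eq16_30 : allR 186930 6231 (fun q => Nat.beq (f16 q) ((fun q => f11 (f13 (f15 (f13 (f12 (f15 (f13 (f13 (f13 (f13 (f15 (f12 (f15 (f11 (f15 (q)))))))))))))))) q)) = true := by decide +kernel

theorem eq16_31 : allR 193161 6231 (fun q => Nat.beq (f16 q) ((fun q => f11 (f13 (f15 (f13 (f12 (f15 (f13 (f13 (f13 (f13 (f15 (f12 (f15 (f11 (f15 (q)))))))))))))))) q)) = true := by decide +kernel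

theorem eq16_32 : allR 199392 6231 (fun q => Nat.beq (f16 q) ((fun q => f11 (f13 (f15 (f13 (f12 (f15 (f13 (f13 (f13 (f13 (f15 (f12 (f15 (f11 (f15 (q)))))))))))))))) q)) = true := by decide +kernel

theorem eq16_33 : allR 205623 6231 (fun q => Nat.beq (f16 q) ((fun q => f11 (f13 (f15 (f13 (f12 (f15 (f13 (f13 (f13 (f13 (f15 (f12 (f15 (f11 (f15 (q)))))))))))))))) q)) = true := by decide +kernel

theorem eq16_34 : allR 211854 6231 (fun q => Nat.beq (f16 q) ((fun q => f11 (f13 (f15 (f13 (f12 (f15 (f13 (f13 (f13 (f13 (f15 (f12 (f15 (f11 (f15 (q)))))))))))))))) q)) = true := by decide +kernel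

theorem eq16_35 : allR 218085 6231 (fun q => Nat.beq (f16 q) ((fun q => f11 (f13 (f15 (f13 (f12 (f15 (f13 (f13 (f13 (f13 (f15 (f12 (f15 (f11 (f15 (q)))))))))))))))) q)) = true := by decide +kernel

theorem eq16_36 : allR 224316 6231 (fun q => Nat.beq (f16 q) ((fun q => f11 (f13 (f15 (f13 (f12 (f15 (f13 (f13 (f13 (f13 (f15 (f12 (f15 (f11 (f15 (q)))))))))))))))) q)) = true := by decide +kernel

theorem eq16_37 : allR 230547 6231 (fun q => Nat.beq (f16 q) ((fun q => f11 (f13 (f15 (f13 (f12 (f15 (f13 (f13 (f13 (f13 (f15 (f12 (f15 (f11 (f15 (q)))))))))))))))) q)) = true := by decide +kernel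

theorem eq16_38 : allR 236778 6231 (fun q => Nat.beq (f16 q) ((fun q => f11 (f13 (f15 (f13 (f12 (f15 (f13 (f13 (f13 (f13 (f15 (f12 (f15 (f11 (f15 (q)))))))))))))))) q)) = true := by decide +kernel

theorem eq16_39 : allR 243009 6231 (fun q => Nat.beq (f16 q) ((fun q => f11 (f13 (f15 (f13 (f12 (f15 (f13 (f13 (f13 (f13 (f15 (f12 (f15 (f11 (f15 (q)))))))))))))))) q)) = true := by decide +kernel

theorem eq16_40 : allR 249240 6231 (fun q => Nat.beq (f16 q) ((fun q => f11 (f13 (f15 (f13 (f12 (f15 (f13 (f13 (f13 (f13 (f15 (f12 (f15 (f11 (f15 (q)))))))))))))))) q)) = true := by decide +kernel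

theorem eq16_41 : allR 255471 6231 (fun q => Nat.beq (f16 q) ((fun q => f11 (f13 (f15 (f13 (f12 (f15 (f13 (f13 (f13 (f13 (f15 (f12 (f15 (f11 (f15 (q)))))))))))))))) q)) = true := by decide +kernel

theorem eq16_42 : allR 261702 6231 (fun q => Nat.beq (f16 q) ((fun q => f11 (f13 (f15 (f13 (f12 (f15 (f13 (f13 (f13 (f13 (f15 (f12 (f15 (f11 (f15 (q)))))))))))))))) q)) = true := by decide +kernel

theorem eq16_43 : allR 267933 6231 (fun q => Nat.beq (f16 q) ((fun q => f11 (f13 (f15 (f13 (f12 (f15 (f13 (f13 (f13 (f13 (f15 (f12 (f15 (f11 (f15 (q)))))))))))))))) q)) = true := by decide +kernel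

theorem eq16_44 : allR 274164 6231 (fun q => Nat.beq (f16 q) ((fun q => f11 (f13 (f15 (f13 (f12 (f15 (f13 (f13 (f13 (f13 (f15 (f12 (f15 (f11 (f15 (q)))))))))))))))) q)) = true := by decide +kernel

theorem eq16_45 : allR 280395 6231 (fun q => Nat.beq (f16 q) ((fun q => f11 (f13 (f15 (f13 (f12 (f15 (f13 (f13 (f13 (f13 (f15 (f12 (f15 (f11 (f15 (q)))))))))))))))) q)) = true := by decide +kernel

theorem eq16_46 : allR 286626 6231 (fun q => Nat.beq (f16 q) ((fun q => f11 (f13 (f15 (f13 (f12 (f15 (f13 (f13 (f13 (f13 (f15 (f12 (f15 (f11 (f15 (q)))))))))))))))) q)) = true := by decide +kernel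

theorem eq16_47 : allR 292857 6231 (fun q => Nat.beq (f16 q) ((fun q => f11 (f13 (f15 (f13 (f12 (f15 (f13 (f13 (f13 (f13 (f15 (f12 (f15 (f11 (f15 (q)))))))))))))))) q)) = true := by decide +kernel

theorem eq16_48 : allR 299088 6231 (fun q => Nat.beq (f16 q) ((fun q => f11 (f13 (f15 (f13 (f12 (f15 (f13 (f13 (f13 (f13 (f15 (f12 (f15 (f11 (f15 (q)))))))))))))))) q)) = true := by decide +kernel

theorem eq16_49 : allR 305319 6231 (fun q => Nat.beq (f16 q) ((fun q => f11 (f13 (f15 (f13 (f12 (f15 (f13 (f13 (f13 (f13 (f15 (f12 (f15 (f11 (f15 (q)))))))))))))))) q)) = true := by decide +kernel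


end Cfsg.Agent.HNOut
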