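import Cfsg.Agent.Lib.Lead.HNOut.D17

/-! # The outer automorphism group of the Harada–Norton group: the check of the table of the element number 17 (generated) -/

set_option autoImplicit false
set_option maxRecDepth 100000

namespace Cfsg.Agent.HNOut

open Cfsg.Agent.PF Cfsg.Agent.Lib.Helper6 Cfsg.Agent.Lib.Helper6.TC Cfsg.Agent.Lib.Helper6.NatArr
open Cfsg.Agent.PL (Acts evalF)

theorem eq17_25 : allR 178125 7125 (fun q => Nat.beq (f17 q) ((fun q => f11 (f11 (f12 (f16 (f13 (f14 (f16 (f15 (f14 (f16 (f13 (f13 (f13 (q)))))))))))))) q)) = true := by decide +kernel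

theorem eq17_26 : allR 185250 7125 (fun q => Nat.beq (f17 q) ((fun q => f11 (f11 (f12 (f16 (f13 (f14 (f16 (f15 (f14 (f16 (f13 (f13 (f13 (q)))))))))))))) q)) = true := by decide +kernel

theorem eq17_27 : allR 192375 7125 (fun q => Nat.beq (f17 q) ((fun q => f11 (f11 (f12 (f16 (f13 (f14 (f16 (f15 (f14 (f16 (f13 (f13 (f13 (q)))))))))))))) q)) = true := by decide +kernel

theorem eq17_28 : allR 199500 7125 (fun q => Nat.beq (f17 q) ((fun q => f11 (f11 (f12 (f16 (f13 (f14 (f16 (f15 (f14 (f16 (f13 (f13 (f13 (q)))))))))))))) q)) = true := by decide +kernel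

theorem eq17_29 : allR 206625 7125 (fun q => Nat.beq (f17 q) ((fun q => f11 (f11 (f12 (f16 (f13 (f14 (f16 (f15 (f14 (f16 (f13 (f13 (f13 (q)))))))))))))) q)) = true := by decide +kernel

theorem eq17_30 : allR 213750 7125 (fun q => Nat.beq (f17 q) ((fun q => f11 (f11 (f12 (f16 (f13 (f14 (f16 (f15 (f14 (f16 (f13 (f13 (f13 (q)))))))))))))) q)) = true := by decide +kernel

theorem eq17_31 : allR 220875 7125 (fun q => Nat.beq (f17 q) ((fun q => f11 (f11 (f12 (f16 (f13 (f14 (f16 (f15 (f14 (f16 (f13 (f13 (f13 (q)))))))))))))) q)) = true := by decide +kernel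

theorem eq17_32 : allR 228000 7125 (fun q => Nat.beq (f17 q) ((fun q => f11 (f11 (f12 (f16 (f13 (f14 (f16 (f15 (f14 (f16 (f13 (f13 (f13 (q)))))))))))))) q)) = true := by decide +kernel

theorem eq17_33 : allR 235125 7125 (fun q => Nat.beq (f17 q) ((fun q => f11 (f11 (f12 (f16 (f13 (f14 (f16 (f15 (f14 (f16 (f13 (f13 (f13 (q)))))))))))))) q)) = true := by decide +kernel

theorem eq17_34 : allR 242250 7125 (fun q => Nat.beq (f17 q) ((fun q => f11 (f11 (f12 (f16 (f13 (f14 (f16 (f15 (f14 (f16 (f13 (f13 (f13 (q)))))))))))))) q)) = true := by decide +kernel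

theorem eq17_35 : allR 249375 7125 (fun q => Nat.beq (f17 q) ((fun q => f11 (f11 (f12 (f16 (f13 (f14 (f16 (f15 (f14 (f16 (f13 (f13 (f13 (q)))))))))))))) q)) = true := by decide +kernel

theorem eq17_36 : allR 256500 7125 (fun q => Nat.beq (f17 q) ((fun q => f11 (f11 (f12 (f16 (f13 (f14 (f16 (f15 (f14 (f16 (f13 (f13 (f13 (q)))))))))))))) q)) = true := by decide +kernel

theorem eq17_37 : allR 263625 7125 (fun q => Nat.beq (f17 q) ((fun q => f11 (f11 (f12 (f16 (f13 (f14 (f16 (f15 (f14 (f16 (f13 (f13 (f13 (q)))))))))))))) q)) = true := by decide +kernel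

theorem eq17_38 : allR 270750 7125 (fun q => Nat.beq (f17 q) ((fun q => f11 (f11 (f12 (f16 (f13 (f14 (f16 (f15 (f14 (f16 (f13 (f13 (f13 (q)))))))))))))) q)) = true := by decide +kernel

theorem eq17_39 : allR 277875 7125 (fun q => Nat.beq (f17 q) ((fun q => f11 (f11 (f12 (f16 (f13 (f14 (f16 (f15 (f14 (f16 (f13 (f13 (f13 (q)))))))))))))) q)) = true := by decide +kernel

theorem eq17_40 : allR 285000 7125 (fun q => Nat.beq (f17 q) ((fun q => f11 (f11 (f12 (f16 (f13 (f14 (f16 (f15 (f14 (f16 (f13 (f13 (f13 (q)))))))))))))) q)) = true := by decide +kernel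

theorem eq17_41 : allR 292125 7125 (fun q => Nat.beq (f17 q) ((fun q => f11 (f11 (f12 (f16 (f13 (f14 (f16 (f15 (f14 (f16 (f13 (f13 (f13 (q)))))))))))))) q)) = true := by decide +kernel

theorem eq17_42 : allR 299250 7125 (fun q => Nat.beq (f17 q) ((fun q => f11 (f11 (f12 (f16 (f13 (f14 (f16 (f15 (f14 (f16 (f13 (f13 (f13 (q)))))))))))))) q)) = true := by decide +kernel

theorem eq17_43 : allR 306375 7125 (fun q => Nat.beq (f17 q) ((fun q => f11 (f11 (f12 (f16 (f13 (f14 (f16 (f15 (f14 (f16 (f13 (f13 (f13 (q)))))))))))))) q)) = true := by decide +kernel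

theorem eq17_44 : allR 313500 7125 (fun q => Nat.beq (f17 q) ((fun q => f11 (f11 (f12 (f16 (f13 (f14 (f16 (f15 (f14 (f16 (f13 (f13 (f13 (q)))))))))))))) q)) = true := by decide +kernel

theorem eq17_45 : allR 320625 7125 (fun q => Nat.beq (f17 q) ((fun q => f11 (f11 (f12 (f16 (f13 (f14 (f16 (f15 (f14 (f16 (f13 (f13 (f13 (q)))))))))))))) q)) = true := by decide +kernel

theorem eq17_46 : allR 327750 7125 (fun q => Nat.beq (f17 q) ((fun q => f11 (f11 (f12 (f16 (f13 (f14 (f16 (f15 (f14 (f16 (f13 (f13 (f13 (q)))))))))))))) q)) = true := by decide +kernel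

theorem eq17_47 : allR 334875 7125 (fun q => Nat.beq (f17 q) ((fun q => f11 (f11 (f12 (f16 (f13 (f14 (f16 (f15 (f14 (f16 (f13 (f13 (f13 (q)))))))))))))) q)) = true := by decide +kernel

theorem eq17_48 : allR 342000 7125 (fun q => Nat.beq (f17 q) ((fun q => f11 (f11 (f12 (f16 (f13 (f14 (f16 (f15 (f14 (f16 (f13 (f13 (f13 (q)))))))))))))) q)) = true := by decide +kernel

theorem eq17_49 : allR 349125 7125 (fun q => Nat.beq (f17 q) ((fun q => f11 (f11 (f12 (f16 (f13 (f14 (f16 (f15 (f14 (f16 (f13 (f13 (f13 (q)))))))))))))) q)) = true := by decide +kernel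


end Cfsg.Agent.HNOut
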