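import Cfsg.Agent.Lib.Lead.HNOut.D17

/-! # The outer automorphism group of the Harada–Norton group: the check of the table of the element number 17 (generated) -/

set_option autoImplicit false
set_option maxRecDepth 100000

namespace Cfsg.Agent.HNOut

open Cfsg.Agent.PF Cfsg.Agent.Lib.Helper6 Cfsg.Agent.Lib.Helper6.TC Cfsg.Agent.Lib.Helper6.NatArr
open Cfsg.Agent.PL (Acts evalF)

theorem eq17_50 : allR 356250 7125 (fun q => Nat.beq (f17 q) ((fun q => f11 (f11 (f12 (f16 (f13 (f14 (f16 (f15 (f14 (f16 (f13 (f13 (f13 (q)))))))))))))) q)) = true := by decide +kernel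

theorem eq17_51 : allR 363375 7125 (fun q => Nat.beq (f17 q) ((fun q => f11 (f11 (f12 (f16 (f13 (f14 (f16 (f15 (f14 (f16 (f13 (f13 (f13 (q)))))))))))))) q)) = true := by decide +kernel

theorem eq17_52 : allR 370500 7125 (fun q => Nat.beq (f17 q) ((fun q => f11 (f11 (f12 (f16 (f13 (f14 (f16 (f15 (f14 (f16 (f13 (f13 (f13 (q)))))))))))))) q)) = true := by decide +kernel

theorem eq17_53 : allR 377625 7125 (fun q => Nat.beq (f17 q) ((fun q => f11 (f11 (f12 (f16 (f13 (f14 (f16 (f15 (f14 (f16 (f13 (f13 (f13 (q)))))))))))))) q)) = true := by decide +kernel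

theorem eq17_54 : allR 384750 7125 (fun q => Nat.beq (f17 q) ((fun q => f11 (f11 (f12 (f16 (f13 (f14 (f16 (f15 (f14 (f16 (f13 (f13 (f13 (q)))))))))))))) q)) = true := by decide +kernel

theorem eq17_55 : allR 391875 7125 (fun q => Nat.beq (f17 q) ((fun q => f11 (f11 (f12 (f16 (f13 (f14 (f16 (f15 (f14 (f16 (f13 (f13 (f13 (q)))))))))))))) q)) = true := by decide +kernel

theorem eq17_56 : allR 399000 7125 (fun q => Nat.beq (f17 q) ((fun q => f11 (f11 (f12 (f16 (f13 (f14 (f16 (f15 (f14 (f16 (f13 (f13 (f13 (q)))))))))))))) q)) = true := by decide +kernel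

theorem eq17_57 : allR 406125 7125 (fun q => Nat.beq (f17 q) ((fun q => f11 (f11 (f12 (f16 (f13 (f14 (f16 (f15 (f14 (f16 (f13 (f13 (f13 (q)))))))))))))) q)) = true := by decide +kernel

theorem eq17_58 : allR 413250 7125 (fun q => Nat.beq (f17 q) ((fun q => f11 (f11 (f12 (f16 (f13 (f14 (f16 (f15 (f14 (f16 (f13 (f13 (f13 (q)))))))))))))) q)) = true := by decide +kernel

theorem eq17_59 : allR 420375 7125 (fun q => Nat.beq (f17 q) ((fun q => f11 (f11 (f12 (f16 (f13 (f14 (f16 (f15 (f14 (f16 (f13 (f13 (f13 (q)))))))))))))) q)) = true := by decide +kernel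

theorem eq17_60 : allR 427500 7125 (fun q => Nat.beq (f17 q) ((fun q => f11 (f11 (f12 (f16 (f13 (f14 (f16 (f15 (f14 (f16 (f13 (f13 (f13 (q)))))))))))))) q)) = true := by decide +kernel

theorem eq17_61 : allR 434625 7125 (fun q => Nat.beq (f17 q) ((fun q => f11 (f11 (f12 (f16 (f13 (f14 (f16 (f15 (f14 (f16 (f13 (f13 (f13 (q)))))))))))))) q)) = true := by decide +kernel

theorem eq17_62 : allR 441750 7125 (fun q => Nat.beq (f17 q) ((fun q => f11 (f11 (f12 (f16 (f13 (f14 (f16 (f15 (f14 (f16 (f13 (f13 (f13 (q)))))))))))))) q)) = true := by decide +kernel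

theorem eq17_63 : allR 448875 7125 (fun q => Nat.beq (f17 q) ((fun q => f11 (f11 (f12 (f16 (f13 (f14 (f16 (f15 (f14 (f16 (f13 (f13 (f13 (q)))))))))))))) q)) = true := by decide +kernel

theorem eq17_64 : allR 456000 7125 (fun q => Nat.beq (f17 q) ((fun q => f11 (f11 (f12 (f16 (f13 (f14 (f16 (f15 (f14 (f16 (f13 (f13 (f13 (q)))))))))))))) q)) = true := by decide +kernel

theorem eq17_65 : allR 463125 7125 (fun q => Nat.beq (f17 q) ((fun q => f11 (f11 (f12 (f16 (f13 (f14 (f16 (f15 (f14 (f16 (f13 (f13 (f13 (q)))))))))))))) q)) = true := by decide +kernel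

theorem eq17_66 : allR 470250 7125 (fun q => Nat.beq (f17 q) ((fun q => f11 (f11 (f12 (f16 (f13 (f14 (f16 (f15 (f14 (f16 (f13 (f13 (f13 (q)))))))))))))) q)) = true := by decide +kernel

theorem eq17_67 : allR 477375 7125 (fun q => Nat.beq (f17 q) ((fun q => f11 (f11 (f12 (f16 (f13 (f14 (f16 (f15 (f14 (f16 (f13 (f13 (f13 (q)))))))))))))) q)) = true := by decide +kernel

theorem eq17_68 : allR 484500 7125 (fun q => Nat.beq (f17 q) ((fun q => f11 (f11 (f12 (f16 (f13 (f14 (f16 (f15 (f14 (f16 (f13 (f13 (f13 (q)))))))))))))) q)) = true := by decide +kernel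

theorem eq17_69 : allR 491625 7125 (fun q => Nat.beq (f17 q) ((fun q => f11 (f11 (f12 (f16 (f13 (f14 (f16 (f15 (f14 (f16 (f13 (f13 (f13 (q)))))))))))))) q)) = true := by decide +kernel

theorem eq17_70 : allR 498750 7125 (fun q => Nat.beq (f17 q) ((fun q => f11 (f11 (f12 (f16 (f13 (f14 (f16 (f15 (f14 (f16 (f13 (f13 (f13 (q)))))))))))))) q)) = true := by decide +kernel

theorem eq17_71 : allR 505875 7125 (fun q => Nat.beq (f17 q) ((fun q => f11 (f11 (f12 (f16 (f13 (f14 (f16 (f15 (f14 (f16 (f13 (f13 (f13 (q)))))))))))))) q)) = true := by decide +kernel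

theorem eq17_72 : allR 513000 7125 (fun q => Nat.beq (f17 q) ((fun q => f11 (f11 (f12 (f16 (f13 (f14 (f16 (f15 (f14 (f16 (f13 (f13 (f13 (q)))))))))))))) q)) = true := by decide +kernel

theorem eq17_73 : allR 520125 7125 (fun q => Nat.beq (f17 q) ((fun q => f11 (f11 (f12 (f16 (f13 (f14 (f16 (f15 (f14 (f16 (f13 (f13 (f13 (q)))))))))))))) q)) = true := by decide +kernel

theorem eq17_74 : allR 527250 7125 (fun q => Nat.beq (f17 q) ((fun q => f11 (f11 (f12 (f16 (f13 (f14 (f16 (f15 (f14 (f16 (f13 (f13 (f13 (q)))))))))))))) q)) = true := by decide +kernel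


end Cfsg.Agent.HNOut
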