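import Cfsg.Agent.Lib.Lead.HNOut.D17

/-! # The outer automorphism group of the Harada–Norton group: the check of the table of the element number 17 (generated) -/

set_option autoImplicit false
set_option maxRecDepth 100000

namespace Cfsg.Agent.HNOut

open Cfsg.Agent.PF Cfsg.Agent.Lib.Helper6 Cfsg.Agent.Lib.Helper6.TC Cfsg.Agent.Lib.Helper6.NatArr
open Cfsg.Agent.PL (Acts evalF)

theorem eq17_75 : allR 534375 7125 (fun q => Nat.beq (f17 q) ((fun q => f11 (f11 (f12 (f16 (f13 (f14 (f16 (f15 (f14 (f16 (f13 (f13 (f13 (q)))))))))))))) q)) = true := by decide +kernel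

theorem eq17_76 : allR 541500 7125 (fun q => Nat.beq (f17 q) ((fun q => f11 (f11 (f12 (f16 (f13 (f14 (f16 (f15 (f14 (f16 (f13 (f13 (f13 (q)))))))))))))) q)) = true := by decide +kernel

theorem eq17_77 : allR 548625 7125 (fun q => Nat.beq (f17 q) ((fun q => f11 (f11 (f12 (f16 (f13 (f14 (f16 (f15 (f14 (f16 (f13 (f13 (f13 (q)))))))))))))) q)) = true := by decide +kernel

theorem eq17_78 : allR 555750 7125 (fun q => Nat.beq (f17 q) ((fun q => f11 (f11 (f12 (f16 (f13 (f14 (f16 (f15 (f14 (f16 (f13 (f13 (f13 (q)))))))))))))) q)) = true := by decide +kernel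

theorem eq17_79 : allR 562875 7125 (fun q => Nat.beq (f17 q) ((fun q => f11 (f11 (f12 (f16 (f13 (f14 (f16 (f15 (f14 (f16 (f13 (f13 (f13 (q)))))))))))))) q)) = true := by decide +kernel

theorem eq17_80 : allR 570000 7125 (fun q => Nat.beq (f17 q) ((fun q => f11 (f11 (f12 (f16 (f13 (f14 (f16 (f15 (f14 (f16 (f13 (f13 (f13 (q)))))))))))))) q)) = true := by decide +kernel

theorem eq17_81 : allR 577125 7125 (fun q => Nat.beq (f17 q) ((fun q => f11 (f11 (f12 (f16 (f13 (f14 (f16 (f15 (f14 (f16 (f13 (f13 (f13 (q)))))))))))))) q)) = true := by decide +kernel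

theorem eq17_82 : allR 584250 7125 (fun q => Nat.beq (f17 q) ((fun q => f11 (f11 (f12 (f16 (f13 (f14 (f16 (f15 (f14 (f16 (f13 (f13 (f13 (q)))))))))))))) q)) = true := by decide +kernel

theorem eq17_83 : allR 591375 7125 (fun q => Nat.beq (f17 q) ((fun q => f11 (f11 (f12 (f16 (f13 (f14 (f16 (f15 (f14 (f16 (f13 (f13 (f13 (q)))))))))))))) q)) = true := by decide +kernel

theorem eq17_84 : allR 598500 7125 (fun q => Nat.beq (f17 q) ((fun q => f11 (f11 (f12 (f16 (f13 (f14 (f16 (f15 (f14 (f16 (f13 (f13 (f13 (q)))))))))))))) q)) = true := by decide +kernel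

theorem eq17_85 : allR 605625 7125 (fun q => Nat.beq (f17 q) ((fun q => f11 (f11 (f12 (f16 (f13 (f14 (f16 (f15 (f14 (f16 (f13 (f13 (f13 (q)))))))))))))) q)) = true := by decide +kernel

theorem eq17_86 : allR 612750 7125 (fun q => Nat.beq (f17 q) ((fun q => f11 (f11 (f12 (f16 (f13 (f14 (f16 (f15 (f14 (f16 (f13 (f13 (f13 (q)))))))))))))) q)) = true := by decide +kernel

theorem eq17_87 : allR 619875 7125 (fun q => Nat.beq (f17 q) ((fun q => f11 (f11 (f12 (f16 (f13 (f14 (f16 (f15 (f14 (f16 (f13 (f13 (f13 (q)))))))))))))) q)) = true := by decide +kernel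

theorem eq17_88 : allR 627000 7125 (fun q => Nat.beq (f17 q) ((fun q => f11 (f11 (f12 (f16 (f13 (f14 (f16 (f15 (f14 (f16 (f13 (f13 (f13 (q)))))))))))))) q)) = true := by decide +kernel

theorem eq17_89 : allR 634125 7125 (fun q => Nat.beq (f17 q) ((fun q => f11 (f11 (f12 (f16 (f13 (f14 (f16 (f15 (f14 (f16 (f13 (f13 (f13 (q)))))))))))))) q)) = true := by decide +kernel

theorem eq17_90 : allR 641250 7125 (fun q => Nat.beq (f17 q) ((fun q => f11 (f11 (f12 (f16 (f13 (f14 (f16 (f15 (f14 (f16 (f13 (f13 (f13 (q)))))))))))))) q)) = true := by decide +kernel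

theorem eq17_91 : allR 648375 7125 (fun q => Nat.beq (f17 q) ((fun q => f11 (f11 (f12 (f16 (f13 (f14 (f16 (f15 (f14 (f16 (f13 (f13 (f13 (q)))))))))))))) q)) = true := by decide +kernel

theorem eq17_92 : allR 655500 7125 (fun q => Nat.beq (f17 q) ((fun q => f11 (f11 (f12 (f16 (f13 (f14 (f16 (f15 (f14 (f16 (f13 (f13 (f13 (q)))))))))))))) q)) = true := by decide +kernel

theorem eq17_93 : allR 662625 7125 (fun q => Nat.beq (f17 q) ((fun q => f11 (f11 (f12 (f16 (f13 (f14 (f16 (f15 (f14 (f16 (f13 (f13 (f13 (q)))))))))))))) q)) = true := by decide +kernel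

theorem eq17_94 : allR 669750 7125 (fun q => Nat.beq (f17 q) ((fun q => f11 (f11 (f12 (f16 (f13 (f14 (f16 (f15 (f14 (f16 (f13 (f13 (f13 (q)))))))))))))) q)) = true := by decide +kernel

theorem eq17_95 : allR 676875 7125 (fun q => Nat.beq (f17 q) ((fun q => f11 (f11 (f12 (f16 (f13 (f14 (f16 (f15 (f14 (f16 (f13 (f13 (f13 (q)))))))))))))) q)) = true := by decide +kernel

theorem eq17_96 : allR 684000 7125 (fun q => Nat.beq (f17 q) ((fun q => f11 (f11 (f12 (f16 (f13 (f14 (f16 (f15 (f14 (f16 (f13 (f13 (f13 (q)))))))))))))) q)) = true := by decide +kernel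

theorem eq17_97 : allR 691125 7125 (fun q => Nat.beq (f17 q) ((fun q => f11 (f11 (f12 (f16 (f13 (f14 (f16 (f15 (f14 (f16 (f13 (f13 (f13 (q)))))))))))))) q)) = true := by decide +kernel

theorem eq17_98 : allR 698250 7125 (fun q => Nat.beq (f17 q) ((fun q => f11 (f11 (f12 (f16 (f13 (f14 (f16 (f15 (f14 (f16 (f13 (f13 (f13 (q)))))))))))))) q)) = true := by decide +kernel

theorem eq17_99 : allR 705375 7125 (fun q => Nat.beq (f17 q) ((fun q => f11 (f11 (f12 (f16 (f13 (f14 (f16 (f15 (f14 (f16 (f13 (f13 (f13 (q)))))))))))))) q)) = true := by decide +kernel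


end Cfsg.Agent.HNOut
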