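import Cfsg.Agent.Lib.Lead.HNOut.D17

/-! # The outer automorphism group of the Harada–Norton group: the check of the table of the element number 17 (generated) -/

set_option autoImplicit false
set_option maxRecDepth 100000

namespace Cfsg.Agent.HNOut

open Cfsg.Agent.PF Cfsg.Agent.Lib.Helper6 Cfsg.Agent.Lib.Helper6.TC Cfsg.Agent.Lib.Helper6.NatArr
open Cfsg.Agent.PL (Acts evalF)

theorem eq17_100 : allR 712500 7125 (fun q => Nat.beq (f17 q) ((fun q => f11 (f11 (f12 (f16 (f13 (f14 (f16 (f15 (f14 (f16 (f13 (f13 (f13 (q)))))))))))))) q)) = true := by decide +kernel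

theorem eq17_101 : allR 719625 7125 (fun q => Nat.beq (f17 q) ((fun q => f11 (f11 (f12 (f16 (f13 (f14 (f16 (f15 (f14 (f16 (f13 (f13 (f13 (q)))))))))))))) q)) = true := by decide +kernel

theorem eq17_102 : allR 726750 7125 (fun q => Nat.beq (f17 q) ((fun q => f11 (f11 (f12 (f16 (f13 (f14 (f16 (f15 (f14 (f16 (f13 (f13 (f13 (q)))))))))))))) q)) = true := by decide +kernel

theorem eq17_103 : allR 733875 7125 (fun q => Nat.beq (f17 q) ((fun q => f11 (f11 (f12 (f16 (f13 (f14 (f16 (f15 (f14 (f16 (f13 (f13 (f13 (q)))))))))))))) q)) = true := by decide +kernel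

theorem eq17_104 : allR 741000 7125 (fun q => Nat.beq (f17 q) ((fun q => f11 (f11 (f12 (f16 (f13 (f14 (f16 (f15 (f14 (f16 (f13 (f13 (f13 (q)))))))))))))) q)) = true := by decide +kernel

theorem eq17_105 : allR 748125 7125 (fun q => Nat.beq (f17 q) ((fun q => f11 (f11 (f12 (f16 (f13 (f14 (f16 (f15 (f14 (f16 (f13 (f13 (f13 (q)))))))))))))) q)) = true := by decide +kernel

theorem eq17_106 : allR 755250 7125 (fun q => Nat.beq (f17 q) ((fun q => f11 (f11 (f12 (f16 (f13 (f14 (f16 (f15 (f14 (f16 (f13 (f13 (f13 (q)))))))))))))) q)) = true := by decide +kernel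

theorem eq17_107 : allR 762375 7125 (fun q => Nat.beq (f17 q) ((fun q => f11 (f11 (f12 (f16 (f13 (f14 (f16 (f15 (f14 (f16 (f13 (f13 (f13 (q)))))))))))))) q)) = true := by decide +kernel

theorem eq17_108 : allR 769500 7125 (fun q => Nat.beq (f17 q) ((fun q => f11 (f11 (f12 (f16 (f13 (f14 (f16 (f15 (f14 (f16 (f13 (f13 (f13 (q)))))))))))))) q)) = true := by decide +kernel

theorem eq17_109 : allR 776625 7125 (fun q => Nat.beq (f17 q) ((fun q => f11 (f11 (f12 (f16 (f13 (f14 (f16 (f15 (f14 (f16 (f13 (f13 (f13 (q)))))))))))))) q)) = true := by decide +kernel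

theorem eq17_110 : allR 783750 7125 (fun q => Nat.beq (f17 q) ((fun q => f11 (f11 (f12 (f16 (f13 (f14 (f16 (f15 (f14 (f16 (f13 (f13 (f13 (q)))))))))))))) q)) = true := by decide +kernel

theorem eq17_111 : allR 790875 7125 (fun q => Nat.beq (f17 q) ((fun q => f11 (f11 (f12 (f16 (f13 (f14 (f16 (f15 (f14 (f16 (f13 (f13 (f13 (q)))))))))))))) q)) = true := by decide +kernel

theorem eq17_112 : allR 798000 7125 (fun q => Nat.beq (f17 q) ((fun q => f11 (f11 (f12 (f16 (f13 (f14 (f16 (f15 (f14 (f16 (f13 (f13 (f13 (q)))))))))))))) q)) = true := by decide +kernel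

theorem eq17_113 : allR 805125 7125 (fun q => Nat.beq (f17 q) ((fun q => f11 (f11 (f12 (f16 (f13 (f14 (f16 (f15 (f14 (f16 (f13 (f13 (f13 (q)))))))))))))) q)) = true := by decide +kernel

theorem eq17_114 : allR 812250 7125 (fun q => Nat.beq (f17 q) ((fun q => f11 (f11 (f12 (f16 (f13 (f14 (f16 (f15 (f14 (f16 (f13 (f13 (f13 (q)))))))))))))) q)) = true := by decide +kernel

theorem eq17_115 : allR 819375 7125 (fun q => Nat.beq (f17 q) ((fun q => f11 (f11 (f12 (f16 (f13 (f14 (f16 (f15 (f14 (f16 (f13 (f13 (f13 (q)))))))))))))) q)) = true := by decide +kernel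

theorem eq17_116 : allR 826500 7125 (fun q => Nat.beq (f17 q) ((fun q => f11 (f11 (f12 (f16 (f13 (f14 (f16 (f15 (f14 (f16 (f13 (f13 (f13 (q)))))))))))))) q)) = true := by decide +kernel

theorem eq17_117 : allR 833625 7125 (fun q => Nat.beq (f17 q) ((fun q => f11 (f11 (f12 (f16 (f13 (f14 (f16 (f15 (f14 (f16 (f13 (f13 (f13 (q)))))))))))))) q)) = true := by decide +kernel

theorem eq17_118 : allR 840750 7125 (fun q => Nat.beq (f17 q) ((fun q => f11 (f11 (f12 (f16 (f13 (f14 (f16 (f15 (f14 (f16 (f13 (f13 (f13 (q)))))))))))))) q)) = true := by decide +kernel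

theorem eq17_119 : allR 847875 7125 (fun q => Nat.beq (f17 q) ((fun q => f11 (f11 (f12 (f16 (f13 (f14 (f16 (f15 (f14 (f16 (f13 (f13 (f13 (q)))))))))))))) q)) = true := by decide +kernel

theorem eq17_120 : allR 855000 7125 (fun q => Nat.beq (f17 q) ((fun q => f11 (f11 (f12 (f16 (f13 (f14 (f16 (f15 (f14 (f16 (f13 (f13 (f13 (q)))))))))))))) q)) = true := by decide +kernel

theorem eq17_121 : allR 862125 7125 (fun q => Nat.beq (f17 q) ((fun q => f11 (f11 (f12 (f16 (f13 (f14 (f16 (f15 (f14 (f16 (f13 (f13 (f13 (q)))))))))))))) q)) = true := by decide +kernel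

theorem eq17_122 : allR 869250 7125 (fun q => Nat.beq (f17 q) ((fun q => f11 (f11 (f12 (f16 (f13 (f14 (f16 (f15 (f14 (f16 (f13 (f13 (f13 (q)))))))))))))) q)) = true := by decide +kernel

theorem eq17_123 : allR 876375 7125 (fun q => Nat.beq (f17 q) ((fun q => f11 (f11 (f12 (f16 (f13 (f14 (f16 (f15 (f14 (f16 (f13 (f13 (f13 (q)))))))))))))) q)) = true := by decide +kernel

theorem eq17_124 : allR 883500 7125 (fun q => Nat.beq (f17 q) ((fun q => f11 (f11 (f12 (f16 (f13 (f14 (f16 (f15 (f14 (f16 (f13 (f13 (f13 (q)))))))))))))) q)) = true := by decide +kernel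


end Cfsg.Agent.HNOut
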