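import Cfsg.Agent.Lib.Lead.HNOut.D1

/-! # The outer automorphism group of the Harada–Norton group: the check of the table of the element number 1 (generated) -/

set_option autoImplicit false
set_option maxRecDepth 100000

namespace Cfsg.Agent.HNOut

open Cfsg.Agent.PF Cfsg.Agent.Lib.Helper6 Cfsg.Agent.Lib.Helper6.TC Cfsg.Agent.Lib.Helper6.NatArr
open Cfsg.Agent.PL (Acts evalF)

theorem eq1_250 : allR 892750 3571 (fun q => Nat.beq (f1 q) (fgen 1 q)) = true := by decide +kernel

theorem eq1_251 : allR 896321 3571 (fun q => Nat.beq (f1 q) (fgen 1 q)) = true := by decide +kernel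

theorem eq1_252 : allR 899892 3571 (fun q => Nat.beq (f1 q) (fgen 1 q)) = true := by decide +kernel

theorem eq1_253 : allR 903463 3571 (fun q => Nat.beq (f1 q) (fgen 1 q)) = true := by decide +kernel

theorem eq1_254 : allR 907034 3571 (fun q => Nat.beq (f1 q) (fgen 1 q)) = true := by decide +kernel

theorem eq1_255 : allR 910605 3571 (fun q => Nat.beq (f1 q) (fgen 1 q)) = true := by decide +kernel

theorem eq1_256 : allR 914176 3571 (fun q => Nat.beq (f1 q) (fgen 1 q)) = true := by decide +kernel

theorem eq1_257 : allR 917747 3571 (fun q => Nat.beq (f1 q) (fgen 1 q)) = true := by decide +kernel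

theorem eq1_258 : allR 921318 3571 (fun q => Nat.beq (f1 q) (fgen 1 q)) = true := by decide +kernel

theorem eq1_259 : allR 924889 3571 (fun q => Nat.beq (f1 q) (fgen 1 q)) = true := by decide +kernel

theorem eq1_260 : allR 928460 3571 (fun q => Nat.beq (f1 q) (fgen 1 q)) = true := by decide +kernel

theorem eq1_261 : allR 932031 3571 (fun q => Nat.beq (f1 q) (fgen 1 q)) = true := by decide +kernel

theorem eq1_262 : allR 935602 3571 (fun q => Nat.beq (f1 q) (fgen 1 q)) = true := by decide +kernel

theorem eq1_263 : allR 939173 3571 (fun q => Nat.beq (f1 q) (fgen 1 q)) = true := by decide +kernel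

theorem eq1_264 : allR 942744 3571 (fun q => Nat.beq (f1 q) (fgen 1 q)) = true := by decide +kernel

theorem eq1_265 : allR 946315 3571 (fun q => Nat.beq (f1 q) (fgen 1 q)) = true := by decide +kernel

theorem eq1_266 : allR 949886 3571 (fun q => Nat.beq (f1 q) (fgen 1 q)) = true := by decide +kernel

theorem eq1_267 : allR 953457 3571 (fun q => Nat.beq (f1 q) (fgen 1 q)) = true := by decide +kernel

theorem eq1_268 : allR 957028 3571 (fun q => Nat.beq (f1 q) (fgen 1 q)) = true := by decide +kernel

theorem eq1_269 : allR 960599 3571 (fun q => Nat.beq (f1 q) (fgen 1 q)) = true := by decide +kernel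

theorem eq1_270 : allR 964170 3571 (fun q => Nat.beq (f1 q) (fgen 1 q)) = true := by decide +kernel

theorem eq1_271 : allR 967741 3571 (fun q => Nat.beq (f1 q) (fgen 1 q)) = true := by decide +kernel

theorem eq1_272 : allR 971312 3571 (fun q => Nat.beq (f1 q) (fgen 1 q)) = true := by decide +kernel

theorem eq1_273 : allR 974883 3571 (fun q => Nat.beq (f1 q) (fgen 1 q)) = true := by decide +kernel

theorem eq1_274 : allR 978454 3571 (fun q => Nat.beq (f1 q) (fgen 1 q)) = true := by decide +kernel


end Cfsg.Agent.HNOut
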