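import Cfsg.Agent.Lib.Lead.HNOut.D2

/-! # The outer automorphism group of the Harada–Norton group: the check of the table of the element number 2 (generated) -/

set_option autoImplicit false
set_option maxRecDepth 100000

namespace Cfsg.Agent.HNOut

open Cfsg.Agent.PF Cfsg.Agent.Lib.Helper6 Cfsg.Agent.Lib.Helper6.TC Cfsg.Agent.Lib.Helper6.NatArr
open Cfsg.Agent.PL (Acts evalF)

theorem eq2_275 : allR 982025 3571 (fun q => Nat.beq (f2 q) (fgen 2 q)) = true := by decide +kernel

theorem eq2_276 : allR 985596 3571 (fun q => Nat.beq (f2 q) (fgen 2 q)) = true := by decide +kernel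

theorem eq2_277 : allR 989167 3571 (fun q => Nat.beq (f2 q) (fgen 2 q)) = true := by decide +kernel

theorem eq2_278 : allR 992738 3571 (fun q => Nat.beq (f2 q) (fgen 2 q)) = true := by decide +kernel

theorem eq2_279 : allR 996309 3571 (fun q => Nat.beq (f2 q) (fgen 2 q)) = true := by decide +kernel

theorem eq2_280 : allR 999880 3571 (fun q => Nat.beq (f2 q) (fgen 2 q)) = true := by decide +kernel

theorem eq2_281 : allR 1003451 3571 (fun q => Nat.beq (f2 q) (fgen 2 q)) = true := by decide +kernel

theorem eq2_282 : allR 1007022 3571 (fun q => Nat.beq (f2 q) (fgen 2 q)) = true := by decide +kernel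

theorem eq2_283 : allR 1010593 3571 (fun q => Nat.beq (f2 q) (fgen 2 q)) = true := by decide +kernel

theorem eq2_284 : allR 1014164 3571 (fun q => Nat.beq (f2 q) (fgen 2 q)) = true := by decide +kernel

theorem eq2_285 : allR 1017735 3571 (fun q => Nat.beq (f2 q) (fgen 2 q)) = true := by decide +kernel

theorem eq2_286 : allR 1021306 3571 (fun q => Nat.beq (f2 q) (fgen 2 q)) = true := by decide +kernel

theorem eq2_287 : allR 1024877 3571 (fun q => Nat.beq (f2 q) (fgen 2 q)) = true := by decide +kernel

theorem eq2_288 : allR 1028448 3571 (fun q => Nat.beq (f2 q) (fgen 2 q)) = true := by decide +kernel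

theorem eq2_289 : allR 1032019 3571 (fun q => Nat.beq (f2 q) (fgen 2 q)) = true := by decide +kernel

theorem eq2_290 : allR 1035590 3571 (fun q => Nat.beq (f2 q) (fgen 2 q)) = true := by decide +kernel

theorem eq2_291 : allR 1039161 3571 (fun q => Nat.beq (f2 q) (fgen 2 q)) = true := by decide +kernel

theorem eq2_292 : allR 1042732 3571 (fun q => Nat.beq (f2 q) (fgen 2 q)) = true := by decide +kernel

theorem eq2_293 : allR 1046303 3571 (fun q => Nat.beq (f2 q) (fgen 2 q)) = true := by decide +kernel

theorem eq2_294 : allR 1049874 3571 (fun q => Nat.beq (f2 q) (fgen 2 q)) = true := by decide +kernel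

theorem eq2_295 : allR 1053445 3571 (fun q => Nat.beq (f2 q) (fgen 2 q)) = true := by decide +kernel

theorem eq2_296 : allR 1057016 3571 (fun q => Nat.beq (f2 q) (fgen 2 q)) = true := by decide +kernel

theorem eq2_297 : allR 1060587 3571 (fun q => Nat.beq (f2 q) (fgen 2 q)) = true := by decide +kernel

theorem eq2_298 : allR 1064158 3571 (fun q => Nat.beq (f2 q) (fgen 2 q)) = true := by decide +kernel

theorem eq2_299 : allR 1067729 3571 (fun q => Nat.beq (f2 q) (fgen 2 q)) = true := by decide +kernel


end Cfsg.Agent.HNOut
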