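import Cfsg.Agent.Lib.Lead.HNOut.D3

/-! # The outer automorphism group of the Harada–Norton group: the check of the table of the element number 3 (generated) -/

set_option autoImplicit false
set_option maxRecDepth 100000

namespace Cfsg.Agent.HNOut

open Cfsg.Agent.PF Cfsg.Agent.Lib.Helper6 Cfsg.Agent.Lib.Helper6.TC Cfsg.Agent.Lib.Helper6.NatArr
open Cfsg.Agent.PL (Acts evalF)

theorem eq3_0 : allR 0 3571 (fun q => Nat.beq (f3 q) (fgen 3 q)) = true := by decide +kernel

theorem eq3_1 : allR 3571 3571 (fun q => Nat.beq (f3 q) (fgen 3 q)) = true := by decide +kernel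

theorem eq3_2 : allR 7142 3571 (fun q => Nat.beq (f3 q) (fgen 3 q)) = true := by decide +kernel

theorem eq3_3 : allR 10713 3571 (fun q => Nat.beq (f3 q) (fgen 3 q)) = true := by decide +kernel

theorem eq3_4 : allR 14284 3571 (fun q => Nat.beq (f3 q) (fgen 3 q)) = true := by decide +kernel

theorem eq3_5 : allR 17855 3571 (fun q => Nat.beq (f3 q) (fgen 3 q)) = true := by decide +kernel

theorem eq3_6 : allR 21426 3571 (fun q => Nat.beq (f3 q) (fgen 3 q)) = true := by decide +kernel

theorem eq3_7 : allR 24997 3571 (fun q => Nat.beq (f3 q) (fgen 3 q)) = true := by decide +kernel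

theorem eq3_8 : allR 28568 3571 (fun q => Nat.beq (f3 q) (fgen 3 q)) = true := by decide +kernel

theorem eq3_9 : allR 32139 3571 (fun q => Nat.beq (f3 q) (fgen 3 q)) = true := by decide +kernel

theorem eq3_10 : allR 35710 3571 (fun q => Nat.beq (f3 q) (fgen 3 q)) = true := by decide +kernel

theorem eq3_11 : allR 39281 3571 (fun q => Nat.beq (f3 q) (fgen 3 q)) = true := by decide +kernel

theorem eq3_12 : allR 42852 3571 (fun q => Nat.beq (f3 q) (fgen 3 q)) = true := by decide +kernel

theorem eq3_13 : allR 46423 3571 (fun q => Nat.beq (f3 q) (fgen 3 q)) = true := by decide +kernel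

theorem eq3_14 : allR 49994 3571 (fun q => Nat.beq (f3 q) (fgen 3 q)) = true := by decide +kernel

theorem eq3_15 : allR 53565 3571 (fun q => Nat.beq (f3 q) (fgen 3 q)) = true := by decide +kernel

theorem eq3_16 : allR 57136 3571 (fun q => Nat.beq (f3 q) (fgen 3 q)) = true := by decide +kernel

theorem eq3_17 : allR 60707 3571 (fun q => Nat.beq (f3 q) (fgen 3 q)) = true := by decide +kernel

theorem eq3_18 : allR 64278 3571 (fun q => Nat.beq (f3 q) (fgen 3 q)) = true := by decide +kernel

theorem eq3_19 : allR 67849 3571 (fun q => Nat.beq (f3 q) (fgen 3 q)) = true := by decide +kernel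

theorem eq3_20 : allR 71420 3571 (fun q => Nat.beq (f3 q) (fgen 3 q)) = true := by decide +kernel

theorem eq3_21 : allR 74991 3571 (fun q => Nat.beq (f3 q) (fgen 3 q)) = true := by decide +kernel

theorem eq3_22 : allR 78562 3571 (fun q => Nat.beq (f3 q) (fgen 3 q)) = true := by decide +kernel

theorem eq3_23 : allR 82133 3571 (fun q => Nat.beq (f3 q) (fgen 3 q)) = true := by decide +kernel

theorem eq3_24 : allR 85704 3571 (fun q => Nat.beq (f3 q) (fgen 3 q)) = true := by decide +kernel


end Cfsg.Agent.HNOut
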