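import Cfsg.Agent.Lib.Lead.HNOut.D4

/-! # The outer automorphism group of the Harada–Norton group: the check of the table of the element number 4 (generated) -/

set_option autoImplicit false
set_option maxRecDepth 100000

namespace Cfsg.Agent.HNOut

open Cfsg.Agent.PF Cfsg.Agent.Lib.Helper6 Cfsg.Agent.Lib.Helper6.TC Cfsg.Agent.Lib.Helper6.NatArr
open Cfsg.Agent.PL (Acts evalF)

theorem eq4_250 : allR 892750 3571 (fun q => Nat.beq (f4 q) (fgen 4 q)) = true := by decide +kernel

theorem eq4_251 : allR 896321 3571 (fun q => Nat.beq (f4 q) (fgen 4 q)) = true := by decide +kernel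

theorem eq4_252 : allR 899892 3571 (fun q => Nat.beq (f4 q) (fgen 4 q)) = true := by decide +kernel

theorem eq4_253 : allR 903463 3571 (fun q => Nat.beq (f4 q) (fgen 4 q)) = true := by decide +kernel

theorem eq4_254 : allR 907034 3571 (fun q => Nat.beq (f4 q) (fgen 4 q)) = true := by decide +kernel

theorem eq4_255 : allR 910605 3571 (fun q => Nat.beq (f4 q) (fgen 4 q)) = true := by decide +kernel

theorem eq4_256 : allR 914176 3571 (fun q => Nat.beq (f4 q) (fgen 4 q)) = true := by decide +kernel

theorem eq4_257 : allR 917747 3571 (fun q => Nat.beq (f4 q) (fgen 4 q)) = true := by decide +kernel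

theorem eq4_258 : allR 921318 3571 (fun q => Nat.beq (f4 q) (fgen 4 q)) = true := by decide +kernel

theorem eq4_259 : allR 924889 3571 (fun q => Nat.beq (f4 q) (fgen 4 q)) = true := by decide +kernel

theorem eq4_260 : allR 928460 3571 (fun q => Nat.beq (f4 q) (fgen 4 q)) = true := by decide +kernel

theorem eq4_261 : allR 932031 3571 (fun q => Nat.beq (f4 q) (fgen 4 q)) = true := by decide +kernel

theorem eq4_262 : allR 935602 3571 (fun q => Nat.beq (f4 q) (fgen 4 q)) = true := by decide +kernel

theorem eq4_263 : allR 939173 3571 (fun q => Nat.beq (f4 q) (fgen 4 q)) = true := by decide +kernel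

theorem eq4_264 : allR 942744 3571 (fun q => Nat.beq (f4 q) (fgen 4 q)) = true := by decide +kernel

theorem eq4_265 : allR 946315 3571 (fun q => Nat.beq (f4 q) (fgen 4 q)) = true := by decide +kernel

theorem eq4_266 : allR 949886 3571 (fun q => Nat.beq (f4 q) (fgen 4 q)) = true := by decide +kernel

theorem eq4_267 : allR 953457 3571 (fun q => Nat.beq (f4 q) (fgen 4 q)) = true := by decide +kernel

theorem eq4_268 : allR 957028 3571 (fun q => Nat.beq (f4 q) (fgen 4 q)) = true := by decide +kernel

theorem eq4_269 : allR 960599 3571 (fun q => Nat.beq (f4 q) (fgen 4 q)) = true := by decide +kernel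

theorem eq4_270 : allR 964170 3571 (fun q => Nat.beq (f4 q) (fgen 4 q)) = true := by decide +kernel

theorem eq4_271 : allR 967741 3571 (fun q => Nat.beq (f4 q) (fgen 4 q)) = true := by decide +kernel

theorem eq4_272 : allR 971312 3571 (fun q => Nat.beq (f4 q) (fgen 4 q)) = true := by decide +kernel

theorem eq4_273 : allR 974883 3571 (fun q => Nat.beq (f4 q) (fgen 4 q)) = true := by decide +kernel

theorem eq4_274 : allR 978454 3571 (fun q => Nat.beq (f4 q) (fgen 4 q)) = true := by decide +kernel


end Cfsg.Agent.HNOut
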