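import Cfsg.Agent.Lib.Lead.HNOut.D4

/-! # The outer automorphism group of the Harada–Norton group: the check of the table of the letter 5 (generated) -/

set_option autoImplicit false
set_option maxRecDepth 100000

namespace Cfsg.Agent.HNOut

open Cfsg.Agent.PF Cfsg.Agent.Lib.Helper6 Cfsg.Agent.Lib.Helper6.TC Cfsg.Agent.Lib.Helper6.NatArr
open Cfsg.Agent.PL (Acts evalF)

theorem eq5_300 : allR 1071300 3571 (fun q => Nat.beq (f4 q) (fgen 5 q)) = true := by decide +kernel

theorem eq5_301 : allR 1074871 3571 (fun q => Nat.beq (f4 q) (fgen 5 q)) = true := by decide +kernel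

theorem eq5_302 : allR 1078442 3571 (fun q => Nat.beq (f4 q) (fgen 5 q)) = true := by decide +kernel

theorem eq5_303 : allR 1082013 3571 (fun q => Nat.beq (f4 q) (fgen 5 q)) = true := by decide +kernel

theorem eq5_304 : allR 1085584 3571 (fun q => Nat.beq (f4 q) (fgen 5 q)) = true := by decide +kernel

theorem eq5_305 : allR 1089155 3571 (fun q => Nat.beq (f4 q) (fgen 5 q)) = true := by decide +kernel

theorem eq5_306 : allR 1092726 3571 (fun q => Nat.beq (f4 q) (fgen 5 q)) = true := by decide +kernel

theorem eq5_307 : allR 1096297 3571 (fun q => Nat.beq (f4 q) (fgen 5 q)) = true := by decide +kernel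

theorem eq5_308 : allR 1099868 3571 (fun q => Nat.beq (f4 q) (fgen 5 q)) = true := by decide +kernel

theorem eq5_309 : allR 1103439 3571 (fun q => Nat.beq (f4 q) (fgen 5 q)) = true := by decide +kernel

theorem eq5_310 : allR 1107010 3571 (fun q => Nat.beq (f4 q) (fgen 5 q)) = true := by decide +kernel

theorem eq5_311 : allR 1110581 3571 (fun q => Nat.beq (f4 q) (fgen 5 q)) = true := by decide +kernel

theorem eq5_312 : allR 1114152 3571 (fun q => Nat.beq (f4 q) (fgen 5 q)) = true := by decide +kernel

theorem eq5_313 : allR 1117723 3571 (fun q => Nat.beq (f4 q) (fgen 5 q)) = true := by decide +kernel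

theorem eq5_314 : allR 1121294 3571 (fun q => Nat.beq (f4 q) (fgen 5 q)) = true := by decide +kernel

theorem eq5_315 : allR 1124865 3571 (fun q => Nat.beq (f4 q) (fgen 5 q)) = true := by decide +kernel

theorem eq5_316 : allR 1128436 3571 (fun q => Nat.beq (f4 q) (fgen 5 q)) = true := by decide +kernel

theorem eq5_317 : allR 1132007 3571 (fun q => Nat.beq (f4 q) (fgen 5 q)) = true := by decide +kernel

theorem eq5_318 : allR 1135578 3571 (fun q => Nat.beq (f4 q) (fgen 5 q)) = true := by decide +kernel

theorem eq5_319 : allR 1139149 3571 (fun q => Nat.beq (f4 q) (fgen 5 q)) = true := by decide +kernel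

theorem eq5_320 : allR 1142720 3571 (fun q => Nat.beq (f4 q) (fgen 5 q)) = true := by decide +kernel

theorem eq5_321 : allR 1146291 3571 (fun q => Nat.beq (f4 q) (fgen 5 q)) = true := by decide +kernel

theorem eq5_322 : allR 1149862 3571 (fun q => Nat.beq (f4 q) (fgen 5 q)) = true := by decide +kernel

theorem eq5_323 : allR 1153433 3571 (fun q => Nat.beq (f4 q) (fgen 5 q)) = true := by decide +kernel

theorem eq5_324 : allR 1157004 3571 (fun q => Nat.beq (f4 q) (fgen 5 q)) = true := by decide +kernel


end Cfsg.Agent.HNOut
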