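import Cfsg.Agent.Lib.Lead.HNOut.D6

/-! # The outer automorphism group of the Harada–Norton group: the check of the table of the element number 6 (generated) -/

set_option autoImplicit false
set_option maxRecDepth 100000

namespace Cfsg.Agent.HNOut

open Cfsg.Agent.PF Cfsg.Agent.Lib.Helper6 Cfsg.Agent.Lib.Helper6.TC Cfsg.Agent.Lib.Helper6.NatArr
open Cfsg.Agent.PL (Acts evalF)

theorem eq6_0 : allR 0 3571 (fun q => Nat.beq (f6 q) (fgen 6 q)) = true := by decide +kernel

theorem eq6_1 : allR 3571 3571 (fun q => Nat.beq (f6 q) (fgen 6 q)) = true := by decide +kernel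

theorem eq6_2 : allR 7142 3571 (fun q => Nat.beq (f6 q) (fgen 6 q)) = true := by decide +kernel

theorem eq6_3 : allR 10713 3571 (fun q => Nat.beq (f6 q) (fgen 6 q)) = true := by decide +kernel

theorem eq6_4 : allR 14284 3571 (fun q => Nat.beq (f6 q) (fgen 6 q)) = true := by decide +kernel

theorem eq6_5 : allR 17855 3571 (fun q => Nat.beq (f6 q) (fgen 6 q)) = true := by decide +kernel

theorem eq6_6 : allR 21426 3571 (fun q => Nat.beq (f6 q) (fgen 6 q)) = true := by decide +kernel

theorem eq6_7 : allR 24997 3571 (fun q => Nat.beq (f6 q) (fgen 6 q)) = true := by decide +kernel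

theorem eq6_8 : allR 28568 3571 (fun q => Nat.beq (f6 q) (fgen 6 q)) = true := by decide +kernel

theorem eq6_9 : allR 32139 3571 (fun q => Nat.beq (f6 q) (fgen 6 q)) = true := by decide +kernel

theorem eq6_10 : allR 35710 3571 (fun q => Nat.beq (f6 q) (fgen 6 q)) = true := by decide +kernel

theorem eq6_11 : allR 39281 3571 (fun q => Nat.beq (f6 q) (fgen 6 q)) = true := by decide +kernel

theorem eq6_12 : allR 42852 3571 (fun q => Nat.beq (f6 q) (fgen 6 q)) = true := by decide +kernel

theorem eq6_13 : allR 46423 3571 (fun q => Nat.beq (f6 q) (fgen 6 q)) = true := by decide +kernel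

theorem eq6_14 : allR 49994 3571 (fun q => Nat.beq (f6 q) (fgen 6 q)) = true := by decide +kernel

theorem eq6_15 : allR 53565 3571 (fun q => Nat.beq (f6 q) (fgen 6 q)) = true := by decide +kernel

theorem eq6_16 : allR 57136 3571 (fun q => Nat.beq (f6 q) (fgen 6 q)) = true := by decide +kernel

theorem eq6_17 : allR 60707 3571 (fun q => Nat.beq (f6 q) (fgen 6 q)) = true := by decide +kernel

theorem eq6_18 : allR 64278 3571 (fun q => Nat.beq (f6 q) (fgen 6 q)) = true := by decide +kernel

theorem eq6_19 : allR 67849 3571 (fun q => Nat.beq (f6 q) (fgen 6 q)) = true := by decide +kernel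

theorem eq6_20 : allR 71420 3571 (fun q => Nat.beq (f6 q) (fgen 6 q)) = true := by decide +kernel

theorem eq6_21 : allR 74991 3571 (fun q => Nat.beq (f6 q) (fgen 6 q)) = true := by decide +kernel

theorem eq6_22 : allR 78562 3571 (fun q => Nat.beq (f6 q) (fgen 6 q)) = true := by decide +kernel

theorem eq6_23 : allR 82133 3571 (fun q => Nat.beq (f6 q) (fgen 6 q)) = true := by decide +kernel

theorem eq6_24 : allR 85704 3571 (fun q => Nat.beq (f6 q) (fgen 6 q)) = true := by decide +kernel


end Cfsg.Agent.HNOut
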