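import Cfsg.Agent.Lib.Lead.HNOut.D8

/-! # The outer automorphism group of the Harada–Norton group: the check of the table of the element number 8 (generated) -/

set_option autoImplicit false
set_option maxRecDepth 100000

namespace Cfsg.Agent.HNOut

open Cfsg.Agent.PF Cfsg.Agent.Lib.Helper6 Cfsg.Agent.Lib.Helper6.TC Cfsg.Agent.Lib.Helper6.NatArr
open Cfsg.Agent.PL (Acts evalF)

theorem eq8_0 : allR 0 7125 (fun q => Nat.beq (f8 q) ((fun q => f7 (f2 (f1 (f7 (f4 (f6 (f0 (f3 (f1 (f1 (f3 (f1 (f6 (q)))))))))))))) q)) = true := by decide +kernel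

theorem eq8_1 : allR 7125 7125 (fun q => Nat.beq (f8 q) ((fun q => f7 (f2 (f1 (f7 (f4 (f6 (f0 (f3 (f1 (f1 (f3 (f1 (f6 (q)))))))))))))) q)) = true := by decide +kernel

theorem eq8_2 : allR 14250 7125 (fun q => Nat.beq (f8 q) ((fun q => f7 (f2 (f1 (f7 (f4 (f6 (f0 (f3 (f1 (f1 (f3 (f1 (f6 (q)))))))))))))) q)) = true := by decide +kernel

theorem eq8_3 : allR 21375 7125 (fun q => Nat.beq (f8 q) ((fun q => f7 (f2 (f1 (f7 (f4 (f6 (f0 (f3 (f1 (f1 (f3 (f1 (f6 (q)))))))))))))) q)) = true := by decide +kernel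

theorem eq8_4 : allR 28500 7125 (fun q => Nat.beq (f8 q) ((fun q => f7 (f2 (f1 (f7 (f4 (f6 (f0 (f3 (f1 (f1 (f3 (f1 (f6 (q)))))))))))))) q)) = true := by decide +kernel

theorem eq8_5 : allR 35625 7125 (fun q => Nat.beq (f8 q) ((fun q => f7 (f2 (f1 (f7 (f4 (f6 (f0 (f3 (f1 (f1 (f3 (f1 (f6 (q)))))))))))))) q)) = true := by decide +kernel

theorem eq8_6 : allR 42750 7125 (fun q => Nat.beq (f8 q) ((fun q => f7 (f2 (f1 (f7 (f4 (f6 (f0 (f3 (f1 (f1 (f3 (f1 (f6 (q)))))))))))))) q)) = true := by decide +kernel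

theorem eq8_7 : allR 49875 7125 (fun q => Nat.beq (f8 q) ((fun q => f7 (f2 (f1 (f7 (f4 (f6 (f0 (f3 (f1 (f1 (f3 (f1 (f6 (q)))))))))))))) q)) = true := by decide +kernel

theorem eq8_8 : allR 57000 7125 (fun q => Nat.beq (f8 q) ((fun q => f7 (f2 (f1 (f7 (f4 (f6 (f0 (f3 (f1 (f1 (f3 (f1 (f6 (q)))))))))))))) q)) = true := by decide +kernel

theorem eq8_9 : allR 64125 7125 (fun q => Nat.beq (f8 q) ((fun q => f7 (f2 (f1 (f7 (f4 (f6 (f0 (f3 (f1 (f1 (f3 (f1 (f6 (q)))))))))))))) q)) = true := by decide +kernel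

theorem eq8_10 : allR 71250 7125 (fun q => Nat.beq (f8 q) ((fun q => f7 (f2 (f1 (f7 (f4 (f6 (f0 (f3 (f1 (f1 (f3 (f1 (f6 (q)))))))))))))) q)) = true := by decide +kernel

theorem eq8_11 : allR 78375 7125 (fun q => Nat.beq (f8 q) ((fun q => f7 (f2 (f1 (f7 (f4 (f6 (f0 (f3 (f1 (f1 (f3 (f1 (f6 (q)))))))))))))) q)) = true := by decide +kernel

theorem eq8_12 : allR 85500 7125 (fun q => Nat.beq (f8 q) ((fun q => f7 (f2 (f1 (f7 (f4 (f6 (f0 (f3 (f1 (f1 (f3 (f1 (f6 (q)))))))))))))) q)) = true := by decide +kernel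

theorem eq8_13 : allR 92625 7125 (fun q => Nat.beq (f8 q) ((fun q => f7 (f2 (f1 (f7 (f4 (f6 (f0 (f3 (f1 (f1 (f3 (f1 (f6 (q)))))))))))))) q)) = true := by decide +kernel

theorem eq8_14 : allR 99750 7125 (fun q => Nat.beq (f8 q) ((fun q => f7 (f2 (f1 (f7 (f4 (f6 (f0 (f3 (f1 (f1 (f3 (f1 (f6 (q)))))))))))))) q)) = true := by decide +kernel

theorem eq8_15 : allR 106875 7125 (fun q => Nat.beq (f8 q) ((fun q => f7 (f2 (f1 (f7 (f4 (f6 (f0 (f3 (f1 (f1 (f3 (f1 (f6 (q)))))))))))))) q)) = true := by decide +kernel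

theorem eq8_16 : allR 114000 7125 (fun q => Nat.beq (f8 q) ((fun q => f7 (f2 (f1 (f7 (f4 (f6 (f0 (f3 (f1 (f1 (f3 (f1 (f6 (q)))))))))))))) q)) = true := by decide +kernel

theorem eq8_17 : allR 121125 7125 (fun q => Nat.beq (f8 q) ((fun q => f7 (f2 (f1 (f7 (f4 (f6 (f0 (f3 (f1 (f1 (f3 (f1 (f6 (q)))))))))))))) q)) = true := by decide +kernel

theorem eq8_18 : allR 128250 7125 (fun q => Nat.beq (f8 q) ((fun q => f7 (f2 (f1 (f7 (f4 (f6 (f0 (f3 (f1 (f1 (f3 (f1 (f6 (q)))))))))))))) q)) = true := by decide +kernel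

theorem eq8_19 : allR 135375 7125 (fun q => Nat.beq (f8 q) ((fun q => f7 (f2 (f1 (f7 (f4 (f6 (f0 (f3 (f1 (f1 (f3 (f1 (f6 (q)))))))))))))) q)) = true := by decide +kernel

theorem eq8_20 : allR 142500 7125 (fun q => Nat.beq (f8 q) ((fun q => f7 (f2 (f1 (f7 (f4 (f6 (f0 (f3 (f1 (f1 (f3 (f1 (f6 (q)))))))))))))) q)) = true := by decide +kernel

theorem eq8_21 : allR 149625 7125 (fun q => Nat.beq (f8 q) ((fun q => f7 (f2 (f1 (f7 (f4 (f6 (f0 (f3 (f1 (f1 (f3 (f1 (f6 (q)))))))))))))) q)) = true := by decide +kernel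

theorem eq8_22 : allR 156750 7125 (fun q => Nat.beq (f8 q) ((fun q => f7 (f2 (f1 (f7 (f4 (f6 (f0 (f3 (f1 (f1 (f3 (f1 (f6 (q)))))))))))))) q)) = true := by decide +kernel

theorem eq8_23 : allR 163875 7125 (fun q => Nat.beq (f8 q) ((fun q => f7 (f2 (f1 (f7 (f4 (f6 (f0 (f3 (f1 (f1 (f3 (f1 (f6 (q)))))))))))))) q)) = true := by decide +kernel

theorem eq8_24 : allR 171000 7125 (fun q => Nat.beq (f8 q) ((fun q => f7 (f2 (f1 (f7 (f4 (f6 (f0 (f3 (f1 (f1 (f3 (f1 (f6 (q)))))))))))))) q)) = true := by decide +kernel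


end Cfsg.Agent.HNOut
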