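import Cfsg.Agent.Lib.Lead.HNOut.D8

/-! # The outer automorphism group of the Harada–Norton group: the check of the table of the element number 8 (generated) -/

set_option autoImplicit false
set_option maxRecDepth 100000

namespace Cfsg.Agent.HNOut

open Cfsg.Agent.PF Cfsg.Agent.Lib.Helper6 Cfsg.Agent.Lib.Helper6.TC Cfsg.Agent.Lib.Helper6.NatArr
open Cfsg.Agent.PL (Acts evalF)

theorem eq8_75 : allR 534375 7125 (fun q => Nat.beq (f8 q) ((fun q => f7 (f2 (f1 (f7 (f4 (f6 (f0 (f3 (f1 (f1 (f3 (f1 (f6 (q)))))))))))))) q)) = true := by decide +kernel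

theorem eq8_76 : allR 541500 7125 (fun q => Nat.beq (f8 q) ((fun q => f7 (f2 (f1 (f7 (f4 (f6 (f0 (f3 (f1 (f1 (f3 (f1 (f6 (q)))))))))))))) q)) = true := by decide +kernel

theorem eq8_77 : allR 548625 7125 (fun q => Nat.beq (f8 q) ((fun q => f7 (f2 (f1 (f7 (f4 (f6 (f0 (f3 (f1 (f1 (f3 (f1 (f6 (q)))))))))))))) q)) = true := by decide +kernel

theorem eq8_78 : allR 555750 7125 (fun q => Nat.beq (f8 q) ((fun q => f7 (f2 (f1 (f7 (f4 (f6 (f0 (f3 (f1 (f1 (f3 (f1 (f6 (q)))))))))))))) q)) = true := by decide +kernel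

theorem eq8_79 : allR 562875 7125 (fun q => Nat.beq (f8 q) ((fun q => f7 (f2 (f1 (f7 (f4 (f6 (f0 (f3 (f1 (f1 (f3 (f1 (f6 (q)))))))))))))) q)) = true := by decide +kernel

theorem eq8_80 : allR 570000 7125 (fun q => Nat.beq (f8 q) ((fun q => f7 (f2 (f1 (f7 (f4 (f6 (f0 (f3 (f1 (f1 (f3 (f1 (f6 (q)))))))))))))) q)) = true := by decide +kernel

theorem eq8_81 : allR 577125 7125 (fun q => Nat.beq (f8 q) ((fun q => f7 (f2 (f1 (f7 (f4 (f6 (f0 (f3 (f1 (f1 (f3 (f1 (f6 (q)))))))))))))) q)) = true := by decide +kernel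

theorem eq8_82 : allR 584250 7125 (fun q => Nat.beq (f8 q) ((fun q => f7 (f2 (f1 (f7 (f4 (f6 (f0 (f3 (f1 (f1 (f3 (f1 (f6 (q)))))))))))))) q)) = true := by decide +kernel

theorem eq8_83 : allR 591375 7125 (fun q => Nat.beq (f8 q) ((fun q => f7 (f2 (f1 (f7 (f4 (f6 (f0 (f3 (f1 (f1 (f3 (f1 (f6 (q)))))))))))))) q)) = true := by decide +kernel

theorem eq8_84 : allR 598500 7125 (fun q => Nat.beq (f8 q) ((fun q => f7 (f2 (f1 (f7 (f4 (f6 (f0 (f3 (f1 (f1 (f3 (f1 (f6 (q)))))))))))))) q)) = true := by decide +kernel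

theorem eq8_85 : allR 605625 7125 (fun q => Nat.beq (f8 q) ((fun q => f7 (f2 (f1 (f7 (f4 (f6 (f0 (f3 (f1 (f1 (f3 (f1 (f6 (q)))))))))))))) q)) = true := by decide +kernel

theorem eq8_86 : allR 612750 7125 (fun q => Nat.beq (f8 q) ((fun q => f7 (f2 (f1 (f7 (f4 (f6 (f0 (f3 (f1 (f1 (f3 (f1 (f6 (q)))))))))))))) q)) = true := by decide +kernel

theorem eq8_87 : allR 619875 7125 (fun q => Nat.beq (f8 q) ((fun q => f7 (f2 (f1 (f7 (f4 (f6 (f0 (f3 (f1 (f1 (f3 (f1 (f6 (q)))))))))))))) q)) = true := by decide +kernel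

theorem eq8_88 : allR 627000 7125 (fun q => Nat.beq (f8 q) ((fun q => f7 (f2 (f1 (f7 (f4 (f6 (f0 (f3 (f1 (f1 (f3 (f1 (f6 (q)))))))))))))) q)) = true := by decide +kernel

theorem eq8_89 : allR 634125 7125 (fun q => Nat.beq (f8 q) ((fun q => f7 (f2 (f1 (f7 (f4 (f6 (f0 (f3 (f1 (f1 (f3 (f1 (f6 (q)))))))))))))) q)) = true := by decide +kernel

theorem eq8_90 : allR 641250 7125 (fun q => Nat.beq (f8 q) ((fun q => f7 (f2 (f1 (f7 (f4 (f6 (f0 (f3 (f1 (f1 (f3 (f1 (f6 (q)))))))))))))) q)) = true := by decide +kernel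

theorem eq8_91 : allR 648375 7125 (fun q => Nat.beq (f8 q) ((fun q => f7 (f2 (f1 (f7 (f4 (f6 (f0 (f3 (f1 (f1 (f3 (f1 (f6 (q)))))))))))))) q)) = true := by decide +kernel

theorem eq8_92 : allR 655500 7125 (fun q => Nat.beq (f8 q) ((fun q => f7 (f2 (f1 (f7 (f4 (f6 (f0 (f3 (f1 (f1 (f3 (f1 (f6 (q)))))))))))))) q)) = true := by decide +kernel

theorem eq8_93 : allR 662625 7125 (fun q => Nat.beq (f8 q) ((fun q => f7 (f2 (f1 (f7 (f4 (f6 (f0 (f3 (f1 (f1 (f3 (f1 (f6 (q)))))))))))))) q)) = true := by decide +kernel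

theorem eq8_94 : allR 669750 7125 (fun q => Nat.beq (f8 q) ((fun q => f7 (f2 (f1 (f7 (f4 (f6 (f0 (f3 (f1 (f1 (f3 (f1 (f6 (q)))))))))))))) q)) = true := by decide +kernel

theorem eq8_95 : allR 676875 7125 (fun q => Nat.beq (f8 q) ((fun q => f7 (f2 (f1 (f7 (f4 (f6 (f0 (f3 (f1 (f1 (f3 (f1 (f6 (q)))))))))))))) q)) = true := by decide +kernel

theorem eq8_96 : allR 684000 7125 (fun q => Nat.beq (f8 q) ((fun q => f7 (f2 (f1 (f7 (f4 (f6 (f0 (f3 (f1 (f1 (f3 (f1 (f6 (q)))))))))))))) q)) = true := by decide +kernel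

theorem eq8_97 : allR 691125 7125 (fun q => Nat.beq (f8 q) ((fun q => f7 (f2 (f1 (f7 (f4 (f6 (f0 (f3 (f1 (f1 (f3 (f1 (f6 (q)))))))))))))) q)) = true := by decide +kernel

theorem eq8_98 : allR 698250 7125 (fun q => Nat.beq (f8 q) ((fun q => f7 (f2 (f1 (f7 (f4 (f6 (f0 (f3 (f1 (f1 (f3 (f1 (f6 (q)))))))))))))) q)) = true := by decide +kernel

theorem eq8_99 : allR 705375 7125 (fun q => Nat.beq (f8 q) ((fun q => f7 (f2 (f1 (f7 (f4 (f6 (f0 (f3 (f1 (f1 (f3 (f1 (f6 (q)))))))))))))) q)) = true := by decide +kernel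


end Cfsg.Agent.HNOut
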