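import Cfsg.Agent.Lib.Lead.HNOut.D8

/-! # The outer automorphism group of the Harada–Norton group: the check of the table of the element number 8 (generated) -/

set_option autoImplicit false
set_option maxRecDepth 100000

namespace Cfsg.Agent.HNOut

open Cfsg.Agent.PF Cfsg.Agent.Lib.Helper6 Cfsg.Agent.Lib.Helper6.TC Cfsg.Agent.Lib.Helper6.NatArr
open Cfsg.Agent.PL (Acts evalF)

theorem eq8_100 : allR 712500 7125 (fun q => Nat.beq (f8 q) ((fun q => f7 (f2 (f1 (f7 (f4 (f6 (f0 (f3 (f1 (f1 (f3 (f1 (f6 (q)))))))))))))) q)) = true := by decide +kernel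

theorem eq8_101 : allR 719625 7125 (fun q => Nat.beq (f8 q) ((fun q => f7 (f2 (f1 (f7 (f4 (f6 (f0 (f3 (f1 (f1 (f3 (f1 (f6 (q)))))))))))))) q)) = true := by decide +kernel

theorem eq8_102 : allR 726750 7125 (fun q => Nat.beq (f8 q) ((fun q => f7 (f2 (f1 (f7 (f4 (f6 (f0 (f3 (f1 (f1 (f3 (f1 (f6 (q)))))))))))))) q)) = true := by decide +kernel

theorem eq8_103 : allR 733875 7125 (fun q => Nat.beq (f8 q) ((fun q => f7 (f2 (f1 (f7 (f4 (f6 (f0 (f3 (f1 (f1 (f3 (f1 (f6 (q)))))))))))))) q)) = true := by decide +kernel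

theorem eq8_104 : allR 741000 7125 (fun q => Nat.beq (f8 q) ((fun q => f7 (f2 (f1 (f7 (f4 (f6 (f0 (f3 (f1 (f1 (f3 (f1 (f6 (q)))))))))))))) q)) = true := by decide +kernel

theorem eq8_105 : allR 748125 7125 (fun q => Nat.beq (f8 q) ((fun q => f7 (f2 (f1 (f7 (f4 (f6 (f0 (f3 (f1 (f1 (f3 (f1 (f6 (q)))))))))))))) q)) = true := by decide +kernel

theorem eq8_106 : allR 755250 7125 (fun q => Nat.beq (f8 q) ((fun q => f7 (f2 (f1 (f7 (f4 (f6 (f0 (f3 (f1 (f1 (f3 (f1 (f6 (q)))))))))))))) q)) = true := by decide +kernel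

theorem eq8_107 : allR 762375 7125 (fun q => Nat.beq (f8 q) ((fun q => f7 (f2 (f1 (f7 (f4 (f6 (f0 (f3 (f1 (f1 (f3 (f1 (f6 (q)))))))))))))) q)) = true := by decide +kernel

theorem eq8_108 : allR 769500 7125 (fun q => Nat.beq (f8 q) ((fun q => f7 (f2 (f1 (f7 (f4 (f6 (f0 (f3 (f1 (f1 (f3 (f1 (f6 (q)))))))))))))) q)) = true := by decide +kernel

theorem eq8_109 : allR 776625 7125 (fun q => Nat.beq (f8 q) ((fun q => f7 (f2 (f1 (f7 (f4 (f6 (f0 (f3 (f1 (f1 (f3 (f1 (f6 (q)))))))))))))) q)) = true := by decide +kernel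

theorem eq8_110 : allR 783750 7125 (fun q => Nat.beq (f8 q) ((fun q => f7 (f2 (f1 (f7 (f4 (f6 (f0 (f3 (f1 (f1 (f3 (f1 (f6 (q)))))))))))))) q)) = true := by decide +kernel

theorem eq8_111 : allR 790875 7125 (fun q => Nat.beq (f8 q) ((fun q => f7 (f2 (f1 (f7 (f4 (f6 (f0 (f3 (f1 (f1 (f3 (f1 (f6 (q)))))))))))))) q)) = true := by decide +kernel

theorem eq8_112 : allR 798000 7125 (fun q => Nat.beq (f8 q) ((fun q => f7 (f2 (f1 (f7 (f4 (f6 (f0 (f3 (f1 (f1 (f3 (f1 (f6 (q)))))))))))))) q)) = true := by decide +kernel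

theorem eq8_113 : allR 805125 7125 (fun q => Nat.beq (f8 q) ((fun q => f7 (f2 (f1 (f7 (f4 (f6 (f0 (f3 (f1 (f1 (f3 (f1 (f6 (q)))))))))))))) q)) = true := by decide +kernel

theorem eq8_114 : allR 812250 7125 (fun q => Nat.beq (f8 q) ((fun q => f7 (f2 (f1 (f7 (f4 (f6 (f0 (f3 (f1 (f1 (f3 (f1 (f6 (q)))))))))))))) q)) = true := by decide +kernel

theorem eq8_115 : allR 819375 7125 (fun q => Nat.beq (f8 q) ((fun q => f7 (f2 (f1 (f7 (f4 (f6 (f0 (f3 (f1 (f1 (f3 (f1 (f6 (q)))))))))))))) q)) = true := by decide +kernel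

theorem eq8_116 : allR 826500 7125 (fun q => Nat.beq (f8 q) ((fun q => f7 (f2 (f1 (f7 (f4 (f6 (f0 (f3 (f1 (f1 (f3 (f1 (f6 (q)))))))))))))) q)) = true := by decide +kernel

theorem eq8_117 : allR 833625 7125 (fun q => Nat.beq (f8 q) ((fun q => f7 (f2 (f1 (f7 (f4 (f6 (f0 (f3 (f1 (f1 (f3 (f1 (f6 (q)))))))))))))) q)) = true := by decide +kernel

theorem eq8_118 : allR 840750 7125 (fun q => Nat.beq (f8 q) ((fun q => f7 (f2 (f1 (f7 (f4 (f6 (f0 (f3 (f1 (f1 (f3 (f1 (f6 (q)))))))))))))) q)) = true := by decide +kernel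

theorem eq8_119 : allR 847875 7125 (fun q => Nat.beq (f8 q) ((fun q => f7 (f2 (f1 (f7 (f4 (f6 (f0 (f3 (f1 (f1 (f3 (f1 (f6 (q)))))))))))))) q)) = true := by decide +kernel

theorem eq8_120 : allR 855000 7125 (fun q => Nat.beq (f8 q) ((fun q => f7 (f2 (f1 (f7 (f4 (f6 (f0 (f3 (f1 (f1 (f3 (f1 (f6 (q)))))))))))))) q)) = true := by decide +kernel

theorem eq8_121 : allR 862125 7125 (fun q => Nat.beq (f8 q) ((fun q => f7 (f2 (f1 (f7 (f4 (f6 (f0 (f3 (f1 (f1 (f3 (f1 (f6 (q)))))))))))))) q)) = true := by decide +kernel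

theorem eq8_122 : allR 869250 7125 (fun q => Nat.beq (f8 q) ((fun q => f7 (f2 (f1 (f7 (f4 (f6 (f0 (f3 (f1 (f1 (f3 (f1 (f6 (q)))))))))))))) q)) = true := by decide +kernel

theorem eq8_123 : allR 876375 7125 (fun q => Nat.beq (f8 q) ((fun q => f7 (f2 (f1 (f7 (f4 (f6 (f0 (f3 (f1 (f1 (f3 (f1 (f6 (q)))))))))))))) q)) = true := by decide +kernel

theorem eq8_124 : allR 883500 7125 (fun q => Nat.beq (f8 q) ((fun q => f7 (f2 (f1 (f7 (f4 (f6 (f0 (f3 (f1 (f1 (f3 (f1 (f6 (q)))))))))))))) q)) = true := by decide +kernel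


end Cfsg.Agent.HNOut
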