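import Cfsg.Agent.Lib.Lead.HNOut.D9

/-! # The outer automorphism group of the Harada–Norton group: the check of the table of the element number 9 (generated) -/

set_option autoImplicit false
set_option maxRecDepth 100000

namespace Cfsg.Agent.HNOut

open Cfsg.Agent.PF Cfsg.Agent.Lib.Helper6 Cfsg.Agent.Lib.Helper6.TC Cfsg.Agent.Lib.Helper6.NatArr
open Cfsg.Agent.PL (Acts evalF)

theorem eq9_25 : allR 89275 3571 (fun q => Nat.beq (f9 q) ((fun q => f6 (f6 (f4 (f3 (f4 (f6 (f2 (f2 (f0 (f3 (f3 (f4 (f2 (f4 (f0 (f2 (f2 (f1 (f2 (f4 (f2 (f1 (f3 (f3 (f1 (f3 (f4 (q)))))))))))))))))))))))))))) q)) = true := by decide +kernel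

theorem eq9_26 : allR 92846 3571 (fun q => Nat.beq (f9 q) ((fun q => f6 (f6 (f4 (f3 (f4 (f6 (f2 (f2 (f0 (f3 (f3 (f4 (f2 (f4 (f0 (f2 (f2 (f1 (f2 (f4 (f2 (f1 (f3 (f3 (f1 (f3 (f4 (q)))))))))))))))))))))))))))) q)) = true := by decide +kernel

theorem eq9_27 : allR 96417 3571 (fun q => Nat.beq (f9 q) ((fun q => f6 (f6 (f4 (f3 (f4 (f6 (f2 (f2 (f0 (f3 (f3 (f4 (f2 (f4 (f0 (f2 (f2 (f1 (f2 (f4 (f2 (f1 (f3 (f3 (f1 (f3 (f4 (q)))))))))))))))))))))))))))) q)) = true := by decide +kernel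

theorem eq9_28 : allR 99988 3571 (fun q => Nat.beq (f9 q) ((fun q => f6 (f6 (f4 (f3 (f4 (f6 (f2 (f2 (f0 (f3 (f3 (f4 (f2 (f4 (f0 (f2 (f2 (f1 (f2 (f4 (f2 (f1 (f3 (f3 (f1 (f3 (f4 (q)))))))))))))))))))))))))))) q)) = true := by decide +kernel

theorem eq9_29 : allR 103559 3571 (fun q => Nat.beq (f9 q) ((fun q => f6 (f6 (f4 (f3 (f4 (f6 (f2 (f2 (f0 (f3 (f3 (f4 (f2 (f4 (f0 (f2 (f2 (f1 (f2 (f4 (f2 (f1 (f3 (f3 (f1 (f3 (f4 (q)))))))))))))))))))))))))))) q)) = true := by decide +kernel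

theorem eq9_30 : allR 107130 3571 (fun q => Nat.beq (f9 q) ((fun q => f6 (f6 (f4 (f3 (f4 (f6 (f2 (f2 (f0 (f3 (f3 (f4 (f2 (f4 (f0 (f2 (f2 (f1 (f2 (f4 (f2 (f1 (f3 (f3 (f1 (f3 (f4 (q)))))))))))))))))))))))))))) q)) = true := by decide +kernel

theorem eq9_31 : allR 110701 3571 (fun q => Nat.beq (f9 q) ((fun q => f6 (f6 (f4 (f3 (f4 (f6 (f2 (f2 (f0 (f3 (f3 (f4 (f2 (f4 (f0 (f2 (f2 (f1 (f2 (f4 (f2 (f1 (f3 (f3 (f1 (f3 (f4 (q)))))))))))))))))))))))))))) q)) = true := by decide +kernel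

theorem eq9_32 : allR 114272 3571 (fun q => Nat.beq (f9 q) ((fun q => f6 (f6 (f4 (f3 (f4 (f6 (f2 (f2 (f0 (f3 (f3 (f4 (f2 (f4 (f0 (f2 (f2 (f1 (f2 (f4 (f2 (f1 (f3 (f3 (f1 (f3 (f4 (q)))))))))))))))))))))))))))) q)) = true := by decide +kernel

theorem eq9_33 : allR 117843 3571 (fun q => Nat.beq (f9 q) ((fun q => f6 (f6 (f4 (f3 (f4 (f6 (f2 (f2 (f0 (f3 (f3 (f4 (f2 (f4 (f0 (f2 (f2 (f1 (f2 (f4 (f2 (f1 (f3 (f3 (f1 (f3 (f4 (q)))))))))))))))))))))))))))) q)) = true := by decide +kernel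

theorem eq9_34 : allR 121414 3571 (fun q => Nat.beq (f9 q) ((fun q => f6 (f6 (f4 (f3 (f4 (f6 (f2 (f2 (f0 (f3 (f3 (f4 (f2 (f4 (f0 (f2 (f2 (f1 (f2 (f4 (f2 (f1 (f3 (f3 (f1 (f3 (f4 (q)))))))))))))))))))))))))))) q)) = true := by decide +kernel

theorem eq9_35 : allR 124985 3571 (fun q => Nat.beq (f9 q) ((fun q => f6 (f6 (f4 (f3 (f4 (f6 (f2 (f2 (f0 (f3 (f3 (f4 (f2 (f4 (f0 (f2 (f2 (f1 (f2 (f4 (f2 (f1 (f3 (f3 (f1 (f3 (f4 (q)))))))))))))))))))))))))))) q)) = true := by decide +kernel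

theorem eq9_36 : allR 128556 3571 (fun q => Nat.beq (f9 q) ((fun q => f6 (f6 (f4 (f3 (f4 (f6 (f2 (f2 (f0 (f3 (f3 (f4 (f2 (f4 (f0 (f2 (f2 (f1 (f2 (f4 (f2 (f1 (f3 (f3 (f1 (f3 (f4 (q)))))))))))))))))))))))))))) q)) = true := by decide +kernel

theorem eq9_37 : allR 132127 3571 (fun q => Nat.beq (f9 q) ((fun q => f6 (f6 (f4 (f3 (f4 (f6 (f2 (f2 (f0 (f3 (f3 (f4 (f2 (f4 (f0 (f2 (f2 (f1 (f2 (f4 (f2 (f1 (f3 (f3 (f1 (f3 (f4 (q)))))))))))))))))))))))))))) q)) = true := by decide +kernel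

theorem eq9_38 : allR 135698 3571 (fun q => Nat.beq (f9 q) ((fun q => f6 (f6 (f4 (f3 (f4 (f6 (f2 (f2 (f0 (f3 (f3 (f4 (f2 (f4 (f0 (f2 (f2 (f1 (f2 (f4 (f2 (f1 (f3 (f3 (f1 (f3 (f4 (q)))))))))))))))))))))))))))) q)) = true := by decide +kernel

theorem eq9_39 : allR 139269 3571 (fun q => Nat.beq (f9 q) ((fun q => f6 (f6 (f4 (f3 (f4 (f6 (f2 (f2 (f0 (f3 (f3 (f4 (f2 (f4 (f0 (f2 (f2 (f1 (f2 (f4 (f2 (f1 (f3 (f3 (f1 (f3 (f4 (q)))))))))))))))))))))))))))) q)) = true := by decide +kernel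

theorem eq9_40 : allR 142840 3571 (fun q => Nat.beq (f9 q) ((fun q => f6 (f6 (f4 (f3 (f4 (f6 (f2 (f2 (f0 (f3 (f3 (f4 (f2 (f4 (f0 (f2 (f2 (f1 (f2 (f4 (f2 (f1 (f3 (f3 (f1 (f3 (f4 (q)))))))))))))))))))))))))))) q)) = true := by decide +kernel

theorem eq9_41 : allR 146411 3571 (fun q => Nat.beq (f9 q) ((fun q => f6 (f6 (f4 (f3 (f4 (f6 (f2 (f2 (f0 (f3 (f3 (f4 (f2 (f4 (f0 (f2 (f2 (f1 (f2 (f4 (f2 (f1 (f3 (f3 (f1 (f3 (f4 (q)))))))))))))))))))))))))))) q)) = true := by decide +kernel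

theorem eq9_42 : allR 149982 3571 (fun q => Nat.beq (f9 q) ((fun q => f6 (f6 (f4 (f3 (f4 (f6 (f2 (f2 (f0 (f3 (f3 (f4 (f2 (f4 (f0 (f2 (f2 (f1 (f2 (f4 (f2 (f1 (f3 (f3 (f1 (f3 (f4 (q)))))))))))))))))))))))))))) q)) = true := by decide +kernel

theorem eq9_43 : allR 153553 3571 (fun q => Nat.beq (f9 q) ((fun q => f6 (f6 (f4 (f3 (f4 (f6 (f2 (f2 (f0 (f3 (f3 (f4 (f2 (f4 (f0 (f2 (f2 (f1 (f2 (f4 (f2 (f1 (f3 (f3 (f1 (f3 (f4 (q)))))))))))))))))))))))))))) q)) = true := by decide +kernel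

theorem eq9_44 : allR 157124 3571 (fun q => Nat.beq (f9 q) ((fun q => f6 (f6 (f4 (f3 (f4 (f6 (f2 (f2 (f0 (f3 (f3 (f4 (f2 (f4 (f0 (f2 (f2 (f1 (f2 (f4 (f2 (f1 (f3 (f3 (f1 (f3 (f4 (q)))))))))))))))))))))))))))) q)) = true := by decide +kernel

theorem eq9_45 : allR 160695 3571 (fun q => Nat.beq (f9 q) ((fun q => f6 (f6 (f4 (f3 (f4 (f6 (f2 (f2 (f0 (f3 (f3 (f4 (f2 (f4 (f0 (f2 (f2 (f1 (f2 (f4 (f2 (f1 (f3 (f3 (f1 (f3 (f4 (q)))))))))))))))))))))))))))) q)) = true := by decide +kernel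

theorem eq9_46 : allR 164266 3571 (fun q => Nat.beq (f9 q) ((fun q => f6 (f6 (f4 (f3 (f4 (f6 (f2 (f2 (f0 (f3 (f3 (f4 (f2 (f4 (f0 (f2 (f2 (f1 (f2 (f4 (f2 (f1 (f3 (f3 (f1 (f3 (f4 (q)))))))))))))))))))))))))))) q)) = true := by decide +kernel

theorem eq9_47 : allR 167837 3571 (fun q => Nat.beq (f9 q) ((fun q => f6 (f6 (f4 (f3 (f4 (f6 (f2 (f2 (f0 (f3 (f3 (f4 (f2 (f4 (f0 (f2 (f2 (f1 (f2 (f4 (f2 (f1 (f3 (f3 (f1 (f3 (f4 (q)))))))))))))))))))))))))))) q)) = true := by decide +kernel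

theorem eq9_48 : allR 171408 3571 (fun q => Nat.beq (f9 q) ((fun q => f6 (f6 (f4 (f3 (f4 (f6 (f2 (f2 (f0 (f3 (f3 (f4 (f2 (f4 (f0 (f2 (f2 (f1 (f2 (f4 (f2 (f1 (f3 (f3 (f1 (f3 (f4 (q)))))))))))))))))))))))))))) q)) = true := by decide +kernel

theorem eq9_49 : allR 174979 3571 (fun q => Nat.beq (f9 q) ((fun q => f6 (f6 (f4 (f3 (f4 (f6 (f2 (f2 (f0 (f3 (f3 (f4 (f2 (f4 (f0 (f2 (f2 (f1 (f2 (f4 (f2 (f1 (f3 (f3 (f1 (f3 (f4 (q)))))))))))))))))))))))))))) q)) = true := by decide +kernel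


end Cfsg.Agent.HNOut
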