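import Cfsg.Agent.Lib.Lead.HNOut.D9

/-! # The outer automorphism group of the Harada–Norton group: the check of the table of the element number 9 (generated) -/

set_option autoImplicit false
set_option maxRecDepth 100000

namespace Cfsg.Agent.HNOut

open Cfsg.Agent.PF Cfsg.Agent.Lib.Helper6 Cfsg.Agent.Lib.Helper6.TC Cfsg.Agent.Lib.Helper6.NatArr
open Cfsg.Agent.PL (Acts evalF)

theorem eq9_300 : allR 1071300 3571 (fun q => Nat.beq (f9 q) ((fun q => f6 (f6 (f4 (f3 (f4 (f6 (f2 (f2 (f0 (f3 (f3 (f4 (f2 (f4 (f0 (f2 (f2 (f1 (f2 (f4 (f2 (f1 (f3 (f3 (f1 (f3 (f4 (q)))))))))))))))))))))))))))) q)) = true := by decide +kernel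

theorem eq9_301 : allR 1074871 3571 (fun q => Nat.beq (f9 q) ((fun q => f6 (f6 (f4 (f3 (f4 (f6 (f2 (f2 (f0 (f3 (f3 (f4 (f2 (f4 (f0 (f2 (f2 (f1 (f2 (f4 (f2 (f1 (f3 (f3 (f1 (f3 (f4 (q)))))))))))))))))))))))))))) q)) = true := by decide +kernel

theorem eq9_302 : allR 1078442 3571 (fun q => Nat.beq (f9 q) ((fun q => f6 (f6 (f4 (f3 (f4 (f6 (f2 (f2 (f0 (f3 (f3 (f4 (f2 (f4 (f0 (f2 (f2 (f1 (f2 (f4 (f2 (f1 (f3 (f3 (f1 (f3 (f4 (q)))))))))))))))))))))))))))) q)) = true := by decide +kernel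

theorem eq9_303 : allR 1082013 3571 (fun q => Nat.beq (f9 q) ((fun q => f6 (f6 (f4 (f3 (f4 (f6 (f2 (f2 (f0 (f3 (f3 (f4 (f2 (f4 (f0 (f2 (f2 (f1 (f2 (f4 (f2 (f1 (f3 (f3 (f1 (f3 (f4 (q)))))))))))))))))))))))))))) q)) = true := by decide +kernel

theorem eq9_304 : allR 1085584 3571 (fun q => Nat.beq (f9 q) ((fun q => f6 (f6 (f4 (f3 (f4 (f6 (f2 (f2 (f0 (f3 (f3 (f4 (f2 (f4 (f0 (f2 (f2 (f1 (f2 (f4 (f2 (f1 (f3 (f3 (f1 (f3 (f4 (q)))))))))))))))))))))))))))) q)) = true := by decide +kernel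

theorem eq9_305 : allR 1089155 3571 (fun q => Nat.beq (f9 q) ((fun q => f6 (f6 (f4 (f3 (f4 (f6 (f2 (f2 (f0 (f3 (f3 (f4 (f2 (f4 (f0 (f2 (f2 (f1 (f2 (f4 (f2 (f1 (f3 (f3 (f1 (f3 (f4 (q)))))))))))))))))))))))))))) q)) = true := by decide +kernel

theorem eq9_306 : allR 1092726 3571 (fun q => Nat.beq (f9 q) ((fun q => f6 (f6 (f4 (f3 (f4 (f6 (f2 (f2 (f0 (f3 (f3 (f4 (f2 (f4 (f0 (f2 (f2 (f1 (f2 (f4 (f2 (f1 (f3 (f3 (f1 (f3 (f4 (q)))))))))))))))))))))))))))) q)) = true := by decide +kernel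

theorem eq9_307 : allR 1096297 3571 (fun q => Nat.beq (f9 q) ((fun q => f6 (f6 (f4 (f3 (f4 (f6 (f2 (f2 (f0 (f3 (f3 (f4 (f2 (f4 (f0 (f2 (f2 (f1 (f2 (f4 (f2 (f1 (f3 (f3 (f1 (f3 (f4 (q)))))))))))))))))))))))))))) q)) = true := by decide +kernel

theorem eq9_308 : allR 1099868 3571 (fun q => Nat.beq (f9 q) ((fun q => f6 (f6 (f4 (f3 (f4 (f6 (f2 (f2 (f0 (f3 (f3 (f4 (f2 (f4 (f0 (f2 (f2 (f1 (f2 (f4 (f2 (f1 (f3 (f3 (f1 (f3 (f4 (q)))))))))))))))))))))))))))) q)) = true := by decide +kernel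

theorem eq9_309 : allR 1103439 3571 (fun q => Nat.beq (f9 q) ((fun q => f6 (f6 (f4 (f3 (f4 (f6 (f2 (f2 (f0 (f3 (f3 (f4 (f2 (f4 (f0 (f2 (f2 (f1 (f2 (f4 (f2 (f1 (f3 (f3 (f1 (f3 (f4 (q)))))))))))))))))))))))))))) q)) = true := by decide +kernel

theorem eq9_310 : allR 1107010 3571 (fun q => Nat.beq (f9 q) ((fun q => f6 (f6 (f4 (f3 (f4 (f6 (f2 (f2 (f0 (f3 (f3 (f4 (f2 (f4 (f0 (f2 (f2 (f1 (f2 (f4 (f2 (f1 (f3 (f3 (f1 (f3 (f4 (q)))))))))))))))))))))))))))) q)) = true := by decide +kernel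

theorem eq9_311 : allR 1110581 3571 (fun q => Nat.beq (f9 q) ((fun q => f6 (f6 (f4 (f3 (f4 (f6 (f2 (f2 (f0 (f3 (f3 (f4 (f2 (f4 (f0 (f2 (f2 (f1 (f2 (f4 (f2 (f1 (f3 (f3 (f1 (f3 (f4 (q)))))))))))))))))))))))))))) q)) = true := by decide +kernel

theorem eq9_312 : allR 1114152 3571 (fun q => Nat.beq (f9 q) ((fun q => f6 (f6 (f4 (f3 (f4 (f6 (f2 (f2 (f0 (f3 (f3 (f4 (f2 (f4 (f0 (f2 (f2 (f1 (f2 (f4 (f2 (f1 (f3 (f3 (f1 (f3 (f4 (q)))))))))))))))))))))))))))) q)) = true := by decide +kernel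

theorem eq9_313 : allR 1117723 3571 (fun q => Nat.beq (f9 q) ((fun q => f6 (f6 (f4 (f3 (f4 (f6 (f2 (f2 (f0 (f3 (f3 (f4 (f2 (f4 (f0 (f2 (f2 (f1 (f2 (f4 (f2 (f1 (f3 (f3 (f1 (f3 (f4 (q)))))))))))))))))))))))))))) q)) = true := by decide +kernel

theorem eq9_314 : allR 1121294 3571 (fun q => Nat.beq (f9 q) ((fun q => f6 (f6 (f4 (f3 (f4 (f6 (f2 (f2 (f0 (f3 (f3 (f4 (f2 (f4 (f0 (f2 (f2 (f1 (f2 (f4 (f2 (f1 (f3 (f3 (f1 (f3 (f4 (q)))))))))))))))))))))))))))) q)) = true := by decide +kernel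

theorem eq9_315 : allR 1124865 3571 (fun q => Nat.beq (f9 q) ((fun q => f6 (f6 (f4 (f3 (f4 (f6 (f2 (f2 (f0 (f3 (f3 (f4 (f2 (f4 (f0 (f2 (f2 (f1 (f2 (f4 (f2 (f1 (f3 (f3 (f1 (f3 (f4 (q)))))))))))))))))))))))))))) q)) = true := by decide +kernel

theorem eq9_316 : allR 1128436 3571 (fun q => Nat.beq (f9 q) ((fun q => f6 (f6 (f4 (f3 (f4 (f6 (f2 (f2 (f0 (f3 (f3 (f4 (f2 (f4 (f0 (f2 (f2 (f1 (f2 (f4 (f2 (f1 (f3 (f3 (f1 (f3 (f4 (q)))))))))))))))))))))))))))) q)) = true := by decide +kernel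

theorem eq9_317 : allR 1132007 3571 (fun q => Nat.beq (f9 q) ((fun q => f6 (f6 (f4 (f3 (f4 (f6 (f2 (f2 (f0 (f3 (f3 (f4 (f2 (f4 (f0 (f2 (f2 (f1 (f2 (f4 (f2 (f1 (f3 (f3 (f1 (f3 (f4 (q)))))))))))))))))))))))))))) q)) = true := by decide +kernel

theorem eq9_318 : allR 1135578 3571 (fun q => Nat.beq (f9 q) ((fun q => f6 (f6 (f4 (f3 (f4 (f6 (f2 (f2 (f0 (f3 (f3 (f4 (f2 (f4 (f0 (f2 (f2 (f1 (f2 (f4 (f2 (f1 (f3 (f3 (f1 (f3 (f4 (q)))))))))))))))))))))))))))) q)) = true := by decide +kernel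

theorem eq9_319 : allR 1139149 3571 (fun q => Nat.beq (f9 q) ((fun q => f6 (f6 (f4 (f3 (f4 (f6 (f2 (f2 (f0 (f3 (f3 (f4 (f2 (f4 (f0 (f2 (f2 (f1 (f2 (f4 (f2 (f1 (f3 (f3 (f1 (f3 (f4 (q)))))))))))))))))))))))))))) q)) = true := by decide +kernel

theorem eq9_320 : allR 1142720 3571 (fun q => Nat.beq (f9 q) ((fun q => f6 (f6 (f4 (f3 (f4 (f6 (f2 (f2 (f0 (f3 (f3 (f4 (f2 (f4 (f0 (f2 (f2 (f1 (f2 (f4 (f2 (f1 (f3 (f3 (f1 (f3 (f4 (q)))))))))))))))))))))))))))) q)) = true := by decide +kernel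

theorem eq9_321 : allR 1146291 3571 (fun q => Nat.beq (f9 q) ((fun q => f6 (f6 (f4 (f3 (f4 (f6 (f2 (f2 (f0 (f3 (f3 (f4 (f2 (f4 (f0 (f2 (f2 (f1 (f2 (f4 (f2 (f1 (f3 (f3 (f1 (f3 (f4 (q)))))))))))))))))))))))))))) q)) = true := by decide +kernel

theorem eq9_322 : allR 1149862 3571 (fun q => Nat.beq (f9 q) ((fun q => f6 (f6 (f4 (f3 (f4 (f6 (f2 (f2 (f0 (f3 (f3 (f4 (f2 (f4 (f0 (f2 (f2 (f1 (f2 (f4 (f2 (f1 (f3 (f3 (f1 (f3 (f4 (q)))))))))))))))))))))))))))) q)) = true := by decide +kernel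

theorem eq9_323 : allR 1153433 3571 (fun q => Nat.beq (f9 q) ((fun q => f6 (f6 (f4 (f3 (f4 (f6 (f2 (f2 (f0 (f3 (f3 (f4 (f2 (f4 (f0 (f2 (f2 (f1 (f2 (f4 (f2 (f1 (f3 (f3 (f1 (f3 (f4 (q)))))))))))))))))))))))))))) q)) = true := by decide +kernel

theorem eq9_324 : allR 1157004 3571 (fun q => Nat.beq (f9 q) ((fun q => f6 (f6 (f4 (f3 (f4 (f6 (f2 (f2 (f0 (f3 (f3 (f4 (f2 (f4 (f0 (f2 (f2 (f1 (f2 (f4 (f2 (f1 (f3 (f3 (f1 (f3 (f4 (q)))))))))))))))))))))))))))) q)) = true := by decide +kernel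


end Cfsg.Agent.HNOut
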