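import Cfsg.Agent.Lib.Lead.HNOut.LevA

/-! # The outer automorphism group of the Harada–Norton group: the centraliser of `x`, a part (generated) -/

set_option autoImplicit false
set_option maxRecDepth 100000

namespace Cfsg.Agent.HNOut

open Cfsg.Agent.PF Cfsg.Agent.Lib.Helper6 Cfsg.Agent.Lib.Helper6.TC Cfsg.Agent.Lib.Helper6.NatArr
open Cfsg.Agent.PL (Acts evalF)

theorem chk_centX_300 : allR 199800 666 (fun q => centP 1539000 12 f8 [0] 19 LA0 LsA q) = true := by decide +kernel

theorem chk_centX_301 : allR 200466 666 (fun q => centP 1539000 12 f8 [0] 19 LA0 LsA q) = true := by decide +kernel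

theorem chk_centX_302 : allR 201132 666 (fun q => centP 1539000 12 f8 [0] 19 LA0 LsA q) = true := by decide +kernel

theorem chk_centX_303 : allR 201798 666 (fun q => centP 1539000 12 f8 [0] 19 LA0 LsA q) = true := by decide +kernel

theorem chk_centX_304 : allR 202464 666 (fun q => centP 1539000 12 f8 [0] 19 LA0 LsA q) = true := by decide +kernel

theorem chk_centX_305 : allR 203130 666 (fun q => centP 1539000 12 f8 [0] 19 LA0 LsA q) = true := by decide +kernel

theorem chk_centX_306 : allR 203796 666 (fun q => centP 1539000 12 f8 [0] 19 LA0 LsA q) = true := by decide +kernel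

theorem chk_centX_307 : allR 204462 666 (fun q => centP 1539000 12 f8 [0] 19 LA0 LsA q) = true := by decide +kernel

theorem chk_centX_308 : allR 205128 666 (fun q => centP 1539000 12 f8 [0] 19 LA0 LsA q) = true := by decide +kernel

theorem chk_centX_309 : allR 205794 666 (fun q => centP 1539000 12 f8 [0] 19 LA0 LsA q) = true := by decide +kernel

theorem chk_centX_310 : allR 206460 666 (fun q => centP 1539000 12 f8 [0] 19 LA0 LsA q) = true := by decide +kernel

theorem chk_centX_311 : allR 207126 666 (fun q => centP 1539000 12 f8 [0] 19 LA0 LsA q) = true := by decide +kernel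

theorem chk_centX_312 : allR 207792 666 (fun q => centP 1539000 12 f8 [0] 19 LA0 LsA q) = true := by decide +kernel

theorem chk_centX_313 : allR 208458 666 (fun q => centP 1539000 12 f8 [0] 19 LA0 LsA q) = true := by decide +kernel

theorem chk_centX_314 : allR 209124 666 (fun q => centP 1539000 12 f8 [0] 19 LA0 LsA q) = true := by decide +kernel

theorem chk_centX_315 : allR 209790 666 (fun q => centP 1539000 12 f8 [0] 19 LA0 LsA q) = true := by decide +kernel

theorem chk_centX_316 : allR 210456 666 (fun q => centP 1539000 12 f8 [0] 19 LA0 LsA q) = true := by decide +kernel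

theorem chk_centX_317 : allR 211122 666 (fun q => centP 1539000 12 f8 [0] 19 LA0 LsA q) = true := by decide +kernel

theorem chk_centX_318 : allR 211788 666 (fun q => centP 1539000 12 f8 [0] 19 LA0 LsA q) = true := by decide +kernel

theorem chk_centX_319 : allR 212454 666 (fun q => centP 1539000 12 f8 [0] 19 LA0 LsA q) = true := by decide +kernel

theorem chk_centX_320 : allR 213120 666 (fun q => centP 1539000 12 f8 [0] 19 LA0 LsA q) = true := by decide +kernel

theorem chk_centX_321 : allR 213786 666 (fun q => centP 1539000 12 f8 [0] 19 LA0 LsA q) = true := by decide +kernel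

theorem chk_centX_322 : allR 214452 666 (fun q => centP 1539000 12 f8 [0] 19 LA0 LsA q) = true := by decide +kernel

theorem chk_centX_323 : allR 215118 666 (fun q => centP 1539000 12 f8 [0] 19 LA0 LsA q) = true := by decide +kernel

theorem chk_centX_324 : allR 215784 666 (fun q => centP 1539000 12 f8 [0] 19 LA0 LsA q) = true := by decide +kernel


end Cfsg.Agent.HNOut
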