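import Cfsg.Agent.Lib.Lead.HNOut.Centx0
import Cfsg.Agent.Lib.Lead.HNOut.Centx1
import Cfsg.Agent.Lib.Lead.HNOut.Centx2
import Cfsg.Agent.Lib.Lead.HNOut.Centx3
import Cfsg.Agent.Lib.Lead.HNOut.Centx4
import Cfsg.Agent.Lib.Lead.HNOut.Centx5
import Cfsg.Agent.Lib.Lead.HNOut.Centx6
import Cfsg.Agent.Lib.Lead.HNOut.Centx7
import Cfsg.Agent.Lib.Lead.HNOut.Centx8
import Cfsg.Agent.Lib.Lead.HNOut.Centx9
import Cfsg.Agent.Lib.Lead.HNOut.Centx10
import Cfsg.Agent.Lib.Lead.HNOut.Centx11
import Cfsg.Agent.Lib.Lead.HNOut.Centx12
import Cfsg.Agent.Lib.Lead.HNOut.Centx13
import Cfsg.Agent.Lib.Lead.HNOut.Centx14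
import Cfsg.Agent.Lib.Lead.HNOut.Centx15
import Cfsg.Agent.Lib.Lead.HNOut.Centx16
import Cfsg.Agent.Lib.Lead.HNOut.Centx17
import Cfsg.Agent.Lib.Lead.HNOut.Centx18
import Cfsg.Agent.Lib.Lead.HNOut.Centx19
import Cfsg.Agent.Lib.Lead.HNOut.Centx20
import Cfsg.Agent.Lib.Lead.HNOut.Centx21
import Cfsg.Agent.Lib.Lead.HNOut.Centx22
import Cfsg.Agent.Lib.Lead.HNOut.Centx23
import Cfsg.Agent.Lib.Lead.HNOut.Centx24
import Cfsg.Agent.Lib.Lead.HNOut.Centx25
import Cfsg.Agent.Lib.Lead.HNOut.Centx26
import Cfsg.Agent.Lib.Lead.HNOut.Centx27
import Cfsg.Agent.Lib.Lead.HNOut.Centx28
import Cfsg.Agent.Lib.Lead.HNOut.Centx29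
import Cfsg.Agent.Lib.Lead.HNOut.Centx30
import Cfsg.Agent.Lib.Lead.HNOut.Centx31
import Cfsg.Agent.Lib.Lead.HNOut.Centx32
import Cfsg.Agent.Lib.Lead.HNOut.Centx33
import Cfsg.Agent.Lib.Lead.HNOut.Centx34
import Cfsg.Agent.Lib.Lead.HNOut.Centx35
import Cfsg.Agent.Lib.Lead.HNOut.Centx36
import Cfsg.Agent.Lib.Lead.HNOut.Centx37
import Cfsg.Agent.Lib.Lead.HNOut.Centx38
import Cfsg.Agent.Lib.Lead.HNOut.Centx39
import Cfsg.Agent.Lib.Lead.HNOut.Centx40
import Cfsg.Agent.Lib.Lead.HNOut.Centx41
import Cfsg.Agent.Lib.Lead.HNOut.Centx42
import Cfsg.Agent.Lib.Lead.HNOut.Centx43
import Cfsg.Agent.Lib.Lead.HNOut.Centx44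
import Cfsg.Agent.Lib.Lead.HNOut.Centx45
import Cfsg.Agent.Lib.Lead.HNOut.Centx46
import Cfsg.Agent.Lib.Lead.HNOut.Centx47
import Cfsg.Agent.Lib.Lead.HNOut.Centx48
import Cfsg.Agent.Lib.Lead.HNOut.Centx49
import Cfsg.Agent.Lib.Lead.HNOut.Centx50
import Cfsg.Agent.Lib.Lead.HNOut.Centx51
import Cfsg.Agent.Lib.Lead.HNOut.Centx52
import Cfsg.Agent.Lib.Lead.HNOut.Centx53
import Cfsg.Agent.Lib.Lead.HNOut.Centx54
import Cfsg.Agent.Lib.Lead.HNOut.Centx55
import Cfsg.Agent.Lib.Lead.HNOut.Centx56
import Cfsg.Agent.Lib.Lead.HNOut.Centx57
import Cfsg.Agent.Lib.Lead.HNOut.Centx58
import Cfsg.Agent.Lib.Lead.HNOut.Centx59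
import Cfsg.Agent.Lib.Lead.HNOut.Centx60
import Cfsg.Agent.Lib.Lead.HNOut.Centx61
import Cfsg.Agent.Lib.Lead.HNOut.Centx62
import Cfsg.Agent.Lib.Lead.HNOut.Centx63
import Cfsg.Agent.Lib.Lead.HNOut.Centx64
import Cfsg.Agent.Lib.Lead.HNOut.Centx65
import Cfsg.Agent.Lib.Lead.HNOut.Centx66
import Cfsg.Agent.Lib.Lead.HNOut.Centx67
import Cfsg.Agent.Lib.Lead.HNOut.Centx68
import Cfsg.Agent.Lib.Lead.HNOut.Centx69
import Cfsg.Agent.Lib.Lead.HNOut.Centx70
import Cfsg.Agent.Lib.Lead.HNOut.Centx71
import Cfsg.Agent.Lib.Lead.HNOut.Centx72
import Cfsg.Agent.Lib.Lead.HNOut.Centx73
import Cfsg.Agent.Lib.Lead.HNOut.Centx74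
import Cfsg.Agent.Lib.Lead.HNOut.Centx75
import Cfsg.Agent.Lib.Lead.HNOut.Centx76
import Cfsg.Agent.Lib.Lead.HNOut.Centx77
import Cfsg.Agent.Lib.Lead.HNOut.Centx78
import Cfsg.Agent.Lib.Lead.HNOut.Centx79
import Cfsg.Agent.Lib.Lead.HNOut.Centx80
import Cfsg.Agent.Lib.Lead.HNOut.Centx81
import Cfsg.Agent.Lib.Lead.HNOut.Centx82
import Cfsg.Agent.Lib.Lead.HNOut.Centx83
import Cfsg.Agent.Lib.Lead.HNOut.Centx84
import Cfsg.Agent.Lib.Lead.HNOut.Centx85
import Cfsg.Agent.Lib.Lead.HNOut.Centx86
import Cfsg.Agent.Lib.Lead.HNOut.Centx87
import Cfsg.Agent.Lib.Lead.HNOut.Centx88
import Cfsg.Agent.Lib.Lead.HNOut.Centx89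
import Cfsg.Agent.Lib.Lead.HNOut.Centx90
import Cfsg.Agent.Lib.Lead.HNOut.Centx91
import Cfsg.Agent.Lib.Lead.HNOut.Centx92

/-! # The outer automorphism group of the Harada–Norton group: the centraliser of `x` (generated) -/

set_option autoImplicit false
set_option maxRecDepth 100000

namespace Cfsg.Agent.HNOut

open Cfsg.Agent.PF Cfsg.Agent.Lib.Helper6 Cfsg.Agent.Lib.Helper6.TC Cfsg.Agent.Lib.Helper6.NatArr
open Cfsg.Agent.PL (Acts evalF)

theorem chk_centX_grp0 : ∀ c ∈ ([(0, 666), (666, 666), (1332, 666), (1998, 666), (2664, 666), (3330, 666), (3996, 666), (4662, 666), (5328, 666), (5994, 666), (6660, 666), (7326, 666), (7992, 666), (8658, 666), (9324, 666), (9990, 666), (10656, 666), (11322, 666), (11988, 666), (12654, 666), (13320, 666), (13986, 666), (14652, 666), (15318, 666), (15984, 666), (16650, 666), (17316, 666), (17982, 666), (18648, 666), (19314, 666), (19980, 666), (20646, 666), (21312, 666), (21978, 666), (22644, 666), (23310, 666), (23976, 666), (24642, 666), (25308, 666), (25974, 666), (26640, 666), (27306, 666), (27972, 666), (28638, 666), (29304, 666), (29970, 666), (30636, 666), (31302, 666), (31968, 666), (32634,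 666), (33300, 666), (33966, 666), (34632, 666), (35298, 666), (35964, 666), (36630, 666), (37296, 666), (37962, 666), (38628, 666), (39294, 666), (39960, 666), (40626, 666), (41292, 666), (41958, 666), (42624, 666), (43290, 666), (43956, 666), (44622, 666), (45288, 666), (45954, 666), (46620, 666), (47286, 666), (47952, 666), (48618, 666), (49284, 666), (49950, 666), (50616, 666), (51282, 666), (51948, 666), (52614, 666), (53280, 666), (53946, 666), (54612, 666), (55278, 666), (55944, 666), (56610, 666), (57276, 666), (57942, 666), (58608, 666), (59274, 666), (59940, 666), (60606, 666), (61272, 666), (61938, 666), (62604, 666), (63270, 666), (63936, 666), (64602, 666), (65268, 666), (65934, 666), (66600, 666), (67266, 666), (67932, 666), (68598, 666), (69264, 666), (69930, 666), (70596, 666), (71262, 666), (71928, 666), (72594, 666), (73260, 666), (73926, 666), (74592, 666), (75258, 666), (75924, 666), (76590, 666), (77256, 666), (77922, 666), (78588, 666), (79254, 666), (79920, 666), (80586, 666), (81252, 666), (81918, 666), (82584, 666), (83250, 666), (83916, 666), (84582, 666), (85248, 666), (85914, 666), (86580, 666), (87246, 666),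 (87912, 666), (88578, 666), (89244, 666), (89910, 666), (90576, 666), (91242, 666), (91908, 666), (92574, 666), (93240, 666), (93906, 666), (94572, 666), (95238, 666), (95904, 666), (96570, 666), (97236, 666), (97902, 666), (98568, 666), (99234, 666)] : List (ℕ × ℕ)), allR c.1 c.2 (fun q => centP 1539000 12 f8 [0] 19 LA0 LsA q) = true :=
  all_cons chk_centX_0 (all_cons chk_centX_1 (all_cons chk_centX_2 (all_cons chk_centX_3 (all_cons chk_centX_4 (all_cons chk_centX_5 (all_cons chk_centX_6 (all_cons chk_centX_7 (all_cons chk_centX_8 (all_cons chk_centX_9 (all_cons chk_centX_10 (all_cons chk_centX_11 (all_cons chk_centX_12 (all_cons chk_centX_13 (all_cons chk_centX_14 (all_cons chk_centX_15 (all_cons chk_centX_16 (all_cons chk_centX_17 (all_cons chk_centX_18 (all_cons chk_centX_19 (all_cons chk_centX_20 (all_cons chk_centX_21 (all_cons chk_centX_22 (all_cons chk_centX_23 (all_cons chk_centX_24 (all_cons chk_centX_25 (all_cons chk_centX_26 (all_cons chk_centX_27 (all_cons chk_centX_28 (all_cons chk_centX_29 (all_cons chk_centX_30 (all_cons chk_centX_31 (all_cons chk_centX_32 (all_cons chk_centX_33 (all_cons chk_centX_34 (all_cons chk_centX_35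 (all_cons chk_centX_36 (all_cons chk_centX_37 (all_cons chk_centX_38 (all_cons chk_centX_39 (all_cons chk_centX_40 (all_cons chk_centX_41 (all_cons chk_centX_42 (all_cons chk_centX_43 (all_cons chk_centX_44 (all_cons chk_centX_45 (all_cons chk_centX_46 (all_cons chk_centX_47 (all_cons chk_centX_48 (all_cons chk_centX_49 (all_cons chk_centX_50 (all_cons chk_centX_51 (all_cons chk_centX_52 (all_cons chk_centX_53 (all_cons chk_centX_54 (all_cons chk_centX_55 (all_cons chk_centX_56 (all_cons chk_centX_57 (all_cons chk_centX_58 (all_cons chk_centX_59 (all_cons chk_centX_60 (all_cons chk_centX_61 (all_cons chk_centX_62 (all_cons chk_centX_63 (all_cons chk_centX_64 (all_cons chk_centX_65 (all_cons chk_centX_66 (all_cons chk_centX_67 (all_cons chk_centX_68 (all_cons chk_centX_69 (all_cons chk_centX_70 (all_cons chk_centX_71 (all_cons chk_centX_72 (all_cons chk_centX_73 (all_cons chk_centX_74 (all_cons chk_centX_75 (all_cons chk_centX_76 (all_cons chk_centX_77 (all_cons chk_centX_78 (all_cons chk_centX_79 (all_cons chk_centX_80 (all_cons chk_centX_81 (all_cons chk_centX_82 (all_cons chk_centX_83 (all_cons chk_centX_84 (all_cons chk_centX_85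 (all_cons chk_centX_86 (all_cons chk_centX_87 (all_cons chk_centX_88 (all_cons chk_centX_89 (all_cons chk_centX_90 (all_cons chk_centX_91 (all_cons chk_centX_92 (all_cons chk_centX_93 (all_cons chk_centX_94 (all_cons chk_centX_95 (all_cons chk_centX_96 (all_cons chk_centX_97 (all_cons chk_centX_98 (all_cons chk_centX_99 (all_cons chk_centX_100 (all_cons chk_centX_101 (all_cons chk_centX_102 (all_cons chk_centX_103 (all_cons chk_centX_104 (all_cons chk_centX_105 (all_cons chk_centX_106 (all_cons chk_centX_107 (all_cons chk_centX_108 (all_cons chk_centX_109 (all_cons chk_centX_110 (all_cons chk_centX_111 (all_cons chk_centX_112 (all_cons chk_centX_113 (all_cons chk_centX_114 (all_cons chk_centX_115 (all_cons chk_centX_116 (all_cons chk_centX_117 (all_cons chk_centX_118 (all_cons chk_centX_119 (all_cons chk_centX_120 (all_cons chk_centX_121 (all_cons chk_centX_122 (all_cons chk_centX_123 (all_cons chk_centX_124 (all_cons chk_centX_125 (all_cons chk_centX_126 (all_cons chk_centX_127 (all_cons chk_centX_128 (all_cons chk_centX_129 (all_cons chk_centX_130 (all_cons chk_centX_131 (all_cons chk_centX_132 (all_cons chk_centX_133 (all_cons chk_centX_134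 (all_cons chk_centX_135 (all_cons chk_centX_136 (all_cons chk_centX_137 (all_cons chk_centX_138 (all_cons chk_centX_139 (all_cons chk_centX_140 (all_cons chk_centX_141 (all_cons chk_centX_142 (all_cons chk_centX_143 (all_cons chk_centX_144 (all_cons chk_centX_145 (all_cons chk_centX_146 (all_cons chk_centX_147 (all_cons chk_centX_148 (all_cons chk_centX_149 (all_nil))))))))))))))))))))))))))))))))))))))))))))))))))))))))))))))))))))))))))))))))))))))))))))))))))))))))))))))))))))))))))))))))))))))))))))))))))))))

theorem chk_centX_grp1 : ∀ c ∈ ([(99900, 666), (100566, 666), (101232, 666), (101898, 666), (102564, 666), (103230, 666), (103896, 666), (104562, 666), (105228, 666), (105894, 666), (106560, 666), (107226, 666), (107892, 666), (108558, 666), (109224, 666), (109890, 666), (110556, 666), (111222, 666), (111888, 666), (112554, 666), (113220, 666), (113886, 666), (114552, 666), (115218, 666), (115884, 666), (116550, 666), (117216, 666), (117882, 666), (118548, 666), (119214, 666), (119880, 666), (120546, 666), (121212, 666), (121878, 666), (122544, 666), (123210, 666), (123876, 666), (124542, 666), (125208, 666), (125874, 666),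 (126540, 666), (127206, 666), (127872, 666), (128538, 666), (129204, 666), (129870, 666), (130536, 666), (131202, 666), (131868, 666), (132534, 666), (133200, 666), (133866, 666), (134532, 666), (135198, 666), (135864, 666), (136530, 666), (137196, 666), (137862, 666), (138528, 666), (139194, 666), (139860, 666), (140526, 666), (141192, 666), (141858, 666), (142524, 666), (143190, 666), (143856, 666), (144522, 666), (145188, 666), (145854, 666), (146520, 666), (147186, 666), (147852, 666), (148518, 666), (149184, 666), (149850, 666), (150516, 666), (151182, 666), (151848, 666), (152514, 666), (153180, 666), (153846, 666), (154512, 666), (155178, 666), (155844, 666), (156510, 666), (157176, 666), (157842, 666), (158508, 666), (159174, 666), (159840, 666), (160506, 666), (161172, 666), (161838, 666), (162504, 666), (163170, 666), (163836, 666), (164502, 666), (165168, 666), (165834, 666), (166500, 666), (167166, 666), (167832, 666), (168498, 666), (169164, 666), (169830, 666), (170496, 666), (171162, 666), (171828, 666), (172494, 666), (173160, 666), (173826, 666), (174492, 666), (175158, 666), (175824, 666), (176490, 666), (177156, 666),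 (177822, 666), (178488, 666), (179154, 666), (179820, 666), (180486, 666), (181152, 666), (181818, 666), (182484, 666), (183150, 666), (183816, 666), (184482, 666), (185148, 666), (185814, 666), (186480, 666), (187146, 666), (187812, 666), (188478, 666), (189144, 666), (189810, 666), (190476, 666), (191142, 666), (191808, 666), (192474, 666), (193140, 666), (193806, 666), (194472, 666), (195138, 666), (195804, 666), (196470, 666), (197136, 666), (197802, 666), (198468, 666), (199134, 666)] : List (ℕ × ℕ)), allR c.1 c.2 (fun q => centP 1539000 12 f8 [0] 19 LA0 LsA q) = true :=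
  all_cons chk_centX_150 (all_cons chk_centX_151 (all_cons chk_centX_152 (all_cons chk_centX_153 (all_cons chk_centX_154 (all_cons chk_centX_155 (all_cons chk_centX_156 (all_cons chk_centX_157 (all_cons chk_centX_158 (all_cons chk_centX_159 (all_cons chk_centX_160 (all_cons chk_centX_161 (all_cons chk_centX_162 (all_cons chk_centX_163 (all_cons chk_centX_164 (all_cons chk_centX_165 (all_cons chk_centX_166 (all_cons chk_centX_167 (all_cons chk_centX_168 (all_cons chk_centX_169 (all_cons chk_centX_170 (all_cons chk_centX_171 (all_cons chk_centX_172 (all_cons chk_centX_173 (all_cons chk_centX_174 (all_cons chk_centX_175 (all_cons chk_centX_176 (all_cons chk_centX_177 (all_cons chk_centX_178 (all_cons chk_centX_179 (all_cons chk_centX_180 (all_cons chk_centX_181 (all_cons chk_centX_182 (all_cons chk_centX_183 (all_cons chk_centX_184 (all_cons chk_centX_185 (all_cons chk_centX_186 (all_cons chk_centX_187 (all_cons chk_centX_188 (all_cons chk_centX_189 (all_cons chk_centX_190 (all_cons chk_centX_191 (all_cons chk_centX_192 (all_cons chk_centX_193 (all_cons chk_centX_194 (all_cons chk_centX_195 (all_cons chk_centX_196 (all_cons chk_centX_197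 (all_cons chk_centX_198 (all_cons chk_centX_199 (all_cons chk_centX_200 (all_cons chk_centX_201 (all_cons chk_centX_202 (all_cons chk_centX_203 (all_cons chk_centX_204 (all_cons chk_centX_205 (all_cons chk_centX_206 (all_cons chk_centX_207 (all_cons chk_centX_208 (all_cons chk_centX_209 (all_cons chk_centX_210 (all_cons chk_centX_211 (all_cons chk_centX_212 (all_cons chk_centX_213 (all_cons chk_centX_214 (all_cons chk_centX_215 (all_cons chk_centX_216 (all_cons chk_centX_217 (all_cons chk_centX_218 (all_cons chk_centX_219 (all_cons chk_centX_220 (all_cons chk_centX_221 (all_cons chk_centX_222 (all_cons chk_centX_223 (all_cons chk_centX_224 (all_cons chk_centX_225 (all_cons chk_centX_226 (all_cons chk_centX_227 (all_cons chk_centX_228 (all_cons chk_centX_229 (all_cons chk_centX_230 (all_cons chk_centX_231 (all_cons chk_centX_232 (all_cons chk_centX_233 (all_cons chk_centX_234 (all_cons chk_centX_235 (all_cons chk_centX_236 (all_cons chk_centX_237 (all_cons chk_centX_238 (all_cons chk_centX_239 (all_cons chk_centX_240 (all_cons chk_centX_241 (all_cons chk_centX_242 (all_cons chk_centX_243 (all_cons chk_centX_244 (all_cons chk_centX_245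 (all_cons chk_centX_246 (all_cons chk_centX_247 (all_cons chk_centX_248 (all_cons chk_centX_249 (all_cons chk_centX_250 (all_cons chk_centX_251 (all_cons chk_centX_252 (all_cons chk_centX_253 (all_cons chk_centX_254 (all_cons chk_centX_255 (all_cons chk_centX_256 (all_cons chk_centX_257 (all_cons chk_centX_258 (all_cons chk_centX_259 (all_cons chk_centX_260 (all_cons chk_centX_261 (all_cons chk_centX_262 (all_cons chk_centX_263 (all_cons chk_centX_264 (all_cons chk_centX_265 (all_cons chk_centX_266 (all_cons chk_centX_267 (all_cons chk_centX_268 (all_cons chk_centX_269 (all_cons chk_centX_270 (all_cons chk_centX_271 (all_cons chk_centX_272 (all_cons chk_centX_273 (all_cons chk_centX_274 (all_cons chk_centX_275 (all_cons chk_centX_276 (all_cons chk_centX_277 (all_cons chk_centX_278 (all_cons chk_centX_279 (all_cons chk_centX_280 (all_cons chk_centX_281 (all_cons chk_centX_282 (all_cons chk_centX_283 (all_cons chk_centX_284 (all_cons chk_centX_285 (all_cons chk_centX_286 (all_cons chk_centX_287 (all_cons chk_centX_288 (all_cons chk_centX_289 (all_cons chk_centX_290 (all_cons chk_centX_291 (all_cons chk_centX_292 (all_cons chk_centX_293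 (all_cons chk_centX_294 (all_cons chk_centX_295 (all_cons chk_centX_296 (all_cons chk_centX_297 (all_cons chk_centX_298 (all_cons chk_centX_299 (all_nil))))))))))))))))))))))))))))))))))))))))))))))))))))))))))))))))))))))))))))))))))))))))))))))))))))))))))))))))))))))))))))))))))))))))))))))))))))))

theorem chk_centX_grp2 : ∀ c ∈ ([(199800, 666), (200466, 666), (201132, 666), (201798, 666), (202464, 666), (203130, 666), (203796, 666), (204462, 666), (205128, 666), (205794, 666), (206460, 666), (207126, 666), (207792, 666), (208458, 666), (209124, 666), (209790, 666), (210456, 666), (211122, 666), (211788, 666), (212454, 666), (213120, 666), (213786, 666), (214452, 666), (215118, 666), (215784, 666), (216450, 666), (217116, 666), (217782, 666), (218448, 666), (219114, 666), (219780, 666), (220446, 666), (221112, 666), (221778, 666), (222444, 666), (223110, 666), (223776, 666), (224442, 666), (225108, 666), (225774, 666), (226440, 666), (227106, 666), (227772, 666), (228438, 666), (229104, 666), (229770, 666), (230436, 666), (231102, 666), (231768, 666), (232434, 666), (233100, 666), (233766, 666), (234432, 666), (235098, 666), (235764,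 666), (236430, 666), (237096, 666), (237762, 666), (238428, 666), (239094, 666), (239760, 666), (240426, 666), (241092, 666), (241758, 666), (242424, 666), (243090, 666), (243756, 666), (244422, 666), (245088, 666), (245754, 666), (246420, 666), (247086, 666), (247752, 666), (248418, 666), (249084, 666), (249750, 666), (250416, 666), (251082, 666), (251748, 666), (252414, 666), (253080, 666), (253746, 666), (254412, 666), (255078, 666), (255744, 666), (256410, 666), (257076, 666), (257742, 666), (258408, 666), (259074, 666), (259740, 666), (260406, 666), (261072, 666), (261738, 666), (262404, 666), (263070, 666), (263736, 666), (264402, 666), (265068, 666), (265734, 666), (266400, 666), (267066, 666), (267732, 666), (268398, 666), (269064, 666), (269730, 666), (270396, 666), (271062, 666), (271728, 666), (272394, 666), (273060, 666), (273726, 666), (274392, 666), (275058, 666), (275724, 666), (276390, 666), (277056, 666), (277722, 666), (278388, 666), (279054, 666), (279720, 666), (280386, 666), (281052, 666), (281718, 666), (282384, 666), (283050, 666), (283716, 666), (284382, 666), (285048, 666), (285714, 666), (286380, 666), (287046,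 666), (287712, 666), (288378, 666), (289044, 666), (289710, 666), (290376, 666), (291042, 666), (291708, 666), (292374, 666), (293040, 666), (293706, 666), (294372, 666), (295038, 666), (295704, 666), (296370, 666), (297036, 666), (297702, 666), (298368, 666), (299034, 666)] : List (ℕ × ℕ)), allR c.1 c.2 (fun q => centP 1539000 12 f8 [0] 19 LA0 LsA q) = true :=
  all_cons chk_centX_300 (all_cons chk_centX_301 (all_cons chk_centX_302 (all_cons chk_centX_303 (all_cons chk_centX_304 (all_cons chk_centX_305 (all_cons chk_centX_306 (all_cons chk_centX_307 (all_cons chk_centX_308 (all_cons chk_centX_309 (all_cons chk_centX_310 (all_cons chk_centX_311 (all_cons chk_centX_312 (all_cons chk_centX_313 (all_cons chk_centX_314 (all_cons chk_centX_315 (all_cons chk_centX_316 (all_cons chk_centX_317 (all_cons chk_centX_318 (all_cons chk_centX_319 (all_cons chk_centX_320 (all_cons chk_centX_321 (all_cons chk_centX_322 (all_cons chk_centX_323 (all_cons chk_centX_324 (all_cons chk_centX_325 (all_cons chk_centX_326 (all_cons chk_centX_327 (all_cons chk_centX_328 (all_cons chk_centX_329 (all_cons chk_centX_330 (all_cons chk_centX_331 (all_cons chk_centX_332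 (all_cons chk_centX_333 (all_cons chk_centX_334 (all_cons chk_centX_335 (all_cons chk_centX_336 (all_cons chk_centX_337 (all_cons chk_centX_338 (all_cons chk_centX_339 (all_cons chk_centX_340 (all_cons chk_centX_341 (all_cons chk_centX_342 (all_cons chk_centX_343 (all_cons chk_centX_344 (all_cons chk_centX_345 (all_cons chk_centX_346 (all_cons chk_centX_347 (all_cons chk_centX_348 (all_cons chk_centX_349 (all_cons chk_centX_350 (all_cons chk_centX_351 (all_cons chk_centX_352 (all_cons chk_centX_353 (all_cons chk_centX_354 (all_cons chk_centX_355 (all_cons chk_centX_356 (all_cons chk_centX_357 (all_cons chk_centX_358 (all_cons chk_centX_359 (all_cons chk_centX_360 (all_cons chk_centX_361 (all_cons chk_centX_362 (all_cons chk_centX_363 (all_cons chk_centX_364 (all_cons chk_centX_365 (all_cons chk_centX_366 (all_cons chk_centX_367 (all_cons chk_centX_368 (all_cons chk_centX_369 (all_cons chk_centX_370 (all_cons chk_centX_371 (all_cons chk_centX_372 (all_cons chk_centX_373 (all_cons chk_centX_374 (all_cons chk_centX_375 (all_cons chk_centX_376 (all_cons chk_centX_377 (all_cons chk_centX_378 (all_cons chk_centX_379 (all_cons chk_centX_380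 (all_cons chk_centX_381 (all_cons chk_centX_382 (all_cons chk_centX_383 (all_cons chk_centX_384 (all_cons chk_centX_385 (all_cons chk_centX_386 (all_cons chk_centX_387 (all_cons chk_centX_388 (all_cons chk_centX_389 (all_cons chk_centX_390 (all_cons chk_centX_391 (all_cons chk_centX_392 (all_cons chk_centX_393 (all_cons chk_centX_394 (all_cons chk_centX_395 (all_cons chk_centX_396 (all_cons chk_centX_397 (all_cons chk_centX_398 (all_cons chk_centX_399 (all_cons chk_centX_400 (all_cons chk_centX_401 (all_cons chk_centX_402 (all_cons chk_centX_403 (all_cons chk_centX_404 (all_cons chk_centX_405 (all_cons chk_centX_406 (all_cons chk_centX_407 (all_cons chk_centX_408 (all_cons chk_centX_409 (all_cons chk_centX_410 (all_cons chk_centX_411 (all_cons chk_centX_412 (all_cons chk_centX_413 (all_cons chk_centX_414 (all_cons chk_centX_415 (all_cons chk_centX_416 (all_cons chk_centX_417 (all_cons chk_centX_418 (all_cons chk_centX_419 (all_cons chk_centX_420 (all_cons chk_centX_421 (all_cons chk_centX_422 (all_cons chk_centX_423 (all_cons chk_centX_424 (all_cons chk_centX_425 (all_cons chk_centX_426 (all_cons chk_centX_427 (all_cons chk_centX_428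 (all_cons chk_centX_429 (all_cons chk_centX_430 (all_cons chk_centX_431 (all_cons chk_centX_432 (all_cons chk_centX_433 (all_cons chk_centX_434 (all_cons chk_centX_435 (all_cons chk_centX_436 (all_cons chk_centX_437 (all_cons chk_centX_438 (all_cons chk_centX_439 (all_cons chk_centX_440 (all_cons chk_centX_441 (all_cons chk_centX_442 (all_cons chk_centX_443 (all_cons chk_centX_444 (all_cons chk_centX_445 (all_cons chk_centX_446 (all_cons chk_centX_447 (all_cons chk_centX_448 (all_cons chk_centX_449 (all_nil))))))))))))))))))))))))))))))))))))))))))))))))))))))))))))))))))))))))))))))))))))))))))))))))))))))))))))))))))))))))))))))))))))))))))))))))))))))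

theorem chk_centX_grp3 : ∀ c ∈ ([(299700, 666), (300366, 666), (301032, 666), (301698, 666), (302364, 666), (303030, 666), (303696, 666), (304362, 666), (305028, 666), (305694, 666), (306360, 666), (307026, 666), (307692, 666), (308358, 666), (309024, 666), (309690, 666), (310356, 666), (311022, 666), (311688, 666), (312354, 666), (313020, 666), (313686, 666), (314352, 666), (315018, 666), (315684, 666), (316350, 666), (317016, 666), (317682, 666), (318348, 666), (319014, 666), (319680, 666), (320346, 666), (321012, 666), (321678, 666), (322344, 666), (323010, 666), (323676, 666), (324342, 666), (325008, 666), (325674, 666), (326340, 666), (327006, 666), (327672, 666), (328338, 666), (329004, 666), (329670, 666), (330336, 666), (331002, 666), (331668, 666), (332334, 666), (333000, 666), (333666, 666), (334332, 666), (334998, 666), (335664, 666), (336330, 666), (336996, 666), (337662, 666), (338328, 666), (338994, 666), (339660, 666), (340326, 666), (340992, 666), (341658, 666), (342324, 666), (342990, 666), (343656, 666), (344322, 666), (344988, 666), (345654, 666), (346320, 666), (346986, 666), (347652, 666), (348318, 666), (348984,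 666), (349650, 666), (350316, 666), (350982, 666), (351648, 666), (352314, 666), (352980, 666), (353646, 666), (354312, 666), (354978, 666), (355644, 666), (356310, 666), (356976, 666), (357642, 666), (358308, 666), (358974, 666), (359640, 666), (360306, 666), (360972, 666), (361638, 666), (362304, 666), (362970, 666), (363636, 666), (364302, 666), (364968, 666), (365634, 666), (366300, 666), (366966, 666), (367632, 666), (368298, 666), (368964, 666), (369630, 666), (370296, 666), (370962, 666), (371628, 666), (372294, 666), (372960, 666), (373626, 666), (374292, 666), (374958, 666), (375624, 666), (376290, 666), (376956, 666), (377622, 666), (378288, 666), (378954, 666), (379620, 666), (380286, 666), (380952, 666), (381618, 666), (382284, 666), (382950, 666), (383616, 666), (384282, 666), (384948, 666), (385614, 666), (386280, 666), (386946, 666), (387612, 666), (388278, 666), (388944, 666), (389610, 666), (390276, 666), (390942, 666), (391608, 666), (392274, 666), (392940, 666), (393606, 666), (394272, 666), (394938, 666), (395604, 666), (396270, 666), (396936, 666), (397602, 666), (398268, 666), (398934, 666)] : List (ℕ × ℕ)), allR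 c.1 c.2 (fun q => centP 1539000 12 f8 [0] 19 LA0 LsA q) = true :=
  all_cons chk_centX_450 (all_cons chk_centX_451 (all_cons chk_centX_452 (all_cons chk_centX_453 (all_cons chk_centX_454 (all_cons chk_centX_455 (all_cons chk_centX_456 (all_cons chk_centX_457 (all_cons chk_centX_458 (all_cons chk_centX_459 (all_cons chk_centX_460 (all_cons chk_centX_461 (all_cons chk_centX_462 (all_cons chk_centX_463 (all_cons chk_centX_464 (all_cons chk_centX_465 (all_cons chk_centX_466 (all_cons chk_centX_467 (all_cons chk_centX_468 (all_cons chk_centX_469 (all_cons chk_centX_470 (all_cons chk_centX_471 (all_cons chk_centX_472 (all_cons chk_centX_473 (all_cons chk_centX_474 (all_cons chk_centX_475 (all_cons chk_centX_476 (all_cons chk_centX_477 (all_cons chk_centX_478 (all_cons chk_centX_479 (all_cons chk_centX_480 (all_cons chk_centX_481 (all_cons chk_centX_482 (all_cons chk_centX_483 (all_cons chk_centX_484 (all_cons chk_centX_485 (all_cons chk_centX_486 (all_cons chk_centX_487 (all_cons chk_centX_488 (all_cons chk_centX_489 (all_cons chk_centX_490 (all_cons chk_centX_491 (all_cons chk_centX_492 (all_cons chk_centX_493 (all_cons chk_centX_494 (all_cons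 chk_centX_495 (all_cons chk_centX_496 (all_cons chk_centX_497 (all_cons chk_centX_498 (all_cons chk_centX_499 (all_cons chk_centX_500 (all_cons chk_centX_501 (all_cons chk_centX_502 (all_cons chk_centX_503 (all_cons chk_centX_504 (all_cons chk_centX_505 (all_cons chk_centX_506 (all_cons chk_centX_507 (all_cons chk_centX_508 (all_cons chk_centX_509 (all_cons chk_centX_510 (all_cons chk_centX_511 (all_cons chk_centX_512 (all_cons chk_centX_513 (all_cons chk_centX_514 (all_cons chk_centX_515 (all_cons chk_centX_516 (all_cons chk_centX_517 (all_cons chk_centX_518 (all_cons chk_centX_519 (all_cons chk_centX_520 (all_cons chk_centX_521 (all_cons chk_centX_522 (all_cons chk_centX_523 (all_cons chk_centX_524 (all_cons chk_centX_525 (all_cons chk_centX_526 (all_cons chk_centX_527 (all_cons chk_centX_528 (all_cons chk_centX_529 (all_cons chk_centX_530 (all_cons chk_centX_531 (all_cons chk_centX_532 (all_cons chk_centX_533 (all_cons chk_centX_534 (all_cons chk_centX_535 (all_cons chk_centX_536 (all_cons chk_centX_537 (all_cons chk_centX_538 (all_cons chk_centX_539 (all_cons chk_centX_540 (all_cons chk_centX_541 (all_cons chk_centX_542 (all_cons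 chk_centX_543 (all_cons chk_centX_544 (all_cons chk_centX_545 (all_cons chk_centX_546 (all_cons chk_centX_547 (all_cons chk_centX_548 (all_cons chk_centX_549 (all_cons chk_centX_550 (all_cons chk_centX_551 (all_cons chk_centX_552 (all_cons chk_centX_553 (all_cons chk_centX_554 (all_cons chk_centX_555 (all_cons chk_centX_556 (all_cons chk_centX_557 (all_cons chk_centX_558 (all_cons chk_centX_559 (all_cons chk_centX_560 (all_cons chk_centX_561 (all_cons chk_centX_562 (all_cons chk_centX_563 (all_cons chk_centX_564 (all_cons chk_centX_565 (all_cons chk_centX_566 (all_cons chk_centX_567 (all_cons chk_centX_568 (all_cons chk_centX_569 (all_cons chk_centX_570 (all_cons chk_centX_571 (all_cons chk_centX_572 (all_cons chk_centX_573 (all_cons chk_centX_574 (all_cons chk_centX_575 (all_cons chk_centX_576 (all_cons chk_centX_577 (all_cons chk_centX_578 (all_cons chk_centX_579 (all_cons chk_centX_580 (all_cons chk_centX_581 (all_cons chk_centX_582 (all_cons chk_centX_583 (all_cons chk_centX_584 (all_cons chk_centX_585 (all_cons chk_centX_586 (all_cons chk_centX_587 (all_cons chk_centX_588 (all_cons chk_centX_589 (all_cons chk_centX_590 (all_cons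 chk_centX_591 (all_cons chk_centX_592 (all_cons chk_centX_593 (all_cons chk_centX_594 (all_cons chk_centX_595 (all_cons chk_centX_596 (all_cons chk_centX_597 (all_cons chk_centX_598 (all_cons chk_centX_599 (all_nil))))))))))))))))))))))))))))))))))))))))))))))))))))))))))))))))))))))))))))))))))))))))))))))))))))))))))))))))))))))))))))))))))))))))))))))))))))))

theorem chk_centX_grp4 : ∀ c ∈ ([(399600, 666), (400266, 666), (400932, 666), (401598, 666), (402264, 666), (402930, 666), (403596, 666), (404262, 666), (404928, 666), (405594, 666), (406260, 666), (406926, 666), (407592, 666), (408258, 666), (408924, 666), (409590, 666), (410256, 666), (410922, 666), (411588, 666), (412254, 666), (412920, 666), (413586, 666), (414252, 666), (414918, 666), (415584, 666), (416250, 666), (416916, 666), (417582, 666), (418248, 666), (418914, 666), (419580, 666), (420246, 666), (420912, 666), (421578, 666), (422244, 666), (422910, 666), (423576, 666), (424242, 666), (424908, 666), (425574, 666), (426240, 666), (426906, 666), (427572, 666), (428238, 666), (428904, 666), (429570, 666), (430236, 666), (430902, 666), (431568, 666), (432234, 666), (432900,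 666), (433566, 666), (434232, 666), (434898, 666), (435564, 666), (436230, 666), (436896, 666), (437562, 666), (438228, 666), (438894, 666), (439560, 666), (440226, 666), (440892, 666), (441558, 666), (442224, 666), (442890, 666), (443556, 666), (444222, 666), (444888, 666), (445554, 666), (446220, 666), (446886, 666), (447552, 666), (448218, 666), (448884, 666), (449550, 666), (450216, 666), (450882, 666), (451548, 666), (452214, 666), (452880, 666), (453546, 666), (454212, 666), (454878, 666), (455544, 666), (456210, 666), (456876, 666), (457542, 666), (458208, 666), (458874, 666), (459540, 666), (460206, 666), (460872, 666), (461538, 666), (462204, 666), (462870, 666), (463536, 666), (464202, 666), (464868, 666), (465534, 666), (466200, 666), (466866, 666), (467532, 666), (468198, 666), (468864, 666), (469530, 666), (470196, 666), (470862, 666), (471528, 666), (472194, 666), (472860, 666), (473526, 666), (474192, 666), (474858, 666), (475524, 666), (476190, 666), (476856, 666), (477522, 666), (478188, 666), (478854, 666), (479520, 666), (480186, 666), (480852, 666), (481518, 666), (482184, 666), (482850, 666), (483516, 666), (484182,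 666), (484848, 666), (485514, 666), (486180, 666), (486846, 666), (487512, 666), (488178, 666), (488844, 666), (489510, 666), (490176, 666), (490842, 666), (491508, 666), (492174, 666), (492840, 666), (493506, 666), (494172, 666), (494838, 666), (495504, 666), (496170, 666), (496836, 666), (497502, 666), (498168, 666), (498834, 666)] : List (ℕ × ℕ)), allR c.1 c.2 (fun q => centP 1539000 12 f8 [0] 19 LA0 LsA q) = true :=
  all_cons chk_centX_600 (all_cons chk_centX_601 (all_cons chk_centX_602 (all_cons chk_centX_603 (all_cons chk_centX_604 (all_cons chk_centX_605 (all_cons chk_centX_606 (all_cons chk_centX_607 (all_cons chk_centX_608 (all_cons chk_centX_609 (all_cons chk_centX_610 (all_cons chk_centX_611 (all_cons chk_centX_612 (all_cons chk_centX_613 (all_cons chk_centX_614 (all_cons chk_centX_615 (all_cons chk_centX_616 (all_cons chk_centX_617 (all_cons chk_centX_618 (all_cons chk_centX_619 (all_cons chk_centX_620 (all_cons chk_centX_621 (all_cons chk_centX_622 (all_cons chk_centX_623 (all_cons chk_centX_624 (all_cons chk_centX_625 (all_cons chk_centX_626 (all_cons chk_centX_627 (all_cons chk_centX_628 (all_cons chk_centX_629 (all_cons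 chk_centX_630 (all_cons chk_centX_631 (all_cons chk_centX_632 (all_cons chk_centX_633 (all_cons chk_centX_634 (all_cons chk_centX_635 (all_cons chk_centX_636 (all_cons chk_centX_637 (all_cons chk_centX_638 (all_cons chk_centX_639 (all_cons chk_centX_640 (all_cons chk_centX_641 (all_cons chk_centX_642 (all_cons chk_centX_643 (all_cons chk_centX_644 (all_cons chk_centX_645 (all_cons chk_centX_646 (all_cons chk_centX_647 (all_cons chk_centX_648 (all_cons chk_centX_649 (all_cons chk_centX_650 (all_cons chk_centX_651 (all_cons chk_centX_652 (all_cons chk_centX_653 (all_cons chk_centX_654 (all_cons chk_centX_655 (all_cons chk_centX_656 (all_cons chk_centX_657 (all_cons chk_centX_658 (all_cons chk_centX_659 (all_cons chk_centX_660 (all_cons chk_centX_661 (all_cons chk_centX_662 (all_cons chk_centX_663 (all_cons chk_centX_664 (all_cons chk_centX_665 (all_cons chk_centX_666 (all_cons chk_centX_667 (all_cons chk_centX_668 (all_cons chk_centX_669 (all_cons chk_centX_670 (all_cons chk_centX_671 (all_cons chk_centX_672 (all_cons chk_centX_673 (all_cons chk_centX_674 (all_cons chk_centX_675 (all_cons chk_centX_676 (all_cons chk_centX_677 (all_cons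 chk_centX_678 (all_cons chk_centX_679 (all_cons chk_centX_680 (all_cons chk_centX_681 (all_cons chk_centX_682 (all_cons chk_centX_683 (all_cons chk_centX_684 (all_cons chk_centX_685 (all_cons chk_centX_686 (all_cons chk_centX_687 (all_cons chk_centX_688 (all_cons chk_centX_689 (all_cons chk_centX_690 (all_cons chk_centX_691 (all_cons chk_centX_692 (all_cons chk_centX_693 (all_cons chk_centX_694 (all_cons chk_centX_695 (all_cons chk_centX_696 (all_cons chk_centX_697 (all_cons chk_centX_698 (all_cons chk_centX_699 (all_cons chk_centX_700 (all_cons chk_centX_701 (all_cons chk_centX_702 (all_cons chk_centX_703 (all_cons chk_centX_704 (all_cons chk_centX_705 (all_cons chk_centX_706 (all_cons chk_centX_707 (all_cons chk_centX_708 (all_cons chk_centX_709 (all_cons chk_centX_710 (all_cons chk_centX_711 (all_cons chk_centX_712 (all_cons chk_centX_713 (all_cons chk_centX_714 (all_cons chk_centX_715 (all_cons chk_centX_716 (all_cons chk_centX_717 (all_cons chk_centX_718 (all_cons chk_centX_719 (all_cons chk_centX_720 (all_cons chk_centX_721 (all_cons chk_centX_722 (all_cons chk_centX_723 (all_cons chk_centX_724 (all_cons chk_centX_725 (all_cons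 chk_centX_726 (all_cons chk_centX_727 (all_cons chk_centX_728 (all_cons chk_centX_729 (all_cons chk_centX_730 (all_cons chk_centX_731 (all_cons chk_centX_732 (all_cons chk_centX_733 (all_cons chk_centX_734 (all_cons chk_centX_735 (all_cons chk_centX_736 (all_cons chk_centX_737 (all_cons chk_centX_738 (all_cons chk_centX_739 (all_cons chk_centX_740 (all_cons chk_centX_741 (all_cons chk_centX_742 (all_cons chk_centX_743 (all_cons chk_centX_744 (all_cons chk_centX_745 (all_cons chk_centX_746 (all_cons chk_centX_747 (all_cons chk_centX_748 (all_cons chk_centX_749 (all_nil))))))))))))))))))))))))))))))))))))))))))))))))))))))))))))))))))))))))))))))))))))))))))))))))))))))))))))))))))))))))))))))))))))))))))))))))))))))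

theorem chk_centX_grp5 : ∀ c ∈ ([(499500, 666), (500166, 666), (500832, 666), (501498, 666), (502164, 666), (502830, 666), (503496, 666), (504162, 666), (504828, 666), (505494, 666), (506160, 666), (506826, 666), (507492, 666), (508158, 666), (508824, 666), (509490, 666), (510156, 666), (510822, 666), (511488, 666), (512154, 666), (512820, 666), (513486, 666), (514152, 666), (514818, 666), (515484, 666), (516150, 666), (516816, 666), (517482, 666), (518148, 666), (518814, 666), (519480, 666), (520146, 666), (520812, 666), (521478, 666), (522144, 666), (522810, 666), (523476, 666), (524142, 666), (524808, 666), (525474, 666), (526140, 666), (526806, 666), (527472, 666), (528138, 666), (528804, 666), (529470, 666), (530136, 666), (530802, 666), (531468, 666), (532134, 666), (532800, 666), (533466, 666), (534132, 666), (534798, 666), (535464, 666), (536130, 666), (536796, 666), (537462, 666), (538128, 666), (538794, 666), (539460, 666), (540126, 666), (540792, 666), (541458, 666), (542124, 666), (542790, 666), (543456, 666), (544122, 666), (544788, 666), (545454, 666), (546120, 666), (546786, 666), (547452, 666), (548118, 666), (548784,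 666), (549450, 666), (550116, 666), (550782, 666), (551448, 666), (552114, 666), (552780, 666), (553446, 666), (554112, 666), (554778, 666), (555444, 666), (556110, 666), (556776, 666), (557442, 666), (558108, 666), (558774, 666), (559440, 666), (560106, 666), (560772, 666), (561438, 666), (562104, 666), (562770, 666), (563436, 666), (564102, 666), (564768, 666), (565434, 666), (566100, 666), (566766, 666), (567432, 666), (568098, 666), (568764, 666), (569430, 666), (570096, 666), (570762, 666), (571428, 666), (572094, 666), (572760, 666), (573426, 666), (574092, 666), (574758, 666), (575424, 666), (576090, 666), (576756, 666), (577422, 666), (578088, 666), (578754, 666), (579420, 666), (580086, 666), (580752, 666), (581418, 666), (582084, 666), (582750, 666), (583416, 666), (584082, 666), (584748, 666), (585414, 666), (586080, 666), (586746, 666), (587412, 666), (588078, 666), (588744, 666), (589410, 666), (590076, 666), (590742, 666), (591408, 666), (592074, 666), (592740, 666), (593406, 666), (594072, 666), (594738, 666), (595404, 666), (596070, 666), (596736, 666), (597402, 666), (598068, 666), (598734, 666)] : List (ℕ × ℕ)), allR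 c.1 c.2 (fun q => centP 1539000 12 f8 [0] 19 LA0 LsA q) = true :=
  all_cons chk_centX_750 (all_cons chk_centX_751 (all_cons chk_centX_752 (all_cons chk_centX_753 (all_cons chk_centX_754 (all_cons chk_centX_755 (all_cons chk_centX_756 (all_cons chk_centX_757 (all_cons chk_centX_758 (all_cons chk_centX_759 (all_cons chk_centX_760 (all_cons chk_centX_761 (all_cons chk_centX_762 (all_cons chk_centX_763 (all_cons chk_centX_764 (all_cons chk_centX_765 (all_cons chk_centX_766 (all_cons chk_centX_767 (all_cons chk_centX_768 (all_cons chk_centX_769 (all_cons chk_centX_770 (all_cons chk_centX_771 (all_cons chk_centX_772 (all_cons chk_centX_773 (all_cons chk_centX_774 (all_cons chk_centX_775 (all_cons chk_centX_776 (all_cons chk_centX_777 (all_cons chk_centX_778 (all_cons chk_centX_779 (all_cons chk_centX_780 (all_cons chk_centX_781 (all_cons chk_centX_782 (all_cons chk_centX_783 (all_cons chk_centX_784 (all_cons chk_centX_785 (all_cons chk_centX_786 (all_cons chk_centX_787 (all_cons chk_centX_788 (all_cons chk_centX_789 (all_cons chk_centX_790 (all_cons chk_centX_791 (all_cons chk_centX_792 (all_cons chk_centX_793 (all_cons chk_centX_794 (all_cons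 chk_centX_795 (all_cons chk_centX_796 (all_cons chk_centX_797 (all_cons chk_centX_798 (all_cons chk_centX_799 (all_cons chk_centX_800 (all_cons chk_centX_801 (all_cons chk_centX_802 (all_cons chk_centX_803 (all_cons chk_centX_804 (all_cons chk_centX_805 (all_cons chk_centX_806 (all_cons chk_centX_807 (all_cons chk_centX_808 (all_cons chk_centX_809 (all_cons chk_centX_810 (all_cons chk_centX_811 (all_cons chk_centX_812 (all_cons chk_centX_813 (all_cons chk_centX_814 (all_cons chk_centX_815 (all_cons chk_centX_816 (all_cons chk_centX_817 (all_cons chk_centX_818 (all_cons chk_centX_819 (all_cons chk_centX_820 (all_cons chk_centX_821 (all_cons chk_centX_822 (all_cons chk_centX_823 (all_cons chk_centX_824 (all_cons chk_centX_825 (all_cons chk_centX_826 (all_cons chk_centX_827 (all_cons chk_centX_828 (all_cons chk_centX_829 (all_cons chk_centX_830 (all_cons chk_centX_831 (all_cons chk_centX_832 (all_cons chk_centX_833 (all_cons chk_centX_834 (all_cons chk_centX_835 (all_cons chk_centX_836 (all_cons chk_centX_837 (all_cons chk_centX_838 (all_cons chk_centX_839 (all_cons chk_centX_840 (all_cons chk_centX_841 (all_cons chk_centX_842 (all_cons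 chk_centX_843 (all_cons chk_centX_844 (all_cons chk_centX_845 (all_cons chk_centX_846 (all_cons chk_centX_847 (all_cons chk_centX_848 (all_cons chk_centX_849 (all_cons chk_centX_850 (all_cons chk_centX_851 (all_cons chk_centX_852 (all_cons chk_centX_853 (all_cons chk_centX_854 (all_cons chk_centX_855 (all_cons chk_centX_856 (all_cons chk_centX_857 (all_cons chk_centX_858 (all_cons chk_centX_859 (all_cons chk_centX_860 (all_cons chk_centX_861 (all_cons chk_centX_862 (all_cons chk_centX_863 (all_cons chk_centX_864 (all_cons chk_centX_865 (all_cons chk_centX_866 (all_cons chk_centX_867 (all_cons chk_centX_868 (all_cons chk_centX_869 (all_cons chk_centX_870 (all_cons chk_centX_871 (all_cons chk_centX_872 (all_cons chk_centX_873 (all_cons chk_centX_874 (all_cons chk_centX_875 (all_cons chk_centX_876 (all_cons chk_centX_877 (all_cons chk_centX_878 (all_cons chk_centX_879 (all_cons chk_centX_880 (all_cons chk_centX_881 (all_cons chk_centX_882 (all_cons chk_centX_883 (all_cons chk_centX_884 (all_cons chk_centX_885 (all_cons chk_centX_886 (all_cons chk_centX_887 (all_cons chk_centX_888 (all_cons chk_centX_889 (all_cons chk_centX_890 (all_cons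 chk_centX_891 (all_cons chk_centX_892 (all_cons chk_centX_893 (all_cons chk_centX_894 (all_cons chk_centX_895 (all_cons chk_centX_896 (all_cons chk_centX_897 (all_cons chk_centX_898 (all_cons chk_centX_899 (all_nil))))))))))))))))))))))))))))))))))))))))))))))))))))))))))))))))))))))))))))))))))))))))))))))))))))))))))))))))))))))))))))))))))))))))))))))))))))))

theorem chk_centX_grp6 : ∀ c ∈ ([(599400, 666), (600066, 666), (600732, 666), (601398, 666), (602064, 666), (602730, 666), (603396, 666), (604062, 666), (604728, 666), (605394, 666), (606060, 666), (606726, 666), (607392, 666), (608058, 666), (608724, 666), (609390, 666), (610056, 666), (610722, 666), (611388, 666), (612054, 666), (612720, 666), (613386, 666), (614052, 666), (614718, 666), (615384, 666), (616050, 666), (616716, 666), (617382, 666), (618048, 666), (618714, 666), (619380, 666), (620046, 666), (620712, 666), (621378, 666), (622044, 666), (622710, 666), (623376, 666), (624042, 666), (624708, 666), (625374, 666), (626040, 666), (626706, 666), (627372, 666), (628038, 666), (628704, 666), (629370, 666), (630036, 666), (630702, 666), (631368, 666), (632034, 666), (632700,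 666), (633366, 666), (634032, 666), (634698, 666), (635364, 666), (636030, 666), (636696, 666), (637362, 666), (638028, 666), (638694, 666), (639360, 666), (640026, 666), (640692, 666), (641358, 666), (642024, 666), (642690, 666), (643356, 666), (644022, 666), (644688, 666), (645354, 666), (646020, 666), (646686, 666), (647352, 666), (648018, 666), (648684, 666), (649350, 666), (650016, 666), (650682, 666), (651348, 666), (652014, 666), (652680, 666), (653346, 666), (654012, 666), (654678, 666), (655344, 666), (656010, 666), (656676, 666), (657342, 666), (658008, 666), (658674, 666), (659340, 666), (660006, 666), (660672, 666), (661338, 666), (662004, 666), (662670, 666), (663336, 666), (664002, 666), (664668, 666), (665334, 666), (666000, 666), (666666, 666), (667332, 666), (667998, 666), (668664, 666), (669330, 666), (669996, 666), (670662, 666), (671328, 666), (671994, 666), (672660, 666), (673326, 666), (673992, 666), (674658, 666), (675324, 666), (675990, 666), (676656, 666), (677322, 666), (677988, 666), (678654, 666), (679320, 666), (679986, 666), (680652, 666), (681318, 666), (681984, 666), (682650, 666), (683316, 666), (683982,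 666), (684648, 666), (685314, 666), (685980, 666), (686646, 666), (687312, 666), (687978, 666), (688644, 666), (689310, 666), (689976, 666), (690642, 666), (691308, 666), (691974, 666), (692640, 666), (693306, 666), (693972, 666), (694638, 666), (695304, 666), (695970, 666), (696636, 666), (697302, 666), (697968, 666), (698634, 666)] : List (ℕ × ℕ)), allR c.1 c.2 (fun q => centP 1539000 12 f8 [0] 19 LA0 LsA q) = true :=
  all_cons chk_centX_900 (all_cons chk_centX_901 (all_cons chk_centX_902 (all_cons chk_centX_903 (all_cons chk_centX_904 (all_cons chk_centX_905 (all_cons chk_centX_906 (all_cons chk_centX_907 (all_cons chk_centX_908 (all_cons chk_centX_909 (all_cons chk_centX_910 (all_cons chk_centX_911 (all_cons chk_centX_912 (all_cons chk_centX_913 (all_cons chk_centX_914 (all_cons chk_centX_915 (all_cons chk_centX_916 (all_cons chk_centX_917 (all_cons chk_centX_918 (all_cons chk_centX_919 (all_cons chk_centX_920 (all_cons chk_centX_921 (all_cons chk_centX_922 (all_cons chk_centX_923 (all_cons chk_centX_924 (all_cons chk_centX_925 (all_cons chk_centX_926 (all_cons chk_centX_927 (all_cons chk_centX_928 (all_cons chk_centX_929 (all_cons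 chk_centX_930 (all_cons chk_centX_931 (all_cons chk_centX_932 (all_cons chk_centX_933 (all_cons chk_centX_934 (all_cons chk_centX_935 (all_cons chk_centX_936 (all_cons chk_centX_937 (all_cons chk_centX_938 (all_cons chk_centX_939 (all_cons chk_centX_940 (all_cons chk_centX_941 (all_cons chk_centX_942 (all_cons chk_centX_943 (all_cons chk_centX_944 (all_cons chk_centX_945 (all_cons chk_centX_946 (all_cons chk_centX_947 (all_cons chk_centX_948 (all_cons chk_centX_949 (all_cons chk_centX_950 (all_cons chk_centX_951 (all_cons chk_centX_952 (all_cons chk_centX_953 (all_cons chk_centX_954 (all_cons chk_centX_955 (all_cons chk_centX_956 (all_cons chk_centX_957 (all_cons chk_centX_958 (all_cons chk_centX_959 (all_cons chk_centX_960 (all_cons chk_centX_961 (all_cons chk_centX_962 (all_cons chk_centX_963 (all_cons chk_centX_964 (all_cons chk_centX_965 (all_cons chk_centX_966 (all_cons chk_centX_967 (all_cons chk_centX_968 (all_cons chk_centX_969 (all_cons chk_centX_970 (all_cons chk_centX_971 (all_cons chk_centX_972 (all_cons chk_centX_973 (all_cons chk_centX_974 (all_cons chk_centX_975 (all_cons chk_centX_976 (all_cons chk_centX_977 (all_cons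 chk_centX_978 (all_cons chk_centX_979 (all_cons chk_centX_980 (all_cons chk_centX_981 (all_cons chk_centX_982 (all_cons chk_centX_983 (all_cons chk_centX_984 (all_cons chk_centX_985 (all_cons chk_centX_986 (all_cons chk_centX_987 (all_cons chk_centX_988 (all_cons chk_centX_989 (all_cons chk_centX_990 (all_cons chk_centX_991 (all_cons chk_centX_992 (all_cons chk_centX_993 (all_cons chk_centX_994 (all_cons chk_centX_995 (all_cons chk_centX_996 (all_cons chk_centX_997 (all_cons chk_centX_998 (all_cons chk_centX_999 (all_cons chk_centX_1000 (all_cons chk_centX_1001 (all_cons chk_centX_1002 (all_cons chk_centX_1003 (all_cons chk_centX_1004 (all_cons chk_centX_1005 (all_cons chk_centX_1006 (all_cons chk_centX_1007 (all_cons chk_centX_1008 (all_cons chk_centX_1009 (all_cons chk_centX_1010 (all_cons chk_centX_1011 (all_cons chk_centX_1012 (all_cons chk_centX_1013 (all_cons chk_centX_1014 (all_cons chk_centX_1015 (all_cons chk_centX_1016 (all_cons chk_centX_1017 (all_cons chk_centX_1018 (all_cons chk_centX_1019 (all_cons chk_centX_1020 (all_cons chk_centX_1021 (all_cons chk_centX_1022 (all_cons chk_centX_1023 (all_cons chk_centX_1024 (all_cons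 chk_centX_1025 (all_cons chk_centX_1026 (all_cons chk_centX_1027 (all_cons chk_centX_1028 (all_cons chk_centX_1029 (all_cons chk_centX_1030 (all_cons chk_centX_1031 (all_cons chk_centX_1032 (all_cons chk_centX_1033 (all_cons chk_centX_1034 (all_cons chk_centX_1035 (all_cons chk_centX_1036 (all_cons chk_centX_1037 (all_cons chk_centX_1038 (all_cons chk_centX_1039 (all_cons chk_centX_1040 (all_cons chk_centX_1041 (all_cons chk_centX_1042 (all_cons chk_centX_1043 (all_cons chk_centX_1044 (all_cons chk_centX_1045 (all_cons chk_centX_1046 (all_cons chk_centX_1047 (all_cons chk_centX_1048 (all_cons chk_centX_1049 (all_nil))))))))))))))))))))))))))))))))))))))))))))))))))))))))))))))))))))))))))))))))))))))))))))))))))))))))))))))))))))))))))))))))))))))))))))))))))))))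

theorem chk_centX_grp7 : ∀ c ∈ ([(699300, 666), (699966, 666), (700632, 666), (701298, 666), (701964, 666), (702630, 666), (703296, 666), (703962, 666), (704628, 666), (705294, 666), (705960, 666), (706626, 666), (707292, 666), (707958, 666), (708624, 666), (709290, 666), (709956, 666), (710622, 666), (711288, 666), (711954, 666), (712620, 666), (713286, 666), (713952, 666), (714618, 666), (715284, 666), (715950, 666), (716616, 666), (717282, 666), (717948, 666), (718614, 666), (719280, 666), (719946, 666), (720612, 666), (721278, 666), (721944, 666), (722610, 666), (723276, 666), (723942, 666), (724608, 666), (725274, 666), (725940, 666), (726606, 666), (727272, 666), (727938, 666), (728604, 666), (729270, 666), (729936, 666), (730602, 666), (731268, 666), (731934, 666), (732600, 666), (733266, 666), (733932, 666), (734598, 666), (735264, 666), (735930, 666), (736596, 666), (737262, 666), (737928, 666), (738594, 666), (739260, 666), (739926, 666), (740592, 666), (741258, 666), (741924, 666), (742590, 666), (743256, 666), (743922, 666), (744588, 666), (745254, 666), (745920, 666), (746586, 666), (747252, 666), (747918, 666), (748584,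 666), (749250, 666), (749916, 666), (750582, 666), (751248, 666), (751914, 666), (752580, 666), (753246, 666), (753912, 666), (754578, 666), (755244, 666), (755910, 666), (756576, 666), (757242, 666), (757908, 666), (758574, 666), (759240, 666), (759906, 666), (760572, 666), (761238, 666), (761904, 666), (762570, 666), (763236, 666), (763902, 666), (764568, 666), (765234, 666), (765900, 666), (766566, 666), (767232, 666), (767898, 666), (768564, 666), (769230, 666), (769896, 666), (770562, 666), (771228, 666), (771894, 666), (772560, 666), (773226, 666), (773892, 666), (774558, 666), (775224, 666), (775890, 666), (776556, 666), (777222, 666), (777888, 666), (778554, 666), (779220, 666), (779886, 666), (780552, 666), (781218, 666), (781884, 666), (782550, 666), (783216, 666), (783882, 666), (784548, 666), (785214, 666), (785880, 666), (786546, 666), (787212, 666), (787878, 666), (788544, 666), (789210, 666), (789876, 666), (790542, 666), (791208, 666), (791874, 666), (792540, 666), (793206, 666), (793872, 666), (794538, 666), (795204, 666), (795870, 666), (796536, 666), (797202, 666), (797868, 666), (798534, 666)] : List (ℕ × ℕ)), allR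 c.1 c.2 (fun q => centP 1539000 12 f8 [0] 19 LA0 LsA q) = true :=
  all_cons chk_centX_1050 (all_cons chk_centX_1051 (all_cons chk_centX_1052 (all_cons chk_centX_1053 (all_cons chk_centX_1054 (all_cons chk_centX_1055 (all_cons chk_centX_1056 (all_cons chk_centX_1057 (all_cons chk_centX_1058 (all_cons chk_centX_1059 (all_cons chk_centX_1060 (all_cons chk_centX_1061 (all_cons chk_centX_1062 (all_cons chk_centX_1063 (all_cons chk_centX_1064 (all_cons chk_centX_1065 (all_cons chk_centX_1066 (all_cons chk_centX_1067 (all_cons chk_centX_1068 (all_cons chk_centX_1069 (all_cons chk_centX_1070 (all_cons chk_centX_1071 (all_cons chk_centX_1072 (all_cons chk_centX_1073 (all_cons chk_centX_1074 (all_cons chk_centX_1075 (all_cons chk_centX_1076 (all_cons chk_centX_1077 (all_cons chk_centX_1078 (all_cons chk_centX_1079 (all_cons chk_centX_1080 (all_cons chk_centX_1081 (all_cons chk_centX_1082 (all_cons chk_centX_1083 (all_cons chk_centX_1084 (all_cons chk_centX_1085 (all_cons chk_centX_1086 (all_cons chk_centX_1087 (all_cons chk_centX_1088 (all_cons chk_centX_1089 (all_cons chk_centX_1090 (all_cons chk_centX_1091 (all_cons chk_centX_1092 (all_cons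 chk_centX_1093 (all_cons chk_centX_1094 (all_cons chk_centX_1095 (all_cons chk_centX_1096 (all_cons chk_centX_1097 (all_cons chk_centX_1098 (all_cons chk_centX_1099 (all_cons chk_centX_1100 (all_cons chk_centX_1101 (all_cons chk_centX_1102 (all_cons chk_centX_1103 (all_cons chk_centX_1104 (all_cons chk_centX_1105 (all_cons chk_centX_1106 (all_cons chk_centX_1107 (all_cons chk_centX_1108 (all_cons chk_centX_1109 (all_cons chk_centX_1110 (all_cons chk_centX_1111 (all_cons chk_centX_1112 (all_cons chk_centX_1113 (all_cons chk_centX_1114 (all_cons chk_centX_1115 (all_cons chk_centX_1116 (all_cons chk_centX_1117 (all_cons chk_centX_1118 (all_cons chk_centX_1119 (all_cons chk_centX_1120 (all_cons chk_centX_1121 (all_cons chk_centX_1122 (all_cons chk_centX_1123 (all_cons chk_centX_1124 (all_cons chk_centX_1125 (all_cons chk_centX_1126 (all_cons chk_centX_1127 (all_cons chk_centX_1128 (all_cons chk_centX_1129 (all_cons chk_centX_1130 (all_cons chk_centX_1131 (all_cons chk_centX_1132 (all_cons chk_centX_1133 (all_cons chk_centX_1134 (all_cons chk_centX_1135 (all_cons chk_centX_1136 (all_cons chk_centX_1137 (all_cons chk_centX_1138 (all_cons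 chk_centX_1139 (all_cons chk_centX_1140 (all_cons chk_centX_1141 (all_cons chk_centX_1142 (all_cons chk_centX_1143 (all_cons chk_centX_1144 (all_cons chk_centX_1145 (all_cons chk_centX_1146 (all_cons chk_centX_1147 (all_cons chk_centX_1148 (all_cons chk_centX_1149 (all_cons chk_centX_1150 (all_cons chk_centX_1151 (all_cons chk_centX_1152 (all_cons chk_centX_1153 (all_cons chk_centX_1154 (all_cons chk_centX_1155 (all_cons chk_centX_1156 (all_cons chk_centX_1157 (all_cons chk_centX_1158 (all_cons chk_centX_1159 (all_cons chk_centX_1160 (all_cons chk_centX_1161 (all_cons chk_centX_1162 (all_cons chk_centX_1163 (all_cons chk_centX_1164 (all_cons chk_centX_1165 (all_cons chk_centX_1166 (all_cons chk_centX_1167 (all_cons chk_centX_1168 (all_cons chk_centX_1169 (all_cons chk_centX_1170 (all_cons chk_centX_1171 (all_cons chk_centX_1172 (all_cons chk_centX_1173 (all_cons chk_centX_1174 (all_cons chk_centX_1175 (all_cons chk_centX_1176 (all_cons chk_centX_1177 (all_cons chk_centX_1178 (all_cons chk_centX_1179 (all_cons chk_centX_1180 (all_cons chk_centX_1181 (all_cons chk_centX_1182 (all_cons chk_centX_1183 (all_cons chk_centX_1184 (all_cons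 chk_centX_1185 (all_cons chk_centX_1186 (all_cons chk_centX_1187 (all_cons chk_centX_1188 (all_cons chk_centX_1189 (all_cons chk_centX_1190 (all_cons chk_centX_1191 (all_cons chk_centX_1192 (all_cons chk_centX_1193 (all_cons chk_centX_1194 (all_cons chk_centX_1195 (all_cons chk_centX_1196 (all_cons chk_centX_1197 (all_cons chk_centX_1198 (all_cons chk_centX_1199 (all_nil))))))))))))))))))))))))))))))))))))))))))))))))))))))))))))))))))))))))))))))))))))))))))))))))))))))))))))))))))))))))))))))))))))))))))))))))))))))

theorem chk_centX_grp8 : ∀ c ∈ ([(799200, 666), (799866, 666), (800532, 666), (801198, 666), (801864, 666), (802530, 666), (803196, 666), (803862, 666), (804528, 666), (805194, 666), (805860, 666), (806526, 666), (807192, 666), (807858, 666), (808524, 666), (809190, 666), (809856, 666), (810522, 666), (811188, 666), (811854, 666), (812520, 666), (813186, 666), (813852, 666), (814518, 666), (815184, 666), (815850, 666), (816516, 666), (817182, 666), (817848, 666), (818514, 666), (819180, 666), (819846, 666), (820512, 666), (821178, 666), (821844, 666), (822510, 666), (823176, 666), (823842, 666), (824508, 666), (825174,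 666), (825840, 666), (826506, 666), (827172, 666), (827838, 666), (828504, 666), (829170, 666), (829836, 666), (830502, 666), (831168, 666), (831834, 666), (832500, 666), (833166, 666), (833832, 666), (834498, 666), (835164, 666), (835830, 666), (836496, 666), (837162, 666), (837828, 666), (838494, 666), (839160, 666), (839826, 666), (840492, 666), (841158, 666), (841824, 666), (842490, 666), (843156, 666), (843822, 666), (844488, 666), (845154, 666), (845820, 666), (846486, 666), (847152, 666), (847818, 666), (848484, 666), (849150, 666), (849816, 666), (850482, 666), (851148, 666), (851814, 666), (852480, 666), (853146, 666), (853812, 666), (854478, 666), (855144, 666), (855810, 666), (856476, 666), (857142, 666), (857808, 666), (858474, 666), (859140, 666), (859806, 666), (860472, 666), (861138, 666), (861804, 666), (862470, 666), (863136, 666), (863802, 666), (864468, 666), (865134, 666), (865800, 666), (866466, 666), (867132, 666), (867798, 666), (868464, 666), (869130, 666), (869796, 666), (870462, 666), (871128, 666), (871794, 666), (872460, 666), (873126, 666), (873792, 666), (874458, 666), (875124, 666), (875790, 666), (876456,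 666), (877122, 666), (877788, 666), (878454, 666), (879120, 666), (879786, 666), (880452, 666), (881118, 666), (881784, 666), (882450, 666), (883116, 666), (883782, 666), (884448, 666), (885114, 666), (885780, 666), (886446, 666), (887112, 666), (887778, 666), (888444, 666), (889110, 666), (889776, 666), (890442, 666), (891108, 666), (891774, 666), (892440, 666), (893106, 666), (893772, 666), (894438, 666), (895104, 666), (895770, 666), (896436, 666), (897102, 666), (897768, 666), (898434, 666)] : List (ℕ × ℕ)), allR c.1 c.2 (fun q => centP 1539000 12 f8 [0] 19 LA0 LsA q) = true :=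
  all_cons chk_centX_1200 (all_cons chk_centX_1201 (all_cons chk_centX_1202 (all_cons chk_centX_1203 (all_cons chk_centX_1204 (all_cons chk_centX_1205 (all_cons chk_centX_1206 (all_cons chk_centX_1207 (all_cons chk_centX_1208 (all_cons chk_centX_1209 (all_cons chk_centX_1210 (all_cons chk_centX_1211 (all_cons chk_centX_1212 (all_cons chk_centX_1213 (all_cons chk_centX_1214 (all_cons chk_centX_1215 (all_cons chk_centX_1216 (all_cons chk_centX_1217 (all_cons chk_centX_1218 (all_cons chk_centX_1219 (all_cons chk_centX_1220 (all_cons chk_centX_1221 (all_cons chk_centX_1222 (all_cons chk_centX_1223 (all_cons chk_centX_1224 (all_cons chk_centX_1225 (all_cons chk_centX_1226 (all_cons chk_centX_1227 (all_cons chk_centX_1228 (all_cons chk_centX_1229 (all_cons chk_centX_1230 (all_cons chk_centX_1231 (all_cons chk_centX_1232 (all_cons chk_centX_1233 (all_cons chk_centX_1234 (all_cons chk_centX_1235 (all_cons chk_centX_1236 (all_cons chk_centX_1237 (all_cons chk_centX_1238 (all_cons chk_centX_1239 (all_cons chk_centX_1240 (all_cons chk_centX_1241 (all_cons chk_centX_1242 (all_cons chk_centX_1243 (all_cons chk_centX_1244 (all_cons chk_centX_1245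 (all_cons chk_centX_1246 (all_cons chk_centX_1247 (all_cons chk_centX_1248 (all_cons chk_centX_1249 (all_cons chk_centX_1250 (all_cons chk_centX_1251 (all_cons chk_centX_1252 (all_cons chk_centX_1253 (all_cons chk_centX_1254 (all_cons chk_centX_1255 (all_cons chk_centX_1256 (all_cons chk_centX_1257 (all_cons chk_centX_1258 (all_cons chk_centX_1259 (all_cons chk_centX_1260 (all_cons chk_centX_1261 (all_cons chk_centX_1262 (all_cons chk_centX_1263 (all_cons chk_centX_1264 (all_cons chk_centX_1265 (all_cons chk_centX_1266 (all_cons chk_centX_1267 (all_cons chk_centX_1268 (all_cons chk_centX_1269 (all_cons chk_centX_1270 (all_cons chk_centX_1271 (all_cons chk_centX_1272 (all_cons chk_centX_1273 (all_cons chk_centX_1274 (all_cons chk_centX_1275 (all_cons chk_centX_1276 (all_cons chk_centX_1277 (all_cons chk_centX_1278 (all_cons chk_centX_1279 (all_cons chk_centX_1280 (all_cons chk_centX_1281 (all_cons chk_centX_1282 (all_cons chk_centX_1283 (all_cons chk_centX_1284 (all_cons chk_centX_1285 (all_cons chk_centX_1286 (all_cons chk_centX_1287 (all_cons chk_centX_1288 (all_cons chk_centX_1289 (all_cons chk_centX_1290 (all_cons chk_centX_1291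 (all_cons chk_centX_1292 (all_cons chk_centX_1293 (all_cons chk_centX_1294 (all_cons chk_centX_1295 (all_cons chk_centX_1296 (all_cons chk_centX_1297 (all_cons chk_centX_1298 (all_cons chk_centX_1299 (all_cons chk_centX_1300 (all_cons chk_centX_1301 (all_cons chk_centX_1302 (all_cons chk_centX_1303 (all_cons chk_centX_1304 (all_cons chk_centX_1305 (all_cons chk_centX_1306 (all_cons chk_centX_1307 (all_cons chk_centX_1308 (all_cons chk_centX_1309 (all_cons chk_centX_1310 (all_cons chk_centX_1311 (all_cons chk_centX_1312 (all_cons chk_centX_1313 (all_cons chk_centX_1314 (all_cons chk_centX_1315 (all_cons chk_centX_1316 (all_cons chk_centX_1317 (all_cons chk_centX_1318 (all_cons chk_centX_1319 (all_cons chk_centX_1320 (all_cons chk_centX_1321 (all_cons chk_centX_1322 (all_cons chk_centX_1323 (all_cons chk_centX_1324 (all_cons chk_centX_1325 (all_cons chk_centX_1326 (all_cons chk_centX_1327 (all_cons chk_centX_1328 (all_cons chk_centX_1329 (all_cons chk_centX_1330 (all_cons chk_centX_1331 (all_cons chk_centX_1332 (all_cons chk_centX_1333 (all_cons chk_centX_1334 (all_cons chk_centX_1335 (all_cons chk_centX_1336 (all_cons chk_centX_1337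 (all_cons chk_centX_1338 (all_cons chk_centX_1339 (all_cons chk_centX_1340 (all_cons chk_centX_1341 (all_cons chk_centX_1342 (all_cons chk_centX_1343 (all_cons chk_centX_1344 (all_cons chk_centX_1345 (all_cons chk_centX_1346 (all_cons chk_centX_1347 (all_cons chk_centX_1348 (all_cons chk_centX_1349 (all_nil))))))))))))))))))))))))))))))))))))))))))))))))))))))))))))))))))))))))))))))))))))))))))))))))))))))))))))))))))))))))))))))))))))))))))))))))))))))

theorem chk_centX_grp9 : ∀ c ∈ ([(899100, 666), (899766, 666), (900432, 666), (901098, 666), (901764, 666), (902430, 666), (903096, 666), (903762, 666), (904428, 666), (905094, 666), (905760, 666), (906426, 666), (907092, 666), (907758, 666), (908424, 666), (909090, 666), (909756, 666), (910422, 666), (911088, 666), (911754, 666), (912420, 666), (913086, 666), (913752, 666), (914418, 666), (915084, 666), (915750, 666), (916416, 666), (917082, 666), (917748, 666), (918414, 666), (919080, 666), (919746, 666), (920412, 666), (921078, 666), (921744, 666), (922410, 666), (923076, 666), (923742, 666), (924408, 666), (925074, 666), (925740, 666), (926406, 666), (927072, 666), (927738, 666),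 (928404, 666), (929070, 666), (929736, 666), (930402, 666), (931068, 666), (931734, 666), (932400, 666), (933066, 666), (933732, 666), (934398, 666), (935064, 666), (935730, 666), (936396, 666), (937062, 666), (937728, 666), (938394, 666), (939060, 666), (939726, 666), (940392, 666), (941058, 666), (941724, 666), (942390, 666), (943056, 666), (943722, 666), (944388, 666), (945054, 666), (945720, 666), (946386, 666), (947052, 666), (947718, 666), (948384, 666), (949050, 666), (949716, 666), (950382, 666), (951048, 666), (951714, 666), (952380, 666), (953046, 666), (953712, 666), (954378, 666), (955044, 666), (955710, 666), (956376, 666), (957042, 666), (957708, 666), (958374, 666), (959040, 666), (959706, 666), (960372, 666), (961038, 666), (961704, 666), (962370, 666), (963036, 666), (963702, 666), (964368, 666), (965034, 666), (965700, 666), (966366, 666), (967032, 666), (967698, 666), (968364, 666), (969030, 666), (969696, 666), (970362, 666), (971028, 666), (971694, 666), (972360, 666), (973026, 666), (973692, 666), (974358, 666), (975024, 666), (975690, 666), (976356, 666), (977022, 666), (977688, 666), (978354, 666), (979020, 666),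 (979686, 666), (980352, 666), (981018, 666), (981684, 666), (982350, 666), (983016, 666), (983682, 666), (984348, 666), (985014, 666), (985680, 666), (986346, 666), (987012, 666), (987678, 666), (988344, 666), (989010, 666), (989676, 666), (990342, 666), (991008, 666), (991674, 666), (992340, 666), (993006, 666), (993672, 666), (994338, 666), (995004, 666), (995670, 666), (996336, 666), (997002, 666), (997668, 666), (998334, 666)] : List (ℕ × ℕ)), allR c.1 c.2 (fun q => centP 1539000 12 f8 [0] 19 LA0 LsA q) = true :=
  all_cons chk_centX_1350 (all_cons chk_centX_1351 (all_cons chk_centX_1352 (all_cons chk_centX_1353 (all_cons chk_centX_1354 (all_cons chk_centX_1355 (all_cons chk_centX_1356 (all_cons chk_centX_1357 (all_cons chk_centX_1358 (all_cons chk_centX_1359 (all_cons chk_centX_1360 (all_cons chk_centX_1361 (all_cons chk_centX_1362 (all_cons chk_centX_1363 (all_cons chk_centX_1364 (all_cons chk_centX_1365 (all_cons chk_centX_1366 (all_cons chk_centX_1367 (all_cons chk_centX_1368 (all_cons chk_centX_1369 (all_cons chk_centX_1370 (all_cons chk_centX_1371 (all_cons chk_centX_1372 (all_cons chk_centX_1373 (all_cons chk_centX_1374 (all_cons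 chk_centX_1375 (all_cons chk_centX_1376 (all_cons chk_centX_1377 (all_cons chk_centX_1378 (all_cons chk_centX_1379 (all_cons chk_centX_1380 (all_cons chk_centX_1381 (all_cons chk_centX_1382 (all_cons chk_centX_1383 (all_cons chk_centX_1384 (all_cons chk_centX_1385 (all_cons chk_centX_1386 (all_cons chk_centX_1387 (all_cons chk_centX_1388 (all_cons chk_centX_1389 (all_cons chk_centX_1390 (all_cons chk_centX_1391 (all_cons chk_centX_1392 (all_cons chk_centX_1393 (all_cons chk_centX_1394 (all_cons chk_centX_1395 (all_cons chk_centX_1396 (all_cons chk_centX_1397 (all_cons chk_centX_1398 (all_cons chk_centX_1399 (all_cons chk_centX_1400 (all_cons chk_centX_1401 (all_cons chk_centX_1402 (all_cons chk_centX_1403 (all_cons chk_centX_1404 (all_cons chk_centX_1405 (all_cons chk_centX_1406 (all_cons chk_centX_1407 (all_cons chk_centX_1408 (all_cons chk_centX_1409 (all_cons chk_centX_1410 (all_cons chk_centX_1411 (all_cons chk_centX_1412 (all_cons chk_centX_1413 (all_cons chk_centX_1414 (all_cons chk_centX_1415 (all_cons chk_centX_1416 (all_cons chk_centX_1417 (all_cons chk_centX_1418 (all_cons chk_centX_1419 (all_cons chk_centX_1420 (all_cons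 chk_centX_1421 (all_cons chk_centX_1422 (all_cons chk_centX_1423 (all_cons chk_centX_1424 (all_cons chk_centX_1425 (all_cons chk_centX_1426 (all_cons chk_centX_1427 (all_cons chk_centX_1428 (all_cons chk_centX_1429 (all_cons chk_centX_1430 (all_cons chk_centX_1431 (all_cons chk_centX_1432 (all_cons chk_centX_1433 (all_cons chk_centX_1434 (all_cons chk_centX_1435 (all_cons chk_centX_1436 (all_cons chk_centX_1437 (all_cons chk_centX_1438 (all_cons chk_centX_1439 (all_cons chk_centX_1440 (all_cons chk_centX_1441 (all_cons chk_centX_1442 (all_cons chk_centX_1443 (all_cons chk_centX_1444 (all_cons chk_centX_1445 (all_cons chk_centX_1446 (all_cons chk_centX_1447 (all_cons chk_centX_1448 (all_cons chk_centX_1449 (all_cons chk_centX_1450 (all_cons chk_centX_1451 (all_cons chk_centX_1452 (all_cons chk_centX_1453 (all_cons chk_centX_1454 (all_cons chk_centX_1455 (all_cons chk_centX_1456 (all_cons chk_centX_1457 (all_cons chk_centX_1458 (all_cons chk_centX_1459 (all_cons chk_centX_1460 (all_cons chk_centX_1461 (all_cons chk_centX_1462 (all_cons chk_centX_1463 (all_cons chk_centX_1464 (all_cons chk_centX_1465 (all_cons chk_centX_1466 (all_cons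 chk_centX_1467 (all_cons chk_centX_1468 (all_cons chk_centX_1469 (all_cons chk_centX_1470 (all_cons chk_centX_1471 (all_cons chk_centX_1472 (all_cons chk_centX_1473 (all_cons chk_centX_1474 (all_cons chk_centX_1475 (all_cons chk_centX_1476 (all_cons chk_centX_1477 (all_cons chk_centX_1478 (all_cons chk_centX_1479 (all_cons chk_centX_1480 (all_cons chk_centX_1481 (all_cons chk_centX_1482 (all_cons chk_centX_1483 (all_cons chk_centX_1484 (all_cons chk_centX_1485 (all_cons chk_centX_1486 (all_cons chk_centX_1487 (all_cons chk_centX_1488 (all_cons chk_centX_1489 (all_cons chk_centX_1490 (all_cons chk_centX_1491 (all_cons chk_centX_1492 (all_cons chk_centX_1493 (all_cons chk_centX_1494 (all_cons chk_centX_1495 (all_cons chk_centX_1496 (all_cons chk_centX_1497 (all_cons chk_centX_1498 (all_cons chk_centX_1499 (all_nil))))))))))))))))))))))))))))))))))))))))))))))))))))))))))))))))))))))))))))))))))))))))))))))))))))))))))))))))))))))))))))))))))))))))))))))))))))))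

theorem chk_centX_grp10 : ∀ c ∈ ([(999000, 666), (999666, 666), (1000332, 666), (1000998, 666), (1001664, 666), (1002330, 666), (1002996, 666), (1003662, 666), (1004328, 666), (1004994, 666), (1005660, 666), (1006326, 666), (1006992, 666), (1007658, 666), (1008324, 666), (1008990, 666), (1009656, 666), (1010322, 666), (1010988, 666), (1011654, 666), (1012320, 666), (1012986, 666), (1013652, 666), (1014318, 666), (1014984, 666), (1015650, 666), (1016316, 666), (1016982, 666), (1017648, 666), (1018314, 666), (1018980, 666), (1019646, 666), (1020312, 666), (1020978, 666), (1021644, 666), (1022310, 666), (1022976, 666), (1023642, 666), (1024308, 666), (1024974, 666), (1025640, 666), (1026306, 666), (1026972, 666), (1027638, 666), (1028304, 666), (1028970, 666), (1029636, 666), (1030302, 666), (1030968, 666), (1031634, 666), (1032300, 666), (1032966, 666), (1033632, 666), (1034298, 666), (1034964, 666), (1035630, 666), (1036296, 666), (1036962, 666), (1037628, 666), (1038294, 666), (1038960, 666), (1039626, 666), (1040292, 666), (1040958, 666), (1041624, 666), (1042290, 666), (1042956, 666), (1043622, 666), (1044288, 666), (1044954, 666),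 (1045620, 666), (1046286, 666), (1046952, 666), (1047618, 666), (1048284, 666), (1048950, 666), (1049616, 666), (1050282, 666), (1050948, 666), (1051614, 666), (1052280, 666), (1052946, 666), (1053612, 666), (1054278, 666), (1054944, 666), (1055610, 666), (1056276, 666), (1056942, 666), (1057608, 666), (1058274, 666), (1058940, 666), (1059606, 666), (1060272, 666), (1060938, 666), (1061604, 666), (1062270, 666), (1062936, 666), (1063602, 666), (1064268, 666), (1064934, 666), (1065600, 666), (1066266, 666), (1066932, 666), (1067598, 666), (1068264, 666), (1068930, 666), (1069596, 666), (1070262, 666), (1070928, 666), (1071594, 666), (1072260, 666), (1072926, 666), (1073592, 666), (1074258, 666), (1074924, 666), (1075590, 666), (1076256, 666), (1076922, 666), (1077588, 666), (1078254, 666), (1078920, 666), (1079586, 666), (1080252, 666), (1080918, 666), (1081584, 666), (1082250, 666), (1082916, 666), (1083582, 666), (1084248, 666), (1084914, 666), (1085580, 666), (1086246, 666), (1086912, 666), (1087578, 666), (1088244, 666), (1088910, 666), (1089576, 666), (1090242, 666), (1090908, 666), (1091574, 666), (1092240, 666), (1092906, 666),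 (1093572, 666), (1094238, 666), (1094904, 666), (1095570, 666), (1096236, 666), (1096902, 666), (1097568, 666), (1098234, 666)] : List (ℕ × ℕ)), allR c.1 c.2 (fun q => centP 1539000 12 f8 [0] 19 LA0 LsA q) = true :=
  all_cons chk_centX_1500 (all_cons chk_centX_1501 (all_cons chk_centX_1502 (all_cons chk_centX_1503 (all_cons chk_centX_1504 (all_cons chk_centX_1505 (all_cons chk_centX_1506 (all_cons chk_centX_1507 (all_cons chk_centX_1508 (all_cons chk_centX_1509 (all_cons chk_centX_1510 (all_cons chk_centX_1511 (all_cons chk_centX_1512 (all_cons chk_centX_1513 (all_cons chk_centX_1514 (all_cons chk_centX_1515 (all_cons chk_centX_1516 (all_cons chk_centX_1517 (all_cons chk_centX_1518 (all_cons chk_centX_1519 (all_cons chk_centX_1520 (all_cons chk_centX_1521 (all_cons chk_centX_1522 (all_cons chk_centX_1523 (all_cons chk_centX_1524 (all_cons chk_centX_1525 (all_cons chk_centX_1526 (all_cons chk_centX_1527 (all_cons chk_centX_1528 (all_cons chk_centX_1529 (all_cons chk_centX_1530 (all_cons chk_centX_1531 (all_cons chk_centX_1532 (all_cons chk_centX_1533 (all_cons chk_centX_1534 (all_cons chk_centX_1535 (all_cons chk_centX_1536 (all_cons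 chk_centX_1537 (all_cons chk_centX_1538 (all_cons chk_centX_1539 (all_cons chk_centX_1540 (all_cons chk_centX_1541 (all_cons chk_centX_1542 (all_cons chk_centX_1543 (all_cons chk_centX_1544 (all_cons chk_centX_1545 (all_cons chk_centX_1546 (all_cons chk_centX_1547 (all_cons chk_centX_1548 (all_cons chk_centX_1549 (all_cons chk_centX_1550 (all_cons chk_centX_1551 (all_cons chk_centX_1552 (all_cons chk_centX_1553 (all_cons chk_centX_1554 (all_cons chk_centX_1555 (all_cons chk_centX_1556 (all_cons chk_centX_1557 (all_cons chk_centX_1558 (all_cons chk_centX_1559 (all_cons chk_centX_1560 (all_cons chk_centX_1561 (all_cons chk_centX_1562 (all_cons chk_centX_1563 (all_cons chk_centX_1564 (all_cons chk_centX_1565 (all_cons chk_centX_1566 (all_cons chk_centX_1567 (all_cons chk_centX_1568 (all_cons chk_centX_1569 (all_cons chk_centX_1570 (all_cons chk_centX_1571 (all_cons chk_centX_1572 (all_cons chk_centX_1573 (all_cons chk_centX_1574 (all_cons chk_centX_1575 (all_cons chk_centX_1576 (all_cons chk_centX_1577 (all_cons chk_centX_1578 (all_cons chk_centX_1579 (all_cons chk_centX_1580 (all_cons chk_centX_1581 (all_cons chk_centX_1582 (all_cons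 chk_centX_1583 (all_cons chk_centX_1584 (all_cons chk_centX_1585 (all_cons chk_centX_1586 (all_cons chk_centX_1587 (all_cons chk_centX_1588 (all_cons chk_centX_1589 (all_cons chk_centX_1590 (all_cons chk_centX_1591 (all_cons chk_centX_1592 (all_cons chk_centX_1593 (all_cons chk_centX_1594 (all_cons chk_centX_1595 (all_cons chk_centX_1596 (all_cons chk_centX_1597 (all_cons chk_centX_1598 (all_cons chk_centX_1599 (all_cons chk_centX_1600 (all_cons chk_centX_1601 (all_cons chk_centX_1602 (all_cons chk_centX_1603 (all_cons chk_centX_1604 (all_cons chk_centX_1605 (all_cons chk_centX_1606 (all_cons chk_centX_1607 (all_cons chk_centX_1608 (all_cons chk_centX_1609 (all_cons chk_centX_1610 (all_cons chk_centX_1611 (all_cons chk_centX_1612 (all_cons chk_centX_1613 (all_cons chk_centX_1614 (all_cons chk_centX_1615 (all_cons chk_centX_1616 (all_cons chk_centX_1617 (all_cons chk_centX_1618 (all_cons chk_centX_1619 (all_cons chk_centX_1620 (all_cons chk_centX_1621 (all_cons chk_centX_1622 (all_cons chk_centX_1623 (all_cons chk_centX_1624 (all_cons chk_centX_1625 (all_cons chk_centX_1626 (all_cons chk_centX_1627 (all_cons chk_centX_1628 (all_cons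 chk_centX_1629 (all_cons chk_centX_1630 (all_cons chk_centX_1631 (all_cons chk_centX_1632 (all_cons chk_centX_1633 (all_cons chk_centX_1634 (all_cons chk_centX_1635 (all_cons chk_centX_1636 (all_cons chk_centX_1637 (all_cons chk_centX_1638 (all_cons chk_centX_1639 (all_cons chk_centX_1640 (all_cons chk_centX_1641 (all_cons chk_centX_1642 (all_cons chk_centX_1643 (all_cons chk_centX_1644 (all_cons chk_centX_1645 (all_cons chk_centX_1646 (all_cons chk_centX_1647 (all_cons chk_centX_1648 (all_cons chk_centX_1649 (all_nil))))))))))))))))))))))))))))))))))))))))))))))))))))))))))))))))))))))))))))))))))))))))))))))))))))))))))))))))))))))))))))))))))))))))))))))))))))))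

theorem chk_centX_grp11 : ∀ c ∈ ([(1098900, 666), (1099566, 666), (1100232, 666), (1100898, 666), (1101564, 666), (1102230, 666), (1102896, 666), (1103562, 666), (1104228, 666), (1104894, 666), (1105560, 666), (1106226, 666), (1106892, 666), (1107558, 666), (1108224, 666), (1108890, 666), (1109556, 666), (1110222, 666), (1110888, 666), (1111554, 666), (1112220, 666), (1112886, 666), (1113552, 666), (1114218, 666), (1114884, 666), (1115550, 666), (1116216, 666), (1116882, 666), (1117548, 666), (1118214, 666), (1118880, 666), (1119546, 666), (1120212, 666), (1120878, 666), (1121544, 666), (1122210, 666), (1122876, 666), (1123542, 666), (1124208, 666), (1124874, 666), (1125540, 666), (1126206, 666), (1126872, 666), (1127538, 666), (1128204, 666), (1128870, 666), (1129536, 666), (1130202, 666), (1130868, 666), (1131534, 666), (1132200, 666), (1132866, 666), (1133532, 666), (1134198, 666), (1134864, 666), (1135530, 666), (1136196, 666), (1136862, 666), (1137528, 666), (1138194, 666), (1138860, 666), (1139526, 666), (1140192, 666), (1140858, 666), (1141524, 666), (1142190, 666), (1142856, 666), (1143522, 666), (1144188, 666), (1144854, 666),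 (1145520, 666), (1146186, 666), (1146852, 666), (1147518, 666), (1148184, 666), (1148850, 666), (1149516, 666), (1150182, 666), (1150848, 666), (1151514, 666), (1152180, 666), (1152846, 666), (1153512, 666), (1154178, 666), (1154844, 666), (1155510, 666), (1156176, 666), (1156842, 666), (1157508, 666), (1158174, 666), (1158840, 666), (1159506, 666), (1160172, 666), (1160838, 666), (1161504, 666), (1162170, 666), (1162836, 666), (1163502, 666), (1164168, 666), (1164834, 666), (1165500, 666), (1166166, 666), (1166832, 666), (1167498, 666), (1168164, 666), (1168830, 666), (1169496, 666), (1170162, 666), (1170828, 666), (1171494, 666), (1172160, 666), (1172826, 666), (1173492, 666), (1174158, 666), (1174824, 666), (1175490, 666), (1176156, 666), (1176822, 666), (1177488, 666), (1178154, 666), (1178820, 666), (1179486, 666), (1180152, 666), (1180818, 666), (1181484, 666), (1182150, 666), (1182816, 666), (1183482, 666), (1184148, 666), (1184814, 666), (1185480, 666), (1186146, 666), (1186812, 666), (1187478, 666), (1188144, 666), (1188810, 666), (1189476, 666), (1190142, 666), (1190808, 666), (1191474, 666), (1192140, 666), (1192806, 666),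 (1193472, 666), (1194138, 666), (1194804, 666), (1195470, 666), (1196136, 666), (1196802, 666), (1197468, 666), (1198134, 666)] : List (ℕ × ℕ)), allR c.1 c.2 (fun q => centP 1539000 12 f8 [0] 19 LA0 LsA q) = true :=
  all_cons chk_centX_1650 (all_cons chk_centX_1651 (all_cons chk_centX_1652 (all_cons chk_centX_1653 (all_cons chk_centX_1654 (all_cons chk_centX_1655 (all_cons chk_centX_1656 (all_cons chk_centX_1657 (all_cons chk_centX_1658 (all_cons chk_centX_1659 (all_cons chk_centX_1660 (all_cons chk_centX_1661 (all_cons chk_centX_1662 (all_cons chk_centX_1663 (all_cons chk_centX_1664 (all_cons chk_centX_1665 (all_cons chk_centX_1666 (all_cons chk_centX_1667 (all_cons chk_centX_1668 (all_cons chk_centX_1669 (all_cons chk_centX_1670 (all_cons chk_centX_1671 (all_cons chk_centX_1672 (all_cons chk_centX_1673 (all_cons chk_centX_1674 (all_cons chk_centX_1675 (all_cons chk_centX_1676 (all_cons chk_centX_1677 (all_cons chk_centX_1678 (all_cons chk_centX_1679 (all_cons chk_centX_1680 (all_cons chk_centX_1681 (all_cons chk_centX_1682 (all_cons chk_centX_1683 (all_cons chk_centX_1684 (all_cons chk_centX_1685 (all_cons chk_centX_1686 (all_cons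 chk_centX_1687 (all_cons chk_centX_1688 (all_cons chk_centX_1689 (all_cons chk_centX_1690 (all_cons chk_centX_1691 (all_cons chk_centX_1692 (all_cons chk_centX_1693 (all_cons chk_centX_1694 (all_cons chk_centX_1695 (all_cons chk_centX_1696 (all_cons chk_centX_1697 (all_cons chk_centX_1698 (all_cons chk_centX_1699 (all_cons chk_centX_1700 (all_cons chk_centX_1701 (all_cons chk_centX_1702 (all_cons chk_centX_1703 (all_cons chk_centX_1704 (all_cons chk_centX_1705 (all_cons chk_centX_1706 (all_cons chk_centX_1707 (all_cons chk_centX_1708 (all_cons chk_centX_1709 (all_cons chk_centX_1710 (all_cons chk_centX_1711 (all_cons chk_centX_1712 (all_cons chk_centX_1713 (all_cons chk_centX_1714 (all_cons chk_centX_1715 (all_cons chk_centX_1716 (all_cons chk_centX_1717 (all_cons chk_centX_1718 (all_cons chk_centX_1719 (all_cons chk_centX_1720 (all_cons chk_centX_1721 (all_cons chk_centX_1722 (all_cons chk_centX_1723 (all_cons chk_centX_1724 (all_cons chk_centX_1725 (all_cons chk_centX_1726 (all_cons chk_centX_1727 (all_cons chk_centX_1728 (all_cons chk_centX_1729 (all_cons chk_centX_1730 (all_cons chk_centX_1731 (all_cons chk_centX_1732 (all_cons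 chk_centX_1733 (all_cons chk_centX_1734 (all_cons chk_centX_1735 (all_cons chk_centX_1736 (all_cons chk_centX_1737 (all_cons chk_centX_1738 (all_cons chk_centX_1739 (all_cons chk_centX_1740 (all_cons chk_centX_1741 (all_cons chk_centX_1742 (all_cons chk_centX_1743 (all_cons chk_centX_1744 (all_cons chk_centX_1745 (all_cons chk_centX_1746 (all_cons chk_centX_1747 (all_cons chk_centX_1748 (all_cons chk_centX_1749 (all_cons chk_centX_1750 (all_cons chk_centX_1751 (all_cons chk_centX_1752 (all_cons chk_centX_1753 (all_cons chk_centX_1754 (all_cons chk_centX_1755 (all_cons chk_centX_1756 (all_cons chk_centX_1757 (all_cons chk_centX_1758 (all_cons chk_centX_1759 (all_cons chk_centX_1760 (all_cons chk_centX_1761 (all_cons chk_centX_1762 (all_cons chk_centX_1763 (all_cons chk_centX_1764 (all_cons chk_centX_1765 (all_cons chk_centX_1766 (all_cons chk_centX_1767 (all_cons chk_centX_1768 (all_cons chk_centX_1769 (all_cons chk_centX_1770 (all_cons chk_centX_1771 (all_cons chk_centX_1772 (all_cons chk_centX_1773 (all_cons chk_centX_1774 (all_cons chk_centX_1775 (all_cons chk_centX_1776 (all_cons chk_centX_1777 (all_cons chk_centX_1778 (all_cons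 chk_centX_1779 (all_cons chk_centX_1780 (all_cons chk_centX_1781 (all_cons chk_centX_1782 (all_cons chk_centX_1783 (all_cons chk_centX_1784 (all_cons chk_centX_1785 (all_cons chk_centX_1786 (all_cons chk_centX_1787 (all_cons chk_centX_1788 (all_cons chk_centX_1789 (all_cons chk_centX_1790 (all_cons chk_centX_1791 (all_cons chk_centX_1792 (all_cons chk_centX_1793 (all_cons chk_centX_1794 (all_cons chk_centX_1795 (all_cons chk_centX_1796 (all_cons chk_centX_1797 (all_cons chk_centX_1798 (all_cons chk_centX_1799 (all_nil))))))))))))))))))))))))))))))))))))))))))))))))))))))))))))))))))))))))))))))))))))))))))))))))))))))))))))))))))))))))))))))))))))))))))))))))))))))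

theorem chk_centX_grp12 : ∀ c ∈ ([(1198800, 666), (1199466, 666), (1200132, 666), (1200798, 666), (1201464, 666), (1202130, 666), (1202796, 666), (1203462, 666), (1204128, 666), (1204794, 666), (1205460, 666), (1206126, 666), (1206792, 666), (1207458, 666), (1208124, 666), (1208790, 666), (1209456, 666), (1210122, 666), (1210788, 666), (1211454, 666), (1212120, 666), (1212786, 666), (1213452, 666), (1214118, 666), (1214784, 666), (1215450, 666), (1216116, 666), (1216782, 666), (1217448, 666), (1218114, 666), (1218780, 666), (1219446, 666), (1220112, 666), (1220778, 666), (1221444, 666), (1222110, 666), (1222776, 666), (1223442, 666), (1224108, 666), (1224774, 666), (1225440, 666), (1226106, 666), (1226772, 666), (1227438, 666), (1228104, 666), (1228770, 666), (1229436, 666), (1230102, 666), (1230768, 666), (1231434, 666), (1232100, 666), (1232766, 666), (1233432, 666), (1234098, 666), (1234764, 666), (1235430, 666), (1236096, 666), (1236762, 666), (1237428, 666), (1238094, 666), (1238760, 666), (1239426, 666), (1240092, 666), (1240758, 666), (1241424, 666), (1242090, 666), (1242756, 666), (1243422, 666), (1244088, 666), (1244754, 666),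 (1245420, 666), (1246086, 666), (1246752, 666), (1247418, 666), (1248084, 666), (1248750, 666), (1249416, 666), (1250082, 666), (1250748, 666), (1251414, 666), (1252080, 666), (1252746, 666), (1253412, 666), (1254078, 666), (1254744, 666), (1255410, 666), (1256076, 666), (1256742, 666), (1257408, 666), (1258074, 666), (1258740, 666), (1259406, 666), (1260072, 666), (1260738, 666), (1261404, 666), (1262070, 666), (1262736, 666), (1263402, 666), (1264068, 666), (1264734, 666), (1265400, 666), (1266066, 666), (1266732, 666), (1267398, 666), (1268064, 666), (1268730, 666), (1269396, 666), (1270062, 666), (1270728, 666), (1271394, 666), (1272060, 666), (1272726, 666), (1273392, 666), (1274058, 666), (1274724, 666), (1275390, 666), (1276056, 666), (1276722, 666), (1277388, 666), (1278054, 666), (1278720, 666), (1279386, 666), (1280052, 666), (1280718, 666), (1281384, 666), (1282050, 666), (1282716, 666), (1283382, 666), (1284048, 666), (1284714, 666), (1285380, 666), (1286046, 666), (1286712, 666), (1287378, 666), (1288044, 666), (1288710, 666), (1289376, 666), (1290042, 666), (1290708, 666), (1291374, 666), (1292040, 666), (1292706, 666),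 (1293372, 666), (1294038, 666), (1294704, 666), (1295370, 666), (1296036, 666), (1296702, 666), (1297368, 666), (1298034, 666)] : List (ℕ × ℕ)), allR c.1 c.2 (fun q => centP 1539000 12 f8 [0] 19 LA0 LsA q) = true :=
  all_cons chk_centX_1800 (all_cons chk_centX_1801 (all_cons chk_centX_1802 (all_cons chk_centX_1803 (all_cons chk_centX_1804 (all_cons chk_centX_1805 (all_cons chk_centX_1806 (all_cons chk_centX_1807 (all_cons chk_centX_1808 (all_cons chk_centX_1809 (all_cons chk_centX_1810 (all_cons chk_centX_1811 (all_cons chk_centX_1812 (all_cons chk_centX_1813 (all_cons chk_centX_1814 (all_cons chk_centX_1815 (all_cons chk_centX_1816 (all_cons chk_centX_1817 (all_cons chk_centX_1818 (all_cons chk_centX_1819 (all_cons chk_centX_1820 (all_cons chk_centX_1821 (all_cons chk_centX_1822 (all_cons chk_centX_1823 (all_cons chk_centX_1824 (all_cons chk_centX_1825 (all_cons chk_centX_1826 (all_cons chk_centX_1827 (all_cons chk_centX_1828 (all_cons chk_centX_1829 (all_cons chk_centX_1830 (all_cons chk_centX_1831 (all_cons chk_centX_1832 (all_cons chk_centX_1833 (all_cons chk_centX_1834 (all_cons chk_centX_1835 (all_cons chk_centX_1836 (all_cons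 chk_centX_1837 (all_cons chk_centX_1838 (all_cons chk_centX_1839 (all_cons chk_centX_1840 (all_cons chk_centX_1841 (all_cons chk_centX_1842 (all_cons chk_centX_1843 (all_cons chk_centX_1844 (all_cons chk_centX_1845 (all_cons chk_centX_1846 (all_cons chk_centX_1847 (all_cons chk_centX_1848 (all_cons chk_centX_1849 (all_cons chk_centX_1850 (all_cons chk_centX_1851 (all_cons chk_centX_1852 (all_cons chk_centX_1853 (all_cons chk_centX_1854 (all_cons chk_centX_1855 (all_cons chk_centX_1856 (all_cons chk_centX_1857 (all_cons chk_centX_1858 (all_cons chk_centX_1859 (all_cons chk_centX_1860 (all_cons chk_centX_1861 (all_cons chk_centX_1862 (all_cons chk_centX_1863 (all_cons chk_centX_1864 (all_cons chk_centX_1865 (all_cons chk_centX_1866 (all_cons chk_centX_1867 (all_cons chk_centX_1868 (all_cons chk_centX_1869 (all_cons chk_centX_1870 (all_cons chk_centX_1871 (all_cons chk_centX_1872 (all_cons chk_centX_1873 (all_cons chk_centX_1874 (all_cons chk_centX_1875 (all_cons chk_centX_1876 (all_cons chk_centX_1877 (all_cons chk_centX_1878 (all_cons chk_centX_1879 (all_cons chk_centX_1880 (all_cons chk_centX_1881 (all_cons chk_centX_1882 (all_cons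 chk_centX_1883 (all_cons chk_centX_1884 (all_cons chk_centX_1885 (all_cons chk_centX_1886 (all_cons chk_centX_1887 (all_cons chk_centX_1888 (all_cons chk_centX_1889 (all_cons chk_centX_1890 (all_cons chk_centX_1891 (all_cons chk_centX_1892 (all_cons chk_centX_1893 (all_cons chk_centX_1894 (all_cons chk_centX_1895 (all_cons chk_centX_1896 (all_cons chk_centX_1897 (all_cons chk_centX_1898 (all_cons chk_centX_1899 (all_cons chk_centX_1900 (all_cons chk_centX_1901 (all_cons chk_centX_1902 (all_cons chk_centX_1903 (all_cons chk_centX_1904 (all_cons chk_centX_1905 (all_cons chk_centX_1906 (all_cons chk_centX_1907 (all_cons chk_centX_1908 (all_cons chk_centX_1909 (all_cons chk_centX_1910 (all_cons chk_centX_1911 (all_cons chk_centX_1912 (all_cons chk_centX_1913 (all_cons chk_centX_1914 (all_cons chk_centX_1915 (all_cons chk_centX_1916 (all_cons chk_centX_1917 (all_cons chk_centX_1918 (all_cons chk_centX_1919 (all_cons chk_centX_1920 (all_cons chk_centX_1921 (all_cons chk_centX_1922 (all_cons chk_centX_1923 (all_cons chk_centX_1924 (all_cons chk_centX_1925 (all_cons chk_centX_1926 (all_cons chk_centX_1927 (all_cons chk_centX_1928 (all_cons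 chk_centX_1929 (all_cons chk_centX_1930 (all_cons chk_centX_1931 (all_cons chk_centX_1932 (all_cons chk_centX_1933 (all_cons chk_centX_1934 (all_cons chk_centX_1935 (all_cons chk_centX_1936 (all_cons chk_centX_1937 (all_cons chk_centX_1938 (all_cons chk_centX_1939 (all_cons chk_centX_1940 (all_cons chk_centX_1941 (all_cons chk_centX_1942 (all_cons chk_centX_1943 (all_cons chk_centX_1944 (all_cons chk_centX_1945 (all_cons chk_centX_1946 (all_cons chk_centX_1947 (all_cons chk_centX_1948 (all_cons chk_centX_1949 (all_nil))))))))))))))))))))))))))))))))))))))))))))))))))))))))))))))))))))))))))))))))))))))))))))))))))))))))))))))))))))))))))))))))))))))))))))))))))))))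

theorem chk_centX_grp13 : ∀ c ∈ ([(1298700, 666), (1299366, 666), (1300032, 666), (1300698, 666), (1301364, 666), (1302030, 666), (1302696, 666), (1303362, 666), (1304028, 666), (1304694, 666), (1305360, 666), (1306026, 666), (1306692, 666), (1307358, 666), (1308024, 666), (1308690, 666), (1309356, 666), (1310022, 666), (1310688, 666), (1311354, 666), (1312020, 666), (1312686, 666), (1313352, 666), (1314018, 666), (1314684, 666), (1315350, 666), (1316016, 666), (1316682, 666), (1317348, 666), (1318014, 666), (1318680, 666), (1319346, 666), (1320012, 666), (1320678, 666), (1321344, 666), (1322010, 666), (1322676, 666), (1323342, 666), (1324008, 666), (1324674, 666), (1325340, 666), (1326006, 666), (1326672, 666), (1327338, 666), (1328004, 666), (1328670, 666), (1329336, 666), (1330002, 666), (1330668, 666), (1331334, 666), (1332000, 666), (1332666, 666), (1333332, 666), (1333998, 666), (1334664, 666), (1335330, 666), (1335996, 666), (1336662, 666), (1337328, 666), (1337994, 666), (1338660, 666), (1339326, 666), (1339992, 666), (1340658, 666), (1341324, 666), (1341990, 666), (1342656, 666), (1343322, 666), (1343988, 666), (1344654, 666),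 (1345320, 666), (1345986, 666), (1346652, 666), (1347318, 666), (1347984, 666), (1348650, 666), (1349316, 666), (1349982, 666), (1350648, 666), (1351314, 666), (1351980, 666), (1352646, 666), (1353312, 666), (1353978, 666), (1354644, 666), (1355310, 666), (1355976, 666), (1356642, 666), (1357308, 666), (1357974, 666), (1358640, 666), (1359306, 666), (1359972, 666), (1360638, 666), (1361304, 666), (1361970, 666), (1362636, 666), (1363302, 666), (1363968, 666), (1364634, 666), (1365300, 666), (1365966, 666), (1366632, 666), (1367298, 666), (1367964, 666), (1368630, 666), (1369296, 666), (1369962, 666), (1370628, 666), (1371294, 666), (1371960, 666), (1372626, 666), (1373292, 666), (1373958, 666), (1374624, 666), (1375290, 666), (1375956, 666), (1376622, 666), (1377288, 666), (1377954, 666), (1378620, 666), (1379286, 666), (1379952, 666), (1380618, 666), (1381284, 666), (1381950, 666), (1382616, 666), (1383282, 666), (1383948, 666), (1384614, 666), (1385280, 666), (1385946, 666), (1386612, 666), (1387278, 666), (1387944, 666), (1388610, 666), (1389276, 666), (1389942, 666), (1390608, 666), (1391274, 666), (1391940, 666), (1392606, 666),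 (1393272, 666), (1393938, 666), (1394604, 666), (1395270, 666), (1395936, 666), (1396602, 666), (1397268, 666), (1397934, 666)] : List (ℕ × ℕ)), allR c.1 c.2 (fun q => centP 1539000 12 f8 [0] 19 LA0 LsA q) = true :=
  all_cons chk_centX_1950 (all_cons chk_centX_1951 (all_cons chk_centX_1952 (all_cons chk_centX_1953 (all_cons chk_centX_1954 (all_cons chk_centX_1955 (all_cons chk_centX_1956 (all_cons chk_centX_1957 (all_cons chk_centX_1958 (all_cons chk_centX_1959 (all_cons chk_centX_1960 (all_cons chk_centX_1961 (all_cons chk_centX_1962 (all_cons chk_centX_1963 (all_cons chk_centX_1964 (all_cons chk_centX_1965 (all_cons chk_centX_1966 (all_cons chk_centX_1967 (all_cons chk_centX_1968 (all_cons chk_centX_1969 (all_cons chk_centX_1970 (all_cons chk_centX_1971 (all_cons chk_centX_1972 (all_cons chk_centX_1973 (all_cons chk_centX_1974 (all_cons chk_centX_1975 (all_cons chk_centX_1976 (all_cons chk_centX_1977 (all_cons chk_centX_1978 (all_cons chk_centX_1979 (all_cons chk_centX_1980 (all_cons chk_centX_1981 (all_cons chk_centX_1982 (all_cons chk_centX_1983 (all_cons chk_centX_1984 (all_cons chk_centX_1985 (all_cons chk_centX_1986 (all_cons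 chk_centX_1987 (all_cons chk_centX_1988 (all_cons chk_centX_1989 (all_cons chk_centX_1990 (all_cons chk_centX_1991 (all_cons chk_centX_1992 (all_cons chk_centX_1993 (all_cons chk_centX_1994 (all_cons chk_centX_1995 (all_cons chk_centX_1996 (all_cons chk_centX_1997 (all_cons chk_centX_1998 (all_cons chk_centX_1999 (all_cons chk_centX_2000 (all_cons chk_centX_2001 (all_cons chk_centX_2002 (all_cons chk_centX_2003 (all_cons chk_centX_2004 (all_cons chk_centX_2005 (all_cons chk_centX_2006 (all_cons chk_centX_2007 (all_cons chk_centX_2008 (all_cons chk_centX_2009 (all_cons chk_centX_2010 (all_cons chk_centX_2011 (all_cons chk_centX_2012 (all_cons chk_centX_2013 (all_cons chk_centX_2014 (all_cons chk_centX_2015 (all_cons chk_centX_2016 (all_cons chk_centX_2017 (all_cons chk_centX_2018 (all_cons chk_centX_2019 (all_cons chk_centX_2020 (all_cons chk_centX_2021 (all_cons chk_centX_2022 (all_cons chk_centX_2023 (all_cons chk_centX_2024 (all_cons chk_centX_2025 (all_cons chk_centX_2026 (all_cons chk_centX_2027 (all_cons chk_centX_2028 (all_cons chk_centX_2029 (all_cons chk_centX_2030 (all_cons chk_centX_2031 (all_cons chk_centX_2032 (all_cons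 chk_centX_2033 (all_cons chk_centX_2034 (all_cons chk_centX_2035 (all_cons chk_centX_2036 (all_cons chk_centX_2037 (all_cons chk_centX_2038 (all_cons chk_centX_2039 (all_cons chk_centX_2040 (all_cons chk_centX_2041 (all_cons chk_centX_2042 (all_cons chk_centX_2043 (all_cons chk_centX_2044 (all_cons chk_centX_2045 (all_cons chk_centX_2046 (all_cons chk_centX_2047 (all_cons chk_centX_2048 (all_cons chk_centX_2049 (all_cons chk_centX_2050 (all_cons chk_centX_2051 (all_cons chk_centX_2052 (all_cons chk_centX_2053 (all_cons chk_centX_2054 (all_cons chk_centX_2055 (all_cons chk_centX_2056 (all_cons chk_centX_2057 (all_cons chk_centX_2058 (all_cons chk_centX_2059 (all_cons chk_centX_2060 (all_cons chk_centX_2061 (all_cons chk_centX_2062 (all_cons chk_centX_2063 (all_cons chk_centX_2064 (all_cons chk_centX_2065 (all_cons chk_centX_2066 (all_cons chk_centX_2067 (all_cons chk_centX_2068 (all_cons chk_centX_2069 (all_cons chk_centX_2070 (all_cons chk_centX_2071 (all_cons chk_centX_2072 (all_cons chk_centX_2073 (all_cons chk_centX_2074 (all_cons chk_centX_2075 (all_cons chk_centX_2076 (all_cons chk_centX_2077 (all_cons chk_centX_2078 (all_cons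 chk_centX_2079 (all_cons chk_centX_2080 (all_cons chk_centX_2081 (all_cons chk_centX_2082 (all_cons chk_centX_2083 (all_cons chk_centX_2084 (all_cons chk_centX_2085 (all_cons chk_centX_2086 (all_cons chk_centX_2087 (all_cons chk_centX_2088 (all_cons chk_centX_2089 (all_cons chk_centX_2090 (all_cons chk_centX_2091 (all_cons chk_centX_2092 (all_cons chk_centX_2093 (all_cons chk_centX_2094 (all_cons chk_centX_2095 (all_cons chk_centX_2096 (all_cons chk_centX_2097 (all_cons chk_centX_2098 (all_cons chk_centX_2099 (all_nil))))))))))))))))))))))))))))))))))))))))))))))))))))))))))))))))))))))))))))))))))))))))))))))))))))))))))))))))))))))))))))))))))))))))))))))))))))))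

theorem chk_centX_grp14 : ∀ c ∈ ([(1398600, 666), (1399266, 666), (1399932, 666), (1400598, 666), (1401264, 666), (1401930, 666), (1402596, 666), (1403262, 666), (1403928, 666), (1404594, 666), (1405260, 666), (1405926, 666), (1406592, 666), (1407258, 666), (1407924, 666), (1408590, 666), (1409256, 666), (1409922, 666), (1410588, 666), (1411254, 666), (1411920, 666), (1412586, 666), (1413252, 666), (1413918, 666), (1414584, 666), (1415250, 666), (1415916, 666), (1416582, 666), (1417248, 666), (1417914, 666), (1418580, 666), (1419246, 666), (1419912, 666), (1420578, 666), (1421244, 666), (1421910, 666), (1422576, 666), (1423242, 666), (1423908, 666), (1424574, 666), (1425240, 666), (1425906, 666), (1426572, 666), (1427238, 666), (1427904, 666), (1428570, 666), (1429236, 666), (1429902, 666), (1430568, 666), (1431234, 666), (1431900, 666), (1432566, 666), (1433232, 666), (1433898, 666), (1434564, 666), (1435230, 666), (1435896, 666), (1436562, 666), (1437228, 666), (1437894, 666), (1438560, 666), (1439226, 666), (1439892, 666), (1440558, 666), (1441224, 666), (1441890, 666), (1442556, 666), (1443222, 666), (1443888, 666), (1444554, 666),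 (1445220, 666), (1445886, 666), (1446552, 666), (1447218, 666), (1447884, 666), (1448550, 666), (1449216, 666), (1449882, 666), (1450548, 666), (1451214, 666), (1451880, 666), (1452546, 666), (1453212, 666), (1453878, 666), (1454544, 666), (1455210, 666), (1455876, 666), (1456542, 666), (1457208, 666), (1457874, 666), (1458540, 666), (1459206, 666), (1459872, 666), (1460538, 666), (1461204, 666), (1461870, 666), (1462536, 666), (1463202, 666), (1463868, 666), (1464534, 666), (1465200, 666), (1465866, 666), (1466532, 666), (1467198, 666), (1467864, 666), (1468530, 666), (1469196, 666), (1469862, 666), (1470528, 666), (1471194, 666), (1471860, 666), (1472526, 666), (1473192, 666), (1473858, 666), (1474524, 666), (1475190, 666), (1475856, 666), (1476522, 666), (1477188, 666), (1477854, 666), (1478520, 666), (1479186, 666), (1479852, 666), (1480518, 666), (1481184, 666), (1481850, 666), (1482516, 666), (1483182, 666), (1483848, 666), (1484514, 666), (1485180, 666), (1485846, 666), (1486512, 666), (1487178, 666), (1487844, 666), (1488510, 666), (1489176, 666), (1489842, 666), (1490508, 666), (1491174, 666), (1491840, 666), (1492506, 666),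 (1493172, 666), (1493838, 666), (1494504, 666), (1495170, 666), (1495836, 666), (1496502, 666), (1497168, 666), (1497834, 666)] : List (ℕ × ℕ)), allR c.1 c.2 (fun q => centP 1539000 12 f8 [0] 19 LA0 LsA q) = true :=
  all_cons chk_centX_2100 (all_cons chk_centX_2101 (all_cons chk_centX_2102 (all_cons chk_centX_2103 (all_cons chk_centX_2104 (all_cons chk_centX_2105 (all_cons chk_centX_2106 (all_cons chk_centX_2107 (all_cons chk_centX_2108 (all_cons chk_centX_2109 (all_cons chk_centX_2110 (all_cons chk_centX_2111 (all_cons chk_centX_2112 (all_cons chk_centX_2113 (all_cons chk_centX_2114 (all_cons chk_centX_2115 (all_cons chk_centX_2116 (all_cons chk_centX_2117 (all_cons chk_centX_2118 (all_cons chk_centX_2119 (all_cons chk_centX_2120 (all_cons chk_centX_2121 (all_cons chk_centX_2122 (all_cons chk_centX_2123 (all_cons chk_centX_2124 (all_cons chk_centX_2125 (all_cons chk_centX_2126 (all_cons chk_centX_2127 (all_cons chk_centX_2128 (all_cons chk_centX_2129 (all_cons chk_centX_2130 (all_cons chk_centX_2131 (all_cons chk_centX_2132 (all_cons chk_centX_2133 (all_cons chk_centX_2134 (all_cons chk_centX_2135 (all_cons chk_centX_2136 (all_cons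 chk_centX_2137 (all_cons chk_centX_2138 (all_cons chk_centX_2139 (all_cons chk_centX_2140 (all_cons chk_centX_2141 (all_cons chk_centX_2142 (all_cons chk_centX_2143 (all_cons chk_centX_2144 (all_cons chk_centX_2145 (all_cons chk_centX_2146 (all_cons chk_centX_2147 (all_cons chk_centX_2148 (all_cons chk_centX_2149 (all_cons chk_centX_2150 (all_cons chk_centX_2151 (all_cons chk_centX_2152 (all_cons chk_centX_2153 (all_cons chk_centX_2154 (all_cons chk_centX_2155 (all_cons chk_centX_2156 (all_cons chk_centX_2157 (all_cons chk_centX_2158 (all_cons chk_centX_2159 (all_cons chk_centX_2160 (all_cons chk_centX_2161 (all_cons chk_centX_2162 (all_cons chk_centX_2163 (all_cons chk_centX_2164 (all_cons chk_centX_2165 (all_cons chk_centX_2166 (all_cons chk_centX_2167 (all_cons chk_centX_2168 (all_cons chk_centX_2169 (all_cons chk_centX_2170 (all_cons chk_centX_2171 (all_cons chk_centX_2172 (all_cons chk_centX_2173 (all_cons chk_centX_2174 (all_cons chk_centX_2175 (all_cons chk_centX_2176 (all_cons chk_centX_2177 (all_cons chk_centX_2178 (all_cons chk_centX_2179 (all_cons chk_centX_2180 (all_cons chk_centX_2181 (all_cons chk_centX_2182 (all_cons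 chk_centX_2183 (all_cons chk_centX_2184 (all_cons chk_centX_2185 (all_cons chk_centX_2186 (all_cons chk_centX_2187 (all_cons chk_centX_2188 (all_cons chk_centX_2189 (all_cons chk_centX_2190 (all_cons chk_centX_2191 (all_cons chk_centX_2192 (all_cons chk_centX_2193 (all_cons chk_centX_2194 (all_cons chk_centX_2195 (all_cons chk_centX_2196 (all_cons chk_centX_2197 (all_cons chk_centX_2198 (all_cons chk_centX_2199 (all_cons chk_centX_2200 (all_cons chk_centX_2201 (all_cons chk_centX_2202 (all_cons chk_centX_2203 (all_cons chk_centX_2204 (all_cons chk_centX_2205 (all_cons chk_centX_2206 (all_cons chk_centX_2207 (all_cons chk_centX_2208 (all_cons chk_centX_2209 (all_cons chk_centX_2210 (all_cons chk_centX_2211 (all_cons chk_centX_2212 (all_cons chk_centX_2213 (all_cons chk_centX_2214 (all_cons chk_centX_2215 (all_cons chk_centX_2216 (all_cons chk_centX_2217 (all_cons chk_centX_2218 (all_cons chk_centX_2219 (all_cons chk_centX_2220 (all_cons chk_centX_2221 (all_cons chk_centX_2222 (all_cons chk_centX_2223 (all_cons chk_centX_2224 (all_cons chk_centX_2225 (all_cons chk_centX_2226 (all_cons chk_centX_2227 (all_cons chk_centX_2228 (all_cons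 chk_centX_2229 (all_cons chk_centX_2230 (all_cons chk_centX_2231 (all_cons chk_centX_2232 (all_cons chk_centX_2233 (all_cons chk_centX_2234 (all_cons chk_centX_2235 (all_cons chk_centX_2236 (all_cons chk_centX_2237 (all_cons chk_centX_2238 (all_cons chk_centX_2239 (all_cons chk_centX_2240 (all_cons chk_centX_2241 (all_cons chk_centX_2242 (all_cons chk_centX_2243 (all_cons chk_centX_2244 (all_cons chk_centX_2245 (all_cons chk_centX_2246 (all_cons chk_centX_2247 (all_cons chk_centX_2248 (all_cons chk_centX_2249 (all_nil))))))))))))))))))))))))))))))))))))))))))))))))))))))))))))))))))))))))))))))))))))))))))))))))))))))))))))))))))))))))))))))))))))))))))))))))))))))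

theorem chk_centX_grp15 : ∀ c ∈ ([(1498500, 666), (1499166, 666), (1499832, 666), (1500498, 666), (1501164, 666), (1501830, 666), (1502496, 666), (1503162, 666), (1503828, 666), (1504494, 666), (1505160, 666), (1505826, 666), (1506492, 666), (1507158, 666), (1507824, 666), (1508490, 666), (1509156, 666), (1509822, 666), (1510488, 666), (1511154, 666), (1511820, 666), (1512486, 666), (1513152, 666), (1513818, 666), (1514484, 666), (1515150, 666), (1515816, 666), (1516482, 666), (1517148, 666), (1517814, 666), (1518480, 666), (1519146, 666), (1519812, 666), (1520478, 666), (1521144, 666), (1521810, 666), (1522476, 666), (1523142, 666), (1523808, 666), (1524474, 666), (1525140, 666), (1525806, 666), (1526472, 666), (1527138, 666), (1527804, 666), (1528470, 666), (1529136, 666), (1529802, 666), (1530468, 666), (1531134, 666), (1531800, 666), (1532466, 666), (1533132, 666), (1533798, 666), (1534464, 666), (1535130, 666), (1535796, 666), (1536462, 666), (1537128, 666), (1537794, 666), (1538460, 540)] : List (ℕ × ℕ)), allR c.1 c.2 (fun q => centP 1539000 12 f8 [0] 19 LA0 LsA q) = true :=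
  all_cons chk_centX_2250 (all_cons chk_centX_2251 (all_cons chk_centX_2252 (all_cons chk_centX_2253 (all_cons chk_centX_2254 (all_cons chk_centX_2255 (all_cons chk_centX_2256 (all_cons chk_centX_2257 (all_cons chk_centX_2258 (all_cons chk_centX_2259 (all_cons chk_centX_2260 (all_cons chk_centX_2261 (all_cons chk_centX_2262 (all_cons chk_centX_2263 (all_cons chk_centX_2264 (all_cons chk_centX_2265 (all_cons chk_centX_2266 (all_cons chk_centX_2267 (all_cons chk_centX_2268 (all_cons chk_centX_2269 (all_cons chk_centX_2270 (all_cons chk_centX_2271 (all_cons chk_centX_2272 (all_cons chk_centX_2273 (all_cons chk_centX_2274 (all_cons chk_centX_2275 (all_cons chk_centX_2276 (all_cons chk_centX_2277 (all_cons chk_centX_2278 (all_cons chk_centX_2279 (all_cons chk_centX_2280 (all_cons chk_centX_2281 (all_cons chk_centX_2282 (all_cons chk_centX_2283 (all_cons chk_centX_2284 (all_cons chk_centX_2285 (all_cons chk_centX_2286 (all_cons chk_centX_2287 (all_cons chk_centX_2288 (all_cons chk_centX_2289 (all_cons chk_centX_2290 (all_cons chk_centX_2291 (all_cons chk_centX_2292 (all_cons chk_centX_2293 (all_cons chk_centX_2294 (all_cons chk_centX_2295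 (all_cons chk_centX_2296 (all_cons chk_centX_2297 (all_cons chk_centX_2298 (all_cons chk_centX_2299 (all_cons chk_centX_2300 (all_cons chk_centX_2301 (all_cons chk_centX_2302 (all_cons chk_centX_2303 (all_cons chk_centX_2304 (all_cons chk_centX_2305 (all_cons chk_centX_2306 (all_cons chk_centX_2307 (all_cons chk_centX_2308 (all_cons chk_centX_2309 (all_cons chk_centX_2310 (all_nil)))))))))))))))))))))))))))))))))))))))))))))))))))))))))))))

/-- every element of the centraliser of `x` is a power of `x` -/
theorem chk_centX : ∀ q < 1539000, centP 1539000 12 f8 [0] 19 LA0 LsA q = true :=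
  forall_lt_of_chunks (f := fun q => centP 1539000 12 f8 [0] 19 LA0 LsA q) ([(0, 666), (666, 666), (1332, 666), (1998, 666), (2664, 666), (3330, 666), (3996, 666), (4662, 666), (5328, 666), (5994, 666), (6660, 666), (7326, 666), (7992, 666), (8658, 666), (9324, 666), (9990, 666), (10656, 666), (11322, 666), (11988, 666), (12654, 666), (13320, 666), (13986, 666), (14652, 666), (15318, 666), (15984, 666), (16650, 666), (17316, 666), (17982, 666), (18648, 666), (19314, 666), (19980, 666), (20646, 666), (21312, 666), (21978, 666), (22644, 666), (23310, 666), (23976, 666), (24642, 666), (25308, 666), (25974, 666), (26640, 666), (27306, 666), (27972, 666), (28638, 666), (29304, 666), (29970, 666), (30636, 666), (31302, 666), (31968, 666), (32634, 666), (33300, 666), (33966, 666), (34632, 666), (35298, 666), (35964, 666), (36630, 666), (37296, 666), (37962, 666), (38628, 666), (39294, 666), (39960, 666), (40626, 666), (41292, 666), (41958, 666), (42624, 666), (43290, 666), (43956, 666), (44622, 666), (45288, 666), (45954, 666), (46620, 666), (47286, 666), (47952, 666), (48618, 666), (49284, 666), (49950, 666), (50616, 666), (51282, 666), (51948,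 666), (52614, 666), (53280, 666), (53946, 666), (54612, 666), (55278, 666), (55944, 666), (56610, 666), (57276, 666), (57942, 666), (58608, 666), (59274, 666), (59940, 666), (60606, 666), (61272, 666), (61938, 666), (62604, 666), (63270, 666), (63936, 666), (64602, 666), (65268, 666), (65934, 666), (66600, 666), (67266, 666), (67932, 666), (68598, 666), (69264, 666), (69930, 666), (70596, 666), (71262, 666), (71928, 666), (72594, 666), (73260, 666), (73926, 666), (74592, 666), (75258, 666), (75924, 666), (76590, 666), (77256, 666), (77922, 666), (78588, 666), (79254, 666), (79920, 666), (80586, 666), (81252, 666), (81918, 666), (82584, 666), (83250, 666), (83916, 666), (84582, 666), (85248, 666), (85914, 666), (86580, 666), (87246, 666), (87912, 666), (88578, 666), (89244, 666), (89910, 666), (90576, 666), (91242, 666), (91908, 666), (92574, 666), (93240, 666), (93906, 666), (94572, 666), (95238, 666), (95904, 666), (96570, 666), (97236, 666), (97902, 666), (98568, 666), (99234, 666)] ++ [(99900, 666), (100566, 666), (101232, 666), (101898, 666), (102564, 666), (103230, 666), (103896, 666), (104562, 666), (105228, 666), (105894, 666),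 (106560, 666), (107226, 666), (107892, 666), (108558, 666), (109224, 666), (109890, 666), (110556, 666), (111222, 666), (111888, 666), (112554, 666), (113220, 666), (113886, 666), (114552, 666), (115218, 666), (115884, 666), (116550, 666), (117216, 666), (117882, 666), (118548, 666), (119214, 666), (119880, 666), (120546, 666), (121212, 666), (121878, 666), (122544, 666), (123210, 666), (123876, 666), (124542, 666), (125208, 666), (125874, 666), (126540, 666), (127206, 666), (127872, 666), (128538, 666), (129204, 666), (129870, 666), (130536, 666), (131202, 666), (131868, 666), (132534, 666), (133200, 666), (133866, 666), (134532, 666), (135198, 666), (135864, 666), (136530, 666), (137196, 666), (137862, 666), (138528, 666), (139194, 666), (139860, 666), (140526, 666), (141192, 666), (141858, 666), (142524, 666), (143190, 666), (143856, 666), (144522, 666), (145188, 666), (145854, 666), (146520, 666), (147186, 666), (147852, 666), (148518, 666), (149184, 666), (149850, 666), (150516, 666), (151182, 666), (151848, 666), (152514, 666), (153180, 666), (153846, 666), (154512, 666), (155178, 666), (155844, 666), (156510, 666), (157176, 666),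 (157842, 666), (158508, 666), (159174, 666), (159840, 666), (160506, 666), (161172, 666), (161838, 666), (162504, 666), (163170, 666), (163836, 666), (164502, 666), (165168, 666), (165834, 666), (166500, 666), (167166, 666), (167832, 666), (168498, 666), (169164, 666), (169830, 666), (170496, 666), (171162, 666), (171828, 666), (172494, 666), (173160, 666), (173826, 666), (174492, 666), (175158, 666), (175824, 666), (176490, 666), (177156, 666), (177822, 666), (178488, 666), (179154, 666), (179820, 666), (180486, 666), (181152, 666), (181818, 666), (182484, 666), (183150, 666), (183816, 666), (184482, 666), (185148, 666), (185814, 666), (186480, 666), (187146, 666), (187812, 666), (188478, 666), (189144, 666), (189810, 666), (190476, 666), (191142, 666), (191808, 666), (192474, 666), (193140, 666), (193806, 666), (194472, 666), (195138, 666), (195804, 666), (196470, 666), (197136, 666), (197802, 666), (198468, 666), (199134, 666)] ++ [(199800, 666), (200466, 666), (201132, 666), (201798, 666), (202464, 666), (203130, 666), (203796, 666), (204462, 666), (205128, 666), (205794, 666), (206460, 666), (207126, 666), (207792, 666), (208458,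 666), (209124, 666), (209790, 666), (210456, 666), (211122, 666), (211788, 666), (212454, 666), (213120, 666), (213786, 666), (214452, 666), (215118, 666), (215784, 666), (216450, 666), (217116, 666), (217782, 666), (218448, 666), (219114, 666), (219780, 666), (220446, 666), (221112, 666), (221778, 666), (222444, 666), (223110, 666), (223776, 666), (224442, 666), (225108, 666), (225774, 666), (226440, 666), (227106, 666), (227772, 666), (228438, 666), (229104, 666), (229770, 666), (230436, 666), (231102, 666), (231768, 666), (232434, 666), (233100, 666), (233766, 666), (234432, 666), (235098, 666), (235764, 666), (236430, 666), (237096, 666), (237762, 666), (238428, 666), (239094, 666), (239760, 666), (240426, 666), (241092, 666), (241758, 666), (242424, 666), (243090, 666), (243756, 666), (244422, 666), (245088, 666), (245754, 666), (246420, 666), (247086, 666), (247752, 666), (248418, 666), (249084, 666), (249750, 666), (250416, 666), (251082, 666), (251748, 666), (252414, 666), (253080, 666), (253746, 666), (254412, 666), (255078, 666), (255744, 666), (256410, 666), (257076, 666), (257742, 666), (258408, 666), (259074, 666), (259740,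 666), (260406, 666), (261072, 666), (261738, 666), (262404, 666), (263070, 666), (263736, 666), (264402, 666), (265068, 666), (265734, 666), (266400, 666), (267066, 666), (267732, 666), (268398, 666), (269064, 666), (269730, 666), (270396, 666), (271062, 666), (271728, 666), (272394, 666), (273060, 666), (273726, 666), (274392, 666), (275058, 666), (275724, 666), (276390, 666), (277056, 666), (277722, 666), (278388, 666), (279054, 666), (279720, 666), (280386, 666), (281052, 666), (281718, 666), (282384, 666), (283050, 666), (283716, 666), (284382, 666), (285048, 666), (285714, 666), (286380, 666), (287046, 666), (287712, 666), (288378, 666), (289044, 666), (289710, 666), (290376, 666), (291042, 666), (291708, 666), (292374, 666), (293040, 666), (293706, 666), (294372, 666), (295038, 666), (295704, 666), (296370, 666), (297036, 666), (297702, 666), (298368, 666), (299034, 666)] ++ [(299700, 666), (300366, 666), (301032, 666), (301698, 666), (302364, 666), (303030, 666), (303696, 666), (304362, 666), (305028, 666), (305694, 666), (306360, 666), (307026, 666), (307692, 666), (308358, 666), (309024, 666), (309690, 666), (310356, 666),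 (311022, 666), (311688, 666), (312354, 666), (313020, 666), (313686, 666), (314352, 666), (315018, 666), (315684, 666), (316350, 666), (317016, 666), (317682, 666), (318348, 666), (319014, 666), (319680, 666), (320346, 666), (321012, 666), (321678, 666), (322344, 666), (323010, 666), (323676, 666), (324342, 666), (325008, 666), (325674, 666), (326340, 666), (327006, 666), (327672, 666), (328338, 666), (329004, 666), (329670, 666), (330336, 666), (331002, 666), (331668, 666), (332334, 666), (333000, 666), (333666, 666), (334332, 666), (334998, 666), (335664, 666), (336330, 666), (336996, 666), (337662, 666), (338328, 666), (338994, 666), (339660, 666), (340326, 666), (340992, 666), (341658, 666), (342324, 666), (342990, 666), (343656, 666), (344322, 666), (344988, 666), (345654, 666), (346320, 666), (346986, 666), (347652, 666), (348318, 666), (348984, 666), (349650, 666), (350316, 666), (350982, 666), (351648, 666), (352314, 666), (352980, 666), (353646, 666), (354312, 666), (354978, 666), (355644, 666), (356310, 666), (356976, 666), (357642, 666), (358308, 666), (358974, 666), (359640, 666), (360306, 666), (360972, 666), (361638, 666),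 (362304, 666), (362970, 666), (363636, 666), (364302, 666), (364968, 666), (365634, 666), (366300, 666), (366966, 666), (367632, 666), (368298, 666), (368964, 666), (369630, 666), (370296, 666), (370962, 666), (371628, 666), (372294, 666), (372960, 666), (373626, 666), (374292, 666), (374958, 666), (375624, 666), (376290, 666), (376956, 666), (377622, 666), (378288, 666), (378954, 666), (379620, 666), (380286, 666), (380952, 666), (381618, 666), (382284, 666), (382950, 666), (383616, 666), (384282, 666), (384948, 666), (385614, 666), (386280, 666), (386946, 666), (387612, 666), (388278, 666), (388944, 666), (389610, 666), (390276, 666), (390942, 666), (391608, 666), (392274, 666), (392940, 666), (393606, 666), (394272, 666), (394938, 666), (395604, 666), (396270, 666), (396936, 666), (397602, 666), (398268, 666), (398934, 666)] ++ [(399600, 666), (400266, 666), (400932, 666), (401598, 666), (402264, 666), (402930, 666), (403596, 666), (404262, 666), (404928, 666), (405594, 666), (406260, 666), (406926, 666), (407592, 666), (408258, 666), (408924, 666), (409590, 666), (410256, 666), (410922, 666), (411588, 666), (412254, 666), (412920,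 666), (413586, 666), (414252, 666), (414918, 666), (415584, 666), (416250, 666), (416916, 666), (417582, 666), (418248, 666), (418914, 666), (419580, 666), (420246, 666), (420912, 666), (421578, 666), (422244, 666), (422910, 666), (423576, 666), (424242, 666), (424908, 666), (425574, 666), (426240, 666), (426906, 666), (427572, 666), (428238, 666), (428904, 666), (429570, 666), (430236, 666), (430902, 666), (431568, 666), (432234, 666), (432900, 666), (433566, 666), (434232, 666), (434898, 666), (435564, 666), (436230, 666), (436896, 666), (437562, 666), (438228, 666), (438894, 666), (439560, 666), (440226, 666), (440892, 666), (441558, 666), (442224, 666), (442890, 666), (443556, 666), (444222, 666), (444888, 666), (445554, 666), (446220, 666), (446886, 666), (447552, 666), (448218, 666), (448884, 666), (449550, 666), (450216, 666), (450882, 666), (451548, 666), (452214, 666), (452880, 666), (453546, 666), (454212, 666), (454878, 666), (455544, 666), (456210, 666), (456876, 666), (457542, 666), (458208, 666), (458874, 666), (459540, 666), (460206, 666), (460872, 666), (461538, 666), (462204, 666), (462870, 666), (463536, 666), (464202,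 666), (464868, 666), (465534, 666), (466200, 666), (466866, 666), (467532, 666), (468198, 666), (468864, 666), (469530, 666), (470196, 666), (470862, 666), (471528, 666), (472194, 666), (472860, 666), (473526, 666), (474192, 666), (474858, 666), (475524, 666), (476190, 666), (476856, 666), (477522, 666), (478188, 666), (478854, 666), (479520, 666), (480186, 666), (480852, 666), (481518, 666), (482184, 666), (482850, 666), (483516, 666), (484182, 666), (484848, 666), (485514, 666), (486180, 666), (486846, 666), (487512, 666), (488178, 666), (488844, 666), (489510, 666), (490176, 666), (490842, 666), (491508, 666), (492174, 666), (492840, 666), (493506, 666), (494172, 666), (494838, 666), (495504, 666), (496170, 666), (496836, 666), (497502, 666), (498168, 666), (498834, 666)] ++ [(499500, 666), (500166, 666), (500832, 666), (501498, 666), (502164, 666), (502830, 666), (503496, 666), (504162, 666), (504828, 666), (505494, 666), (506160, 666), (506826, 666), (507492, 666), (508158, 666), (508824, 666), (509490, 666), (510156, 666), (510822, 666), (511488, 666), (512154, 666), (512820, 666), (513486, 666), (514152, 666), (514818, 666),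 (515484, 666), (516150, 666), (516816, 666), (517482, 666), (518148, 666), (518814, 666), (519480, 666), (520146, 666), (520812, 666), (521478, 666), (522144, 666), (522810, 666), (523476, 666), (524142, 666), (524808, 666), (525474, 666), (526140, 666), (526806, 666), (527472, 666), (528138, 666), (528804, 666), (529470, 666), (530136, 666), (530802, 666), (531468, 666), (532134, 666), (532800, 666), (533466, 666), (534132, 666), (534798, 666), (535464, 666), (536130, 666), (536796, 666), (537462, 666), (538128, 666), (538794, 666), (539460, 666), (540126, 666), (540792, 666), (541458, 666), (542124, 666), (542790, 666), (543456, 666), (544122, 666), (544788, 666), (545454, 666), (546120, 666), (546786, 666), (547452, 666), (548118, 666), (548784, 666), (549450, 666), (550116, 666), (550782, 666), (551448, 666), (552114, 666), (552780, 666), (553446, 666), (554112, 666), (554778, 666), (555444, 666), (556110, 666), (556776, 666), (557442, 666), (558108, 666), (558774, 666), (559440, 666), (560106, 666), (560772, 666), (561438, 666), (562104, 666), (562770, 666), (563436, 666), (564102, 666), (564768, 666), (565434, 666), (566100, 666),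 (566766, 666), (567432, 666), (568098, 666), (568764, 666), (569430, 666), (570096, 666), (570762, 666), (571428, 666), (572094, 666), (572760, 666), (573426, 666), (574092, 666), (574758, 666), (575424, 666), (576090, 666), (576756, 666), (577422, 666), (578088, 666), (578754, 666), (579420, 666), (580086, 666), (580752, 666), (581418, 666), (582084, 666), (582750, 666), (583416, 666), (584082, 666), (584748, 666), (585414, 666), (586080, 666), (586746, 666), (587412, 666), (588078, 666), (588744, 666), (589410, 666), (590076, 666), (590742, 666), (591408, 666), (592074, 666), (592740, 666), (593406, 666), (594072, 666), (594738, 666), (595404, 666), (596070, 666), (596736, 666), (597402, 666), (598068, 666), (598734, 666)] ++ [(599400, 666), (600066, 666), (600732, 666), (601398, 666), (602064, 666), (602730, 666), (603396, 666), (604062, 666), (604728, 666), (605394, 666), (606060, 666), (606726, 666), (607392, 666), (608058, 666), (608724, 666), (609390, 666), (610056, 666), (610722, 666), (611388, 666), (612054, 666), (612720, 666), (613386, 666), (614052, 666), (614718, 666), (615384, 666), (616050, 666), (616716, 666), (617382,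 666), (618048, 666), (618714, 666), (619380, 666), (620046, 666), (620712, 666), (621378, 666), (622044, 666), (622710, 666), (623376, 666), (624042, 666), (624708, 666), (625374, 666), (626040, 666), (626706, 666), (627372, 666), (628038, 666), (628704, 666), (629370, 666), (630036, 666), (630702, 666), (631368, 666), (632034, 666), (632700, 666), (633366, 666), (634032, 666), (634698, 666), (635364, 666), (636030, 666), (636696, 666), (637362, 666), (638028, 666), (638694, 666), (639360, 666), (640026, 666), (640692, 666), (641358, 666), (642024, 666), (642690, 666), (643356, 666), (644022, 666), (644688, 666), (645354, 666), (646020, 666), (646686, 666), (647352, 666), (648018, 666), (648684, 666), (649350, 666), (650016, 666), (650682, 666), (651348, 666), (652014, 666), (652680, 666), (653346, 666), (654012, 666), (654678, 666), (655344, 666), (656010, 666), (656676, 666), (657342, 666), (658008, 666), (658674, 666), (659340, 666), (660006, 666), (660672, 666), (661338, 666), (662004, 666), (662670, 666), (663336, 666), (664002, 666), (664668, 666), (665334, 666), (666000, 666), (666666, 666), (667332, 666), (667998, 666), (668664,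 666), (669330, 666), (669996, 666), (670662, 666), (671328, 666), (671994, 666), (672660, 666), (673326, 666), (673992, 666), (674658, 666), (675324, 666), (675990, 666), (676656, 666), (677322, 666), (677988, 666), (678654, 666), (679320, 666), (679986, 666), (680652, 666), (681318, 666), (681984, 666), (682650, 666), (683316, 666), (683982, 666), (684648, 666), (685314, 666), (685980, 666), (686646, 666), (687312, 666), (687978, 666), (688644, 666), (689310, 666), (689976, 666), (690642, 666), (691308, 666), (691974, 666), (692640, 666), (693306, 666), (693972, 666), (694638, 666), (695304, 666), (695970, 666), (696636, 666), (697302, 666), (697968, 666), (698634, 666)] ++ [(699300, 666), (699966, 666), (700632, 666), (701298, 666), (701964, 666), (702630, 666), (703296, 666), (703962, 666), (704628, 666), (705294, 666), (705960, 666), (706626, 666), (707292, 666), (707958, 666), (708624, 666), (709290, 666), (709956, 666), (710622, 666), (711288, 666), (711954, 666), (712620, 666), (713286, 666), (713952, 666), (714618, 666), (715284, 666), (715950, 666), (716616, 666), (717282, 666), (717948, 666), (718614, 666), (719280, 666),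 (719946, 666), (720612, 666), (721278, 666), (721944, 666), (722610, 666), (723276, 666), (723942, 666), (724608, 666), (725274, 666), (725940, 666), (726606, 666), (727272, 666), (727938, 666), (728604, 666), (729270, 666), (729936, 666), (730602, 666), (731268, 666), (731934, 666), (732600, 666), (733266, 666), (733932, 666), (734598, 666), (735264, 666), (735930, 666), (736596, 666), (737262, 666), (737928, 666), (738594, 666), (739260, 666), (739926, 666), (740592, 666), (741258, 666), (741924, 666), (742590, 666), (743256, 666), (743922, 666), (744588, 666), (745254, 666), (745920, 666), (746586, 666), (747252, 666), (747918, 666), (748584, 666), (749250, 666), (749916, 666), (750582, 666), (751248, 666), (751914, 666), (752580, 666), (753246, 666), (753912, 666), (754578, 666), (755244, 666), (755910, 666), (756576, 666), (757242, 666), (757908, 666), (758574, 666), (759240, 666), (759906, 666), (760572, 666), (761238, 666), (761904, 666), (762570, 666), (763236, 666), (763902, 666), (764568, 666), (765234, 666), (765900, 666), (766566, 666), (767232, 666), (767898, 666), (768564, 666), (769230, 666), (769896, 666), (770562, 666),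 (771228, 666), (771894, 666), (772560, 666), (773226, 666), (773892, 666), (774558, 666), (775224, 666), (775890, 666), (776556, 666), (777222, 666), (777888, 666), (778554, 666), (779220, 666), (779886, 666), (780552, 666), (781218, 666), (781884, 666), (782550, 666), (783216, 666), (783882, 666), (784548, 666), (785214, 666), (785880, 666), (786546, 666), (787212, 666), (787878, 666), (788544, 666), (789210, 666), (789876, 666), (790542, 666), (791208, 666), (791874, 666), (792540, 666), (793206, 666), (793872, 666), (794538, 666), (795204, 666), (795870, 666), (796536, 666), (797202, 666), (797868, 666), (798534, 666)] ++ [(799200, 666), (799866, 666), (800532, 666), (801198, 666), (801864, 666), (802530, 666), (803196, 666), (803862, 666), (804528, 666), (805194, 666), (805860, 666), (806526, 666), (807192, 666), (807858, 666), (808524, 666), (809190, 666), (809856, 666), (810522, 666), (811188, 666), (811854, 666), (812520, 666), (813186, 666), (813852, 666), (814518, 666), (815184, 666), (815850, 666), (816516, 666), (817182, 666), (817848, 666), (818514, 666), (819180, 666), (819846, 666), (820512, 666), (821178, 666), (821844,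 666), (822510, 666), (823176, 666), (823842, 666), (824508, 666), (825174, 666), (825840, 666), (826506, 666), (827172, 666), (827838, 666), (828504, 666), (829170, 666), (829836, 666), (830502, 666), (831168, 666), (831834, 666), (832500, 666), (833166, 666), (833832, 666), (834498, 666), (835164, 666), (835830, 666), (836496, 666), (837162, 666), (837828, 666), (838494, 666), (839160, 666), (839826, 666), (840492, 666), (841158, 666), (841824, 666), (842490, 666), (843156, 666), (843822, 666), (844488, 666), (845154, 666), (845820, 666), (846486, 666), (847152, 666), (847818, 666), (848484, 666), (849150, 666), (849816, 666), (850482, 666), (851148, 666), (851814, 666), (852480, 666), (853146, 666), (853812, 666), (854478, 666), (855144, 666), (855810, 666), (856476, 666), (857142, 666), (857808, 666), (858474, 666), (859140, 666), (859806, 666), (860472, 666), (861138, 666), (861804, 666), (862470, 666), (863136, 666), (863802, 666), (864468, 666), (865134, 666), (865800, 666), (866466, 666), (867132, 666), (867798, 666), (868464, 666), (869130, 666), (869796, 666), (870462, 666), (871128, 666), (871794, 666), (872460, 666), (873126,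 666), (873792, 666), (874458, 666), (875124, 666), (875790, 666), (876456, 666), (877122, 666), (877788, 666), (878454, 666), (879120, 666), (879786, 666), (880452, 666), (881118, 666), (881784, 666), (882450, 666), (883116, 666), (883782, 666), (884448, 666), (885114, 666), (885780, 666), (886446, 666), (887112, 666), (887778, 666), (888444, 666), (889110, 666), (889776, 666), (890442, 666), (891108, 666), (891774, 666), (892440, 666), (893106, 666), (893772, 666), (894438, 666), (895104, 666), (895770, 666), (896436, 666), (897102, 666), (897768, 666), (898434, 666)] ++ [(899100, 666), (899766, 666), (900432, 666), (901098, 666), (901764, 666), (902430, 666), (903096, 666), (903762, 666), (904428, 666), (905094, 666), (905760, 666), (906426, 666), (907092, 666), (907758, 666), (908424, 666), (909090, 666), (909756, 666), (910422, 666), (911088, 666), (911754, 666), (912420, 666), (913086, 666), (913752, 666), (914418, 666), (915084, 666), (915750, 666), (916416, 666), (917082, 666), (917748, 666), (918414, 666), (919080, 666), (919746, 666), (920412, 666), (921078, 666), (921744, 666), (922410, 666), (923076, 666), (923742, 666),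 (924408, 666), (925074, 666), (925740, 666), (926406, 666), (927072, 666), (927738, 666), (928404, 666), (929070, 666), (929736, 666), (930402, 666), (931068, 666), (931734, 666), (932400, 666), (933066, 666), (933732, 666), (934398, 666), (935064, 666), (935730, 666), (936396, 666), (937062, 666), (937728, 666), (938394, 666), (939060, 666), (939726, 666), (940392, 666), (941058, 666), (941724, 666), (942390, 666), (943056, 666), (943722, 666), (944388, 666), (945054, 666), (945720, 666), (946386, 666), (947052, 666), (947718, 666), (948384, 666), (949050, 666), (949716, 666), (950382, 666), (951048, 666), (951714, 666), (952380, 666), (953046, 666), (953712, 666), (954378, 666), (955044, 666), (955710, 666), (956376, 666), (957042, 666), (957708, 666), (958374, 666), (959040, 666), (959706, 666), (960372, 666), (961038, 666), (961704, 666), (962370, 666), (963036, 666), (963702, 666), (964368, 666), (965034, 666), (965700, 666), (966366, 666), (967032, 666), (967698, 666), (968364, 666), (969030, 666), (969696, 666), (970362, 666), (971028, 666), (971694, 666), (972360, 666), (973026, 666), (973692, 666), (974358, 666), (975024, 666),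 (975690, 666), (976356, 666), (977022, 666), (977688, 666), (978354, 666), (979020, 666), (979686, 666), (980352, 666), (981018, 666), (981684, 666), (982350, 666), (983016, 666), (983682, 666), (984348, 666), (985014, 666), (985680, 666), (986346, 666), (987012, 666), (987678, 666), (988344, 666), (989010, 666), (989676, 666), (990342, 666), (991008, 666), (991674, 666), (992340, 666), (993006, 666), (993672, 666), (994338, 666), (995004, 666), (995670, 666), (996336, 666), (997002, 666), (997668, 666), (998334, 666)] ++ [(999000, 666), (999666, 666), (1000332, 666), (1000998, 666), (1001664, 666), (1002330, 666), (1002996, 666), (1003662, 666), (1004328, 666), (1004994, 666), (1005660, 666), (1006326, 666), (1006992, 666), (1007658, 666), (1008324, 666), (1008990, 666), (1009656, 666), (1010322, 666), (1010988, 666), (1011654, 666), (1012320, 666), (1012986, 666), (1013652, 666), (1014318, 666), (1014984, 666), (1015650, 666), (1016316, 666), (1016982, 666), (1017648, 666), (1018314, 666), (1018980, 666), (1019646, 666), (1020312, 666), (1020978, 666), (1021644, 666), (1022310, 666), (1022976, 666), (1023642, 666), (1024308, 666),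 (1024974, 666), (1025640, 666), (1026306, 666), (1026972, 666), (1027638, 666), (1028304, 666), (1028970, 666), (1029636, 666), (1030302, 666), (1030968, 666), (1031634, 666), (1032300, 666), (1032966, 666), (1033632, 666), (1034298, 666), (1034964, 666), (1035630, 666), (1036296, 666), (1036962, 666), (1037628, 666), (1038294, 666), (1038960, 666), (1039626, 666), (1040292, 666), (1040958, 666), (1041624, 666), (1042290, 666), (1042956, 666), (1043622, 666), (1044288, 666), (1044954, 666), (1045620, 666), (1046286, 666), (1046952, 666), (1047618, 666), (1048284, 666), (1048950, 666), (1049616, 666), (1050282, 666), (1050948, 666), (1051614, 666), (1052280, 666), (1052946, 666), (1053612, 666), (1054278, 666), (1054944, 666), (1055610, 666), (1056276, 666), (1056942, 666), (1057608, 666), (1058274, 666), (1058940, 666), (1059606, 666), (1060272, 666), (1060938, 666), (1061604, 666), (1062270, 666), (1062936, 666), (1063602, 666), (1064268, 666), (1064934, 666), (1065600, 666), (1066266, 666), (1066932, 666), (1067598, 666), (1068264, 666), (1068930, 666), (1069596, 666), (1070262, 666), (1070928, 666), (1071594, 666), (1072260, 666),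 (1072926, 666), (1073592, 666), (1074258, 666), (1074924, 666), (1075590, 666), (1076256, 666), (1076922, 666), (1077588, 666), (1078254, 666), (1078920, 666), (1079586, 666), (1080252, 666), (1080918, 666), (1081584, 666), (1082250, 666), (1082916, 666), (1083582, 666), (1084248, 666), (1084914, 666), (1085580, 666), (1086246, 666), (1086912, 666), (1087578, 666), (1088244, 666), (1088910, 666), (1089576, 666), (1090242, 666), (1090908, 666), (1091574, 666), (1092240, 666), (1092906, 666), (1093572, 666), (1094238, 666), (1094904, 666), (1095570, 666), (1096236, 666), (1096902, 666), (1097568, 666), (1098234, 666)] ++ [(1098900, 666), (1099566, 666), (1100232, 666), (1100898, 666), (1101564, 666), (1102230, 666), (1102896, 666), (1103562, 666), (1104228, 666), (1104894, 666), (1105560, 666), (1106226, 666), (1106892, 666), (1107558, 666), (1108224, 666), (1108890, 666), (1109556, 666), (1110222, 666), (1110888, 666), (1111554, 666), (1112220, 666), (1112886, 666), (1113552, 666), (1114218, 666), (1114884, 666), (1115550, 666), (1116216, 666), (1116882, 666), (1117548, 666), (1118214, 666), (1118880, 666), (1119546, 666), (1120212,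 666), (1120878, 666), (1121544, 666), (1122210, 666), (1122876, 666), (1123542, 666), (1124208, 666), (1124874, 666), (1125540, 666), (1126206, 666), (1126872, 666), (1127538, 666), (1128204, 666), (1128870, 666), (1129536, 666), (1130202, 666), (1130868, 666), (1131534, 666), (1132200, 666), (1132866, 666), (1133532, 666), (1134198, 666), (1134864, 666), (1135530, 666), (1136196, 666), (1136862, 666), (1137528, 666), (1138194, 666), (1138860, 666), (1139526, 666), (1140192, 666), (1140858, 666), (1141524, 666), (1142190, 666), (1142856, 666), (1143522, 666), (1144188, 666), (1144854, 666), (1145520, 666), (1146186, 666), (1146852, 666), (1147518, 666), (1148184, 666), (1148850, 666), (1149516, 666), (1150182, 666), (1150848, 666), (1151514, 666), (1152180, 666), (1152846, 666), (1153512, 666), (1154178, 666), (1154844, 666), (1155510, 666), (1156176, 666), (1156842, 666), (1157508, 666), (1158174, 666), (1158840, 666), (1159506, 666), (1160172, 666), (1160838, 666), (1161504, 666), (1162170, 666), (1162836, 666), (1163502, 666), (1164168, 666), (1164834, 666), (1165500, 666), (1166166, 666), (1166832, 666), (1167498, 666), (1168164,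 666), (1168830, 666), (1169496, 666), (1170162, 666), (1170828, 666), (1171494, 666), (1172160, 666), (1172826, 666), (1173492, 666), (1174158, 666), (1174824, 666), (1175490, 666), (1176156, 666), (1176822, 666), (1177488, 666), (1178154, 666), (1178820, 666), (1179486, 666), (1180152, 666), (1180818, 666), (1181484, 666), (1182150, 666), (1182816, 666), (1183482, 666), (1184148, 666), (1184814, 666), (1185480, 666), (1186146, 666), (1186812, 666), (1187478, 666), (1188144, 666), (1188810, 666), (1189476, 666), (1190142, 666), (1190808, 666), (1191474, 666), (1192140, 666), (1192806, 666), (1193472, 666), (1194138, 666), (1194804, 666), (1195470, 666), (1196136, 666), (1196802, 666), (1197468, 666), (1198134, 666)] ++ [(1198800, 666), (1199466, 666), (1200132, 666), (1200798, 666), (1201464, 666), (1202130, 666), (1202796, 666), (1203462, 666), (1204128, 666), (1204794, 666), (1205460, 666), (1206126, 666), (1206792, 666), (1207458, 666), (1208124, 666), (1208790, 666), (1209456, 666), (1210122, 666), (1210788, 666), (1211454, 666), (1212120, 666), (1212786, 666), (1213452, 666), (1214118, 666), (1214784, 666), (1215450, 666), (1216116,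 666), (1216782, 666), (1217448, 666), (1218114, 666), (1218780, 666), (1219446, 666), (1220112, 666), (1220778, 666), (1221444, 666), (1222110, 666), (1222776, 666), (1223442, 666), (1224108, 666), (1224774, 666), (1225440, 666), (1226106, 666), (1226772, 666), (1227438, 666), (1228104, 666), (1228770, 666), (1229436, 666), (1230102, 666), (1230768, 666), (1231434, 666), (1232100, 666), (1232766, 666), (1233432, 666), (1234098, 666), (1234764, 666), (1235430, 666), (1236096, 666), (1236762, 666), (1237428, 666), (1238094, 666), (1238760, 666), (1239426, 666), (1240092, 666), (1240758, 666), (1241424, 666), (1242090, 666), (1242756, 666), (1243422, 666), (1244088, 666), (1244754, 666), (1245420, 666), (1246086, 666), (1246752, 666), (1247418, 666), (1248084, 666), (1248750, 666), (1249416, 666), (1250082, 666), (1250748, 666), (1251414, 666), (1252080, 666), (1252746, 666), (1253412, 666), (1254078, 666), (1254744, 666), (1255410, 666), (1256076, 666), (1256742, 666), (1257408, 666), (1258074, 666), (1258740, 666), (1259406, 666), (1260072, 666), (1260738, 666), (1261404, 666), (1262070, 666), (1262736, 666), (1263402, 666), (1264068,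 666), (1264734, 666), (1265400, 666), (1266066, 666), (1266732, 666), (1267398, 666), (1268064, 666), (1268730, 666), (1269396, 666), (1270062, 666), (1270728, 666), (1271394, 666), (1272060, 666), (1272726, 666), (1273392, 666), (1274058, 666), (1274724, 666), (1275390, 666), (1276056, 666), (1276722, 666), (1277388, 666), (1278054, 666), (1278720, 666), (1279386, 666), (1280052, 666), (1280718, 666), (1281384, 666), (1282050, 666), (1282716, 666), (1283382, 666), (1284048, 666), (1284714, 666), (1285380, 666), (1286046, 666), (1286712, 666), (1287378, 666), (1288044, 666), (1288710, 666), (1289376, 666), (1290042, 666), (1290708, 666), (1291374, 666), (1292040, 666), (1292706, 666), (1293372, 666), (1294038, 666), (1294704, 666), (1295370, 666), (1296036, 666), (1296702, 666), (1297368, 666), (1298034, 666)] ++ [(1298700, 666), (1299366, 666), (1300032, 666), (1300698, 666), (1301364, 666), (1302030, 666), (1302696, 666), (1303362, 666), (1304028, 666), (1304694, 666), (1305360, 666), (1306026, 666), (1306692, 666), (1307358, 666), (1308024, 666), (1308690, 666), (1309356, 666), (1310022, 666), (1310688, 666), (1311354, 666), (1312020,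 666), (1312686, 666), (1313352, 666), (1314018, 666), (1314684, 666), (1315350, 666), (1316016, 666), (1316682, 666), (1317348, 666), (1318014, 666), (1318680, 666), (1319346, 666), (1320012, 666), (1320678, 666), (1321344, 666), (1322010, 666), (1322676, 666), (1323342, 666), (1324008, 666), (1324674, 666), (1325340, 666), (1326006, 666), (1326672, 666), (1327338, 666), (1328004, 666), (1328670, 666), (1329336, 666), (1330002, 666), (1330668, 666), (1331334, 666), (1332000, 666), (1332666, 666), (1333332, 666), (1333998, 666), (1334664, 666), (1335330, 666), (1335996, 666), (1336662, 666), (1337328, 666), (1337994, 666), (1338660, 666), (1339326, 666), (1339992, 666), (1340658, 666), (1341324, 666), (1341990, 666), (1342656, 666), (1343322, 666), (1343988, 666), (1344654, 666), (1345320, 666), (1345986, 666), (1346652, 666), (1347318, 666), (1347984, 666), (1348650, 666), (1349316, 666), (1349982, 666), (1350648, 666), (1351314, 666), (1351980, 666), (1352646, 666), (1353312, 666), (1353978, 666), (1354644, 666), (1355310, 666), (1355976, 666), (1356642, 666), (1357308, 666), (1357974, 666), (1358640, 666), (1359306, 666), (1359972,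 666), (1360638, 666), (1361304, 666), (1361970, 666), (1362636, 666), (1363302, 666), (1363968, 666), (1364634, 666), (1365300, 666), (1365966, 666), (1366632, 666), (1367298, 666), (1367964, 666), (1368630, 666), (1369296, 666), (1369962, 666), (1370628, 666), (1371294, 666), (1371960, 666), (1372626, 666), (1373292, 666), (1373958, 666), (1374624, 666), (1375290, 666), (1375956, 666), (1376622, 666), (1377288, 666), (1377954, 666), (1378620, 666), (1379286, 666), (1379952, 666), (1380618, 666), (1381284, 666), (1381950, 666), (1382616, 666), (1383282, 666), (1383948, 666), (1384614, 666), (1385280, 666), (1385946, 666), (1386612, 666), (1387278, 666), (1387944, 666), (1388610, 666), (1389276, 666), (1389942, 666), (1390608, 666), (1391274, 666), (1391940, 666), (1392606, 666), (1393272, 666), (1393938, 666), (1394604, 666), (1395270, 666), (1395936, 666), (1396602, 666), (1397268, 666), (1397934, 666)] ++ [(1398600, 666), (1399266, 666), (1399932, 666), (1400598, 666), (1401264, 666), (1401930, 666), (1402596, 666), (1403262, 666), (1403928, 666), (1404594, 666), (1405260, 666), (1405926, 666), (1406592, 666), (1407258, 666), (1407924,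 666), (1408590, 666), (1409256, 666), (1409922, 666), (1410588, 666), (1411254, 666), (1411920, 666), (1412586, 666), (1413252, 666), (1413918, 666), (1414584, 666), (1415250, 666), (1415916, 666), (1416582, 666), (1417248, 666), (1417914, 666), (1418580, 666), (1419246, 666), (1419912, 666), (1420578, 666), (1421244, 666), (1421910, 666), (1422576, 666), (1423242, 666), (1423908, 666), (1424574, 666), (1425240, 666), (1425906, 666), (1426572, 666), (1427238, 666), (1427904, 666), (1428570, 666), (1429236, 666), (1429902, 666), (1430568, 666), (1431234, 666), (1431900, 666), (1432566, 666), (1433232, 666), (1433898, 666), (1434564, 666), (1435230, 666), (1435896, 666), (1436562, 666), (1437228, 666), (1437894, 666), (1438560, 666), (1439226, 666), (1439892, 666), (1440558, 666), (1441224, 666), (1441890, 666), (1442556, 666), (1443222, 666), (1443888, 666), (1444554, 666), (1445220, 666), (1445886, 666), (1446552, 666), (1447218, 666), (1447884, 666), (1448550, 666), (1449216, 666), (1449882, 666), (1450548, 666), (1451214, 666), (1451880, 666), (1452546, 666), (1453212, 666), (1453878, 666), (1454544, 666), (1455210, 666), (1455876,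 666), (1456542, 666), (1457208, 666), (1457874, 666), (1458540, 666), (1459206, 666), (1459872, 666), (1460538, 666), (1461204, 666), (1461870, 666), (1462536, 666), (1463202, 666), (1463868, 666), (1464534, 666), (1465200, 666), (1465866, 666), (1466532, 666), (1467198, 666), (1467864, 666), (1468530, 666), (1469196, 666), (1469862, 666), (1470528, 666), (1471194, 666), (1471860, 666), (1472526, 666), (1473192, 666), (1473858, 666), (1474524, 666), (1475190, 666), (1475856, 666), (1476522, 666), (1477188, 666), (1477854, 666), (1478520, 666), (1479186, 666), (1479852, 666), (1480518, 666), (1481184, 666), (1481850, 666), (1482516, 666), (1483182, 666), (1483848, 666), (1484514, 666), (1485180, 666), (1485846, 666), (1486512, 666), (1487178, 666), (1487844, 666), (1488510, 666), (1489176, 666), (1489842, 666), (1490508, 666), (1491174, 666), (1491840, 666), (1492506, 666), (1493172, 666), (1493838, 666), (1494504, 666), (1495170, 666), (1495836, 666), (1496502, 666), (1497168, 666), (1497834, 666)] ++ [(1498500, 666), (1499166, 666), (1499832, 666), (1500498, 666), (1501164, 666), (1501830, 666), (1502496, 666), (1503162, 666), (1503828,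 666), (1504494, 666), (1505160, 666), (1505826, 666), (1506492, 666), (1507158, 666), (1507824, 666), (1508490, 666), (1509156, 666), (1509822, 666), (1510488, 666), (1511154, 666), (1511820, 666), (1512486, 666), (1513152, 666), (1513818, 666), (1514484, 666), (1515150, 666), (1515816, 666), (1516482, 666), (1517148, 666), (1517814, 666), (1518480, 666), (1519146, 666), (1519812, 666), (1520478, 666), (1521144, 666), (1521810, 666), (1522476, 666), (1523142, 666), (1523808, 666), (1524474, 666), (1525140, 666), (1525806, 666), (1526472, 666), (1527138, 666), (1527804, 666), (1528470, 666), (1529136, 666), (1529802, 666), (1530468, 666), (1531134, 666), (1531800, 666), (1532466, 666), (1533132, 666), (1533798, 666), (1534464, 666), (1535130, 666), (1535796, 666), (1536462, 666), (1537128, 666), (1537794, 666), (1538460, 540)]) (by decide +kernel) (all_append (all_append (all_append (all_append (all_append (all_append (all_append (all_append (all_append (all_append (all_append (all_append (all_append (all_append (all_append (chk_centX_grp0) chk_centX_grp1) chk_centX_grp2) chk_centX_grp3) chk_centX_grp4) chk_centX_grp5) chk_centX_grp6)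 chk_centX_grp7) chk_centX_grp8) chk_centX_grp9) chk_centX_grp10) chk_centX_grp11) chk_centX_grp12) chk_centX_grp13) chk_centX_grp14) chk_centX_grp15)

end Cfsg.Agent.HNOut
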