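import Cfsg.Agent.Lib.Lead.HNOut.LevA

/-! # The outer automorphism group of the Harada–Norton group: the centraliser of `x`, a part (generated) -/

set_option autoImplicit false
set_option maxRecDepth 100000

namespace Cfsg.Agent.HNOut

open Cfsg.Agent.PF Cfsg.Agent.Lib.Helper6 Cfsg.Agent.Lib.Helper6.TC Cfsg.Agent.Lib.Helper6.NatArr
open Cfsg.Agent.PL (Acts evalF)

theorem chk_centX_0 : allR 0 666 (fun q => centP 1539000 12 f8 [0] 19 LA0 LsA q) = true := by decide +kernel

theorem chk_centX_1 : allR 666 666 (fun q => centP 1539000 12 f8 [0] 19 LA0 LsA q) = true := by decide +kernel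

theorem chk_centX_2 : allR 1332 666 (fun q => centP 1539000 12 f8 [0] 19 LA0 LsA q) = true := by decide +kernel

theorem chk_centX_3 : allR 1998 666 (fun q => centP 1539000 12 f8 [0] 19 LA0 LsA q) = true := by decide +kernel

theorem chk_centX_4 : allR 2664 666 (fun q => centP 1539000 12 f8 [0] 19 LA0 LsA q) = true := by decide +kernel

theorem chk_centX_5 : allR 3330 666 (fun q => centP 1539000 12 f8 [0] 19 LA0 LsA q) = true := by decide +kernel

theorem chk_centX_6 : allR 3996 666 (fun q => centP 1539000 12 f8 [0] 19 LA0 LsA q) = true := by decide +kernel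

theorem chk_centX_7 : allR 4662 666 (fun q => centP 1539000 12 f8 [0] 19 LA0 LsA q) = true := by decide +kernel

theorem chk_centX_8 : allR 5328 666 (fun q => centP 1539000 12 f8 [0] 19 LA0 LsA q) = true := by decide +kernel

theorem chk_centX_9 : allR 5994 666 (fun q => centP 1539000 12 f8 [0] 19 LA0 LsA q) = true := by decide +kernel

theorem chk_centX_10 : allR 6660 666 (fun q => centP 1539000 12 f8 [0] 19 LA0 LsA q) = true := by decide +kernel

theorem chk_centX_11 : allR 7326 666 (fun q => centP 1539000 12 f8 [0] 19 LA0 LsA q) = true := by decide +kernel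

theorem chk_centX_12 : allR 7992 666 (fun q => centP 1539000 12 f8 [0] 19 LA0 LsA q) = true := by decide +kernel

theorem chk_centX_13 : allR 8658 666 (fun q => centP 1539000 12 f8 [0] 19 LA0 LsA q) = true := by decide +kernel

theorem chk_centX_14 : allR 9324 666 (fun q => centP 1539000 12 f8 [0] 19 LA0 LsA q) = true := by decide +kernel

theorem chk_centX_15 : allR 9990 666 (fun q => centP 1539000 12 f8 [0] 19 LA0 LsA q) = true := by decide +kernel

theorem chk_centX_16 : allR 10656 666 (fun q => centP 1539000 12 f8 [0] 19 LA0 LsA q) = true := by decide +kernel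

theorem chk_centX_17 : allR 11322 666 (fun q => centP 1539000 12 f8 [0] 19 LA0 LsA q) = true := by decide +kernel

theorem chk_centX_18 : allR 11988 666 (fun q => centP 1539000 12 f8 [0] 19 LA0 LsA q) = true := by decide +kernel

theorem chk_centX_19 : allR 12654 666 (fun q => centP 1539000 12 f8 [0] 19 LA0 LsA q) = true := by decide +kernel

theorem chk_centX_20 : allR 13320 666 (fun q => centP 1539000 12 f8 [0] 19 LA0 LsA q) = true := by decide +kernel

theorem chk_centX_21 : allR 13986 666 (fun q => centP 1539000 12 f8 [0] 19 LA0 LsA q) = true := by decide +kernel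

theorem chk_centX_22 : allR 14652 666 (fun q => centP 1539000 12 f8 [0] 19 LA0 LsA q) = true := by decide +kernel

theorem chk_centX_23 : allR 15318 666 (fun q => centP 1539000 12 f8 [0] 19 LA0 LsA q) = true := by decide +kernel

theorem chk_centX_24 : allR 15984 666 (fun q => centP 1539000 12 f8 [0] 19 LA0 LsA q) = true := by decide +kernel


end Cfsg.Agent.HNOut
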