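import Cfsg.Agent.Lib.Lead.HNOut.D8
import Cfsg.Agent.Lib.Lead.HNOut.D9
import Cfsg.Agent.Lib.Lead.HNOut.D10

/-! # The outer automorphism group of the Harada–Norton group: the action of `w` on `y` (generated) -/

set_option autoImplicit false
set_option maxRecDepth 100000

namespace Cfsg.Agent.HNOut

open Cfsg.Agent.PF Cfsg.Agent.Lib.Helper6 Cfsg.Agent.Lib.Helper6.TC Cfsg.Agent.Lib.Helper6.NatArr
open Cfsg.Agent.PL (Acts evalF)

theorem chk_wy_25 : allR 226325 9053 (fun q => Nat.beq ((fun q => f10 (f9 q)) q) ((fun q => f9 (f9 (f9 (f9 (f9 (f9 (f9 (f9 (f10 (q)))))))))) q)) = true := by decide +kernel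

theorem chk_wy_26 : allR 235378 9053 (fun q => Nat.beq ((fun q => f10 (f9 q)) q) ((fun q => f9 (f9 (f9 (f9 (f9 (f9 (f9 (f9 (f10 (q)))))))))) q)) = true := by decide +kernel

theorem chk_wy_27 : allR 244431 9053 (fun q => Nat.beq ((fun q => f10 (f9 q)) q) ((fun q => f9 (f9 (f9 (f9 (f9 (f9 (f9 (f9 (f10 (q)))))))))) q)) = true := by decide +kernel

theorem chk_wy_28 : allR 253484 9053 (fun q => Nat.beq ((fun q => f10 (f9 q)) q) ((fun q => f9 (f9 (f9 (f9 (f9 (f9 (f9 (f9 (f10 (q)))))))))) q)) = true := by decide +kernel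

theorem chk_wy_29 : allR 262537 9053 (fun q => Nat.beq ((fun q => f10 (f9 q)) q) ((fun q => f9 (f9 (f9 (f9 (f9 (f9 (f9 (f9 (f10 (q)))))))))) q)) = true := by decide +kernel

theorem chk_wy_30 : allR 271590 9053 (fun q => Nat.beq ((fun q => f10 (f9 q)) q) ((fun q => f9 (f9 (f9 (f9 (f9 (f9 (f9 (f9 (f10 (q)))))))))) q)) = true := by decide +kernel

theorem chk_wy_31 : allR 280643 9053 (fun q => Nat.beq ((fun q => f10 (f9 q)) q) ((fun q => f9 (f9 (f9 (f9 (f9 (f9 (f9 (f9 (f10 (q)))))))))) q)) = true := by decide +kernel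

theorem chk_wy_32 : allR 289696 9053 (fun q => Nat.beq ((fun q => f10 (f9 q)) q) ((fun q => f9 (f9 (f9 (f9 (f9 (f9 (f9 (f9 (f10 (q)))))))))) q)) = true := by decide +kernel

theorem chk_wy_33 : allR 298749 9053 (fun q => Nat.beq ((fun q => f10 (f9 q)) q) ((fun q => f9 (f9 (f9 (f9 (f9 (f9 (f9 (f9 (f10 (q)))))))))) q)) = true := by decide +kernel

theorem chk_wy_34 : allR 307802 9053 (fun q => Nat.beq ((fun q => f10 (f9 q)) q) ((fun q => f9 (f9 (f9 (f9 (f9 (f9 (f9 (f9 (f10 (q)))))))))) q)) = true := by decide +kernel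

theorem chk_wy_35 : allR 316855 9053 (fun q => Nat.beq ((fun q => f10 (f9 q)) q) ((fun q => f9 (f9 (f9 (f9 (f9 (f9 (f9 (f9 (f10 (q)))))))))) q)) = true := by decide +kernel

theorem chk_wy_36 : allR 325908 9053 (fun q => Nat.beq ((fun q => f10 (f9 q)) q) ((fun q => f9 (f9 (f9 (f9 (f9 (f9 (f9 (f9 (f10 (q)))))))))) q)) = true := by decide +kernel

theorem chk_wy_37 : allR 334961 9053 (fun q => Nat.beq ((fun q => f10 (f9 q)) q) ((fun q => f9 (f9 (f9 (f9 (f9 (f9 (f9 (f9 (f10 (q)))))))))) q)) = true := by decide +kernel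

theorem chk_wy_38 : allR 344014 9053 (fun q => Nat.beq ((fun q => f10 (f9 q)) q) ((fun q => f9 (f9 (f9 (f9 (f9 (f9 (f9 (f9 (f10 (q)))))))))) q)) = true := by decide +kernel

theorem chk_wy_39 : allR 353067 9053 (fun q => Nat.beq ((fun q => f10 (f9 q)) q) ((fun q => f9 (f9 (f9 (f9 (f9 (f9 (f9 (f9 (f10 (q)))))))))) q)) = true := by decide +kernel

theorem chk_wy_40 : allR 362120 9053 (fun q => Nat.beq ((fun q => f10 (f9 q)) q) ((fun q => f9 (f9 (f9 (f9 (f9 (f9 (f9 (f9 (f10 (q)))))))))) q)) = true := by decide +kernel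

theorem chk_wy_41 : allR 371173 9053 (fun q => Nat.beq ((fun q => f10 (f9 q)) q) ((fun q => f9 (f9 (f9 (f9 (f9 (f9 (f9 (f9 (f10 (q)))))))))) q)) = true := by decide +kernel

theorem chk_wy_42 : allR 380226 9053 (fun q => Nat.beq ((fun q => f10 (f9 q)) q) ((fun q => f9 (f9 (f9 (f9 (f9 (f9 (f9 (f9 (f10 (q)))))))))) q)) = true := by decide +kernel

theorem chk_wy_43 : allR 389279 9053 (fun q => Nat.beq ((fun q => f10 (f9 q)) q) ((fun q => f9 (f9 (f9 (f9 (f9 (f9 (f9 (f9 (f10 (q)))))))))) q)) = true := by decide +kernel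

theorem chk_wy_44 : allR 398332 9053 (fun q => Nat.beq ((fun q => f10 (f9 q)) q) ((fun q => f9 (f9 (f9 (f9 (f9 (f9 (f9 (f9 (f10 (q)))))))))) q)) = true := by decide +kernel

theorem chk_wy_45 : allR 407385 9053 (fun q => Nat.beq ((fun q => f10 (f9 q)) q) ((fun q => f9 (f9 (f9 (f9 (f9 (f9 (f9 (f9 (f10 (q)))))))))) q)) = true := by decide +kernel

theorem chk_wy_46 : allR 416438 9053 (fun q => Nat.beq ((fun q => f10 (f9 q)) q) ((fun q => f9 (f9 (f9 (f9 (f9 (f9 (f9 (f9 (f10 (q)))))))))) q)) = true := by decide +kernel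

theorem chk_wy_47 : allR 425491 9053 (fun q => Nat.beq ((fun q => f10 (f9 q)) q) ((fun q => f9 (f9 (f9 (f9 (f9 (f9 (f9 (f9 (f10 (q)))))))))) q)) = true := by decide +kernel

theorem chk_wy_48 : allR 434544 9053 (fun q => Nat.beq ((fun q => f10 (f9 q)) q) ((fun q => f9 (f9 (f9 (f9 (f9 (f9 (f9 (f9 (f10 (q)))))))))) q)) = true := by decide +kernel

theorem chk_wy_49 : allR 443597 9053 (fun q => Nat.beq ((fun q => f10 (f9 q)) q) ((fun q => f9 (f9 (f9 (f9 (f9 (f9 (f9 (f9 (f10 (q)))))))))) q)) = true := by decide +kernel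


end Cfsg.Agent.HNOut
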