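import Cfsg.Agent.Lib.Lead.HNOut.D8
import Cfsg.Agent.Lib.Lead.HNOut.D9
import Cfsg.Agent.Lib.Lead.HNOut.D10

/-! # The outer automorphism group of the Harada–Norton group: the action of `w` on `y` (generated) -/

set_option autoImplicit false
set_option maxRecDepth 100000

namespace Cfsg.Agent.HNOut

open Cfsg.Agent.PF Cfsg.Agent.Lib.Helper6 Cfsg.Agent.Lib.Helper6.TC Cfsg.Agent.Lib.Helper6.NatArr
open Cfsg.Agent.PL (Acts evalF)

theorem chk_wy_50 : allR 452650 9053 (fun q => Nat.beq ((fun q => f10 (f9 q)) q) ((fun q => f9 (f9 (f9 (f9 (f9 (f9 (f9 (f9 (f10 (q)))))))))) q)) = true := by decide +kernel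

theorem chk_wy_51 : allR 461703 9053 (fun q => Nat.beq ((fun q => f10 (f9 q)) q) ((fun q => f9 (f9 (f9 (f9 (f9 (f9 (f9 (f9 (f10 (q)))))))))) q)) = true := by decide +kernel

theorem chk_wy_52 : allR 470756 9053 (fun q => Nat.beq ((fun q => f10 (f9 q)) q) ((fun q => f9 (f9 (f9 (f9 (f9 (f9 (f9 (f9 (f10 (q)))))))))) q)) = true := by decide +kernel

theorem chk_wy_53 : allR 479809 9053 (fun q => Nat.beq ((fun q => f10 (f9 q)) q) ((fun q => f9 (f9 (f9 (f9 (f9 (f9 (f9 (f9 (f10 (q)))))))))) q)) = true := by decide +kernel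

theorem chk_wy_54 : allR 488862 9053 (fun q => Nat.beq ((fun q => f10 (f9 q)) q) ((fun q => f9 (f9 (f9 (f9 (f9 (f9 (f9 (f9 (f10 (q)))))))))) q)) = true := by decide +kernel

theorem chk_wy_55 : allR 497915 9053 (fun q => Nat.beq ((fun q => f10 (f9 q)) q) ((fun q => f9 (f9 (f9 (f9 (f9 (f9 (f9 (f9 (f10 (q)))))))))) q)) = true := by decide +kernel

theorem chk_wy_56 : allR 506968 9053 (fun q => Nat.beq ((fun q => f10 (f9 q)) q) ((fun q => f9 (f9 (f9 (f9 (f9 (f9 (f9 (f9 (f10 (q)))))))))) q)) = true := by decide +kernel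

theorem chk_wy_57 : allR 516021 9053 (fun q => Nat.beq ((fun q => f10 (f9 q)) q) ((fun q => f9 (f9 (f9 (f9 (f9 (f9 (f9 (f9 (f10 (q)))))))))) q)) = true := by decide +kernel

theorem chk_wy_58 : allR 525074 9053 (fun q => Nat.beq ((fun q => f10 (f9 q)) q) ((fun q => f9 (f9 (f9 (f9 (f9 (f9 (f9 (f9 (f10 (q)))))))))) q)) = true := by decide +kernel

theorem chk_wy_59 : allR 534127 9053 (fun q => Nat.beq ((fun q => f10 (f9 q)) q) ((fun q => f9 (f9 (f9 (f9 (f9 (f9 (f9 (f9 (f10 (q)))))))))) q)) = true := by decide +kernel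

theorem chk_wy_60 : allR 543180 9053 (fun q => Nat.beq ((fun q => f10 (f9 q)) q) ((fun q => f9 (f9 (f9 (f9 (f9 (f9 (f9 (f9 (f10 (q)))))))))) q)) = true := by decide +kernel

theorem chk_wy_61 : allR 552233 9053 (fun q => Nat.beq ((fun q => f10 (f9 q)) q) ((fun q => f9 (f9 (f9 (f9 (f9 (f9 (f9 (f9 (f10 (q)))))))))) q)) = true := by decide +kernel

theorem chk_wy_62 : allR 561286 9053 (fun q => Nat.beq ((fun q => f10 (f9 q)) q) ((fun q => f9 (f9 (f9 (f9 (f9 (f9 (f9 (f9 (f10 (q)))))))))) q)) = true := by decide +kernel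

theorem chk_wy_63 : allR 570339 9053 (fun q => Nat.beq ((fun q => f10 (f9 q)) q) ((fun q => f9 (f9 (f9 (f9 (f9 (f9 (f9 (f9 (f10 (q)))))))))) q)) = true := by decide +kernel

theorem chk_wy_64 : allR 579392 9053 (fun q => Nat.beq ((fun q => f10 (f9 q)) q) ((fun q => f9 (f9 (f9 (f9 (f9 (f9 (f9 (f9 (f10 (q)))))))))) q)) = true := by decide +kernel

theorem chk_wy_65 : allR 588445 9053 (fun q => Nat.beq ((fun q => f10 (f9 q)) q) ((fun q => f9 (f9 (f9 (f9 (f9 (f9 (f9 (f9 (f10 (q)))))))))) q)) = true := by decide +kernel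

theorem chk_wy_66 : allR 597498 9053 (fun q => Nat.beq ((fun q => f10 (f9 q)) q) ((fun q => f9 (f9 (f9 (f9 (f9 (f9 (f9 (f9 (f10 (q)))))))))) q)) = true := by decide +kernel

theorem chk_wy_67 : allR 606551 9053 (fun q => Nat.beq ((fun q => f10 (f9 q)) q) ((fun q => f9 (f9 (f9 (f9 (f9 (f9 (f9 (f9 (f10 (q)))))))))) q)) = true := by decide +kernel

theorem chk_wy_68 : allR 615604 9053 (fun q => Nat.beq ((fun q => f10 (f9 q)) q) ((fun q => f9 (f9 (f9 (f9 (f9 (f9 (f9 (f9 (f10 (q)))))))))) q)) = true := by decide +kernel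

theorem chk_wy_69 : allR 624657 9053 (fun q => Nat.beq ((fun q => f10 (f9 q)) q) ((fun q => f9 (f9 (f9 (f9 (f9 (f9 (f9 (f9 (f10 (q)))))))))) q)) = true := by decide +kernel

theorem chk_wy_70 : allR 633710 9053 (fun q => Nat.beq ((fun q => f10 (f9 q)) q) ((fun q => f9 (f9 (f9 (f9 (f9 (f9 (f9 (f9 (f10 (q)))))))))) q)) = true := by decide +kernel

theorem chk_wy_71 : allR 642763 9053 (fun q => Nat.beq ((fun q => f10 (f9 q)) q) ((fun q => f9 (f9 (f9 (f9 (f9 (f9 (f9 (f9 (f10 (q)))))))))) q)) = true := by decide +kernel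

theorem chk_wy_72 : allR 651816 9053 (fun q => Nat.beq ((fun q => f10 (f9 q)) q) ((fun q => f9 (f9 (f9 (f9 (f9 (f9 (f9 (f9 (f10 (q)))))))))) q)) = true := by decide +kernel

theorem chk_wy_73 : allR 660869 9053 (fun q => Nat.beq ((fun q => f10 (f9 q)) q) ((fun q => f9 (f9 (f9 (f9 (f9 (f9 (f9 (f9 (f10 (q)))))))))) q)) = true := by decide +kernel

theorem chk_wy_74 : allR 669922 9053 (fun q => Nat.beq ((fun q => f10 (f9 q)) q) ((fun q => f9 (f9 (f9 (f9 (f9 (f9 (f9 (f9 (f10 (q)))))))))) q)) = true := by decide +kernel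


end Cfsg.Agent.HNOut
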