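import Cfsg.Agent.Lib.Lead.HNOut.D8
import Cfsg.Agent.Lib.Lead.HNOut.D9
import Cfsg.Agent.Lib.Lead.HNOut.D10

/-! # The outer automorphism group of the Harada–Norton group: the action of `w` on `y` (generated) -/

set_option autoImplicit false
set_option maxRecDepth 100000

namespace Cfsg.Agent.HNOut

open Cfsg.Agent.PF Cfsg.Agent.Lib.Helper6 Cfsg.Agent.Lib.Helper6.TC Cfsg.Agent.Lib.Helper6.NatArr
open Cfsg.Agent.PL (Acts evalF)

theorem chk_wy_75 : allR 678975 9053 (fun q => Nat.beq ((fun q => f10 (f9 q)) q) ((fun q => f9 (f9 (f9 (f9 (f9 (f9 (f9 (f9 (f10 (q)))))))))) q)) = true := by decide +kernel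

theorem chk_wy_76 : allR 688028 9053 (fun q => Nat.beq ((fun q => f10 (f9 q)) q) ((fun q => f9 (f9 (f9 (f9 (f9 (f9 (f9 (f9 (f10 (q)))))))))) q)) = true := by decide +kernel

theorem chk_wy_77 : allR 697081 9053 (fun q => Nat.beq ((fun q => f10 (f9 q)) q) ((fun q => f9 (f9 (f9 (f9 (f9 (f9 (f9 (f9 (f10 (q)))))))))) q)) = true := by decide +kernel

theorem chk_wy_78 : allR 706134 9053 (fun q => Nat.beq ((fun q => f10 (f9 q)) q) ((fun q => f9 (f9 (f9 (f9 (f9 (f9 (f9 (f9 (f10 (q)))))))))) q)) = true := by decide +kernel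

theorem chk_wy_79 : allR 715187 9053 (fun q => Nat.beq ((fun q => f10 (f9 q)) q) ((fun q => f9 (f9 (f9 (f9 (f9 (f9 (f9 (f9 (f10 (q)))))))))) q)) = true := by decide +kernel

theorem chk_wy_80 : allR 724240 9053 (fun q => Nat.beq ((fun q => f10 (f9 q)) q) ((fun q => f9 (f9 (f9 (f9 (f9 (f9 (f9 (f9 (f10 (q)))))))))) q)) = true := by decide +kernel

theorem chk_wy_81 : allR 733293 9053 (fun q => Nat.beq ((fun q => f10 (f9 q)) q) ((fun q => f9 (f9 (f9 (f9 (f9 (f9 (f9 (f9 (f10 (q)))))))))) q)) = true := by decide +kernel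

theorem chk_wy_82 : allR 742346 9053 (fun q => Nat.beq ((fun q => f10 (f9 q)) q) ((fun q => f9 (f9 (f9 (f9 (f9 (f9 (f9 (f9 (f10 (q)))))))))) q)) = true := by decide +kernel

theorem chk_wy_83 : allR 751399 9053 (fun q => Nat.beq ((fun q => f10 (f9 q)) q) ((fun q => f9 (f9 (f9 (f9 (f9 (f9 (f9 (f9 (f10 (q)))))))))) q)) = true := by decide +kernel

theorem chk_wy_84 : allR 760452 9053 (fun q => Nat.beq ((fun q => f10 (f9 q)) q) ((fun q => f9 (f9 (f9 (f9 (f9 (f9 (f9 (f9 (f10 (q)))))))))) q)) = true := by decide +kernel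

theorem chk_wy_85 : allR 769505 9053 (fun q => Nat.beq ((fun q => f10 (f9 q)) q) ((fun q => f9 (f9 (f9 (f9 (f9 (f9 (f9 (f9 (f10 (q)))))))))) q)) = true := by decide +kernel

theorem chk_wy_86 : allR 778558 9053 (fun q => Nat.beq ((fun q => f10 (f9 q)) q) ((fun q => f9 (f9 (f9 (f9 (f9 (f9 (f9 (f9 (f10 (q)))))))))) q)) = true := by decide +kernel

theorem chk_wy_87 : allR 787611 9053 (fun q => Nat.beq ((fun q => f10 (f9 q)) q) ((fun q => f9 (f9 (f9 (f9 (f9 (f9 (f9 (f9 (f10 (q)))))))))) q)) = true := by decide +kernel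

theorem chk_wy_88 : allR 796664 9053 (fun q => Nat.beq ((fun q => f10 (f9 q)) q) ((fun q => f9 (f9 (f9 (f9 (f9 (f9 (f9 (f9 (f10 (q)))))))))) q)) = true := by decide +kernel

theorem chk_wy_89 : allR 805717 9053 (fun q => Nat.beq ((fun q => f10 (f9 q)) q) ((fun q => f9 (f9 (f9 (f9 (f9 (f9 (f9 (f9 (f10 (q)))))))))) q)) = true := by decide +kernel

theorem chk_wy_90 : allR 814770 9053 (fun q => Nat.beq ((fun q => f10 (f9 q)) q) ((fun q => f9 (f9 (f9 (f9 (f9 (f9 (f9 (f9 (f10 (q)))))))))) q)) = true := by decide +kernel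

theorem chk_wy_91 : allR 823823 9053 (fun q => Nat.beq ((fun q => f10 (f9 q)) q) ((fun q => f9 (f9 (f9 (f9 (f9 (f9 (f9 (f9 (f10 (q)))))))))) q)) = true := by decide +kernel

theorem chk_wy_92 : allR 832876 9053 (fun q => Nat.beq ((fun q => f10 (f9 q)) q) ((fun q => f9 (f9 (f9 (f9 (f9 (f9 (f9 (f9 (f10 (q)))))))))) q)) = true := by decide +kernel

theorem chk_wy_93 : allR 841929 9053 (fun q => Nat.beq ((fun q => f10 (f9 q)) q) ((fun q => f9 (f9 (f9 (f9 (f9 (f9 (f9 (f9 (f10 (q)))))))))) q)) = true := by decide +kernel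

theorem chk_wy_94 : allR 850982 9053 (fun q => Nat.beq ((fun q => f10 (f9 q)) q) ((fun q => f9 (f9 (f9 (f9 (f9 (f9 (f9 (f9 (f10 (q)))))))))) q)) = true := by decide +kernel

theorem chk_wy_95 : allR 860035 9053 (fun q => Nat.beq ((fun q => f10 (f9 q)) q) ((fun q => f9 (f9 (f9 (f9 (f9 (f9 (f9 (f9 (f10 (q)))))))))) q)) = true := by decide +kernel

theorem chk_wy_96 : allR 869088 9053 (fun q => Nat.beq ((fun q => f10 (f9 q)) q) ((fun q => f9 (f9 (f9 (f9 (f9 (f9 (f9 (f9 (f10 (q)))))))))) q)) = true := by decide +kernel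

theorem chk_wy_97 : allR 878141 9053 (fun q => Nat.beq ((fun q => f10 (f9 q)) q) ((fun q => f9 (f9 (f9 (f9 (f9 (f9 (f9 (f9 (f10 (q)))))))))) q)) = true := by decide +kernel

theorem chk_wy_98 : allR 887194 9053 (fun q => Nat.beq ((fun q => f10 (f9 q)) q) ((fun q => f9 (f9 (f9 (f9 (f9 (f9 (f9 (f9 (f10 (q)))))))))) q)) = true := by decide +kernel

theorem chk_wy_99 : allR 896247 9053 (fun q => Nat.beq ((fun q => f10 (f9 q)) q) ((fun q => f9 (f9 (f9 (f9 (f9 (f9 (f9 (f9 (f10 (q)))))))))) q)) = true := by decide +kernel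


end Cfsg.Agent.HNOut
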