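import Cfsg.Agent.Lib.Lead.HNOut.D8
import Cfsg.Agent.Lib.Lead.HNOut.D9
import Cfsg.Agent.Lib.Lead.HNOut.D10

/-! # The outer automorphism group of the Harada–Norton group: the action of `w` on `y` (generated) -/

set_option autoImplicit false
set_option maxRecDepth 100000

namespace Cfsg.Agent.HNOut

open Cfsg.Agent.PF Cfsg.Agent.Lib.Helper6 Cfsg.Agent.Lib.Helper6.TC Cfsg.Agent.Lib.Helper6.NatArr
open Cfsg.Agent.PL (Acts evalF)

theorem chk_wy_100 : allR 905300 9053 (fun q => Nat.beq ((fun q => f10 (f9 q)) q) ((fun q => f9 (f9 (f9 (f9 (f9 (f9 (f9 (f9 (f10 (q)))))))))) q)) = true := by decide +kernel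

theorem chk_wy_101 : allR 914353 9053 (fun q => Nat.beq ((fun q => f10 (f9 q)) q) ((fun q => f9 (f9 (f9 (f9 (f9 (f9 (f9 (f9 (f10 (q)))))))))) q)) = true := by decide +kernel

theorem chk_wy_102 : allR 923406 9053 (fun q => Nat.beq ((fun q => f10 (f9 q)) q) ((fun q => f9 (f9 (f9 (f9 (f9 (f9 (f9 (f9 (f10 (q)))))))))) q)) = true := by decide +kernel

theorem chk_wy_103 : allR 932459 9053 (fun q => Nat.beq ((fun q => f10 (f9 q)) q) ((fun q => f9 (f9 (f9 (f9 (f9 (f9 (f9 (f9 (f10 (q)))))))))) q)) = true := by decide +kernel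

theorem chk_wy_104 : allR 941512 9053 (fun q => Nat.beq ((fun q => f10 (f9 q)) q) ((fun q => f9 (f9 (f9 (f9 (f9 (f9 (f9 (f9 (f10 (q)))))))))) q)) = true := by decide +kernel

theorem chk_wy_105 : allR 950565 9053 (fun q => Nat.beq ((fun q => f10 (f9 q)) q) ((fun q => f9 (f9 (f9 (f9 (f9 (f9 (f9 (f9 (f10 (q)))))))))) q)) = true := by decide +kernel

theorem chk_wy_106 : allR 959618 9053 (fun q => Nat.beq ((fun q => f10 (f9 q)) q) ((fun q => f9 (f9 (f9 (f9 (f9 (f9 (f9 (f9 (f10 (q)))))))))) q)) = true := by decide +kernel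

theorem chk_wy_107 : allR 968671 9053 (fun q => Nat.beq ((fun q => f10 (f9 q)) q) ((fun q => f9 (f9 (f9 (f9 (f9 (f9 (f9 (f9 (f10 (q)))))))))) q)) = true := by decide +kernel

theorem chk_wy_108 : allR 977724 9053 (fun q => Nat.beq ((fun q => f10 (f9 q)) q) ((fun q => f9 (f9 (f9 (f9 (f9 (f9 (f9 (f9 (f10 (q)))))))))) q)) = true := by decide +kernel

theorem chk_wy_109 : allR 986777 9053 (fun q => Nat.beq ((fun q => f10 (f9 q)) q) ((fun q => f9 (f9 (f9 (f9 (f9 (f9 (f9 (f9 (f10 (q)))))))))) q)) = true := by decide +kernel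

theorem chk_wy_110 : allR 995830 9053 (fun q => Nat.beq ((fun q => f10 (f9 q)) q) ((fun q => f9 (f9 (f9 (f9 (f9 (f9 (f9 (f9 (f10 (q)))))))))) q)) = true := by decide +kernel

theorem chk_wy_111 : allR 1004883 9053 (fun q => Nat.beq ((fun q => f10 (f9 q)) q) ((fun q => f9 (f9 (f9 (f9 (f9 (f9 (f9 (f9 (f10 (q)))))))))) q)) = true := by decide +kernel

theorem chk_wy_112 : allR 1013936 9053 (fun q => Nat.beq ((fun q => f10 (f9 q)) q) ((fun q => f9 (f9 (f9 (f9 (f9 (f9 (f9 (f9 (f10 (q)))))))))) q)) = true := by decide +kernel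

theorem chk_wy_113 : allR 1022989 9053 (fun q => Nat.beq ((fun q => f10 (f9 q)) q) ((fun q => f9 (f9 (f9 (f9 (f9 (f9 (f9 (f9 (f10 (q)))))))))) q)) = true := by decide +kernel

theorem chk_wy_114 : allR 1032042 9053 (fun q => Nat.beq ((fun q => f10 (f9 q)) q) ((fun q => f9 (f9 (f9 (f9 (f9 (f9 (f9 (f9 (f10 (q)))))))))) q)) = true := by decide +kernel

theorem chk_wy_115 : allR 1041095 9053 (fun q => Nat.beq ((fun q => f10 (f9 q)) q) ((fun q => f9 (f9 (f9 (f9 (f9 (f9 (f9 (f9 (f10 (q)))))))))) q)) = true := by decide +kernel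

theorem chk_wy_116 : allR 1050148 9053 (fun q => Nat.beq ((fun q => f10 (f9 q)) q) ((fun q => f9 (f9 (f9 (f9 (f9 (f9 (f9 (f9 (f10 (q)))))))))) q)) = true := by decide +kernel

theorem chk_wy_117 : allR 1059201 9053 (fun q => Nat.beq ((fun q => f10 (f9 q)) q) ((fun q => f9 (f9 (f9 (f9 (f9 (f9 (f9 (f9 (f10 (q)))))))))) q)) = true := by decide +kernel

theorem chk_wy_118 : allR 1068254 9053 (fun q => Nat.beq ((fun q => f10 (f9 q)) q) ((fun q => f9 (f9 (f9 (f9 (f9 (f9 (f9 (f9 (f10 (q)))))))))) q)) = true := by decide +kernel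

theorem chk_wy_119 : allR 1077307 9053 (fun q => Nat.beq ((fun q => f10 (f9 q)) q) ((fun q => f9 (f9 (f9 (f9 (f9 (f9 (f9 (f9 (f10 (q)))))))))) q)) = true := by decide +kernel

theorem chk_wy_120 : allR 1086360 9053 (fun q => Nat.beq ((fun q => f10 (f9 q)) q) ((fun q => f9 (f9 (f9 (f9 (f9 (f9 (f9 (f9 (f10 (q)))))))))) q)) = true := by decide +kernel

theorem chk_wy_121 : allR 1095413 9053 (fun q => Nat.beq ((fun q => f10 (f9 q)) q) ((fun q => f9 (f9 (f9 (f9 (f9 (f9 (f9 (f9 (f10 (q)))))))))) q)) = true := by decide +kernel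

theorem chk_wy_122 : allR 1104466 9053 (fun q => Nat.beq ((fun q => f10 (f9 q)) q) ((fun q => f9 (f9 (f9 (f9 (f9 (f9 (f9 (f9 (f10 (q)))))))))) q)) = true := by decide +kernel

theorem chk_wy_123 : allR 1113519 9053 (fun q => Nat.beq ((fun q => f10 (f9 q)) q) ((fun q => f9 (f9 (f9 (f9 (f9 (f9 (f9 (f9 (f10 (q)))))))))) q)) = true := by decide +kernel

theorem chk_wy_124 : allR 1122572 9053 (fun q => Nat.beq ((fun q => f10 (f9 q)) q) ((fun q => f9 (f9 (f9 (f9 (f9 (f9 (f9 (f9 (f10 (q)))))))))) q)) = true := by decide +kernel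


end Cfsg.Agent.HNOut
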