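import Cfsg.Agent.Lib.Lead.HNOut.D8
import Cfsg.Agent.Lib.Lead.HNOut.D9
import Cfsg.Agent.Lib.Lead.HNOut.D10

/-! # The outer automorphism group of the Harada–Norton group: the order of `x` (generated) -/

set_option autoImplicit false
set_option maxRecDepth 100000

namespace Cfsg.Agent.HNOut

open Cfsg.Agent.PF Cfsg.Agent.Lib.Helper6 Cfsg.Agent.Lib.Helper6.TC Cfsg.Agent.Lib.Helper6.NatArr
open Cfsg.Agent.PL (Acts evalF)

theorem chk_x_25 : allR 124925 4997 (fun q => Nat.beq ((fun q => f8 (f8 (f8 (f8 (f8 (f8 (f8 (f8 (f8 (f8 (f8 (f8 (f8 (f8 (f8 (f8 (f8 (f8 (f8 (q)))))))))))))))))))) q) ((fun q => q) q)) = true := by decide +kernel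

theorem chk_x_26 : allR 129922 4997 (fun q => Nat.beq ((fun q => f8 (f8 (f8 (f8 (f8 (f8 (f8 (f8 (f8 (f8 (f8 (f8 (f8 (f8 (f8 (f8 (f8 (f8 (f8 (q)))))))))))))))))))) q) ((fun q => q) q)) = true := by decide +kernel

theorem chk_x_27 : allR 134919 4997 (fun q => Nat.beq ((fun q => f8 (f8 (f8 (f8 (f8 (f8 (f8 (f8 (f8 (f8 (f8 (f8 (f8 (f8 (f8 (f8 (f8 (f8 (f8 (q)))))))))))))))))))) q) ((fun q => q) q)) = true := by decide +kernel

theorem chk_x_28 : allR 139916 4997 (fun q => Nat.beq ((fun q => f8 (f8 (f8 (f8 (f8 (f8 (f8 (f8 (f8 (f8 (f8 (f8 (f8 (f8 (f8 (f8 (f8 (f8 (f8 (q)))))))))))))))))))) q) ((fun q => q) q)) = true := by decide +kernel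

theorem chk_x_29 : allR 144913 4997 (fun q => Nat.beq ((fun q => f8 (f8 (f8 (f8 (f8 (f8 (f8 (f8 (f8 (f8 (f8 (f8 (f8 (f8 (f8 (f8 (f8 (f8 (f8 (q)))))))))))))))))))) q) ((fun q => q) q)) = true := by decide +kernel

theorem chk_x_30 : allR 149910 4997 (fun q => Nat.beq ((fun q => f8 (f8 (f8 (f8 (f8 (f8 (f8 (f8 (f8 (f8 (f8 (f8 (f8 (f8 (f8 (f8 (f8 (f8 (f8 (q)))))))))))))))))))) q) ((fun q => q) q)) = true := by decide +kernel

theorem chk_x_31 : allR 154907 4997 (fun q => Nat.beq ((fun q => f8 (f8 (f8 (f8 (f8 (f8 (f8 (f8 (f8 (f8 (f8 (f8 (f8 (f8 (f8 (f8 (f8 (f8 (f8 (q)))))))))))))))))))) q) ((fun q => q) q)) = true := by decide +kernel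

theorem chk_x_32 : allR 159904 4997 (fun q => Nat.beq ((fun q => f8 (f8 (f8 (f8 (f8 (f8 (f8 (f8 (f8 (f8 (f8 (f8 (f8 (f8 (f8 (f8 (f8 (f8 (f8 (q)))))))))))))))))))) q) ((fun q => q) q)) = true := by decide +kernel

theorem chk_x_33 : allR 164901 4997 (fun q => Nat.beq ((fun q => f8 (f8 (f8 (f8 (f8 (f8 (f8 (f8 (f8 (f8 (f8 (f8 (f8 (f8 (f8 (f8 (f8 (f8 (f8 (q)))))))))))))))))))) q) ((fun q => q) q)) = true := by decide +kernel

theorem chk_x_34 : allR 169898 4997 (fun q => Nat.beq ((fun q => f8 (f8 (f8 (f8 (f8 (f8 (f8 (f8 (f8 (f8 (f8 (f8 (f8 (f8 (f8 (f8 (f8 (f8 (f8 (q)))))))))))))))))))) q) ((fun q => q) q)) = true := by decide +kernel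

theorem chk_x_35 : allR 174895 4997 (fun q => Nat.beq ((fun q => f8 (f8 (f8 (f8 (f8 (f8 (f8 (f8 (f8 (f8 (f8 (f8 (f8 (f8 (f8 (f8 (f8 (f8 (f8 (q)))))))))))))))))))) q) ((fun q => q) q)) = true := by decide +kernel

theorem chk_x_36 : allR 179892 4997 (fun q => Nat.beq ((fun q => f8 (f8 (f8 (f8 (f8 (f8 (f8 (f8 (f8 (f8 (f8 (f8 (f8 (f8 (f8 (f8 (f8 (f8 (f8 (q)))))))))))))))))))) q) ((fun q => q) q)) = true := by decide +kernel

theorem chk_x_37 : allR 184889 4997 (fun q => Nat.beq ((fun q => f8 (f8 (f8 (f8 (f8 (f8 (f8 (f8 (f8 (f8 (f8 (f8 (f8 (f8 (f8 (f8 (f8 (f8 (f8 (q)))))))))))))))))))) q) ((fun q => q) q)) = true := by decide +kernel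

theorem chk_x_38 : allR 189886 4997 (fun q => Nat.beq ((fun q => f8 (f8 (f8 (f8 (f8 (f8 (f8 (f8 (f8 (f8 (f8 (f8 (f8 (f8 (f8 (f8 (f8 (f8 (f8 (q)))))))))))))))))))) q) ((fun q => q) q)) = true := by decide +kernel

theorem chk_x_39 : allR 194883 4997 (fun q => Nat.beq ((fun q => f8 (f8 (f8 (f8 (f8 (f8 (f8 (f8 (f8 (f8 (f8 (f8 (f8 (f8 (f8 (f8 (f8 (f8 (f8 (q)))))))))))))))))))) q) ((fun q => q) q)) = true := by decide +kernel

theorem chk_x_40 : allR 199880 4997 (fun q => Nat.beq ((fun q => f8 (f8 (f8 (f8 (f8 (f8 (f8 (f8 (f8 (f8 (f8 (f8 (f8 (f8 (f8 (f8 (f8 (f8 (f8 (q)))))))))))))))))))) q) ((fun q => q) q)) = true := by decide +kernel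

theorem chk_x_41 : allR 204877 4997 (fun q => Nat.beq ((fun q => f8 (f8 (f8 (f8 (f8 (f8 (f8 (f8 (f8 (f8 (f8 (f8 (f8 (f8 (f8 (f8 (f8 (f8 (f8 (q)))))))))))))))))))) q) ((fun q => q) q)) = true := by decide +kernel

theorem chk_x_42 : allR 209874 4997 (fun q => Nat.beq ((fun q => f8 (f8 (f8 (f8 (f8 (f8 (f8 (f8 (f8 (f8 (f8 (f8 (f8 (f8 (f8 (f8 (f8 (f8 (f8 (q)))))))))))))))))))) q) ((fun q => q) q)) = true := by decide +kernel

theorem chk_x_43 : allR 214871 4997 (fun q => Nat.beq ((fun q => f8 (f8 (f8 (f8 (f8 (f8 (f8 (f8 (f8 (f8 (f8 (f8 (f8 (f8 (f8 (f8 (f8 (f8 (f8 (q)))))))))))))))))))) q) ((fun q => q) q)) = true := by decide +kernel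

theorem chk_x_44 : allR 219868 4997 (fun q => Nat.beq ((fun q => f8 (f8 (f8 (f8 (f8 (f8 (f8 (f8 (f8 (f8 (f8 (f8 (f8 (f8 (f8 (f8 (f8 (f8 (f8 (q)))))))))))))))))))) q) ((fun q => q) q)) = true := by decide +kernel

theorem chk_x_45 : allR 224865 4997 (fun q => Nat.beq ((fun q => f8 (f8 (f8 (f8 (f8 (f8 (f8 (f8 (f8 (f8 (f8 (f8 (f8 (f8 (f8 (f8 (f8 (f8 (f8 (q)))))))))))))))))))) q) ((fun q => q) q)) = true := by decide +kernel

theorem chk_x_46 : allR 229862 4997 (fun q => Nat.beq ((fun q => f8 (f8 (f8 (f8 (f8 (f8 (f8 (f8 (f8 (f8 (f8 (f8 (f8 (f8 (f8 (f8 (f8 (f8 (f8 (q)))))))))))))))))))) q) ((fun q => q) q)) = true := by decide +kernel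

theorem chk_x_47 : allR 234859 4997 (fun q => Nat.beq ((fun q => f8 (f8 (f8 (f8 (f8 (f8 (f8 (f8 (f8 (f8 (f8 (f8 (f8 (f8 (f8 (f8 (f8 (f8 (f8 (q)))))))))))))))))))) q) ((fun q => q) q)) = true := by decide +kernel

theorem chk_x_48 : allR 239856 4997 (fun q => Nat.beq ((fun q => f8 (f8 (f8 (f8 (f8 (f8 (f8 (f8 (f8 (f8 (f8 (f8 (f8 (f8 (f8 (f8 (f8 (f8 (f8 (q)))))))))))))))))))) q) ((fun q => q) q)) = true := by decide +kernel

theorem chk_x_49 : allR 244853 4997 (fun q => Nat.beq ((fun q => f8 (f8 (f8 (f8 (f8 (f8 (f8 (f8 (f8 (f8 (f8 (f8 (f8 (f8 (f8 (f8 (f8 (f8 (f8 (q)))))))))))))))))))) q) ((fun q => q) q)) = true := by decide +kernel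


end Cfsg.Agent.HNOut
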