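import Cfsg.Agent.Lib.Lead.HNOut.D8
import Cfsg.Agent.Lib.Lead.HNOut.D9
import Cfsg.Agent.Lib.Lead.HNOut.D10

/-! # The outer automorphism group of the Harada–Norton group: the action of `y` on `x` (generated) -/

set_option autoImplicit false
set_option maxRecDepth 100000

namespace Cfsg.Agent.HNOut

open Cfsg.Agent.PF Cfsg.Agent.Lib.Helper6 Cfsg.Agent.Lib.Helper6.TC Cfsg.Agent.Lib.Helper6.NatArr
open Cfsg.Agent.PL (Acts evalF)

theorem chk_yx_25 : allR 356250 14250 (fun q => Nat.beq ((fun q => f9 (f8 q)) q) ((fun q => f8 (f8 (f8 (f8 (f9 (q)))))) q)) = true := by decide +kernel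

theorem chk_yx_26 : allR 370500 14250 (fun q => Nat.beq ((fun q => f9 (f8 q)) q) ((fun q => f8 (f8 (f8 (f8 (f9 (q)))))) q)) = true := by decide +kernel

theorem chk_yx_27 : allR 384750 14250 (fun q => Nat.beq ((fun q => f9 (f8 q)) q) ((fun q => f8 (f8 (f8 (f8 (f9 (q)))))) q)) = true := by decide +kernel

theorem chk_yx_28 : allR 399000 14250 (fun q => Nat.beq ((fun q => f9 (f8 q)) q) ((fun q => f8 (f8 (f8 (f8 (f9 (q)))))) q)) = true := by decide +kernel

theorem chk_yx_29 : allR 413250 14250 (fun q => Nat.beq ((fun q => f9 (f8 q)) q) ((fun q => f8 (f8 (f8 (f8 (f9 (q)))))) q)) = true := by decide +kernel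

theorem chk_yx_30 : allR 427500 14250 (fun q => Nat.beq ((fun q => f9 (f8 q)) q) ((fun q => f8 (f8 (f8 (f8 (f9 (q)))))) q)) = true := by decide +kernel

theorem chk_yx_31 : allR 441750 14250 (fun q => Nat.beq ((fun q => f9 (f8 q)) q) ((fun q => f8 (f8 (f8 (f8 (f9 (q)))))) q)) = true := by decide +kernel

theorem chk_yx_32 : allR 456000 14250 (fun q => Nat.beq ((fun q => f9 (f8 q)) q) ((fun q => f8 (f8 (f8 (f8 (f9 (q)))))) q)) = true := by decide +kernel

theorem chk_yx_33 : allR 470250 14250 (fun q => Nat.beq ((fun q => f9 (f8 q)) q) ((fun q => f8 (f8 (f8 (f8 (f9 (q)))))) q)) = true := by decide +kernel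

theorem chk_yx_34 : allR 484500 14250 (fun q => Nat.beq ((fun q => f9 (f8 q)) q) ((fun q => f8 (f8 (f8 (f8 (f9 (q)))))) q)) = true := by decide +kernel

theorem chk_yx_35 : allR 498750 14250 (fun q => Nat.beq ((fun q => f9 (f8 q)) q) ((fun q => f8 (f8 (f8 (f8 (f9 (q)))))) q)) = true := by decide +kernel

theorem chk_yx_36 : allR 513000 14250 (fun q => Nat.beq ((fun q => f9 (f8 q)) q) ((fun q => f8 (f8 (f8 (f8 (f9 (q)))))) q)) = true := by decide +kernel

theorem chk_yx_37 : allR 527250 14250 (fun q => Nat.beq ((fun q => f9 (f8 q)) q) ((fun q => f8 (f8 (f8 (f8 (f9 (q)))))) q)) = true := by decide +kernel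

theorem chk_yx_38 : allR 541500 14250 (fun q => Nat.beq ((fun q => f9 (f8 q)) q) ((fun q => f8 (f8 (f8 (f8 (f9 (q)))))) q)) = true := by decide +kernel

theorem chk_yx_39 : allR 555750 14250 (fun q => Nat.beq ((fun q => f9 (f8 q)) q) ((fun q => f8 (f8 (f8 (f8 (f9 (q)))))) q)) = true := by decide +kernel

theorem chk_yx_40 : allR 570000 14250 (fun q => Nat.beq ((fun q => f9 (f8 q)) q) ((fun q => f8 (f8 (f8 (f8 (f9 (q)))))) q)) = true := by decide +kernel

theorem chk_yx_41 : allR 584250 14250 (fun q => Nat.beq ((fun q => f9 (f8 q)) q) ((fun q => f8 (f8 (f8 (f8 (f9 (q)))))) q)) = true := by decide +kernel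

theorem chk_yx_42 : allR 598500 14250 (fun q => Nat.beq ((fun q => f9 (f8 q)) q) ((fun q => f8 (f8 (f8 (f8 (f9 (q)))))) q)) = true := by decide +kernel

theorem chk_yx_43 : allR 612750 14250 (fun q => Nat.beq ((fun q => f9 (f8 q)) q) ((fun q => f8 (f8 (f8 (f8 (f9 (q)))))) q)) = true := by decide +kernel

theorem chk_yx_44 : allR 627000 14250 (fun q => Nat.beq ((fun q => f9 (f8 q)) q) ((fun q => f8 (f8 (f8 (f8 (f9 (q)))))) q)) = true := by decide +kernel

theorem chk_yx_45 : allR 641250 14250 (fun q => Nat.beq ((fun q => f9 (f8 q)) q) ((fun q => f8 (f8 (f8 (f8 (f9 (q)))))) q)) = true := by decide +kernel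

theorem chk_yx_46 : allR 655500 14250 (fun q => Nat.beq ((fun q => f9 (f8 q)) q) ((fun q => f8 (f8 (f8 (f8 (f9 (q)))))) q)) = true := by decide +kernel

theorem chk_yx_47 : allR 669750 14250 (fun q => Nat.beq ((fun q => f9 (f8 q)) q) ((fun q => f8 (f8 (f8 (f8 (f9 (q)))))) q)) = true := by decide +kernel

theorem chk_yx_48 : allR 684000 14250 (fun q => Nat.beq ((fun q => f9 (f8 q)) q) ((fun q => f8 (f8 (f8 (f8 (f9 (q)))))) q)) = true := by decide +kernel

theorem chk_yx_49 : allR 698250 14250 (fun q => Nat.beq ((fun q => f9 (f8 q)) q) ((fun q => f8 (f8 (f8 (f8 (f9 (q)))))) q)) = true := by decide +kernel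


end Cfsg.Agent.HNOut
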