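import Cfsg.Agent.Lib.Lead.HNOut.D8
import Cfsg.Agent.Lib.Lead.HNOut.D9
import Cfsg.Agent.Lib.Lead.HNOut.D10

/-! # The outer automorphism group of the Harada–Norton group: the action of `y` on `x` (generated) -/

set_option autoImplicit false
set_option maxRecDepth 100000

namespace Cfsg.Agent.HNOut

open Cfsg.Agent.PF Cfsg.Agent.Lib.Helper6 Cfsg.Agent.Lib.Helper6.TC Cfsg.Agent.Lib.Helper6.NatArr
open Cfsg.Agent.PL (Acts evalF)

theorem chk_yx_50 : allR 712500 14250 (fun q => Nat.beq ((fun q => f9 (f8 q)) q) ((fun q => f8 (f8 (f8 (f8 (f9 (q)))))) q)) = true := by decide +kernel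

theorem chk_yx_51 : allR 726750 14250 (fun q => Nat.beq ((fun q => f9 (f8 q)) q) ((fun q => f8 (f8 (f8 (f8 (f9 (q)))))) q)) = true := by decide +kernel

theorem chk_yx_52 : allR 741000 14250 (fun q => Nat.beq ((fun q => f9 (f8 q)) q) ((fun q => f8 (f8 (f8 (f8 (f9 (q)))))) q)) = true := by decide +kernel

theorem chk_yx_53 : allR 755250 14250 (fun q => Nat.beq ((fun q => f9 (f8 q)) q) ((fun q => f8 (f8 (f8 (f8 (f9 (q)))))) q)) = true := by decide +kernel

theorem chk_yx_54 : allR 769500 14250 (fun q => Nat.beq ((fun q => f9 (f8 q)) q) ((fun q => f8 (f8 (f8 (f8 (f9 (q)))))) q)) = true := by decide +kernel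

theorem chk_yx_55 : allR 783750 14250 (fun q => Nat.beq ((fun q => f9 (f8 q)) q) ((fun q => f8 (f8 (f8 (f8 (f9 (q)))))) q)) = true := by decide +kernel

theorem chk_yx_56 : allR 798000 14250 (fun q => Nat.beq ((fun q => f9 (f8 q)) q) ((fun q => f8 (f8 (f8 (f8 (f9 (q)))))) q)) = true := by decide +kernel

theorem chk_yx_57 : allR 812250 14250 (fun q => Nat.beq ((fun q => f9 (f8 q)) q) ((fun q => f8 (f8 (f8 (f8 (f9 (q)))))) q)) = true := by decide +kernel

theorem chk_yx_58 : allR 826500 14250 (fun q => Nat.beq ((fun q => f9 (f8 q)) q) ((fun q => f8 (f8 (f8 (f8 (f9 (q)))))) q)) = true := by decide +kernel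

theorem chk_yx_59 : allR 840750 14250 (fun q => Nat.beq ((fun q => f9 (f8 q)) q) ((fun q => f8 (f8 (f8 (f8 (f9 (q)))))) q)) = true := by decide +kernel

theorem chk_yx_60 : allR 855000 14250 (fun q => Nat.beq ((fun q => f9 (f8 q)) q) ((fun q => f8 (f8 (f8 (f8 (f9 (q)))))) q)) = true := by decide +kernel

theorem chk_yx_61 : allR 869250 14250 (fun q => Nat.beq ((fun q => f9 (f8 q)) q) ((fun q => f8 (f8 (f8 (f8 (f9 (q)))))) q)) = true := by decide +kernel

theorem chk_yx_62 : allR 883500 14250 (fun q => Nat.beq ((fun q => f9 (f8 q)) q) ((fun q => f8 (f8 (f8 (f8 (f9 (q)))))) q)) = true := by decide +kernel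

theorem chk_yx_63 : allR 897750 14250 (fun q => Nat.beq ((fun q => f9 (f8 q)) q) ((fun q => f8 (f8 (f8 (f8 (f9 (q)))))) q)) = true := by decide +kernel

theorem chk_yx_64 : allR 912000 14250 (fun q => Nat.beq ((fun q => f9 (f8 q)) q) ((fun q => f8 (f8 (f8 (f8 (f9 (q)))))) q)) = true := by decide +kernel

theorem chk_yx_65 : allR 926250 14250 (fun q => Nat.beq ((fun q => f9 (f8 q)) q) ((fun q => f8 (f8 (f8 (f8 (f9 (q)))))) q)) = true := by decide +kernel

theorem chk_yx_66 : allR 940500 14250 (fun q => Nat.beq ((fun q => f9 (f8 q)) q) ((fun q => f8 (f8 (f8 (f8 (f9 (q)))))) q)) = true := by decide +kernel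

theorem chk_yx_67 : allR 954750 14250 (fun q => Nat.beq ((fun q => f9 (f8 q)) q) ((fun q => f8 (f8 (f8 (f8 (f9 (q)))))) q)) = true := by decide +kernel

theorem chk_yx_68 : allR 969000 14250 (fun q => Nat.beq ((fun q => f9 (f8 q)) q) ((fun q => f8 (f8 (f8 (f8 (f9 (q)))))) q)) = true := by decide +kernel

theorem chk_yx_69 : allR 983250 14250 (fun q => Nat.beq ((fun q => f9 (f8 q)) q) ((fun q => f8 (f8 (f8 (f8 (f9 (q)))))) q)) = true := by decide +kernel

theorem chk_yx_70 : allR 997500 14250 (fun q => Nat.beq ((fun q => f9 (f8 q)) q) ((fun q => f8 (f8 (f8 (f8 (f9 (q)))))) q)) = true := by decide +kernel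

theorem chk_yx_71 : allR 1011750 14250 (fun q => Nat.beq ((fun q => f9 (f8 q)) q) ((fun q => f8 (f8 (f8 (f8 (f9 (q)))))) q)) = true := by decide +kernel

theorem chk_yx_72 : allR 1026000 14250 (fun q => Nat.beq ((fun q => f9 (f8 q)) q) ((fun q => f8 (f8 (f8 (f8 (f9 (q)))))) q)) = true := by decide +kernel

theorem chk_yx_73 : allR 1040250 14250 (fun q => Nat.beq ((fun q => f9 (f8 q)) q) ((fun q => f8 (f8 (f8 (f8 (f9 (q)))))) q)) = true := by decide +kernel

theorem chk_yx_74 : allR 1054500 14250 (fun q => Nat.beq ((fun q => f9 (f8 q)) q) ((fun q => f8 (f8 (f8 (f8 (f9 (q)))))) q)) = true := by decide +kernel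


end Cfsg.Agent.HNOut
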