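import Cfsg.Agent.Lib.Lead.HNOut.ChkXx0
import Cfsg.Agent.Lib.Lead.HNOut.ChkXx1
import Cfsg.Agent.Lib.Lead.HNOut.ChkXx2
import Cfsg.Agent.Lib.Lead.HNOut.ChkXx3
import Cfsg.Agent.Lib.Lead.HNOut.ChkXx4
import Cfsg.Agent.Lib.Lead.HNOut.ChkXx5
import Cfsg.Agent.Lib.Lead.HNOut.ChkXx6
import Cfsg.Agent.Lib.Lead.HNOut.ChkXx7
import Cfsg.Agent.Lib.Lead.HNOut.ChkXx8
import Cfsg.Agent.Lib.Lead.HNOut.ChkXx9
import Cfsg.Agent.Lib.Lead.HNOut.ChkXx10
import Cfsg.Agent.Lib.Lead.HNOut.ChkXx11
import Cfsg.Agent.Lib.Lead.HNOut.ChkXx12
import Cfsg.Agent.Lib.Lead.HNOut.ChkYXx0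
import Cfsg.Agent.Lib.Lead.HNOut.ChkYXx1
import Cfsg.Agent.Lib.Lead.HNOut.ChkYXx2
import Cfsg.Agent.Lib.Lead.HNOut.ChkYXx3
import Cfsg.Agent.Lib.Lead.HNOut.ChkYXx4
import Cfsg.Agent.Lib.Lead.HNOut.ChkWYx0
import Cfsg.Agent.Lib.Lead.HNOut.ChkWYx1
import Cfsg.Agent.Lib.Lead.HNOut.ChkWYx2
import Cfsg.Agent.Lib.Lead.HNOut.ChkWYx3
import Cfsg.Agent.Lib.Lead.HNOut.ChkWYx4
import Cfsg.Agent.Lib.Lead.HNOut.ChkWYx5
import Cfsg.Agent.Lib.Lead.HNOut.ChkWYx6

/-! # The outer automorphism group of the Harada–Norton group: the relations between `x`, `y`, `w` (generated) -/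

set_option autoImplicit false
set_option maxRecDepth 100000

namespace Cfsg.Agent.HNOut

open Cfsg.Agent.PF Cfsg.Agent.Lib.Helper6 Cfsg.Agent.Lib.Helper6.TC Cfsg.Agent.Lib.Helper6.NatArr
open Cfsg.Agent.PL (Acts evalF)

theorem chk_x_grp0 : ∀ c ∈ ([(0, 4997), (4997, 4997), (9994, 4997), (14991, 4997), (19988, 4997), (24985, 4997), (29982, 4997), (34979, 4997), (39976, 4997), (44973, 4997), (49970, 4997), (54967, 4997), (59964, 4997), (64961, 4997), (69958, 4997), (74955, 4997), (79952, 4997), (84949, 4997), (89946, 4997), (94943, 4997), (99940, 4997), (104937, 4997), (109934, 4997), (114931, 4997), (119928, 4997), (124925, 4997), (129922, 4997), (134919, 4997), (139916, 4997), (144913, 4997), (149910, 4997), (154907, 4997), (159904, 4997), (164901, 4997), (169898, 4997), (174895, 4997), (179892, 4997), (184889, 4997), (189886, 4997), (194883, 4997), (199880, 4997), (204877, 4997), (209874, 4997), (214871, 4997), (219868, 4997), (224865, 4997), (229862, 4997), (234859, 4997), (239856, 4997), (244853, 4997), (249850, 4997), (254847, 4997),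 (259844, 4997), (264841, 4997), (269838, 4997), (274835, 4997), (279832, 4997), (284829, 4997), (289826, 4997), (294823, 4997), (299820, 4997), (304817, 4997), (309814, 4997), (314811, 4997), (319808, 4997), (324805, 4997), (329802, 4997), (334799, 4997), (339796, 4997), (344793, 4997), (349790, 4997), (354787, 4997), (359784, 4997), (364781, 4997), (369778, 4997), (374775, 4997), (379772, 4997), (384769, 4997), (389766, 4997), (394763, 4997), (399760, 4997), (404757, 4997), (409754, 4997), (414751, 4997), (419748, 4997), (424745, 4997), (429742, 4997), (434739, 4997), (439736, 4997), (444733, 4997), (449730, 4997), (454727, 4997), (459724, 4997), (464721, 4997), (469718, 4997), (474715, 4997), (479712, 4997), (484709, 4997), (489706, 4997), (494703, 4997), (499700, 4997), (504697, 4997), (509694, 4997), (514691, 4997), (519688, 4997), (524685, 4997), (529682, 4997), (534679, 4997), (539676, 4997), (544673, 4997), (549670, 4997), (554667, 4997), (559664, 4997), (564661, 4997), (569658, 4997), (574655, 4997), (579652, 4997), (584649, 4997),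 (589646, 4997), (594643, 4997), (599640, 4997), (604637, 4997), (609634, 4997), (614631, 4997), (619628, 4997), (624625, 4997), (629622, 4997), (634619, 4997), (639616, 4997), (644613, 4997), (649610, 4997), (654607, 4997), (659604, 4997), (664601, 4997), (669598, 4997), (674595, 4997), (679592, 4997), (684589, 4997), (689586, 4997), (694583, 4997), (699580, 4997), (704577, 4997), (709574, 4997), (714571, 4997), (719568, 4997), (724565, 4997), (729562, 4997), (734559, 4997), (739556, 4997), (744553, 4997)] : List (ℕ × ℕ)), allR c.1 c.2 (fun q => Nat.beq ((fun q => f8 (f8 (f8 (f8 (f8 (f8 (f8 (f8 (f8 (f8 (f8 (f8 (f8 (f8 (f8 (f8 (f8 (f8 (f8 (q)))))))))))))))))))) q) ((fun q => q) q)) = true :=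
  all_cons chk_x_0 (all_cons chk_x_1 (all_cons chk_x_2 (all_cons chk_x_3 (all_cons chk_x_4 (all_cons chk_x_5 (all_cons chk_x_6 (all_cons chk_x_7 (all_cons chk_x_8 (all_cons chk_x_9 (all_cons chk_x_10 (all_cons chk_x_11 (all_cons chk_x_12 (all_cons chk_x_13 (all_cons chk_x_14 (all_cons chk_x_15 (all_cons chk_x_16 (all_cons chk_x_17 (all_cons chk_x_18 (all_cons chk_x_19 (all_cons chk_x_20 (all_cons chk_x_21 (all_cons chk_x_22 (all_cons chk_x_23 (all_cons chk_x_24 (all_cons chk_x_25 (all_cons chk_x_26 (all_cons chk_x_27 (all_cons chk_x_28 (all_cons chk_x_29 (all_cons chk_x_30 (all_cons chk_x_31 (all_cons chk_x_32 (all_cons chk_x_33 (all_cons chk_x_34 (all_cons chk_x_35 (all_cons chk_x_36 (all_cons chk_x_37 (all_cons chk_x_38 (all_cons chk_x_39 (all_cons chk_x_40 (all_cons chk_x_41 (all_cons chk_x_42 (all_cons chk_x_43 (all_cons chk_x_44 (all_cons chk_x_45 (all_cons chk_x_46 (all_cons chk_x_47 (all_cons chk_x_48 (all_cons chk_x_49 (all_cons chk_x_50 (all_cons chk_x_51 (all_cons chk_x_52 (all_cons chk_x_53 (all_cons chk_x_54 (all_cons chk_x_55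 (all_cons chk_x_56 (all_cons chk_x_57 (all_cons chk_x_58 (all_cons chk_x_59 (all_cons chk_x_60 (all_cons chk_x_61 (all_cons chk_x_62 (all_cons chk_x_63 (all_cons chk_x_64 (all_cons chk_x_65 (all_cons chk_x_66 (all_cons chk_x_67 (all_cons chk_x_68 (all_cons chk_x_69 (all_cons chk_x_70 (all_cons chk_x_71 (all_cons chk_x_72 (all_cons chk_x_73 (all_cons chk_x_74 (all_cons chk_x_75 (all_cons chk_x_76 (all_cons chk_x_77 (all_cons chk_x_78 (all_cons chk_x_79 (all_cons chk_x_80 (all_cons chk_x_81 (all_cons chk_x_82 (all_cons chk_x_83 (all_cons chk_x_84 (all_cons chk_x_85 (all_cons chk_x_86 (all_cons chk_x_87 (all_cons chk_x_88 (all_cons chk_x_89 (all_cons chk_x_90 (all_cons chk_x_91 (all_cons chk_x_92 (all_cons chk_x_93 (all_cons chk_x_94 (all_cons chk_x_95 (all_cons chk_x_96 (all_cons chk_x_97 (all_cons chk_x_98 (all_cons chk_x_99 (all_cons chk_x_100 (all_cons chk_x_101 (all_cons chk_x_102 (all_cons chk_x_103 (all_cons chk_x_104 (all_cons chk_x_105 (all_cons chk_x_106 (all_cons chk_x_107 (all_cons chk_x_108 (all_cons chk_x_109 (all_cons chk_x_110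 (all_cons chk_x_111 (all_cons chk_x_112 (all_cons chk_x_113 (all_cons chk_x_114 (all_cons chk_x_115 (all_cons chk_x_116 (all_cons chk_x_117 (all_cons chk_x_118 (all_cons chk_x_119 (all_cons chk_x_120 (all_cons chk_x_121 (all_cons chk_x_122 (all_cons chk_x_123 (all_cons chk_x_124 (all_cons chk_x_125 (all_cons chk_x_126 (all_cons chk_x_127 (all_cons chk_x_128 (all_cons chk_x_129 (all_cons chk_x_130 (all_cons chk_x_131 (all_cons chk_x_132 (all_cons chk_x_133 (all_cons chk_x_134 (all_cons chk_x_135 (all_cons chk_x_136 (all_cons chk_x_137 (all_cons chk_x_138 (all_cons chk_x_139 (all_cons chk_x_140 (all_cons chk_x_141 (all_cons chk_x_142 (all_cons chk_x_143 (all_cons chk_x_144 (all_cons chk_x_145 (all_cons chk_x_146 (all_cons chk_x_147 (all_cons chk_x_148 (all_cons chk_x_149 (all_nil))))))))))))))))))))))))))))))))))))))))))))))))))))))))))))))))))))))))))))))))))))))))))))))))))))))))))))))))))))))))))))))))))))))))))))))))))))))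

theorem chk_x_grp1 : ∀ c ∈ ([(749550, 4997), (754547, 4997), (759544, 4997), (764541, 4997), (769538, 4997), (774535, 4997), (779532, 4997), (784529, 4997), (789526, 4997), (794523, 4997), (799520, 4997), (804517, 4997), (809514, 4997), (814511, 4997), (819508, 4997), (824505, 4997), (829502, 4997), (834499, 4997), (839496, 4997), (844493, 4997), (849490, 4997), (854487, 4997), (859484, 4997), (864481, 4997), (869478, 4997), (874475, 4997), (879472, 4997), (884469, 4997), (889466, 4997), (894463, 4997), (899460, 4997), (904457, 4997), (909454, 4997), (914451, 4997), (919448, 4997), (924445, 4997), (929442, 4997), (934439, 4997), (939436, 4997), (944433, 4997), (949430, 4997), (954427, 4997), (959424, 4997), (964421, 4997), (969418, 4997), (974415, 4997), (979412, 4997), (984409, 4997), (989406, 4997), (994403, 4997), (999400, 4997), (1004397, 4997), (1009394, 4997), (1014391, 4997), (1019388, 4997), (1024385, 4997), (1029382, 4997), (1034379, 4997), (1039376, 4997), (1044373, 4997), (1049370, 4997), (1054367, 4997), (1059364, 4997), (1064361,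 4997), (1069358, 4997), (1074355, 4997), (1079352, 4997), (1084349, 4997), (1089346, 4997), (1094343, 4997), (1099340, 4997), (1104337, 4997), (1109334, 4997), (1114331, 4997), (1119328, 4997), (1124325, 4997), (1129322, 4997), (1134319, 4997), (1139316, 4997), (1144313, 4997), (1149310, 4997), (1154307, 4997), (1159304, 4997), (1164301, 4997), (1169298, 4997), (1174295, 4997), (1179292, 4997), (1184289, 4997), (1189286, 4997), (1194283, 4997), (1199280, 4997), (1204277, 4997), (1209274, 4997), (1214271, 4997), (1219268, 4997), (1224265, 4997), (1229262, 4997), (1234259, 4997), (1239256, 4997), (1244253, 4997), (1249250, 4997), (1254247, 4997), (1259244, 4997), (1264241, 4997), (1269238, 4997), (1274235, 4997), (1279232, 4997), (1284229, 4997), (1289226, 4997), (1294223, 4997), (1299220, 4997), (1304217, 4997), (1309214, 4997), (1314211, 4997), (1319208, 4997), (1324205, 4997), (1329202, 4997), (1334199, 4997), (1339196, 4997), (1344193, 4997), (1349190, 4997), (1354187, 4997), (1359184, 4997), (1364181, 4997), (1369178, 4997), (1374175, 4997),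 (1379172, 4997), (1384169, 4997), (1389166, 4997), (1394163, 4997), (1399160, 4997), (1404157, 4997), (1409154, 4997), (1414151, 4997), (1419148, 4997), (1424145, 4997), (1429142, 4997), (1434139, 4997), (1439136, 4997), (1444133, 4997), (1449130, 4997), (1454127, 4997), (1459124, 4997), (1464121, 4997), (1469118, 4997), (1474115, 4997), (1479112, 4997), (1484109, 4997), (1489106, 4997), (1494103, 4997)] : List (ℕ × ℕ)), allR c.1 c.2 (fun q => Nat.beq ((fun q => f8 (f8 (f8 (f8 (f8 (f8 (f8 (f8 (f8 (f8 (f8 (f8 (f8 (f8 (f8 (f8 (f8 (f8 (f8 (q)))))))))))))))))))) q) ((fun q => q) q)) = true :=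
  all_cons chk_x_150 (all_cons chk_x_151 (all_cons chk_x_152 (all_cons chk_x_153 (all_cons chk_x_154 (all_cons chk_x_155 (all_cons chk_x_156 (all_cons chk_x_157 (all_cons chk_x_158 (all_cons chk_x_159 (all_cons chk_x_160 (all_cons chk_x_161 (all_cons chk_x_162 (all_cons chk_x_163 (all_cons chk_x_164 (all_cons chk_x_165 (all_cons chk_x_166 (all_cons chk_x_167 (all_cons chk_x_168 (all_cons chk_x_169 (all_cons chk_x_170 (all_cons chk_x_171 (all_cons chk_x_172 (all_cons chk_x_173 (all_cons chk_x_174 (all_cons chk_x_175 (all_cons chk_x_176 (all_cons chk_x_177 (all_cons chk_x_178 (all_cons chk_x_179 (all_cons chk_x_180 (all_cons chk_x_181 (all_cons chk_x_182 (all_cons chk_x_183 (all_cons chk_x_184 (all_cons chk_x_185 (all_cons chk_x_186 (all_cons chk_x_187 (all_cons chk_x_188 (all_cons chk_x_189 (all_cons chk_x_190 (all_cons chk_x_191 (all_cons chk_x_192 (all_cons chk_x_193 (all_cons chk_x_194 (all_cons chk_x_195 (all_cons chk_x_196 (all_cons chk_x_197 (all_cons chk_x_198 (all_cons chk_x_199 (all_cons chk_x_200 (all_cons chk_x_201 (all_cons chk_x_202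 (all_cons chk_x_203 (all_cons chk_x_204 (all_cons chk_x_205 (all_cons chk_x_206 (all_cons chk_x_207 (all_cons chk_x_208 (all_cons chk_x_209 (all_cons chk_x_210 (all_cons chk_x_211 (all_cons chk_x_212 (all_cons chk_x_213 (all_cons chk_x_214 (all_cons chk_x_215 (all_cons chk_x_216 (all_cons chk_x_217 (all_cons chk_x_218 (all_cons chk_x_219 (all_cons chk_x_220 (all_cons chk_x_221 (all_cons chk_x_222 (all_cons chk_x_223 (all_cons chk_x_224 (all_cons chk_x_225 (all_cons chk_x_226 (all_cons chk_x_227 (all_cons chk_x_228 (all_cons chk_x_229 (all_cons chk_x_230 (all_cons chk_x_231 (all_cons chk_x_232 (all_cons chk_x_233 (all_cons chk_x_234 (all_cons chk_x_235 (all_cons chk_x_236 (all_cons chk_x_237 (all_cons chk_x_238 (all_cons chk_x_239 (all_cons chk_x_240 (all_cons chk_x_241 (all_cons chk_x_242 (all_cons chk_x_243 (all_cons chk_x_244 (all_cons chk_x_245 (all_cons chk_x_246 (all_cons chk_x_247 (all_cons chk_x_248 (all_cons chk_x_249 (all_cons chk_x_250 (all_cons chk_x_251 (all_cons chk_x_252 (all_cons chk_x_253 (all_cons chk_x_254 (all_cons chk_x_255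 (all_cons chk_x_256 (all_cons chk_x_257 (all_cons chk_x_258 (all_cons chk_x_259 (all_cons chk_x_260 (all_cons chk_x_261 (all_cons chk_x_262 (all_cons chk_x_263 (all_cons chk_x_264 (all_cons chk_x_265 (all_cons chk_x_266 (all_cons chk_x_267 (all_cons chk_x_268 (all_cons chk_x_269 (all_cons chk_x_270 (all_cons chk_x_271 (all_cons chk_x_272 (all_cons chk_x_273 (all_cons chk_x_274 (all_cons chk_x_275 (all_cons chk_x_276 (all_cons chk_x_277 (all_cons chk_x_278 (all_cons chk_x_279 (all_cons chk_x_280 (all_cons chk_x_281 (all_cons chk_x_282 (all_cons chk_x_283 (all_cons chk_x_284 (all_cons chk_x_285 (all_cons chk_x_286 (all_cons chk_x_287 (all_cons chk_x_288 (all_cons chk_x_289 (all_cons chk_x_290 (all_cons chk_x_291 (all_cons chk_x_292 (all_cons chk_x_293 (all_cons chk_x_294 (all_cons chk_x_295 (all_cons chk_x_296 (all_cons chk_x_297 (all_cons chk_x_298 (all_cons chk_x_299 (all_nil))))))))))))))))))))))))))))))))))))))))))))))))))))))))))))))))))))))))))))))))))))))))))))))))))))))))))))))))))))))))))))))))))))))))))))))))))))))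

theorem chk_x_grp2 : ∀ c ∈ ([(1499100, 4997), (1504097, 4997), (1509094, 4997), (1514091, 4997), (1519088, 4997), (1524085, 4997), (1529082, 4997), (1534079, 4921)] : List (ℕ × ℕ)), allR c.1 c.2 (fun q => Nat.beq ((fun q => f8 (f8 (f8 (f8 (f8 (f8 (f8 (f8 (f8 (f8 (f8 (f8 (f8 (f8 (f8 (f8 (f8 (f8 (f8 (q)))))))))))))))))))) q) ((fun q => q) q)) = true :=
  all_cons chk_x_300 (all_cons chk_x_301 (all_cons chk_x_302 (all_cons chk_x_303 (all_cons chk_x_304 (all_cons chk_x_305 (all_cons chk_x_306 (all_cons chk_x_307 (all_nil))))))))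

/-- the order of `x` divides 19 -/
theorem chk_x : ∀ q < 1539000, f8^[19] q = (fun q => q) q :=
  eq_of_chunks (f := (fun q => f8 (f8 (f8 (f8 (f8 (f8 (f8 (f8 (f8 (f8 (f8 (f8 (f8 (f8 (f8 (f8 (f8 (f8 (f8 (q))))))))))))))))))))) (g := (fun q => q)) ([(0, 4997), (4997, 4997), (9994, 4997), (14991, 4997), (19988, 4997), (24985, 4997), (29982, 4997), (34979, 4997), (39976, 4997), (44973, 4997), (49970, 4997), (54967, 4997), (59964, 4997), (64961, 4997), (69958, 4997), (74955, 4997), (79952, 4997), (84949, 4997), (89946, 4997), (94943, 4997), (99940, 4997), (104937, 4997), (109934, 4997), (114931, 4997), (119928, 4997), (124925, 4997), (129922, 4997), (134919, 4997), (139916, 4997), (144913, 4997), (149910, 4997), (154907, 4997), (159904, 4997), (164901, 4997), (169898, 4997), (174895, 4997), (179892, 4997), (184889, 4997), (189886, 4997), (194883, 4997), (199880, 4997), (204877, 4997), (209874, 4997), (214871, 4997), (219868, 4997), (224865, 4997), (229862, 4997), (234859, 4997), (239856, 4997), (244853, 4997), (249850, 4997), (254847, 4997), (259844,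 4997), (264841, 4997), (269838, 4997), (274835, 4997), (279832, 4997), (284829, 4997), (289826, 4997), (294823, 4997), (299820, 4997), (304817, 4997), (309814, 4997), (314811, 4997), (319808, 4997), (324805, 4997), (329802, 4997), (334799, 4997), (339796, 4997), (344793, 4997), (349790, 4997), (354787, 4997), (359784, 4997), (364781, 4997), (369778, 4997), (374775, 4997), (379772, 4997), (384769, 4997), (389766, 4997), (394763, 4997), (399760, 4997), (404757, 4997), (409754, 4997), (414751, 4997), (419748, 4997), (424745, 4997), (429742, 4997), (434739, 4997), (439736, 4997), (444733, 4997), (449730, 4997), (454727, 4997), (459724, 4997), (464721, 4997), (469718, 4997), (474715, 4997), (479712, 4997), (484709, 4997), (489706, 4997), (494703, 4997), (499700, 4997), (504697, 4997), (509694, 4997), (514691, 4997), (519688, 4997), (524685, 4997), (529682, 4997), (534679, 4997), (539676, 4997), (544673, 4997), (549670, 4997), (554667, 4997), (559664, 4997), (564661, 4997), (569658, 4997), (574655, 4997), (579652, 4997), (584649, 4997), (589646,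 4997), (594643, 4997), (599640, 4997), (604637, 4997), (609634, 4997), (614631, 4997), (619628, 4997), (624625, 4997), (629622, 4997), (634619, 4997), (639616, 4997), (644613, 4997), (649610, 4997), (654607, 4997), (659604, 4997), (664601, 4997), (669598, 4997), (674595, 4997), (679592, 4997), (684589, 4997), (689586, 4997), (694583, 4997), (699580, 4997), (704577, 4997), (709574, 4997), (714571, 4997), (719568, 4997), (724565, 4997), (729562, 4997), (734559, 4997), (739556, 4997), (744553, 4997)] ++ [(749550, 4997), (754547, 4997), (759544, 4997), (764541, 4997), (769538, 4997), (774535, 4997), (779532, 4997), (784529, 4997), (789526, 4997), (794523, 4997), (799520, 4997), (804517, 4997), (809514, 4997), (814511, 4997), (819508, 4997), (824505, 4997), (829502, 4997), (834499, 4997), (839496, 4997), (844493, 4997), (849490, 4997), (854487, 4997), (859484, 4997), (864481, 4997), (869478, 4997), (874475, 4997), (879472, 4997), (884469, 4997), (889466, 4997), (894463, 4997), (899460, 4997), (904457, 4997), (909454, 4997), (914451, 4997), (919448,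 4997), (924445, 4997), (929442, 4997), (934439, 4997), (939436, 4997), (944433, 4997), (949430, 4997), (954427, 4997), (959424, 4997), (964421, 4997), (969418, 4997), (974415, 4997), (979412, 4997), (984409, 4997), (989406, 4997), (994403, 4997), (999400, 4997), (1004397, 4997), (1009394, 4997), (1014391, 4997), (1019388, 4997), (1024385, 4997), (1029382, 4997), (1034379, 4997), (1039376, 4997), (1044373, 4997), (1049370, 4997), (1054367, 4997), (1059364, 4997), (1064361, 4997), (1069358, 4997), (1074355, 4997), (1079352, 4997), (1084349, 4997), (1089346, 4997), (1094343, 4997), (1099340, 4997), (1104337, 4997), (1109334, 4997), (1114331, 4997), (1119328, 4997), (1124325, 4997), (1129322, 4997), (1134319, 4997), (1139316, 4997), (1144313, 4997), (1149310, 4997), (1154307, 4997), (1159304, 4997), (1164301, 4997), (1169298, 4997), (1174295, 4997), (1179292, 4997), (1184289, 4997), (1189286, 4997), (1194283, 4997), (1199280, 4997), (1204277, 4997), (1209274, 4997), (1214271, 4997), (1219268, 4997), (1224265, 4997), (1229262, 4997), (1234259,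 4997), (1239256, 4997), (1244253, 4997), (1249250, 4997), (1254247, 4997), (1259244, 4997), (1264241, 4997), (1269238, 4997), (1274235, 4997), (1279232, 4997), (1284229, 4997), (1289226, 4997), (1294223, 4997), (1299220, 4997), (1304217, 4997), (1309214, 4997), (1314211, 4997), (1319208, 4997), (1324205, 4997), (1329202, 4997), (1334199, 4997), (1339196, 4997), (1344193, 4997), (1349190, 4997), (1354187, 4997), (1359184, 4997), (1364181, 4997), (1369178, 4997), (1374175, 4997), (1379172, 4997), (1384169, 4997), (1389166, 4997), (1394163, 4997), (1399160, 4997), (1404157, 4997), (1409154, 4997), (1414151, 4997), (1419148, 4997), (1424145, 4997), (1429142, 4997), (1434139, 4997), (1439136, 4997), (1444133, 4997), (1449130, 4997), (1454127, 4997), (1459124, 4997), (1464121, 4997), (1469118, 4997), (1474115, 4997), (1479112, 4997), (1484109, 4997), (1489106, 4997), (1494103, 4997)] ++ [(1499100, 4997), (1504097, 4997), (1509094, 4997), (1514091, 4997), (1519088, 4997), (1524085, 4997), (1529082, 4997), (1534079, 4921)]) (by decide +kernel) (all_append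 (all_append (chk_x_grp0) chk_x_grp1) chk_x_grp2)

theorem chk_x1 : f8 5 ≠ 5 := by decide +kernel

theorem chk_yx_grp0 : ∀ c ∈ ([(0, 14250), (14250, 14250), (28500, 14250), (42750, 14250), (57000, 14250), (71250, 14250), (85500, 14250), (99750, 14250), (114000, 14250), (128250, 14250), (142500, 14250), (156750, 14250), (171000, 14250), (185250, 14250), (199500, 14250), (213750, 14250), (228000, 14250), (242250, 14250), (256500, 14250), (270750, 14250), (285000, 14250), (299250, 14250), (313500, 14250), (327750, 14250), (342000, 14250), (356250, 14250), (370500, 14250), (384750, 14250), (399000, 14250), (413250, 14250), (427500, 14250), (441750, 14250), (456000, 14250), (470250, 14250), (484500, 14250), (498750, 14250), (513000, 14250), (527250, 14250), (541500, 14250), (555750, 14250), (570000, 14250), (584250, 14250), (598500, 14250), (612750, 14250), (627000, 14250), (641250, 14250), (655500, 14250), (669750, 14250), (684000, 14250), (698250, 14250), (712500, 14250), (726750, 14250), (741000, 14250), (755250, 14250), (769500, 14250), (783750,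 14250), (798000, 14250), (812250, 14250), (826500, 14250), (840750, 14250), (855000, 14250), (869250, 14250), (883500, 14250), (897750, 14250), (912000, 14250), (926250, 14250), (940500, 14250), (954750, 14250), (969000, 14250), (983250, 14250), (997500, 14250), (1011750, 14250), (1026000, 14250), (1040250, 14250), (1054500, 14250), (1068750, 14250), (1083000, 14250), (1097250, 14250), (1111500, 14250), (1125750, 14250), (1140000, 14250), (1154250, 14250), (1168500, 14250), (1182750, 14250), (1197000, 14250), (1211250, 14250), (1225500, 14250), (1239750, 14250), (1254000, 14250), (1268250, 14250), (1282500, 14250), (1296750, 14250), (1311000, 14250), (1325250, 14250), (1339500, 14250), (1353750, 14250), (1368000, 14250), (1382250, 14250), (1396500, 14250), (1410750, 14250), (1425000, 14250), (1439250, 14250), (1453500, 14250), (1467750, 14250), (1482000, 14250), (1496250, 14250), (1510500, 14250), (1524750, 14250)] : List (ℕ × ℕ)), allR c.1 c.2 (fun q => Nat.beq ((fun q => f9 (f8 q)) q) ((fun q => f8 (f8 (f8 (f8 (f9 (q)))))) q)) = true :=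
  all_cons chk_yx_0 (all_cons chk_yx_1 (all_cons chk_yx_2 (all_cons chk_yx_3 (all_cons chk_yx_4 (all_cons chk_yx_5 (all_cons chk_yx_6 (all_cons chk_yx_7 (all_cons chk_yx_8 (all_cons chk_yx_9 (all_cons chk_yx_10 (all_cons chk_yx_11 (all_cons chk_yx_12 (all_cons chk_yx_13 (all_cons chk_yx_14 (all_cons chk_yx_15 (all_cons chk_yx_16 (all_cons chk_yx_17 (all_cons chk_yx_18 (all_cons chk_yx_19 (all_cons chk_yx_20 (all_cons chk_yx_21 (all_cons chk_yx_22 (all_cons chk_yx_23 (all_cons chk_yx_24 (all_cons chk_yx_25 (all_cons chk_yx_26 (all_cons chk_yx_27 (all_cons chk_yx_28 (all_cons chk_yx_29 (all_cons chk_yx_30 (all_cons chk_yx_31 (all_cons chk_yx_32 (all_cons chk_yx_33 (all_cons chk_yx_34 (all_cons chk_yx_35 (all_cons chk_yx_36 (all_cons chk_yx_37 (all_cons chk_yx_38 (all_cons chk_yx_39 (all_cons chk_yx_40 (all_cons chk_yx_41 (all_cons chk_yx_42 (all_cons chk_yx_43 (all_cons chk_yx_44 (all_cons chk_yx_45 (all_cons chk_yx_46 (all_cons chk_yx_47 (all_cons chk_yx_48 (all_cons chk_yx_49 (all_cons chk_yx_50 (all_cons chk_yx_51 (all_cons chk_yx_52 (all_cons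 chk_yx_53 (all_cons chk_yx_54 (all_cons chk_yx_55 (all_cons chk_yx_56 (all_cons chk_yx_57 (all_cons chk_yx_58 (all_cons chk_yx_59 (all_cons chk_yx_60 (all_cons chk_yx_61 (all_cons chk_yx_62 (all_cons chk_yx_63 (all_cons chk_yx_64 (all_cons chk_yx_65 (all_cons chk_yx_66 (all_cons chk_yx_67 (all_cons chk_yx_68 (all_cons chk_yx_69 (all_cons chk_yx_70 (all_cons chk_yx_71 (all_cons chk_yx_72 (all_cons chk_yx_73 (all_cons chk_yx_74 (all_cons chk_yx_75 (all_cons chk_yx_76 (all_cons chk_yx_77 (all_cons chk_yx_78 (all_cons chk_yx_79 (all_cons chk_yx_80 (all_cons chk_yx_81 (all_cons chk_yx_82 (all_cons chk_yx_83 (all_cons chk_yx_84 (all_cons chk_yx_85 (all_cons chk_yx_86 (all_cons chk_yx_87 (all_cons chk_yx_88 (all_cons chk_yx_89 (all_cons chk_yx_90 (all_cons chk_yx_91 (all_cons chk_yx_92 (all_cons chk_yx_93 (all_cons chk_yx_94 (all_cons chk_yx_95 (all_cons chk_yx_96 (all_cons chk_yx_97 (all_cons chk_yx_98 (all_cons chk_yx_99 (all_cons chk_yx_100 (all_cons chk_yx_101 (all_cons chk_yx_102 (all_cons chk_yx_103 (all_cons chk_yx_104 (all_cons chk_yx_105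 (all_cons chk_yx_106 (all_cons chk_yx_107 (all_nil))))))))))))))))))))))))))))))))))))))))))))))))))))))))))))))))))))))))))))))))))))))))))))))))))))))))))))

/-- `y x = x ^ 4 y` -/
theorem chk_yx : ∀ q < 1539000, (fun q => f9 (f8 q)) q = (fun q => f8^[4] (f9 q)) q :=
  eq_of_chunks (f := (fun q => f9 (f8 q))) (g := (fun q => f8 (f8 (f8 (f8 (f9 (q))))))) ([(0, 14250), (14250, 14250), (28500, 14250), (42750, 14250), (57000, 14250), (71250, 14250), (85500, 14250), (99750, 14250), (114000, 14250), (128250, 14250), (142500, 14250), (156750, 14250), (171000, 14250), (185250, 14250), (199500, 14250), (213750, 14250), (228000, 14250), (242250, 14250), (256500, 14250), (270750, 14250), (285000, 14250), (299250, 14250), (313500, 14250), (327750, 14250), (342000, 14250), (356250, 14250), (370500, 14250), (384750, 14250), (399000, 14250), (413250, 14250), (427500, 14250), (441750, 14250), (456000, 14250), (470250, 14250), (484500, 14250), (498750, 14250), (513000, 14250), (527250, 14250), (541500, 14250), (555750, 14250), (570000, 14250), (584250, 14250),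 (598500, 14250), (612750, 14250), (627000, 14250), (641250, 14250), (655500, 14250), (669750, 14250), (684000, 14250), (698250, 14250), (712500, 14250), (726750, 14250), (741000, 14250), (755250, 14250), (769500, 14250), (783750, 14250), (798000, 14250), (812250, 14250), (826500, 14250), (840750, 14250), (855000, 14250), (869250, 14250), (883500, 14250), (897750, 14250), (912000, 14250), (926250, 14250), (940500, 14250), (954750, 14250), (969000, 14250), (983250, 14250), (997500, 14250), (1011750, 14250), (1026000, 14250), (1040250, 14250), (1054500, 14250), (1068750, 14250), (1083000, 14250), (1097250, 14250), (1111500, 14250), (1125750, 14250), (1140000, 14250), (1154250, 14250), (1168500, 14250), (1182750, 14250), (1197000, 14250), (1211250, 14250), (1225500, 14250), (1239750, 14250), (1254000, 14250), (1268250, 14250), (1282500, 14250), (1296750, 14250), (1311000, 14250), (1325250, 14250), (1339500, 14250), (1353750, 14250), (1368000, 14250), (1382250, 14250), (1396500, 14250), (1410750, 14250), (1425000, 14250), (1439250, 14250), (1453500,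 14250), (1467750, 14250), (1482000, 14250), (1496250, 14250), (1510500, 14250), (1524750, 14250)]) (by decide +kernel) (chk_yx_grp0)

theorem chk_wy_grp0 : ∀ c ∈ ([(0, 9053), (9053, 9053), (18106, 9053), (27159, 9053), (36212, 9053), (45265, 9053), (54318, 9053), (63371, 9053), (72424, 9053), (81477, 9053), (90530, 9053), (99583, 9053), (108636, 9053), (117689, 9053), (126742, 9053), (135795, 9053), (144848, 9053), (153901, 9053), (162954, 9053), (172007, 9053), (181060, 9053), (190113, 9053), (199166, 9053), (208219, 9053), (217272, 9053), (226325, 9053), (235378, 9053), (244431, 9053), (253484, 9053), (262537, 9053), (271590, 9053), (280643, 9053), (289696, 9053), (298749, 9053), (307802, 9053), (316855, 9053), (325908, 9053), (334961, 9053), (344014, 9053), (353067, 9053), (362120, 9053), (371173, 9053), (380226, 9053), (389279, 9053), (398332, 9053), (407385, 9053), (416438, 9053), (425491, 9053), (434544, 9053), (443597, 9053), (452650, 9053), (461703, 9053), (470756, 9053), (479809, 9053), (488862, 9053), (497915, 9053), (506968, 9053),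 (516021, 9053), (525074, 9053), (534127, 9053), (543180, 9053), (552233, 9053), (561286, 9053), (570339, 9053), (579392, 9053), (588445, 9053), (597498, 9053), (606551, 9053), (615604, 9053), (624657, 9053), (633710, 9053), (642763, 9053), (651816, 9053), (660869, 9053), (669922, 9053), (678975, 9053), (688028, 9053), (697081, 9053), (706134, 9053), (715187, 9053), (724240, 9053), (733293, 9053), (742346, 9053), (751399, 9053), (760452, 9053), (769505, 9053), (778558, 9053), (787611, 9053), (796664, 9053), (805717, 9053), (814770, 9053), (823823, 9053), (832876, 9053), (841929, 9053), (850982, 9053), (860035, 9053), (869088, 9053), (878141, 9053), (887194, 9053), (896247, 9053), (905300, 9053), (914353, 9053), (923406, 9053), (932459, 9053), (941512, 9053), (950565, 9053), (959618, 9053), (968671, 9053), (977724, 9053), (986777, 9053), (995830, 9053), (1004883, 9053), (1013936, 9053), (1022989, 9053), (1032042, 9053), (1041095, 9053), (1050148, 9053), (1059201, 9053), (1068254, 9053), (1077307, 9053), (1086360, 9053), (1095413, 9053), (1104466,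 9053), (1113519, 9053), (1122572, 9053), (1131625, 9053), (1140678, 9053), (1149731, 9053), (1158784, 9053), (1167837, 9053), (1176890, 9053), (1185943, 9053), (1194996, 9053), (1204049, 9053), (1213102, 9053), (1222155, 9053), (1231208, 9053), (1240261, 9053), (1249314, 9053), (1258367, 9053), (1267420, 9053), (1276473, 9053), (1285526, 9053), (1294579, 9053), (1303632, 9053), (1312685, 9053), (1321738, 9053), (1330791, 9053), (1339844, 9053), (1348897, 9053)] : List (ℕ × ℕ)), allR c.1 c.2 (fun q => Nat.beq ((fun q => f10 (f9 q)) q) ((fun q => f9 (f9 (f9 (f9 (f9 (f9 (f9 (f9 (f10 (q)))))))))) q)) = true :=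
  all_cons chk_wy_0 (all_cons chk_wy_1 (all_cons chk_wy_2 (all_cons chk_wy_3 (all_cons chk_wy_4 (all_cons chk_wy_5 (all_cons chk_wy_6 (all_cons chk_wy_7 (all_cons chk_wy_8 (all_cons chk_wy_9 (all_cons chk_wy_10 (all_cons chk_wy_11 (all_cons chk_wy_12 (all_cons chk_wy_13 (all_cons chk_wy_14 (all_cons chk_wy_15 (all_cons chk_wy_16 (all_cons chk_wy_17 (all_cons chk_wy_18 (all_cons chk_wy_19 (all_cons chk_wy_20 (all_cons chk_wy_21 (all_cons chk_wy_22 (all_cons chk_wy_23 (all_cons chk_wy_24 (all_cons chk_wy_25 (all_cons chk_wy_26 (all_cons chk_wy_27 (all_cons chk_wy_28 (all_cons chk_wy_29 (all_cons chk_wy_30 (all_cons chk_wy_31 (all_cons chk_wy_32 (all_cons chk_wy_33 (all_cons chk_wy_34 (all_cons chk_wy_35 (all_cons chk_wy_36 (all_cons chk_wy_37 (all_cons chk_wy_38 (all_cons chk_wy_39 (all_cons chk_wy_40 (all_cons chk_wy_41 (all_cons chk_wy_42 (all_cons chk_wy_43 (all_cons chk_wy_44 (all_cons chk_wy_45 (all_cons chk_wy_46 (all_cons chk_wy_47 (all_cons chk_wy_48 (all_cons chk_wy_49 (all_cons chk_wy_50 (all_cons chk_wy_51 (all_cons chk_wy_52 (all_cons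 chk_wy_53 (all_cons chk_wy_54 (all_cons chk_wy_55 (all_cons chk_wy_56 (all_cons chk_wy_57 (all_cons chk_wy_58 (all_cons chk_wy_59 (all_cons chk_wy_60 (all_cons chk_wy_61 (all_cons chk_wy_62 (all_cons chk_wy_63 (all_cons chk_wy_64 (all_cons chk_wy_65 (all_cons chk_wy_66 (all_cons chk_wy_67 (all_cons chk_wy_68 (all_cons chk_wy_69 (all_cons chk_wy_70 (all_cons chk_wy_71 (all_cons chk_wy_72 (all_cons chk_wy_73 (all_cons chk_wy_74 (all_cons chk_wy_75 (all_cons chk_wy_76 (all_cons chk_wy_77 (all_cons chk_wy_78 (all_cons chk_wy_79 (all_cons chk_wy_80 (all_cons chk_wy_81 (all_cons chk_wy_82 (all_cons chk_wy_83 (all_cons chk_wy_84 (all_cons chk_wy_85 (all_cons chk_wy_86 (all_cons chk_wy_87 (all_cons chk_wy_88 (all_cons chk_wy_89 (all_cons chk_wy_90 (all_cons chk_wy_91 (all_cons chk_wy_92 (all_cons chk_wy_93 (all_cons chk_wy_94 (all_cons chk_wy_95 (all_cons chk_wy_96 (all_cons chk_wy_97 (all_cons chk_wy_98 (all_cons chk_wy_99 (all_cons chk_wy_100 (all_cons chk_wy_101 (all_cons chk_wy_102 (all_cons chk_wy_103 (all_cons chk_wy_104 (all_cons chk_wy_105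 (all_cons chk_wy_106 (all_cons chk_wy_107 (all_cons chk_wy_108 (all_cons chk_wy_109 (all_cons chk_wy_110 (all_cons chk_wy_111 (all_cons chk_wy_112 (all_cons chk_wy_113 (all_cons chk_wy_114 (all_cons chk_wy_115 (all_cons chk_wy_116 (all_cons chk_wy_117 (all_cons chk_wy_118 (all_cons chk_wy_119 (all_cons chk_wy_120 (all_cons chk_wy_121 (all_cons chk_wy_122 (all_cons chk_wy_123 (all_cons chk_wy_124 (all_cons chk_wy_125 (all_cons chk_wy_126 (all_cons chk_wy_127 (all_cons chk_wy_128 (all_cons chk_wy_129 (all_cons chk_wy_130 (all_cons chk_wy_131 (all_cons chk_wy_132 (all_cons chk_wy_133 (all_cons chk_wy_134 (all_cons chk_wy_135 (all_cons chk_wy_136 (all_cons chk_wy_137 (all_cons chk_wy_138 (all_cons chk_wy_139 (all_cons chk_wy_140 (all_cons chk_wy_141 (all_cons chk_wy_142 (all_cons chk_wy_143 (all_cons chk_wy_144 (all_cons chk_wy_145 (all_cons chk_wy_146 (all_cons chk_wy_147 (all_cons chk_wy_148 (all_cons chk_wy_149 (all_nil))))))))))))))))))))))))))))))))))))))))))))))))))))))))))))))))))))))))))))))))))))))))))))))))))))))))))))))))))))))))))))))))))))))))))))))))))))))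

theorem chk_wy_grp1 : ∀ c ∈ ([(1357950, 9053), (1367003, 9053), (1376056, 9053), (1385109, 9053), (1394162, 9053), (1403215, 9053), (1412268, 9053), (1421321, 9053), (1430374, 9053), (1439427, 9053), (1448480, 9053), (1457533, 9053), (1466586, 9053), (1475639, 9053), (1484692, 9053), (1493745, 9053), (1502798, 9053), (1511851, 9053), (1520904, 9053), (1529957, 9043)] : List (ℕ × ℕ)), allR c.1 c.2 (fun q => Nat.beq ((fun q => f10 (f9 q)) q) ((fun q => f9 (f9 (f9 (f9 (f9 (f9 (f9 (f9 (f10 (q)))))))))) q)) = true :=
  all_cons chk_wy_150 (all_cons chk_wy_151 (all_cons chk_wy_152 (all_cons chk_wy_153 (all_cons chk_wy_154 (all_cons chk_wy_155 (all_cons chk_wy_156 (all_cons chk_wy_157 (all_cons chk_wy_158 (all_cons chk_wy_159 (all_cons chk_wy_160 (all_cons chk_wy_161 (all_cons chk_wy_162 (all_cons chk_wy_163 (all_cons chk_wy_164 (all_cons chk_wy_165 (all_cons chk_wy_166 (all_cons chk_wy_167 (all_cons chk_wy_168 (all_cons chk_wy_169 (all_nil))))))))))))))))))))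

/-- `w y = y ^ 8 w` -/
theorem chk_wy : ∀ q < 1539000, (fun q => f10 (f9 q)) q = (fun q => f9^[8] (f10 q)) q :=
  eq_of_chunks (f := (fun q => f10 (f9 q))) (g := (fun q => f9 (f9 (f9 (f9 (f9 (f9 (f9 (f9 (f10 (q))))))))))) ([(0, 9053), (9053, 9053), (18106, 9053), (27159, 9053), (36212, 9053), (45265, 9053), (54318, 9053), (63371, 9053), (72424, 9053), (81477, 9053), (90530, 9053), (99583, 9053), (108636, 9053), (117689, 9053), (126742, 9053), (135795, 9053), (144848, 9053), (153901, 9053), (162954, 9053), (172007, 9053), (181060, 9053), (190113, 9053), (199166, 9053), (208219, 9053), (217272, 9053), (226325, 9053), (235378, 9053), (244431, 9053), (253484, 9053), (262537, 9053), (271590, 9053), (280643, 9053), (289696, 9053), (298749, 9053), (307802, 9053), (316855, 9053), (325908, 9053), (334961, 9053), (344014, 9053), (353067, 9053), (362120, 9053), (371173, 9053), (380226, 9053), (389279, 9053), (398332, 9053), (407385, 9053), (416438, 9053), (425491, 9053), (434544, 9053), (443597, 9053), (452650, 9053), (461703, 9053), (470756, 9053),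 (479809, 9053), (488862, 9053), (497915, 9053), (506968, 9053), (516021, 9053), (525074, 9053), (534127, 9053), (543180, 9053), (552233, 9053), (561286, 9053), (570339, 9053), (579392, 9053), (588445, 9053), (597498, 9053), (606551, 9053), (615604, 9053), (624657, 9053), (633710, 9053), (642763, 9053), (651816, 9053), (660869, 9053), (669922, 9053), (678975, 9053), (688028, 9053), (697081, 9053), (706134, 9053), (715187, 9053), (724240, 9053), (733293, 9053), (742346, 9053), (751399, 9053), (760452, 9053), (769505, 9053), (778558, 9053), (787611, 9053), (796664, 9053), (805717, 9053), (814770, 9053), (823823, 9053), (832876, 9053), (841929, 9053), (850982, 9053), (860035, 9053), (869088, 9053), (878141, 9053), (887194, 9053), (896247, 9053), (905300, 9053), (914353, 9053), (923406, 9053), (932459, 9053), (941512, 9053), (950565, 9053), (959618, 9053), (968671, 9053), (977724, 9053), (986777, 9053), (995830, 9053), (1004883, 9053), (1013936, 9053), (1022989, 9053), (1032042, 9053), (1041095, 9053), (1050148, 9053), (1059201, 9053), (1068254,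 9053), (1077307, 9053), (1086360, 9053), (1095413, 9053), (1104466, 9053), (1113519, 9053), (1122572, 9053), (1131625, 9053), (1140678, 9053), (1149731, 9053), (1158784, 9053), (1167837, 9053), (1176890, 9053), (1185943, 9053), (1194996, 9053), (1204049, 9053), (1213102, 9053), (1222155, 9053), (1231208, 9053), (1240261, 9053), (1249314, 9053), (1258367, 9053), (1267420, 9053), (1276473, 9053), (1285526, 9053), (1294579, 9053), (1303632, 9053), (1312685, 9053), (1321738, 9053), (1330791, 9053), (1339844, 9053), (1348897, 9053)] ++ [(1357950, 9053), (1367003, 9053), (1376056, 9053), (1385109, 9053), (1394162, 9053), (1403215, 9053), (1412268, 9053), (1421321, 9053), (1430374, 9053), (1439427, 9053), (1448480, 9053), (1457533, 9053), (1466586, 9053), (1475639, 9053), (1484692, 9053), (1493745, 9053), (1502798, 9053), (1511851, 9053), (1520904, 9053), (1529957, 9043)]) (by decide +kernel) (all_append (chk_wy_grp0) chk_wy_grp1)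

end Cfsg.Agent.HNOut
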