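import Cfsg.Agent.Lib.Lead.HNOut.D8
import Cfsg.Agent.Lib.Lead.HNOut.D9
import Cfsg.Agent.Lib.Lead.HNOut.D10

/-! # The outer automorphism group of the Harada–Norton group: the order of `x` (generated) -/

set_option autoImplicit false
set_option maxRecDepth 100000

namespace Cfsg.Agent.HNOut

open Cfsg.Agent.PF Cfsg.Agent.Lib.Helper6 Cfsg.Agent.Lib.Helper6.TC Cfsg.Agent.Lib.Helper6.NatArr
open Cfsg.Agent.PL (Acts evalF)

theorem chk_x_0 : allR 0 4997 (fun q => Nat.beq ((fun q => f8 (f8 (f8 (f8 (f8 (f8 (f8 (f8 (f8 (f8 (f8 (f8 (f8 (f8 (f8 (f8 (f8 (f8 (f8 (q)))))))))))))))))))) q) ((fun q => q) q)) = true := by decide +kernel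

theorem chk_x_1 : allR 4997 4997 (fun q => Nat.beq ((fun q => f8 (f8 (f8 (f8 (f8 (f8 (f8 (f8 (f8 (f8 (f8 (f8 (f8 (f8 (f8 (f8 (f8 (f8 (f8 (q)))))))))))))))))))) q) ((fun q => q) q)) = true := by decide +kernel

theorem chk_x_2 : allR 9994 4997 (fun q => Nat.beq ((fun q => f8 (f8 (f8 (f8 (f8 (f8 (f8 (f8 (f8 (f8 (f8 (f8 (f8 (f8 (f8 (f8 (f8 (f8 (f8 (q)))))))))))))))))))) q) ((fun q => q) q)) = true := by decide +kernel

theorem chk_x_3 : allR 14991 4997 (fun q => Nat.beq ((fun q => f8 (f8 (f8 (f8 (f8 (f8 (f8 (f8 (f8 (f8 (f8 (f8 (f8 (f8 (f8 (f8 (f8 (f8 (f8 (q)))))))))))))))))))) q) ((fun q => q) q)) = true := by decide +kernel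

theorem chk_x_4 : allR 19988 4997 (fun q => Nat.beq ((fun q => f8 (f8 (f8 (f8 (f8 (f8 (f8 (f8 (f8 (f8 (f8 (f8 (f8 (f8 (f8 (f8 (f8 (f8 (f8 (q)))))))))))))))))))) q) ((fun q => q) q)) = true := by decide +kernel

theorem chk_x_5 : allR 24985 4997 (fun q => Nat.beq ((fun q => f8 (f8 (f8 (f8 (f8 (f8 (f8 (f8 (f8 (f8 (f8 (f8 (f8 (f8 (f8 (f8 (f8 (f8 (f8 (q)))))))))))))))))))) q) ((fun q => q) q)) = true := by decide +kernel

theorem chk_x_6 : allR 29982 4997 (fun q => Nat.beq ((fun q => f8 (f8 (f8 (f8 (f8 (f8 (f8 (f8 (f8 (f8 (f8 (f8 (f8 (f8 (f8 (f8 (f8 (f8 (f8 (q)))))))))))))))))))) q) ((fun q => q) q)) = true := by decide +kernel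

theorem chk_x_7 : allR 34979 4997 (fun q => Nat.beq ((fun q => f8 (f8 (f8 (f8 (f8 (f8 (f8 (f8 (f8 (f8 (f8 (f8 (f8 (f8 (f8 (f8 (f8 (f8 (f8 (q)))))))))))))))))))) q) ((fun q => q) q)) = true := by decide +kernel

theorem chk_x_8 : allR 39976 4997 (fun q => Nat.beq ((fun q => f8 (f8 (f8 (f8 (f8 (f8 (f8 (f8 (f8 (f8 (f8 (f8 (f8 (f8 (f8 (f8 (f8 (f8 (f8 (q)))))))))))))))))))) q) ((fun q => q) q)) = true := by decide +kernel

theorem chk_x_9 : allR 44973 4997 (fun q => Nat.beq ((fun q => f8 (f8 (f8 (f8 (f8 (f8 (f8 (f8 (f8 (f8 (f8 (f8 (f8 (f8 (f8 (f8 (f8 (f8 (f8 (q)))))))))))))))))))) q) ((fun q => q) q)) = true := by decide +kernel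

theorem chk_x_10 : allR 49970 4997 (fun q => Nat.beq ((fun q => f8 (f8 (f8 (f8 (f8 (f8 (f8 (f8 (f8 (f8 (f8 (f8 (f8 (f8 (f8 (f8 (f8 (f8 (f8 (q)))))))))))))))))))) q) ((fun q => q) q)) = true := by decide +kernel

theorem chk_x_11 : allR 54967 4997 (fun q => Nat.beq ((fun q => f8 (f8 (f8 (f8 (f8 (f8 (f8 (f8 (f8 (f8 (f8 (f8 (f8 (f8 (f8 (f8 (f8 (f8 (f8 (q)))))))))))))))))))) q) ((fun q => q) q)) = true := by decide +kernel

theorem chk_x_12 : allR 59964 4997 (fun q => Nat.beq ((fun q => f8 (f8 (f8 (f8 (f8 (f8 (f8 (f8 (f8 (f8 (f8 (f8 (f8 (f8 (f8 (f8 (f8 (f8 (f8 (q)))))))))))))))))))) q) ((fun q => q) q)) = true := by decide +kernel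

theorem chk_x_13 : allR 64961 4997 (fun q => Nat.beq ((fun q => f8 (f8 (f8 (f8 (f8 (f8 (f8 (f8 (f8 (f8 (f8 (f8 (f8 (f8 (f8 (f8 (f8 (f8 (f8 (q)))))))))))))))))))) q) ((fun q => q) q)) = true := by decide +kernel

theorem chk_x_14 : allR 69958 4997 (fun q => Nat.beq ((fun q => f8 (f8 (f8 (f8 (f8 (f8 (f8 (f8 (f8 (f8 (f8 (f8 (f8 (f8 (f8 (f8 (f8 (f8 (f8 (q)))))))))))))))))))) q) ((fun q => q) q)) = true := by decide +kernel

theorem chk_x_15 : allR 74955 4997 (fun q => Nat.beq ((fun q => f8 (f8 (f8 (f8 (f8 (f8 (f8 (f8 (f8 (f8 (f8 (f8 (f8 (f8 (f8 (f8 (f8 (f8 (f8 (q)))))))))))))))))))) q) ((fun q => q) q)) = true := by decide +kernel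

theorem chk_x_16 : allR 79952 4997 (fun q => Nat.beq ((fun q => f8 (f8 (f8 (f8 (f8 (f8 (f8 (f8 (f8 (f8 (f8 (f8 (f8 (f8 (f8 (f8 (f8 (f8 (f8 (q)))))))))))))))))))) q) ((fun q => q) q)) = true := by decide +kernel

theorem chk_x_17 : allR 84949 4997 (fun q => Nat.beq ((fun q => f8 (f8 (f8 (f8 (f8 (f8 (f8 (f8 (f8 (f8 (f8 (f8 (f8 (f8 (f8 (f8 (f8 (f8 (f8 (q)))))))))))))))))))) q) ((fun q => q) q)) = true := by decide +kernel

theorem chk_x_18 : allR 89946 4997 (fun q => Nat.beq ((fun q => f8 (f8 (f8 (f8 (f8 (f8 (f8 (f8 (f8 (f8 (f8 (f8 (f8 (f8 (f8 (f8 (f8 (f8 (f8 (q)))))))))))))))))))) q) ((fun q => q) q)) = true := by decide +kernel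

theorem chk_x_19 : allR 94943 4997 (fun q => Nat.beq ((fun q => f8 (f8 (f8 (f8 (f8 (f8 (f8 (f8 (f8 (f8 (f8 (f8 (f8 (f8 (f8 (f8 (f8 (f8 (f8 (q)))))))))))))))))))) q) ((fun q => q) q)) = true := by decide +kernel

theorem chk_x_20 : allR 99940 4997 (fun q => Nat.beq ((fun q => f8 (f8 (f8 (f8 (f8 (f8 (f8 (f8 (f8 (f8 (f8 (f8 (f8 (f8 (f8 (f8 (f8 (f8 (f8 (q)))))))))))))))))))) q) ((fun q => q) q)) = true := by decide +kernel

theorem chk_x_21 : allR 104937 4997 (fun q => Nat.beq ((fun q => f8 (f8 (f8 (f8 (f8 (f8 (f8 (f8 (f8 (f8 (f8 (f8 (f8 (f8 (f8 (f8 (f8 (f8 (f8 (q)))))))))))))))))))) q) ((fun q => q) q)) = true := by decide +kernel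

theorem chk_x_22 : allR 109934 4997 (fun q => Nat.beq ((fun q => f8 (f8 (f8 (f8 (f8 (f8 (f8 (f8 (f8 (f8 (f8 (f8 (f8 (f8 (f8 (f8 (f8 (f8 (f8 (q)))))))))))))))))))) q) ((fun q => q) q)) = true := by decide +kernel

theorem chk_x_23 : allR 114931 4997 (fun q => Nat.beq ((fun q => f8 (f8 (f8 (f8 (f8 (f8 (f8 (f8 (f8 (f8 (f8 (f8 (f8 (f8 (f8 (f8 (f8 (f8 (f8 (q)))))))))))))))))))) q) ((fun q => q) q)) = true := by decide +kernel

theorem chk_x_24 : allR 119928 4997 (fun q => Nat.beq ((fun q => f8 (f8 (f8 (f8 (f8 (f8 (f8 (f8 (f8 (f8 (f8 (f8 (f8 (f8 (f8 (f8 (f8 (f8 (f8 (q)))))))))))))))))))) q) ((fun q => q) q)) = true := by decide +kernel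


end Cfsg.Agent.HNOut
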