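import Cfsg.Agent.Lib.Lead.HNOut.LevA

/-! # The outer automorphism group of the Harada–Norton group: the number of points of the tree number 1 of the chain `A`, a part (generated) -/

set_option autoImplicit false
set_option maxRecDepth 100000

namespace Cfsg.Agent.HNOut

open Cfsg.Agent.PF Cfsg.Agent.Lib.Helper6 Cfsg.Agent.Lib.Helper6.TC Cfsg.Agent.Lib.Helper6.NatArr
open Cfsg.Agent.PL (Acts evalF)

theorem cntA1_25 : countR 69325 2773 (traceTo LA1.2.1 LA1.2.2 LA1.1 12) = 1396 := by decide +kernel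

theorem cntA1_26 : countR 72098 2773 (traceTo LA1.2.1 LA1.2.2 LA1.1 12) = 1517 := by decide +kernel

theorem cntA1_27 : countR 74871 2773 (traceTo LA1.2.1 LA1.2.2 LA1.1 12) = 1382 := by decide +kernel

theorem cntA1_28 : countR 77644 2773 (traceTo LA1.2.1 LA1.2.2 LA1.1 12) = 1398 := by decide +kernel

theorem cntA1_29 : countR 80417 2773 (traceTo LA1.2.1 LA1.2.2 LA1.1 12) = 1507 := by decide +kernel

theorem cntA1_30 : countR 83190 2773 (traceTo LA1.2.1 LA1.2.2 LA1.1 12) = 1430 := by decide +kernel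

theorem cntA1_31 : countR 85963 2773 (traceTo LA1.2.1 LA1.2.2 LA1.1 12) = 1430 := by decide +kernel

theorem cntA1_32 : countR 88736 2773 (traceTo LA1.2.1 LA1.2.2 LA1.1 12) = 1283 := by decide +kernel

theorem cntA1_33 : countR 91509 2773 (traceTo LA1.2.1 LA1.2.2 LA1.1 12) = 1408 := by decide +kernel

theorem cntA1_34 : countR 94282 2773 (traceTo LA1.2.1 LA1.2.2 LA1.1 12) = 1441 := by decide +kernel

theorem cntA1_35 : countR 97055 2773 (traceTo LA1.2.1 LA1.2.2 LA1.1 12) = 1474 := by decide +kernel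

theorem cntA1_36 : countR 99828 2773 (traceTo LA1.2.1 LA1.2.2 LA1.1 12) = 1429 := by decide +kernel

theorem cntA1_37 : countR 102601 2773 (traceTo LA1.2.1 LA1.2.2 LA1.1 12) = 1563 := by decide +kernel

theorem cntA1_38 : countR 105374 2773 (traceTo LA1.2.1 LA1.2.2 LA1.1 12) = 1441 := by decide +kernel

theorem cntA1_39 : countR 108147 2773 (traceTo LA1.2.1 LA1.2.2 LA1.1 12) = 1438 := by decide +kernel

theorem cntA1_40 : countR 110920 2773 (traceTo LA1.2.1 LA1.2.2 LA1.1 12) = 1360 := by decide +kernel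

theorem cntA1_41 : countR 113693 2773 (traceTo LA1.2.1 LA1.2.2 LA1.1 12) = 1433 := by decide +kernel

theorem cntA1_42 : countR 116466 2773 (traceTo LA1.2.1 LA1.2.2 LA1.1 12) = 1425 := by decide +kernel

theorem cntA1_43 : countR 119239 2773 (traceTo LA1.2.1 LA1.2.2 LA1.1 12) = 1469 := by decide +kernel

theorem cntA1_44 : countR 122012 2773 (traceTo LA1.2.1 LA1.2.2 LA1.1 12) = 1460 := by decide +kernel

theorem cntA1_45 : countR 124785 2773 (traceTo LA1.2.1 LA1.2.2 LA1.1 12) = 1403 := by decide +kernel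

theorem cntA1_46 : countR 127558 2773 (traceTo LA1.2.1 LA1.2.2 LA1.1 12) = 1334 := by decide +kernel

theorem cntA1_47 : countR 130331 2773 (traceTo LA1.2.1 LA1.2.2 LA1.1 12) = 1406 := by decide +kernel

theorem cntA1_48 : countR 133104 2773 (traceTo LA1.2.1 LA1.2.2 LA1.1 12) = 1387 := by decide +kernel

theorem cntA1_49 : countR 135877 2773 (traceTo LA1.2.1 LA1.2.2 LA1.1 12) = 1451 := by decide +kernel


end Cfsg.Agent.HNOut
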