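import Cfsg.Agent.Lib.Lead.HNOut.LevA

/-! # The outer automorphism group of the Harada–Norton group: the number of points of the tree number 1 of the chain `A`, a part (generated) -/

set_option autoImplicit false
set_option maxRecDepth 100000

namespace Cfsg.Agent.HNOut

open Cfsg.Agent.PF Cfsg.Agent.Lib.Helper6 Cfsg.Agent.Lib.Helper6.TC Cfsg.Agent.Lib.Helper6.NatArr
open Cfsg.Agent.PL (Acts evalF)

theorem cntA1_275 : countR 762575 2773 (traceTo LA1.2.1 LA1.2.2 LA1.1 12) = 1339 := by decide +kernel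

theorem cntA1_276 : countR 765348 2773 (traceTo LA1.2.1 LA1.2.2 LA1.1 12) = 1378 := by decide +kernel

theorem cntA1_277 : countR 768121 2773 (traceTo LA1.2.1 LA1.2.2 LA1.1 12) = 1322 := by decide +kernel

theorem cntA1_278 : countR 770894 2773 (traceTo LA1.2.1 LA1.2.2 LA1.1 12) = 1284 := by decide +kernel

theorem cntA1_279 : countR 773667 2773 (traceTo LA1.2.1 LA1.2.2 LA1.1 12) = 1256 := by decide +kernel

theorem cntA1_280 : countR 776440 2773 (traceTo LA1.2.1 LA1.2.2 LA1.1 12) = 1295 := by decide +kernel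

theorem cntA1_281 : countR 779213 2773 (traceTo LA1.2.1 LA1.2.2 LA1.1 12) = 1290 := by decide +kernel

theorem cntA1_282 : countR 781986 2773 (traceTo LA1.2.1 LA1.2.2 LA1.1 12) = 1327 := by decide +kernel

theorem cntA1_283 : countR 784759 2773 (traceTo LA1.2.1 LA1.2.2 LA1.1 12) = 1387 := by decide +kernel

theorem cntA1_284 : countR 787532 2773 (traceTo LA1.2.1 LA1.2.2 LA1.1 12) = 1302 := by decide +kernel

theorem cntA1_285 : countR 790305 2773 (traceTo LA1.2.1 LA1.2.2 LA1.1 12) = 1362 := by decide +kernel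

theorem cntA1_286 : countR 793078 2773 (traceTo LA1.2.1 LA1.2.2 LA1.1 12) = 1399 := by decide +kernel

theorem cntA1_287 : countR 795851 2773 (traceTo LA1.2.1 LA1.2.2 LA1.1 12) = 1356 := by decide +kernel

theorem cntA1_288 : countR 798624 2773 (traceTo LA1.2.1 LA1.2.2 LA1.1 12) = 1379 := by decide +kernel

theorem cntA1_289 : countR 801397 2773 (traceTo LA1.2.1 LA1.2.2 LA1.1 12) = 1352 := by decide +kernel

theorem cntA1_290 : countR 804170 2773 (traceTo LA1.2.1 LA1.2.2 LA1.1 12) = 1333 := by decide +kernel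

theorem cntA1_291 : countR 806943 2773 (traceTo LA1.2.1 LA1.2.2 LA1.1 12) = 1392 := by decide +kernel

theorem cntA1_292 : countR 809716 2773 (traceTo LA1.2.1 LA1.2.2 LA1.1 12) = 1288 := by decide +kernel

theorem cntA1_293 : countR 812489 2773 (traceTo LA1.2.1 LA1.2.2 LA1.1 12) = 1242 := by decide +kernel

theorem cntA1_294 : countR 815262 2773 (traceTo LA1.2.1 LA1.2.2 LA1.1 12) = 1281 := by decide +kernel

theorem cntA1_295 : countR 818035 2773 (traceTo LA1.2.1 LA1.2.2 LA1.1 12) = 1337 := by decide +kernel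

theorem cntA1_296 : countR 820808 2773 (traceTo LA1.2.1 LA1.2.2 LA1.1 12) = 1277 := by decide +kernel

theorem cntA1_297 : countR 823581 2773 (traceTo LA1.2.1 LA1.2.2 LA1.1 12) = 1304 := by decide +kernel

theorem cntA1_298 : countR 826354 2773 (traceTo LA1.2.1 LA1.2.2 LA1.1 12) = 1264 := by decide +kernel

theorem cntA1_299 : countR 829127 2773 (traceTo LA1.2.1 LA1.2.2 LA1.1 12) = 1388 := by decide +kernel


end Cfsg.Agent.HNOut
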