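import Cfsg.Agent.Lib.Lead.HNOut.LevA

/-! # The outer automorphism group of the Harada–Norton group: the number of points of the tree number 1 of the chain `A`, a part (generated) -/

set_option autoImplicit false
set_option maxRecDepth 100000

namespace Cfsg.Agent.HNOut

open Cfsg.Agent.PF Cfsg.Agent.Lib.Helper6 Cfsg.Agent.Lib.Helper6.TC Cfsg.Agent.Lib.Helper6.NatArr
open Cfsg.Agent.PL (Acts evalF)

theorem cntA1_300 : countR 831900 2773 (traceTo LA1.2.1 LA1.2.2 LA1.1 12) = 1339 := by decide +kernel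

theorem cntA1_301 : countR 834673 2773 (traceTo LA1.2.1 LA1.2.2 LA1.1 12) = 1322 := by decide +kernel

theorem cntA1_302 : countR 837446 2773 (traceTo LA1.2.1 LA1.2.2 LA1.1 12) = 1328 := by decide +kernel

theorem cntA1_303 : countR 840219 2773 (traceTo LA1.2.1 LA1.2.2 LA1.1 12) = 1349 := by decide +kernel

theorem cntA1_304 : countR 842992 2773 (traceTo LA1.2.1 LA1.2.2 LA1.1 12) = 1306 := by decide +kernel

theorem cntA1_305 : countR 845765 2773 (traceTo LA1.2.1 LA1.2.2 LA1.1 12) = 1361 := by decide +kernel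

theorem cntA1_306 : countR 848538 2773 (traceTo LA1.2.1 LA1.2.2 LA1.1 12) = 1331 := by decide +kernel

theorem cntA1_307 : countR 851311 2773 (traceTo LA1.2.1 LA1.2.2 LA1.1 12) = 1365 := by decide +kernel

theorem cntA1_308 : countR 854084 2773 (traceTo LA1.2.1 LA1.2.2 LA1.1 12) = 1262 := by decide +kernel

theorem cntA1_309 : countR 856857 2773 (traceTo LA1.2.1 LA1.2.2 LA1.1 12) = 1305 := by decide +kernel

theorem cntA1_310 : countR 859630 2773 (traceTo LA1.2.1 LA1.2.2 LA1.1 12) = 1382 := by decide +kernel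

theorem cntA1_311 : countR 862403 2773 (traceTo LA1.2.1 LA1.2.2 LA1.1 12) = 1230 := by decide +kernel

theorem cntA1_312 : countR 865176 2773 (traceTo LA1.2.1 LA1.2.2 LA1.1 12) = 1271 := by decide +kernel

theorem cntA1_313 : countR 867949 2773 (traceTo LA1.2.1 LA1.2.2 LA1.1 12) = 1260 := by decide +kernel

theorem cntA1_314 : countR 870722 2773 (traceTo LA1.2.1 LA1.2.2 LA1.1 12) = 1381 := by decide +kernel

theorem cntA1_315 : countR 873495 2773 (traceTo LA1.2.1 LA1.2.2 LA1.1 12) = 1355 := by decide +kernel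

theorem cntA1_316 : countR 876268 2773 (traceTo LA1.2.1 LA1.2.2 LA1.1 12) = 1314 := by decide +kernel

theorem cntA1_317 : countR 879041 2773 (traceTo LA1.2.1 LA1.2.2 LA1.1 12) = 1284 := by decide +kernel

theorem cntA1_318 : countR 881814 2773 (traceTo LA1.2.1 LA1.2.2 LA1.1 12) = 1372 := by decide +kernel

theorem cntA1_319 : countR 884587 2773 (traceTo LA1.2.1 LA1.2.2 LA1.1 12) = 1277 := by decide +kernel

theorem cntA1_320 : countR 887360 2773 (traceTo LA1.2.1 LA1.2.2 LA1.1 12) = 1283 := by decide +kernel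

theorem cntA1_321 : countR 890133 2773 (traceTo LA1.2.1 LA1.2.2 LA1.1 12) = 1339 := by decide +kernel

theorem cntA1_322 : countR 892906 2773 (traceTo LA1.2.1 LA1.2.2 LA1.1 12) = 1317 := by decide +kernel

theorem cntA1_323 : countR 895679 2773 (traceTo LA1.2.1 LA1.2.2 LA1.1 12) = 1364 := by decide +kernel

theorem cntA1_324 : countR 898452 2773 (traceTo LA1.2.1 LA1.2.2 LA1.1 12) = 1351 := by decide +kernel


end Cfsg.Agent.HNOut
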