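import Cfsg.Agent.Lib.Lead.HNOut.LevA

/-! # The outer automorphism group of the Harada–Norton group: the number of points of the tree number 1 of the chain `A`, a part (generated) -/

set_option autoImplicit false
set_option maxRecDepth 100000

namespace Cfsg.Agent.HNOut

open Cfsg.Agent.PF Cfsg.Agent.Lib.Helper6 Cfsg.Agent.Lib.Helper6.TC Cfsg.Agent.Lib.Helper6.NatArr
open Cfsg.Agent.PL (Acts evalF)

theorem cntA1_350 : countR 970550 2773 (traceTo LA1.2.1 LA1.2.2 LA1.1 12) = 1386 := by decide +kernel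

theorem cntA1_351 : countR 973323 2773 (traceTo LA1.2.1 LA1.2.2 LA1.1 12) = 1278 := by decide +kernel

theorem cntA1_352 : countR 976096 2773 (traceTo LA1.2.1 LA1.2.2 LA1.1 12) = 1175 := by decide +kernel

theorem cntA1_353 : countR 978869 2773 (traceTo LA1.2.1 LA1.2.2 LA1.1 12) = 1235 := by decide +kernel

theorem cntA1_354 : countR 981642 2773 (traceTo LA1.2.1 LA1.2.2 LA1.1 12) = 1266 := by decide +kernel

theorem cntA1_355 : countR 984415 2773 (traceTo LA1.2.1 LA1.2.2 LA1.1 12) = 1294 := by decide +kernel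

theorem cntA1_356 : countR 987188 2773 (traceTo LA1.2.1 LA1.2.2 LA1.1 12) = 1265 := by decide +kernel

theorem cntA1_357 : countR 989961 2773 (traceTo LA1.2.1 LA1.2.2 LA1.1 12) = 1291 := by decide +kernel

theorem cntA1_358 : countR 992734 2773 (traceTo LA1.2.1 LA1.2.2 LA1.1 12) = 1321 := by decide +kernel

theorem cntA1_359 : countR 995507 2773 (traceTo LA1.2.1 LA1.2.2 LA1.1 12) = 1298 := by decide +kernel

theorem cntA1_360 : countR 998280 2773 (traceTo LA1.2.1 LA1.2.2 LA1.1 12) = 1301 := by decide +kernel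

theorem cntA1_361 : countR 1001053 2773 (traceTo LA1.2.1 LA1.2.2 LA1.1 12) = 1271 := by decide +kernel

theorem cntA1_362 : countR 1003826 2773 (traceTo LA1.2.1 LA1.2.2 LA1.1 12) = 1323 := by decide +kernel

theorem cntA1_363 : countR 1006599 2773 (traceTo LA1.2.1 LA1.2.2 LA1.1 12) = 1282 := by decide +kernel

theorem cntA1_364 : countR 1009372 2773 (traceTo LA1.2.1 LA1.2.2 LA1.1 12) = 1301 := by decide +kernel

theorem cntA1_365 : countR 1012145 2773 (traceTo LA1.2.1 LA1.2.2 LA1.1 12) = 1321 := by decide +kernel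

theorem cntA1_366 : countR 1014918 2773 (traceTo LA1.2.1 LA1.2.2 LA1.1 12) = 1338 := by decide +kernel

theorem cntA1_367 : countR 1017691 2773 (traceTo LA1.2.1 LA1.2.2 LA1.1 12) = 1253 := by decide +kernel

theorem cntA1_368 : countR 1020464 2773 (traceTo LA1.2.1 LA1.2.2 LA1.1 12) = 1357 := by decide +kernel

theorem cntA1_369 : countR 1023237 2773 (traceTo LA1.2.1 LA1.2.2 LA1.1 12) = 1325 := by decide +kernel

theorem cntA1_370 : countR 1026010 2773 (traceTo LA1.2.1 LA1.2.2 LA1.1 12) = 1316 := by decide +kernel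

theorem cntA1_371 : countR 1028783 2773 (traceTo LA1.2.1 LA1.2.2 LA1.1 12) = 1253 := by decide +kernel

theorem cntA1_372 : countR 1031556 2773 (traceTo LA1.2.1 LA1.2.2 LA1.1 12) = 1155 := by decide +kernel

theorem cntA1_373 : countR 1034329 2773 (traceTo LA1.2.1 LA1.2.2 LA1.1 12) = 1127 := by decide +kernel

theorem cntA1_374 : countR 1037102 2773 (traceTo LA1.2.1 LA1.2.2 LA1.1 12) = 1204 := by decide +kernel


end Cfsg.Agent.HNOut
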