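import Cfsg.Agent.Lib.Lead.HNOut.LevA

/-! # The outer automorphism group of the Harada–Norton group: the number of points of the tree number 1 of the chain `A`, a part (generated) -/

set_option autoImplicit false
set_option maxRecDepth 100000

namespace Cfsg.Agent.HNOut

open Cfsg.Agent.PF Cfsg.Agent.Lib.Helper6 Cfsg.Agent.Lib.Helper6.TC Cfsg.Agent.Lib.Helper6.NatArr
open Cfsg.Agent.PL (Acts evalF)

theorem cntA1_375 : countR 1039875 2773 (traceTo LA1.2.1 LA1.2.2 LA1.1 12) = 1226 := by decide +kernel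

theorem cntA1_376 : countR 1042648 2773 (traceTo LA1.2.1 LA1.2.2 LA1.1 12) = 1267 := by decide +kernel

theorem cntA1_377 : countR 1045421 2773 (traceTo LA1.2.1 LA1.2.2 LA1.1 12) = 1229 := by decide +kernel

theorem cntA1_378 : countR 1048194 2773 (traceTo LA1.2.1 LA1.2.2 LA1.1 12) = 1335 := by decide +kernel

theorem cntA1_379 : countR 1050967 2773 (traceTo LA1.2.1 LA1.2.2 LA1.1 12) = 1306 := by decide +kernel

theorem cntA1_380 : countR 1053740 2773 (traceTo LA1.2.1 LA1.2.2 LA1.1 12) = 1350 := by decide +kernel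

theorem cntA1_381 : countR 1056513 2773 (traceTo LA1.2.1 LA1.2.2 LA1.1 12) = 1355 := by decide +kernel

theorem cntA1_382 : countR 1059286 2773 (traceTo LA1.2.1 LA1.2.2 LA1.1 12) = 1285 := by decide +kernel

theorem cntA1_383 : countR 1062059 2773 (traceTo LA1.2.1 LA1.2.2 LA1.1 12) = 1298 := by decide +kernel

theorem cntA1_384 : countR 1064832 2773 (traceTo LA1.2.1 LA1.2.2 LA1.1 12) = 1256 := by decide +kernel

theorem cntA1_385 : countR 1067605 2773 (traceTo LA1.2.1 LA1.2.2 LA1.1 12) = 1178 := by decide +kernel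

theorem cntA1_386 : countR 1070378 2773 (traceTo LA1.2.1 LA1.2.2 LA1.1 12) = 1235 := by decide +kernel

theorem cntA1_387 : countR 1073151 2773 (traceTo LA1.2.1 LA1.2.2 LA1.1 12) = 1257 := by decide +kernel

theorem cntA1_388 : countR 1075924 2773 (traceTo LA1.2.1 LA1.2.2 LA1.1 12) = 1223 := by decide +kernel

theorem cntA1_389 : countR 1078697 2773 (traceTo LA1.2.1 LA1.2.2 LA1.1 12) = 1244 := by decide +kernel

theorem cntA1_390 : countR 1081470 2773 (traceTo LA1.2.1 LA1.2.2 LA1.1 12) = 1342 := by decide +kernel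

theorem cntA1_391 : countR 1084243 2773 (traceTo LA1.2.1 LA1.2.2 LA1.1 12) = 1349 := by decide +kernel

theorem cntA1_392 : countR 1087016 2773 (traceTo LA1.2.1 LA1.2.2 LA1.1 12) = 1207 := by decide +kernel

theorem cntA1_393 : countR 1089789 2773 (traceTo LA1.2.1 LA1.2.2 LA1.1 12) = 1381 := by decide +kernel

theorem cntA1_394 : countR 1092562 2773 (traceTo LA1.2.1 LA1.2.2 LA1.1 12) = 1288 := by decide +kernel

theorem cntA1_395 : countR 1095335 2773 (traceTo LA1.2.1 LA1.2.2 LA1.1 12) = 1359 := by decide +kernel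

theorem cntA1_396 : countR 1098108 2773 (traceTo LA1.2.1 LA1.2.2 LA1.1 12) = 1304 := by decide +kernel

theorem cntA1_397 : countR 1100881 2773 (traceTo LA1.2.1 LA1.2.2 LA1.1 12) = 1277 := by decide +kernel

theorem cntA1_398 : countR 1103654 2773 (traceTo LA1.2.1 LA1.2.2 LA1.1 12) = 1371 := by decide +kernel

theorem cntA1_399 : countR 1106427 2773 (traceTo LA1.2.1 LA1.2.2 LA1.1 12) = 1345 := by decide +kernel


end Cfsg.Agent.HNOut
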