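import Cfsg.Agent.Lib.Lead.HNOut.LevA

/-! # The outer automorphism group of the Harada–Norton group: the number of points of the tree number 1 of the chain `A`, a part (generated) -/

set_option autoImplicit false
set_option maxRecDepth 100000

namespace Cfsg.Agent.HNOut

open Cfsg.Agent.PF Cfsg.Agent.Lib.Helper6 Cfsg.Agent.Lib.Helper6.TC Cfsg.Agent.Lib.Helper6.NatArr
open Cfsg.Agent.PL (Acts evalF)

theorem cntA1_400 : countR 1109200 2773 (traceTo LA1.2.1 LA1.2.2 LA1.1 12) = 1273 := by decide +kernel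

theorem cntA1_401 : countR 1111973 2773 (traceTo LA1.2.1 LA1.2.2 LA1.1 12) = 1219 := by decide +kernel

theorem cntA1_402 : countR 1114746 2773 (traceTo LA1.2.1 LA1.2.2 LA1.1 12) = 1264 := by decide +kernel

theorem cntA1_403 : countR 1117519 2773 (traceTo LA1.2.1 LA1.2.2 LA1.1 12) = 1247 := by decide +kernel

theorem cntA1_404 : countR 1120292 2773 (traceTo LA1.2.1 LA1.2.2 LA1.1 12) = 1193 := by decide +kernel

theorem cntA1_405 : countR 1123065 2773 (traceTo LA1.2.1 LA1.2.2 LA1.1 12) = 1214 := by decide +kernel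

theorem cntA1_406 : countR 1125838 2773 (traceTo LA1.2.1 LA1.2.2 LA1.1 12) = 1279 := by decide +kernel

theorem cntA1_407 : countR 1128611 2773 (traceTo LA1.2.1 LA1.2.2 LA1.1 12) = 1320 := by decide +kernel

theorem cntA1_408 : countR 1131384 2773 (traceTo LA1.2.1 LA1.2.2 LA1.1 12) = 1269 := by decide +kernel

theorem cntA1_409 : countR 1134157 2773 (traceTo LA1.2.1 LA1.2.2 LA1.1 12) = 1254 := by decide +kernel

theorem cntA1_410 : countR 1136930 2773 (traceTo LA1.2.1 LA1.2.2 LA1.1 12) = 1267 := by decide +kernel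

theorem cntA1_411 : countR 1139703 2773 (traceTo LA1.2.1 LA1.2.2 LA1.1 12) = 1271 := by decide +kernel

theorem cntA1_412 : countR 1142476 2773 (traceTo LA1.2.1 LA1.2.2 LA1.1 12) = 1322 := by decide +kernel

theorem cntA1_413 : countR 1145249 2773 (traceTo LA1.2.1 LA1.2.2 LA1.1 12) = 1362 := by decide +kernel

theorem cntA1_414 : countR 1148022 2773 (traceTo LA1.2.1 LA1.2.2 LA1.1 12) = 1305 := by decide +kernel

theorem cntA1_415 : countR 1150795 2773 (traceTo LA1.2.1 LA1.2.2 LA1.1 12) = 1303 := by decide +kernel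

theorem cntA1_416 : countR 1153568 2773 (traceTo LA1.2.1 LA1.2.2 LA1.1 12) = 1287 := by decide +kernel

theorem cntA1_417 : countR 1156341 2773 (traceTo LA1.2.1 LA1.2.2 LA1.1 12) = 1228 := by decide +kernel

theorem cntA1_418 : countR 1159114 2773 (traceTo LA1.2.1 LA1.2.2 LA1.1 12) = 1175 := by decide +kernel

theorem cntA1_419 : countR 1161887 2773 (traceTo LA1.2.1 LA1.2.2 LA1.1 12) = 1270 := by decide +kernel

theorem cntA1_420 : countR 1164660 2773 (traceTo LA1.2.1 LA1.2.2 LA1.1 12) = 1249 := by decide +kernel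

theorem cntA1_421 : countR 1167433 2773 (traceTo LA1.2.1 LA1.2.2 LA1.1 12) = 1263 := by decide +kernel

theorem cntA1_422 : countR 1170206 2773 (traceTo LA1.2.1 LA1.2.2 LA1.1 12) = 1275 := by decide +kernel

theorem cntA1_423 : countR 1172979 2773 (traceTo LA1.2.1 LA1.2.2 LA1.1 12) = 1382 := by decide +kernel

theorem cntA1_424 : countR 1175752 2773 (traceTo LA1.2.1 LA1.2.2 LA1.1 12) = 1317 := by decide +kernel


end Cfsg.Agent.HNOut
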