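import Cfsg.Agent.Lib.Lead.HNOut.LevA

/-! # The outer automorphism group of the Harada–Norton group: the number of points of the tree number 1 of the chain `A`, a part (generated) -/

set_option autoImplicit false
set_option maxRecDepth 100000

namespace Cfsg.Agent.HNOut

open Cfsg.Agent.PF Cfsg.Agent.Lib.Helper6 Cfsg.Agent.Lib.Helper6.TC Cfsg.Agent.Lib.Helper6.NatArr
open Cfsg.Agent.PL (Acts evalF)

theorem cntA1_425 : countR 1178525 2773 (traceTo LA1.2.1 LA1.2.2 LA1.1 12) = 1222 := by decide +kernel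

theorem cntA1_426 : countR 1181298 2773 (traceTo LA1.2.1 LA1.2.2 LA1.1 12) = 1301 := by decide +kernel

theorem cntA1_427 : countR 1184071 2773 (traceTo LA1.2.1 LA1.2.2 LA1.1 12) = 1304 := by decide +kernel

theorem cntA1_428 : countR 1186844 2773 (traceTo LA1.2.1 LA1.2.2 LA1.1 12) = 1286 := by decide +kernel

theorem cntA1_429 : countR 1189617 2773 (traceTo LA1.2.1 LA1.2.2 LA1.1 12) = 1295 := by decide +kernel

theorem cntA1_430 : countR 1192390 2773 (traceTo LA1.2.1 LA1.2.2 LA1.1 12) = 1246 := by decide +kernel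

theorem cntA1_431 : countR 1195163 2773 (traceTo LA1.2.1 LA1.2.2 LA1.1 12) = 1285 := by decide +kernel

theorem cntA1_432 : countR 1197936 2773 (traceTo LA1.2.1 LA1.2.2 LA1.1 12) = 1234 := by decide +kernel

theorem cntA1_433 : countR 1200709 2773 (traceTo LA1.2.1 LA1.2.2 LA1.1 12) = 1306 := by decide +kernel

theorem cntA1_434 : countR 1203482 2773 (traceTo LA1.2.1 LA1.2.2 LA1.1 12) = 1250 := by decide +kernel

theorem cntA1_435 : countR 1206255 2773 (traceTo LA1.2.1 LA1.2.2 LA1.1 12) = 1200 := by decide +kernel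

theorem cntA1_436 : countR 1209028 2773 (traceTo LA1.2.1 LA1.2.2 LA1.1 12) = 1249 := by decide +kernel

theorem cntA1_437 : countR 1211801 2773 (traceTo LA1.2.1 LA1.2.2 LA1.1 12) = 1306 := by decide +kernel

theorem cntA1_438 : countR 1214574 2773 (traceTo LA1.2.1 LA1.2.2 LA1.1 12) = 1229 := by decide +kernel

theorem cntA1_439 : countR 1217347 2773 (traceTo LA1.2.1 LA1.2.2 LA1.1 12) = 1275 := by decide +kernel

theorem cntA1_440 : countR 1220120 2773 (traceTo LA1.2.1 LA1.2.2 LA1.1 12) = 1289 := by decide +kernel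

theorem cntA1_441 : countR 1222893 2773 (traceTo LA1.2.1 LA1.2.2 LA1.1 12) = 1317 := by decide +kernel

theorem cntA1_442 : countR 1225666 2773 (traceTo LA1.2.1 LA1.2.2 LA1.1 12) = 1162 := by decide +kernel

theorem cntA1_443 : countR 1228439 2773 (traceTo LA1.2.1 LA1.2.2 LA1.1 12) = 1259 := by decide +kernel

theorem cntA1_444 : countR 1231212 2773 (traceTo LA1.2.1 LA1.2.2 LA1.1 12) = 1197 := by decide +kernel

theorem cntA1_445 : countR 1233985 2773 (traceTo LA1.2.1 LA1.2.2 LA1.1 12) = 1631 := by decide +kernel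

theorem cntA1_446 : countR 1236758 2773 (traceTo LA1.2.1 LA1.2.2 LA1.1 12) = 2032 := by decide +kernel

theorem cntA1_447 : countR 1239531 2773 (traceTo LA1.2.1 LA1.2.2 LA1.1 12) = 1980 := by decide +kernel

theorem cntA1_448 : countR 1242304 2773 (traceTo LA1.2.1 LA1.2.2 LA1.1 12) = 2027 := by decide +kernel

theorem cntA1_449 : countR 1245077 2773 (traceTo LA1.2.1 LA1.2.2 LA1.1 12) = 2033 := by decide +kernel


end Cfsg.Agent.HNOut
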