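import Cfsg.Agent.Lib.Lead.HNOut.LevA

/-! # The outer automorphism group of the Harada–Norton group: the number of points of the tree number 1 of the chain `A`, a part (generated) -/

set_option autoImplicit false
set_option maxRecDepth 100000

namespace Cfsg.Agent.HNOut

open Cfsg.Agent.PF Cfsg.Agent.Lib.Helper6 Cfsg.Agent.Lib.Helper6.TC Cfsg.Agent.Lib.Helper6.NatArr
open Cfsg.Agent.PL (Acts evalF)

theorem cntA1_450 : countR 1247850 2773 (traceTo LA1.2.1 LA1.2.2 LA1.1 12) = 2084 := by decide +kernel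

theorem cntA1_451 : countR 1250623 2773 (traceTo LA1.2.1 LA1.2.2 LA1.1 12) = 2045 := by decide +kernel

theorem cntA1_452 : countR 1253396 2773 (traceTo LA1.2.1 LA1.2.2 LA1.1 12) = 1988 := by decide +kernel

theorem cntA1_453 : countR 1256169 2773 (traceTo LA1.2.1 LA1.2.2 LA1.1 12) = 1810 := by decide +kernel

theorem cntA1_454 : countR 1258942 2773 (traceTo LA1.2.1 LA1.2.2 LA1.1 12) = 1798 := by decide +kernel

theorem cntA1_455 : countR 1261715 2773 (traceTo LA1.2.1 LA1.2.2 LA1.1 12) = 1401 := by decide +kernel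

theorem cntA1_456 : countR 1264488 2773 (traceTo LA1.2.1 LA1.2.2 LA1.1 12) = 1400 := by decide +kernel

theorem cntA1_457 : countR 1267261 2773 (traceTo LA1.2.1 LA1.2.2 LA1.1 12) = 1594 := by decide +kernel

theorem cntA1_458 : countR 1270034 2773 (traceTo LA1.2.1 LA1.2.2 LA1.1 12) = 1342 := by decide +kernel

theorem cntA1_459 : countR 1272807 2773 (traceTo LA1.2.1 LA1.2.2 LA1.1 12) = 1528 := by decide +kernel

theorem cntA1_460 : countR 1275580 2773 (traceTo LA1.2.1 LA1.2.2 LA1.1 12) = 1563 := by decide +kernel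

theorem cntA1_461 : countR 1278353 2773 (traceTo LA1.2.1 LA1.2.2 LA1.1 12) = 1615 := by decide +kernel

theorem cntA1_462 : countR 1281126 2773 (traceTo LA1.2.1 LA1.2.2 LA1.1 12) = 1520 := by decide +kernel

theorem cntA1_463 : countR 1283899 2773 (traceTo LA1.2.1 LA1.2.2 LA1.1 12) = 1401 := by decide +kernel

theorem cntA1_464 : countR 1286672 2773 (traceTo LA1.2.1 LA1.2.2 LA1.1 12) = 1624 := by decide +kernel

theorem cntA1_465 : countR 1289445 2773 (traceTo LA1.2.1 LA1.2.2 LA1.1 12) = 1493 := by decide +kernel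

theorem cntA1_466 : countR 1292218 2773 (traceTo LA1.2.1 LA1.2.2 LA1.1 12) = 1493 := by decide +kernel

theorem cntA1_467 : countR 1294991 2773 (traceTo LA1.2.1 LA1.2.2 LA1.1 12) = 1517 := by decide +kernel

theorem cntA1_468 : countR 1297764 2773 (traceTo LA1.2.1 LA1.2.2 LA1.1 12) = 1417 := by decide +kernel

theorem cntA1_469 : countR 1300537 2773 (traceTo LA1.2.1 LA1.2.2 LA1.1 12) = 1514 := by decide +kernel

theorem cntA1_470 : countR 1303310 2773 (traceTo LA1.2.1 LA1.2.2 LA1.1 12) = 1443 := by decide +kernel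

theorem cntA1_471 : countR 1306083 2773 (traceTo LA1.2.1 LA1.2.2 LA1.1 12) = 1497 := by decide +kernel

theorem cntA1_472 : countR 1308856 2773 (traceTo LA1.2.1 LA1.2.2 LA1.1 12) = 1651 := by decide +kernel

theorem cntA1_473 : countR 1311629 2773 (traceTo LA1.2.1 LA1.2.2 LA1.1 12) = 1460 := by decide +kernel

theorem cntA1_474 : countR 1314402 2773 (traceTo LA1.2.1 LA1.2.2 LA1.1 12) = 1429 := by decide +kernel


end Cfsg.Agent.HNOut
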