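import Cfsg.Agent.Lib.Lead.HNOut.LevA

/-! # The outer automorphism group of the Harada–Norton group: the number of points of the tree number 1 of the chain `A`, a part (generated) -/

set_option autoImplicit false
set_option maxRecDepth 100000

namespace Cfsg.Agent.HNOut

open Cfsg.Agent.PF Cfsg.Agent.Lib.Helper6 Cfsg.Agent.Lib.Helper6.TC Cfsg.Agent.Lib.Helper6.NatArr
open Cfsg.Agent.PL (Acts evalF)

theorem cntA1_475 : countR 1317175 2773 (traceTo LA1.2.1 LA1.2.2 LA1.1 12) = 1340 := by decide +kernel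

theorem cntA1_476 : countR 1319948 2773 (traceTo LA1.2.1 LA1.2.2 LA1.1 12) = 1329 := by decide +kernel

theorem cntA1_477 : countR 1322721 2773 (traceTo LA1.2.1 LA1.2.2 LA1.1 12) = 1529 := by decide +kernel

theorem cntA1_478 : countR 1325494 2773 (traceTo LA1.2.1 LA1.2.2 LA1.1 12) = 1513 := by decide +kernel

theorem cntA1_479 : countR 1328267 2773 (traceTo LA1.2.1 LA1.2.2 LA1.1 12) = 1461 := by decide +kernel

theorem cntA1_480 : countR 1331040 2773 (traceTo LA1.2.1 LA1.2.2 LA1.1 12) = 1442 := by decide +kernel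

theorem cntA1_481 : countR 1333813 2773 (traceTo LA1.2.1 LA1.2.2 LA1.1 12) = 1439 := by decide +kernel

theorem cntA1_482 : countR 1336586 2773 (traceTo LA1.2.1 LA1.2.2 LA1.1 12) = 1473 := by decide +kernel

theorem cntA1_483 : countR 1339359 2773 (traceTo LA1.2.1 LA1.2.2 LA1.1 12) = 1521 := by decide +kernel

theorem cntA1_484 : countR 1342132 2773 (traceTo LA1.2.1 LA1.2.2 LA1.1 12) = 1491 := by decide +kernel

theorem cntA1_485 : countR 1344905 2773 (traceTo LA1.2.1 LA1.2.2 LA1.1 12) = 1279 := by decide +kernel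

theorem cntA1_486 : countR 1347678 2773 (traceTo LA1.2.1 LA1.2.2 LA1.1 12) = 1459 := by decide +kernel

theorem cntA1_487 : countR 1350451 2773 (traceTo LA1.2.1 LA1.2.2 LA1.1 12) = 1486 := by decide +kernel

theorem cntA1_488 : countR 1353224 2773 (traceTo LA1.2.1 LA1.2.2 LA1.1 12) = 1456 := by decide +kernel

theorem cntA1_489 : countR 1355997 2773 (traceTo LA1.2.1 LA1.2.2 LA1.1 12) = 1349 := by decide +kernel

theorem cntA1_490 : countR 1358770 2773 (traceTo LA1.2.1 LA1.2.2 LA1.1 12) = 1427 := by decide +kernel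

theorem cntA1_491 : countR 1361543 2773 (traceTo LA1.2.1 LA1.2.2 LA1.1 12) = 1397 := by decide +kernel

theorem cntA1_492 : countR 1364316 2773 (traceTo LA1.2.1 LA1.2.2 LA1.1 12) = 1471 := by decide +kernel

theorem cntA1_493 : countR 1367089 2773 (traceTo LA1.2.1 LA1.2.2 LA1.1 12) = 1321 := by decide +kernel

theorem cntA1_494 : countR 1369862 2773 (traceTo LA1.2.1 LA1.2.2 LA1.1 12) = 1481 := by decide +kernel

theorem cntA1_495 : countR 1372635 2773 (traceTo LA1.2.1 LA1.2.2 LA1.1 12) = 1401 := by decide +kernel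

theorem cntA1_496 : countR 1375408 2773 (traceTo LA1.2.1 LA1.2.2 LA1.1 12) = 1371 := by decide +kernel

theorem cntA1_497 : countR 1378181 2773 (traceTo LA1.2.1 LA1.2.2 LA1.1 12) = 1327 := by decide +kernel

theorem cntA1_498 : countR 1380954 2773 (traceTo LA1.2.1 LA1.2.2 LA1.1 12) = 1326 := by decide +kernel

theorem cntA1_499 : countR 1383727 2773 (traceTo LA1.2.1 LA1.2.2 LA1.1 12) = 1523 := by decide +kernel


end Cfsg.Agent.HNOut
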