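import Cfsg.Agent.Lib.Lead.HNOut.LevA

/-! # The outer automorphism group of the Harada–Norton group: the number of points of the tree number 1 of the chain `A`, a part (generated) -/

set_option autoImplicit false
set_option maxRecDepth 100000

namespace Cfsg.Agent.HNOut

open Cfsg.Agent.PF Cfsg.Agent.Lib.Helper6 Cfsg.Agent.Lib.Helper6.TC Cfsg.Agent.Lib.Helper6.NatArr
open Cfsg.Agent.PL (Acts evalF)

theorem cntA1_50 : countR 138650 2773 (traceTo LA1.2.1 LA1.2.2 LA1.1 12) = 1413 := by decide +kernel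

theorem cntA1_51 : countR 141423 2773 (traceTo LA1.2.1 LA1.2.2 LA1.1 12) = 1397 := by decide +kernel

theorem cntA1_52 : countR 144196 2773 (traceTo LA1.2.1 LA1.2.2 LA1.1 12) = 1384 := by decide +kernel

theorem cntA1_53 : countR 146969 2773 (traceTo LA1.2.1 LA1.2.2 LA1.1 12) = 1296 := by decide +kernel

theorem cntA1_54 : countR 149742 2773 (traceTo LA1.2.1 LA1.2.2 LA1.1 12) = 1416 := by decide +kernel

theorem cntA1_55 : countR 152515 2773 (traceTo LA1.2.1 LA1.2.2 LA1.1 12) = 1353 := by decide +kernel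

theorem cntA1_56 : countR 155288 2773 (traceTo LA1.2.1 LA1.2.2 LA1.1 12) = 1321 := by decide +kernel

theorem cntA1_57 : countR 158061 2773 (traceTo LA1.2.1 LA1.2.2 LA1.1 12) = 1337 := by decide +kernel

theorem cntA1_58 : countR 160834 2773 (traceTo LA1.2.1 LA1.2.2 LA1.1 12) = 1228 := by decide +kernel

theorem cntA1_59 : countR 163607 2773 (traceTo LA1.2.1 LA1.2.2 LA1.1 12) = 1046 := by decide +kernel

theorem cntA1_60 : countR 166380 2773 (traceTo LA1.2.1 LA1.2.2 LA1.1 12) = 1116 := by decide +kernel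

theorem cntA1_61 : countR 169153 2773 (traceTo LA1.2.1 LA1.2.2 LA1.1 12) = 1179 := by decide +kernel

theorem cntA1_62 : countR 171926 2773 (traceTo LA1.2.1 LA1.2.2 LA1.1 12) = 1162 := by decide +kernel

theorem cntA1_63 : countR 174699 2773 (traceTo LA1.2.1 LA1.2.2 LA1.1 12) = 1101 := by decide +kernel

theorem cntA1_64 : countR 177472 2773 (traceTo LA1.2.1 LA1.2.2 LA1.1 12) = 1134 := by decide +kernel

theorem cntA1_65 : countR 180245 2773 (traceTo LA1.2.1 LA1.2.2 LA1.1 12) = 1250 := by decide +kernel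

theorem cntA1_66 : countR 183018 2773 (traceTo LA1.2.1 LA1.2.2 LA1.1 12) = 1208 := by decide +kernel

theorem cntA1_67 : countR 185791 2773 (traceTo LA1.2.1 LA1.2.2 LA1.1 12) = 1072 := by decide +kernel

theorem cntA1_68 : countR 188564 2773 (traceTo LA1.2.1 LA1.2.2 LA1.1 12) = 1201 := by decide +kernel

theorem cntA1_69 : countR 191337 2773 (traceTo LA1.2.1 LA1.2.2 LA1.1 12) = 1232 := by decide +kernel

theorem cntA1_70 : countR 194110 2773 (traceTo LA1.2.1 LA1.2.2 LA1.1 12) = 1219 := by decide +kernel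

theorem cntA1_71 : countR 196883 2773 (traceTo LA1.2.1 LA1.2.2 LA1.1 12) = 1120 := by decide +kernel

theorem cntA1_72 : countR 199656 2773 (traceTo LA1.2.1 LA1.2.2 LA1.1 12) = 1210 := by decide +kernel

theorem cntA1_73 : countR 202429 2773 (traceTo LA1.2.1 LA1.2.2 LA1.1 12) = 1275 := by decide +kernel

theorem cntA1_74 : countR 205202 2773 (traceTo LA1.2.1 LA1.2.2 LA1.1 12) = 1276 := by decide +kernel


end Cfsg.Agent.HNOut
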