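import Cfsg.Agent.Lib.Lead.HNOut.LevA

/-! # The outer automorphism group of the Harada–Norton group: the number of points of the tree number 1 of the chain `A`, a part (generated) -/

set_option autoImplicit false
set_option maxRecDepth 100000

namespace Cfsg.Agent.HNOut

open Cfsg.Agent.PF Cfsg.Agent.Lib.Helper6 Cfsg.Agent.Lib.Helper6.TC Cfsg.Agent.Lib.Helper6.NatArr
open Cfsg.Agent.PL (Acts evalF)

theorem cntA1_500 : countR 1386500 2773 (traceTo LA1.2.1 LA1.2.2 LA1.1 12) = 1482 := by decide +kernel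

theorem cntA1_501 : countR 1389273 2773 (traceTo LA1.2.1 LA1.2.2 LA1.1 12) = 1587 := by decide +kernel

theorem cntA1_502 : countR 1392046 2773 (traceTo LA1.2.1 LA1.2.2 LA1.1 12) = 1481 := by decide +kernel

theorem cntA1_503 : countR 1394819 2773 (traceTo LA1.2.1 LA1.2.2 LA1.1 12) = 1619 := by decide +kernel

theorem cntA1_504 : countR 1397592 2773 (traceTo LA1.2.1 LA1.2.2 LA1.1 12) = 1451 := by decide +kernel

theorem cntA1_505 : countR 1400365 2773 (traceTo LA1.2.1 LA1.2.2 LA1.1 12) = 1609 := by decide +kernel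

theorem cntA1_506 : countR 1403138 2773 (traceTo LA1.2.1 LA1.2.2 LA1.1 12) = 1577 := by decide +kernel

theorem cntA1_507 : countR 1405911 2773 (traceTo LA1.2.1 LA1.2.2 LA1.1 12) = 1472 := by decide +kernel

theorem cntA1_508 : countR 1408684 2773 (traceTo LA1.2.1 LA1.2.2 LA1.1 12) = 1426 := by decide +kernel

theorem cntA1_509 : countR 1411457 2773 (traceTo LA1.2.1 LA1.2.2 LA1.1 12) = 1456 := by decide +kernel

theorem cntA1_510 : countR 1414230 2773 (traceTo LA1.2.1 LA1.2.2 LA1.1 12) = 1546 := by decide +kernel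

theorem cntA1_511 : countR 1417003 2773 (traceTo LA1.2.1 LA1.2.2 LA1.1 12) = 1573 := by decide +kernel

theorem cntA1_512 : countR 1419776 2773 (traceTo LA1.2.1 LA1.2.2 LA1.1 12) = 1472 := by decide +kernel

theorem cntA1_513 : countR 1422549 2773 (traceTo LA1.2.1 LA1.2.2 LA1.1 12) = 1483 := by decide +kernel

theorem cntA1_514 : countR 1425322 2773 (traceTo LA1.2.1 LA1.2.2 LA1.1 12) = 1452 := by decide +kernel

theorem cntA1_515 : countR 1428095 2773 (traceTo LA1.2.1 LA1.2.2 LA1.1 12) = 1512 := by decide +kernel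

theorem cntA1_516 : countR 1430868 2773 (traceTo LA1.2.1 LA1.2.2 LA1.1 12) = 1426 := by decide +kernel

theorem cntA1_517 : countR 1433641 2773 (traceTo LA1.2.1 LA1.2.2 LA1.1 12) = 1423 := by decide +kernel

theorem cntA1_518 : countR 1436414 2773 (traceTo LA1.2.1 LA1.2.2 LA1.1 12) = 1456 := by decide +kernel

theorem cntA1_519 : countR 1439187 2773 (traceTo LA1.2.1 LA1.2.2 LA1.1 12) = 1442 := by decide +kernel

theorem cntA1_520 : countR 1441960 2773 (traceTo LA1.2.1 LA1.2.2 LA1.1 12) = 1639 := by decide +kernel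

theorem cntA1_521 : countR 1444733 2773 (traceTo LA1.2.1 LA1.2.2 LA1.1 12) = 1367 := by decide +kernel

theorem cntA1_522 : countR 1447506 2773 (traceTo LA1.2.1 LA1.2.2 LA1.1 12) = 1282 := by decide +kernel

theorem cntA1_523 : countR 1450279 2773 (traceTo LA1.2.1 LA1.2.2 LA1.1 12) = 1449 := by decide +kernel

theorem cntA1_524 : countR 1453052 2773 (traceTo LA1.2.1 LA1.2.2 LA1.1 12) = 1424 := by decide +kernel


end Cfsg.Agent.HNOut
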