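import Cfsg.Agent.Lib.Lead.HNOut.LevA

/-! # The outer automorphism group of the Harada–Norton group: the number of points of the tree number 1 of the chain `A`, a part (generated) -/

set_option autoImplicit false
set_option maxRecDepth 100000

namespace Cfsg.Agent.HNOut

open Cfsg.Agent.PF Cfsg.Agent.Lib.Helper6 Cfsg.Agent.Lib.Helper6.TC Cfsg.Agent.Lib.Helper6.NatArr
open Cfsg.Agent.PL (Acts evalF)

theorem cntA1_525 : countR 1455825 2773 (traceTo LA1.2.1 LA1.2.2 LA1.1 12) = 1363 := by decide +kernel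

theorem cntA1_526 : countR 1458598 2773 (traceTo LA1.2.1 LA1.2.2 LA1.1 12) = 1400 := by decide +kernel

theorem cntA1_527 : countR 1461371 2773 (traceTo LA1.2.1 LA1.2.2 LA1.1 12) = 1491 := by decide +kernel

theorem cntA1_528 : countR 1464144 2773 (traceTo LA1.2.1 LA1.2.2 LA1.1 12) = 1487 := by decide +kernel

theorem cntA1_529 : countR 1466917 2773 (traceTo LA1.2.1 LA1.2.2 LA1.1 12) = 1557 := by decide +kernel

theorem cntA1_530 : countR 1469690 2773 (traceTo LA1.2.1 LA1.2.2 LA1.1 12) = 1562 := by decide +kernel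

theorem cntA1_531 : countR 1472463 2773 (traceTo LA1.2.1 LA1.2.2 LA1.1 12) = 1563 := by decide +kernel

theorem cntA1_532 : countR 1475236 2773 (traceTo LA1.2.1 LA1.2.2 LA1.1 12) = 1557 := by decide +kernel

theorem cntA1_533 : countR 1478009 2773 (traceTo LA1.2.1 LA1.2.2 LA1.1 12) = 1502 := by decide +kernel

theorem cntA1_534 : countR 1480782 2773 (traceTo LA1.2.1 LA1.2.2 LA1.1 12) = 1620 := by decide +kernel

theorem cntA1_535 : countR 1483555 2773 (traceTo LA1.2.1 LA1.2.2 LA1.1 12) = 1399 := by decide +kernel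

theorem cntA1_536 : countR 1486328 2773 (traceTo LA1.2.1 LA1.2.2 LA1.1 12) = 1433 := by decide +kernel

theorem cntA1_537 : countR 1489101 2773 (traceTo LA1.2.1 LA1.2.2 LA1.1 12) = 1355 := by decide +kernel

theorem cntA1_538 : countR 1491874 2773 (traceTo LA1.2.1 LA1.2.2 LA1.1 12) = 1666 := by decide +kernel

theorem cntA1_539 : countR 1494647 2773 (traceTo LA1.2.1 LA1.2.2 LA1.1 12) = 1543 := by decide +kernel

theorem cntA1_540 : countR 1497420 2773 (traceTo LA1.2.1 LA1.2.2 LA1.1 12) = 1439 := by decide +kernel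

theorem cntA1_541 : countR 1500193 2773 (traceTo LA1.2.1 LA1.2.2 LA1.1 12) = 1479 := by decide +kernel

theorem cntA1_542 : countR 1502966 2773 (traceTo LA1.2.1 LA1.2.2 LA1.1 12) = 1223 := by decide +kernel

theorem cntA1_543 : countR 1505739 2773 (traceTo LA1.2.1 LA1.2.2 LA1.1 12) = 1437 := by decide +kernel

theorem cntA1_544 : countR 1508512 2773 (traceTo LA1.2.1 LA1.2.2 LA1.1 12) = 1516 := by decide +kernel

theorem cntA1_545 : countR 1511285 2773 (traceTo LA1.2.1 LA1.2.2 LA1.1 12) = 1316 := by decide +kernel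

theorem cntA1_546 : countR 1514058 2773 (traceTo LA1.2.1 LA1.2.2 LA1.1 12) = 1023 := by decide +kernel

theorem cntA1_547 : countR 1516831 2773 (traceTo LA1.2.1 LA1.2.2 LA1.1 12) = 1129 := by decide +kernel

theorem cntA1_548 : countR 1519604 2773 (traceTo LA1.2.1 LA1.2.2 LA1.1 12) = 1087 := by decide +kernel

theorem cntA1_549 : countR 1522377 2773 (traceTo LA1.2.1 LA1.2.2 LA1.1 12) = 1065 := by decide +kernel


end Cfsg.Agent.HNOut
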