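import Cfsg.Agent.Lib.Lead.HNOut.LevA

/-! # The outer automorphism group of the Harada–Norton group: the number of points of the tree number 1 of the chain `A`, a part (generated) -/

set_option autoImplicit false
set_option maxRecDepth 100000

namespace Cfsg.Agent.HNOut

open Cfsg.Agent.PF Cfsg.Agent.Lib.Helper6 Cfsg.Agent.Lib.Helper6.TC Cfsg.Agent.Lib.Helper6.NatArr
open Cfsg.Agent.PL (Acts evalF)

theorem cntA1_550 : countR 1525150 2773 (traceTo LA1.2.1 LA1.2.2 LA1.1 12) = 1175 := by decide +kernel

theorem cntA1_551 : countR 1527923 2773 (traceTo LA1.2.1 LA1.2.2 LA1.1 12) = 1143 := by decide +kernel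

theorem cntA1_552 : countR 1530696 2773 (traceTo LA1.2.1 LA1.2.2 LA1.1 12) = 1165 := by decide +kernel

theorem cntA1_553 : countR 1533469 2773 (traceTo LA1.2.1 LA1.2.2 LA1.1 12) = 1122 := by decide +kernel

theorem cntA1_554 : countR 1536242 2758 (traceTo LA1.2.1 LA1.2.2 LA1.1 12) = 1331 := by decide +kernel


end Cfsg.Agent.HNOut
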