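import Cfsg.Agent.Lib.Lead.HNOut.LevA

/-! # The outer automorphism group of the Harada–Norton group: the number of points of the tree number 1 of the chain `A`, a part (generated) -/

set_option autoImplicit false
set_option maxRecDepth 100000

namespace Cfsg.Agent.HNOut

open Cfsg.Agent.PF Cfsg.Agent.Lib.Helper6 Cfsg.Agent.Lib.Helper6.TC Cfsg.Agent.Lib.Helper6.NatArr
open Cfsg.Agent.PL (Acts evalF)

theorem cntA1_75 : countR 207975 2773 (traceTo LA1.2.1 LA1.2.2 LA1.1 12) = 1156 := by decide +kernel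

theorem cntA1_76 : countR 210748 2773 (traceTo LA1.2.1 LA1.2.2 LA1.1 12) = 1173 := by decide +kernel

theorem cntA1_77 : countR 213521 2773 (traceTo LA1.2.1 LA1.2.2 LA1.1 12) = 1178 := by decide +kernel

theorem cntA1_78 : countR 216294 2773 (traceTo LA1.2.1 LA1.2.2 LA1.1 12) = 1256 := by decide +kernel

theorem cntA1_79 : countR 219067 2773 (traceTo LA1.2.1 LA1.2.2 LA1.1 12) = 1336 := by decide +kernel

theorem cntA1_80 : countR 221840 2773 (traceTo LA1.2.1 LA1.2.2 LA1.1 12) = 1225 := by decide +kernel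

theorem cntA1_81 : countR 224613 2773 (traceTo LA1.2.1 LA1.2.2 LA1.1 12) = 1163 := by decide +kernel

theorem cntA1_82 : countR 227386 2773 (traceTo LA1.2.1 LA1.2.2 LA1.1 12) = 1138 := by decide +kernel

theorem cntA1_83 : countR 230159 2773 (traceTo LA1.2.1 LA1.2.2 LA1.1 12) = 1164 := by decide +kernel

theorem cntA1_84 : countR 232932 2773 (traceTo LA1.2.1 LA1.2.2 LA1.1 12) = 1270 := by decide +kernel

theorem cntA1_85 : countR 235705 2773 (traceTo LA1.2.1 LA1.2.2 LA1.1 12) = 1256 := by decide +kernel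

theorem cntA1_86 : countR 238478 2773 (traceTo LA1.2.1 LA1.2.2 LA1.1 12) = 1189 := by decide +kernel

theorem cntA1_87 : countR 241251 2773 (traceTo LA1.2.1 LA1.2.2 LA1.1 12) = 1212 := by decide +kernel

theorem cntA1_88 : countR 244024 2773 (traceTo LA1.2.1 LA1.2.2 LA1.1 12) = 1194 := by decide +kernel

theorem cntA1_89 : countR 246797 2773 (traceTo LA1.2.1 LA1.2.2 LA1.1 12) = 1185 := by decide +kernel

theorem cntA1_90 : countR 249570 2773 (traceTo LA1.2.1 LA1.2.2 LA1.1 12) = 1297 := by decide +kernel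

theorem cntA1_91 : countR 252343 2773 (traceTo LA1.2.1 LA1.2.2 LA1.1 12) = 1247 := by decide +kernel

theorem cntA1_92 : countR 255116 2773 (traceTo LA1.2.1 LA1.2.2 LA1.1 12) = 1186 := by decide +kernel

theorem cntA1_93 : countR 257889 2773 (traceTo LA1.2.1 LA1.2.2 LA1.1 12) = 1219 := by decide +kernel

theorem cntA1_94 : countR 260662 2773 (traceTo LA1.2.1 LA1.2.2 LA1.1 12) = 1143 := by decide +kernel

theorem cntA1_95 : countR 263435 2773 (traceTo LA1.2.1 LA1.2.2 LA1.1 12) = 1314 := by decide +kernel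

theorem cntA1_96 : countR 266208 2773 (traceTo LA1.2.1 LA1.2.2 LA1.1 12) = 1201 := by decide +kernel

theorem cntA1_97 : countR 268981 2773 (traceTo LA1.2.1 LA1.2.2 LA1.1 12) = 1133 := by decide +kernel

theorem cntA1_98 : countR 271754 2773 (traceTo LA1.2.1 LA1.2.2 LA1.1 12) = 1163 := by decide +kernel

theorem cntA1_99 : countR 274527 2773 (traceTo LA1.2.1 LA1.2.2 LA1.1 12) = 1267 := by decide +kernel


end Cfsg.Agent.HNOut
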