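import Cfsg.Agent.Lib.Lead.HNOut.LevA

/-! # The outer automorphism group of the Harada–Norton group: the number of points of the tree number 1 of the chain `A`, a part (generated) -/

set_option autoImplicit false
set_option maxRecDepth 100000

namespace Cfsg.Agent.HNOut

open Cfsg.Agent.PF Cfsg.Agent.Lib.Helper6 Cfsg.Agent.Lib.Helper6.TC Cfsg.Agent.Lib.Helper6.NatArr
open Cfsg.Agent.PL (Acts evalF)

theorem cntA1_100 : countR 277300 2773 (traceTo LA1.2.1 LA1.2.2 LA1.1 12) = 1210 := by decide +kernel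

theorem cntA1_101 : countR 280073 2773 (traceTo LA1.2.1 LA1.2.2 LA1.1 12) = 1156 := by decide +kernel

theorem cntA1_102 : countR 282846 2773 (traceTo LA1.2.1 LA1.2.2 LA1.1 12) = 1252 := by decide +kernel

theorem cntA1_103 : countR 285619 2773 (traceTo LA1.2.1 LA1.2.2 LA1.1 12) = 1198 := by decide +kernel

theorem cntA1_104 : countR 288392 2773 (traceTo LA1.2.1 LA1.2.2 LA1.1 12) = 1226 := by decide +kernel

theorem cntA1_105 : countR 291165 2773 (traceTo LA1.2.1 LA1.2.2 LA1.1 12) = 1276 := by decide +kernel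

theorem cntA1_106 : countR 293938 2773 (traceTo LA1.2.1 LA1.2.2 LA1.1 12) = 1199 := by decide +kernel

theorem cntA1_107 : countR 296711 2773 (traceTo LA1.2.1 LA1.2.2 LA1.1 12) = 1369 := by decide +kernel

theorem cntA1_108 : countR 299484 2773 (traceTo LA1.2.1 LA1.2.2 LA1.1 12) = 1262 := by decide +kernel

theorem cntA1_109 : countR 302257 2773 (traceTo LA1.2.1 LA1.2.2 LA1.1 12) = 1246 := by decide +kernel

theorem cntA1_110 : countR 305030 2773 (traceTo LA1.2.1 LA1.2.2 LA1.1 12) = 1241 := by decide +kernel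

theorem cntA1_111 : countR 307803 2773 (traceTo LA1.2.1 LA1.2.2 LA1.1 12) = 1352 := by decide +kernel

theorem cntA1_112 : countR 310576 2773 (traceTo LA1.2.1 LA1.2.2 LA1.1 12) = 1367 := by decide +kernel

theorem cntA1_113 : countR 313349 2773 (traceTo LA1.2.1 LA1.2.2 LA1.1 12) = 1303 := by decide +kernel

theorem cntA1_114 : countR 316122 2773 (traceTo LA1.2.1 LA1.2.2 LA1.1 12) = 1226 := by decide +kernel

theorem cntA1_115 : countR 318895 2773 (traceTo LA1.2.1 LA1.2.2 LA1.1 12) = 1160 := by decide +kernel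

theorem cntA1_116 : countR 321668 2773 (traceTo LA1.2.1 LA1.2.2 LA1.1 12) = 1397 := by decide +kernel

theorem cntA1_117 : countR 324441 2773 (traceTo LA1.2.1 LA1.2.2 LA1.1 12) = 1321 := by decide +kernel

theorem cntA1_118 : countR 327214 2773 (traceTo LA1.2.1 LA1.2.2 LA1.1 12) = 1370 := by decide +kernel

theorem cntA1_119 : countR 329987 2773 (traceTo LA1.2.1 LA1.2.2 LA1.1 12) = 1275 := by decide +kernel

theorem cntA1_120 : countR 332760 2773 (traceTo LA1.2.1 LA1.2.2 LA1.1 12) = 1359 := by decide +kernel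

theorem cntA1_121 : countR 335533 2773 (traceTo LA1.2.1 LA1.2.2 LA1.1 12) = 1337 := by decide +kernel

theorem cntA1_122 : countR 338306 2773 (traceTo LA1.2.1 LA1.2.2 LA1.1 12) = 1282 := by decide +kernel

theorem cntA1_123 : countR 341079 2773 (traceTo LA1.2.1 LA1.2.2 LA1.1 12) = 1306 := by decide +kernel

theorem cntA1_124 : countR 343852 2773 (traceTo LA1.2.1 LA1.2.2 LA1.1 12) = 1428 := by decide +kernel


end Cfsg.Agent.HNOut
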