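import Cfsg.Agent.Lib.Lead.HNOut.LevA

/-! # The outer automorphism group of the Harada–Norton group: the number of points of the tree number 1 of the chain `A`, a part (generated) -/

set_option autoImplicit false
set_option maxRecDepth 100000

namespace Cfsg.Agent.HNOut

open Cfsg.Agent.PF Cfsg.Agent.Lib.Helper6 Cfsg.Agent.Lib.Helper6.TC Cfsg.Agent.Lib.Helper6.NatArr
open Cfsg.Agent.PL (Acts evalF)

theorem cntA1_125 : countR 346625 2773 (traceTo LA1.2.1 LA1.2.2 LA1.1 12) = 1286 := by decide +kernel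

theorem cntA1_126 : countR 349398 2773 (traceTo LA1.2.1 LA1.2.2 LA1.1 12) = 1307 := by decide +kernel

theorem cntA1_127 : countR 352171 2773 (traceTo LA1.2.1 LA1.2.2 LA1.1 12) = 1198 := by decide +kernel

theorem cntA1_128 : countR 354944 2773 (traceTo LA1.2.1 LA1.2.2 LA1.1 12) = 1326 := by decide +kernel

theorem cntA1_129 : countR 357717 2773 (traceTo LA1.2.1 LA1.2.2 LA1.1 12) = 1236 := by decide +kernel

theorem cntA1_130 : countR 360490 2773 (traceTo LA1.2.1 LA1.2.2 LA1.1 12) = 1243 := by decide +kernel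

theorem cntA1_131 : countR 363263 2773 (traceTo LA1.2.1 LA1.2.2 LA1.1 12) = 1338 := by decide +kernel

theorem cntA1_132 : countR 366036 2773 (traceTo LA1.2.1 LA1.2.2 LA1.1 12) = 1352 := by decide +kernel

theorem cntA1_133 : countR 368809 2773 (traceTo LA1.2.1 LA1.2.2 LA1.1 12) = 1281 := by decide +kernel

theorem cntA1_134 : countR 371582 2773 (traceTo LA1.2.1 LA1.2.2 LA1.1 12) = 1419 := by decide +kernel

theorem cntA1_135 : countR 374355 2773 (traceTo LA1.2.1 LA1.2.2 LA1.1 12) = 1373 := by decide +kernel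

theorem cntA1_136 : countR 377128 2773 (traceTo LA1.2.1 LA1.2.2 LA1.1 12) = 1313 := by decide +kernel

theorem cntA1_137 : countR 379901 2773 (traceTo LA1.2.1 LA1.2.2 LA1.1 12) = 1277 := by decide +kernel

theorem cntA1_138 : countR 382674 2773 (traceTo LA1.2.1 LA1.2.2 LA1.1 12) = 1365 := by decide +kernel

theorem cntA1_139 : countR 385447 2773 (traceTo LA1.2.1 LA1.2.2 LA1.1 12) = 1373 := by decide +kernel

theorem cntA1_140 : countR 388220 2773 (traceTo LA1.2.1 LA1.2.2 LA1.1 12) = 1340 := by decide +kernel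

theorem cntA1_141 : countR 390993 2773 (traceTo LA1.2.1 LA1.2.2 LA1.1 12) = 1329 := by decide +kernel

theorem cntA1_142 : countR 393766 2773 (traceTo LA1.2.1 LA1.2.2 LA1.1 12) = 1341 := by decide +kernel

theorem cntA1_143 : countR 396539 2773 (traceTo LA1.2.1 LA1.2.2 LA1.1 12) = 1273 := by decide +kernel

theorem cntA1_144 : countR 399312 2773 (traceTo LA1.2.1 LA1.2.2 LA1.1 12) = 1312 := by decide +kernel

theorem cntA1_145 : countR 402085 2773 (traceTo LA1.2.1 LA1.2.2 LA1.1 12) = 1311 := by decide +kernel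

theorem cntA1_146 : countR 404858 2773 (traceTo LA1.2.1 LA1.2.2 LA1.1 12) = 1362 := by decide +kernel

theorem cntA1_147 : countR 407631 2773 (traceTo LA1.2.1 LA1.2.2 LA1.1 12) = 1373 := by decide +kernel

theorem cntA1_148 : countR 410404 2773 (traceTo LA1.2.1 LA1.2.2 LA1.1 12) = 1257 := by decide +kernel

theorem cntA1_149 : countR 413177 2773 (traceTo LA1.2.1 LA1.2.2 LA1.1 12) = 1278 := by decide +kernel


end Cfsg.Agent.HNOut
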