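import Cfsg.Agent.Lib.Lead.HNOut.LevA

/-! # The outer automorphism group of the Harada–Norton group: the number of points of the tree number 1 of the chain `A`, a part (generated) -/

set_option autoImplicit false
set_option maxRecDepth 100000

namespace Cfsg.Agent.HNOut

open Cfsg.Agent.PF Cfsg.Agent.Lib.Helper6 Cfsg.Agent.Lib.Helper6.TC Cfsg.Agent.Lib.Helper6.NatArr
open Cfsg.Agent.PL (Acts evalF)

theorem cntA1_150 : countR 415950 2773 (traceTo LA1.2.1 LA1.2.2 LA1.1 12) = 1257 := by decide +kernel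

theorem cntA1_151 : countR 418723 2773 (traceTo LA1.2.1 LA1.2.2 LA1.1 12) = 1260 := by decide +kernel

theorem cntA1_152 : countR 421496 2773 (traceTo LA1.2.1 LA1.2.2 LA1.1 12) = 1379 := by decide +kernel

theorem cntA1_153 : countR 424269 2773 (traceTo LA1.2.1 LA1.2.2 LA1.1 12) = 1274 := by decide +kernel

theorem cntA1_154 : countR 427042 2773 (traceTo LA1.2.1 LA1.2.2 LA1.1 12) = 1275 := by decide +kernel

theorem cntA1_155 : countR 429815 2773 (traceTo LA1.2.1 LA1.2.2 LA1.1 12) = 1314 := by decide +kernel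

theorem cntA1_156 : countR 432588 2773 (traceTo LA1.2.1 LA1.2.2 LA1.1 12) = 1289 := by decide +kernel

theorem cntA1_157 : countR 435361 2773 (traceTo LA1.2.1 LA1.2.2 LA1.1 12) = 1284 := by decide +kernel

theorem cntA1_158 : countR 438134 2773 (traceTo LA1.2.1 LA1.2.2 LA1.1 12) = 1232 := by decide +kernel

theorem cntA1_159 : countR 440907 2773 (traceTo LA1.2.1 LA1.2.2 LA1.1 12) = 1268 := by decide +kernel

theorem cntA1_160 : countR 443680 2773 (traceTo LA1.2.1 LA1.2.2 LA1.1 12) = 1372 := by decide +kernel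

theorem cntA1_161 : countR 446453 2773 (traceTo LA1.2.1 LA1.2.2 LA1.1 12) = 1287 := by decide +kernel

theorem cntA1_162 : countR 449226 2773 (traceTo LA1.2.1 LA1.2.2 LA1.1 12) = 1339 := by decide +kernel

theorem cntA1_163 : countR 451999 2773 (traceTo LA1.2.1 LA1.2.2 LA1.1 12) = 1248 := by decide +kernel

theorem cntA1_164 : countR 454772 2773 (traceTo LA1.2.1 LA1.2.2 LA1.1 12) = 1305 := by decide +kernel

theorem cntA1_165 : countR 457545 2773 (traceTo LA1.2.1 LA1.2.2 LA1.1 12) = 1310 := by decide +kernel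

theorem cntA1_166 : countR 460318 2773 (traceTo LA1.2.1 LA1.2.2 LA1.1 12) = 1271 := by decide +kernel

theorem cntA1_167 : countR 463091 2773 (traceTo LA1.2.1 LA1.2.2 LA1.1 12) = 1302 := by decide +kernel

theorem cntA1_168 : countR 465864 2773 (traceTo LA1.2.1 LA1.2.2 LA1.1 12) = 1312 := by decide +kernel

theorem cntA1_169 : countR 468637 2773 (traceTo LA1.2.1 LA1.2.2 LA1.1 12) = 1311 := by decide +kernel

theorem cntA1_170 : countR 471410 2773 (traceTo LA1.2.1 LA1.2.2 LA1.1 12) = 1252 := by decide +kernel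

theorem cntA1_171 : countR 474183 2773 (traceTo LA1.2.1 LA1.2.2 LA1.1 12) = 1334 := by decide +kernel

theorem cntA1_172 : countR 476956 2773 (traceTo LA1.2.1 LA1.2.2 LA1.1 12) = 1350 := by decide +kernel

theorem cntA1_173 : countR 479729 2773 (traceTo LA1.2.1 LA1.2.2 LA1.1 12) = 1405 := by decide +kernel

theorem cntA1_174 : countR 482502 2773 (traceTo LA1.2.1 LA1.2.2 LA1.1 12) = 1308 := by decide +kernel


end Cfsg.Agent.HNOut
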