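import Cfsg.Agent.Lib.Lead.HNOut.LevA

/-! # The outer automorphism group of the Harada–Norton group: the number of points of the tree number 1 of the chain `A`, a part (generated) -/

set_option autoImplicit false
set_option maxRecDepth 100000

namespace Cfsg.Agent.HNOut

open Cfsg.Agent.PF Cfsg.Agent.Lib.Helper6 Cfsg.Agent.Lib.Helper6.TC Cfsg.Agent.Lib.Helper6.NatArr
open Cfsg.Agent.PL (Acts evalF)

theorem cntA1_175 : countR 485275 2773 (traceTo LA1.2.1 LA1.2.2 LA1.1 12) = 1349 := by decide +kernel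

theorem cntA1_176 : countR 488048 2773 (traceTo LA1.2.1 LA1.2.2 LA1.1 12) = 1285 := by decide +kernel

theorem cntA1_177 : countR 490821 2773 (traceTo LA1.2.1 LA1.2.2 LA1.1 12) = 1312 := by decide +kernel

theorem cntA1_178 : countR 493594 2773 (traceTo LA1.2.1 LA1.2.2 LA1.1 12) = 1420 := by decide +kernel

theorem cntA1_179 : countR 496367 2773 (traceTo LA1.2.1 LA1.2.2 LA1.1 12) = 1395 := by decide +kernel

theorem cntA1_180 : countR 499140 2773 (traceTo LA1.2.1 LA1.2.2 LA1.1 12) = 1357 := by decide +kernel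

theorem cntA1_181 : countR 501913 2773 (traceTo LA1.2.1 LA1.2.2 LA1.1 12) = 1333 := by decide +kernel

theorem cntA1_182 : countR 504686 2773 (traceTo LA1.2.1 LA1.2.2 LA1.1 12) = 1369 := by decide +kernel

theorem cntA1_183 : countR 507459 2773 (traceTo LA1.2.1 LA1.2.2 LA1.1 12) = 1384 := by decide +kernel

theorem cntA1_184 : countR 510232 2773 (traceTo LA1.2.1 LA1.2.2 LA1.1 12) = 1381 := by decide +kernel

theorem cntA1_185 : countR 513005 2773 (traceTo LA1.2.1 LA1.2.2 LA1.1 12) = 1403 := by decide +kernel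

theorem cntA1_186 : countR 515778 2773 (traceTo LA1.2.1 LA1.2.2 LA1.1 12) = 1382 := by decide +kernel

theorem cntA1_187 : countR 518551 2773 (traceTo LA1.2.1 LA1.2.2 LA1.1 12) = 1314 := by decide +kernel

theorem cntA1_188 : countR 521324 2773 (traceTo LA1.2.1 LA1.2.2 LA1.1 12) = 1400 := by decide +kernel

theorem cntA1_189 : countR 524097 2773 (traceTo LA1.2.1 LA1.2.2 LA1.1 12) = 1342 := by decide +kernel

theorem cntA1_190 : countR 526870 2773 (traceTo LA1.2.1 LA1.2.2 LA1.1 12) = 1319 := by decide +kernel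

theorem cntA1_191 : countR 529643 2773 (traceTo LA1.2.1 LA1.2.2 LA1.1 12) = 1346 := by decide +kernel

theorem cntA1_192 : countR 532416 2773 (traceTo LA1.2.1 LA1.2.2 LA1.1 12) = 1305 := by decide +kernel

theorem cntA1_193 : countR 535189 2773 (traceTo LA1.2.1 LA1.2.2 LA1.1 12) = 1377 := by decide +kernel

theorem cntA1_194 : countR 537962 2773 (traceTo LA1.2.1 LA1.2.2 LA1.1 12) = 1304 := by decide +kernel

theorem cntA1_195 : countR 540735 2773 (traceTo LA1.2.1 LA1.2.2 LA1.1 12) = 1388 := by decide +kernel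

theorem cntA1_196 : countR 543508 2773 (traceTo LA1.2.1 LA1.2.2 LA1.1 12) = 1358 := by decide +kernel

theorem cntA1_197 : countR 546281 2773 (traceTo LA1.2.1 LA1.2.2 LA1.1 12) = 1329 := by decide +kernel

theorem cntA1_198 : countR 549054 2773 (traceTo LA1.2.1 LA1.2.2 LA1.1 12) = 1335 := by decide +kernel

theorem cntA1_199 : countR 551827 2773 (traceTo LA1.2.1 LA1.2.2 LA1.1 12) = 1372 := by decide +kernel


end Cfsg.Agent.HNOut
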