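import Cfsg.Agent.Lib.Lead.HNOut.LevA

/-! # The outer automorphism group of the Harada–Norton group: the number of points of the tree number 1 of the chain `A`, a part (generated) -/

set_option autoImplicit false
set_option maxRecDepth 100000

namespace Cfsg.Agent.HNOut

open Cfsg.Agent.PF Cfsg.Agent.Lib.Helper6 Cfsg.Agent.Lib.Helper6.TC Cfsg.Agent.Lib.Helper6.NatArr
open Cfsg.Agent.PL (Acts evalF)

theorem cntA1_200 : countR 554600 2773 (traceTo LA1.2.1 LA1.2.2 LA1.1 12) = 1318 := by decide +kernel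

theorem cntA1_201 : countR 557373 2773 (traceTo LA1.2.1 LA1.2.2 LA1.1 12) = 1307 := by decide +kernel

theorem cntA1_202 : countR 560146 2773 (traceTo LA1.2.1 LA1.2.2 LA1.1 12) = 1292 := by decide +kernel

theorem cntA1_203 : countR 562919 2773 (traceTo LA1.2.1 LA1.2.2 LA1.1 12) = 1245 := by decide +kernel

theorem cntA1_204 : countR 565692 2773 (traceTo LA1.2.1 LA1.2.2 LA1.1 12) = 1262 := by decide +kernel

theorem cntA1_205 : countR 568465 2773 (traceTo LA1.2.1 LA1.2.2 LA1.1 12) = 1275 := by decide +kernel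

theorem cntA1_206 : countR 571238 2773 (traceTo LA1.2.1 LA1.2.2 LA1.1 12) = 1311 := by decide +kernel

theorem cntA1_207 : countR 574011 2773 (traceTo LA1.2.1 LA1.2.2 LA1.1 12) = 1315 := by decide +kernel

theorem cntA1_208 : countR 576784 2773 (traceTo LA1.2.1 LA1.2.2 LA1.1 12) = 1311 := by decide +kernel

theorem cntA1_209 : countR 579557 2773 (traceTo LA1.2.1 LA1.2.2 LA1.1 12) = 1342 := by decide +kernel

theorem cntA1_210 : countR 582330 2773 (traceTo LA1.2.1 LA1.2.2 LA1.1 12) = 1261 := by decide +kernel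

theorem cntA1_211 : countR 585103 2773 (traceTo LA1.2.1 LA1.2.2 LA1.1 12) = 1283 := by decide +kernel

theorem cntA1_212 : countR 587876 2773 (traceTo LA1.2.1 LA1.2.2 LA1.1 12) = 1371 := by decide +kernel

theorem cntA1_213 : countR 590649 2773 (traceTo LA1.2.1 LA1.2.2 LA1.1 12) = 1311 := by decide +kernel

theorem cntA1_214 : countR 593422 2773 (traceTo LA1.2.1 LA1.2.2 LA1.1 12) = 1340 := by decide +kernel

theorem cntA1_215 : countR 596195 2773 (traceTo LA1.2.1 LA1.2.2 LA1.1 12) = 1309 := by decide +kernel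

theorem cntA1_216 : countR 598968 2773 (traceTo LA1.2.1 LA1.2.2 LA1.1 12) = 1309 := by decide +kernel

theorem cntA1_217 : countR 601741 2773 (traceTo LA1.2.1 LA1.2.2 LA1.1 12) = 1244 := by decide +kernel

theorem cntA1_218 : countR 604514 2773 (traceTo LA1.2.1 LA1.2.2 LA1.1 12) = 1273 := by decide +kernel

theorem cntA1_219 : countR 607287 2773 (traceTo LA1.2.1 LA1.2.2 LA1.1 12) = 1269 := by decide +kernel

theorem cntA1_220 : countR 610060 2773 (traceTo LA1.2.1 LA1.2.2 LA1.1 12) = 1279 := by decide +kernel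

theorem cntA1_221 : countR 612833 2773 (traceTo LA1.2.1 LA1.2.2 LA1.1 12) = 1323 := by decide +kernel

theorem cntA1_222 : countR 615606 2773 (traceTo LA1.2.1 LA1.2.2 LA1.1 12) = 1264 := by decide +kernel

theorem cntA1_223 : countR 618379 2773 (traceTo LA1.2.1 LA1.2.2 LA1.1 12) = 1300 := by decide +kernel

theorem cntA1_224 : countR 621152 2773 (traceTo LA1.2.1 LA1.2.2 LA1.1 12) = 1376 := by decide +kernel


end Cfsg.Agent.HNOut
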