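import Cfsg.Agent.Lib.Lead.HNOut.LevA

/-! # The outer automorphism group of the Harada–Norton group: the number of points of the tree number 1 of the chain `A`, a part (generated) -/

set_option autoImplicit false
set_option maxRecDepth 100000

namespace Cfsg.Agent.HNOut

open Cfsg.Agent.PF Cfsg.Agent.Lib.Helper6 Cfsg.Agent.Lib.Helper6.TC Cfsg.Agent.Lib.Helper6.NatArr
open Cfsg.Agent.PL (Acts evalF)

theorem cntA1_225 : countR 623925 2773 (traceTo LA1.2.1 LA1.2.2 LA1.1 12) = 1253 := by decide +kernel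

theorem cntA1_226 : countR 626698 2773 (traceTo LA1.2.1 LA1.2.2 LA1.1 12) = 1322 := by decide +kernel

theorem cntA1_227 : countR 629471 2773 (traceTo LA1.2.1 LA1.2.2 LA1.1 12) = 1357 := by decide +kernel

theorem cntA1_228 : countR 632244 2773 (traceTo LA1.2.1 LA1.2.2 LA1.1 12) = 1324 := by decide +kernel

theorem cntA1_229 : countR 635017 2773 (traceTo LA1.2.1 LA1.2.2 LA1.1 12) = 1360 := by decide +kernel

theorem cntA1_230 : countR 637790 2773 (traceTo LA1.2.1 LA1.2.2 LA1.1 12) = 1334 := by decide +kernel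

theorem cntA1_231 : countR 640563 2773 (traceTo LA1.2.1 LA1.2.2 LA1.1 12) = 1324 := by decide +kernel

theorem cntA1_232 : countR 643336 2773 (traceTo LA1.2.1 LA1.2.2 LA1.1 12) = 1372 := by decide +kernel

theorem cntA1_233 : countR 646109 2773 (traceTo LA1.2.1 LA1.2.2 LA1.1 12) = 1368 := by decide +kernel

theorem cntA1_234 : countR 648882 2773 (traceTo LA1.2.1 LA1.2.2 LA1.1 12) = 1345 := by decide +kernel

theorem cntA1_235 : countR 651655 2773 (traceTo LA1.2.1 LA1.2.2 LA1.1 12) = 1334 := by decide +kernel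

theorem cntA1_236 : countR 654428 2773 (traceTo LA1.2.1 LA1.2.2 LA1.1 12) = 1339 := by decide +kernel

theorem cntA1_237 : countR 657201 2773 (traceTo LA1.2.1 LA1.2.2 LA1.1 12) = 1309 := by decide +kernel

theorem cntA1_238 : countR 659974 2773 (traceTo LA1.2.1 LA1.2.2 LA1.1 12) = 1347 := by decide +kernel

theorem cntA1_239 : countR 662747 2773 (traceTo LA1.2.1 LA1.2.2 LA1.1 12) = 1292 := by decide +kernel

theorem cntA1_240 : countR 665520 2773 (traceTo LA1.2.1 LA1.2.2 LA1.1 12) = 1385 := by decide +kernel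

theorem cntA1_241 : countR 668293 2773 (traceTo LA1.2.1 LA1.2.2 LA1.1 12) = 1388 := by decide +kernel

theorem cntA1_242 : countR 671066 2773 (traceTo LA1.2.1 LA1.2.2 LA1.1 12) = 1333 := by decide +kernel

theorem cntA1_243 : countR 673839 2773 (traceTo LA1.2.1 LA1.2.2 LA1.1 12) = 1398 := by decide +kernel

theorem cntA1_244 : countR 676612 2773 (traceTo LA1.2.1 LA1.2.2 LA1.1 12) = 1354 := by decide +kernel

theorem cntA1_245 : countR 679385 2773 (traceTo LA1.2.1 LA1.2.2 LA1.1 12) = 1351 := by decide +kernel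

theorem cntA1_246 : countR 682158 2773 (traceTo LA1.2.1 LA1.2.2 LA1.1 12) = 1378 := by decide +kernel

theorem cntA1_247 : countR 684931 2773 (traceTo LA1.2.1 LA1.2.2 LA1.1 12) = 1347 := by decide +kernel

theorem cntA1_248 : countR 687704 2773 (traceTo LA1.2.1 LA1.2.2 LA1.1 12) = 1363 := by decide +kernel

theorem cntA1_249 : countR 690477 2773 (traceTo LA1.2.1 LA1.2.2 LA1.1 12) = 1322 := by decide +kernel


end Cfsg.Agent.HNOut
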