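import Cfsg.Agent.Lib.Lead.HNOut.CntA1x0
import Cfsg.Agent.Lib.Lead.HNOut.CntA1x1
import Cfsg.Agent.Lib.Lead.HNOut.CntA1x2
import Cfsg.Agent.Lib.Lead.HNOut.CntA1x3
import Cfsg.Agent.Lib.Lead.HNOut.CntA1x4
import Cfsg.Agent.Lib.Lead.HNOut.CntA1x5
import Cfsg.Agent.Lib.Lead.HNOut.CntA1x6
import Cfsg.Agent.Lib.Lead.HNOut.CntA1x7
import Cfsg.Agent.Lib.Lead.HNOut.CntA1x8
import Cfsg.Agent.Lib.Lead.HNOut.CntA1x9
import Cfsg.Agent.Lib.Lead.HNOut.CntA1x10
import Cfsg.Agent.Lib.Lead.HNOut.CntA1x11
import Cfsg.Agent.Lib.Lead.HNOut.CntA1x12
import Cfsg.Agent.Lib.Lead.HNOut.CntA1x13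
import Cfsg.Agent.Lib.Lead.HNOut.CntA1x14
import Cfsg.Agent.Lib.Lead.HNOut.CntA1x15
import Cfsg.Agent.Lib.Lead.HNOut.CntA1x16
import Cfsg.Agent.Lib.Lead.HNOut.CntA1x17
import Cfsg.Agent.Lib.Lead.HNOut.CntA1x18
import Cfsg.Agent.Lib.Lead.HNOut.CntA1x19
import Cfsg.Agent.Lib.Lead.HNOut.CntA1x20
import Cfsg.Agent.Lib.Lead.HNOut.CntA1x21
import Cfsg.Agent.Lib.Lead.HNOut.CntA1x22

/-! # The outer automorphism group of the Harada–Norton group: the number of points of the tree number 1 of the chain `A` (generated) -/

set_option autoImplicit false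
set_option maxRecDepth 100000

namespace Cfsg.Agent.HNOut

open Cfsg.Agent.PF Cfsg.Agent.Lib.Helper6 Cfsg.Agent.Lib.Helper6.TC Cfsg.Agent.Lib.Helper6.NatArr
open Cfsg.Agent.PL (Acts evalF)

theorem cntA1_grp0 : countR 0 277300 (traceTo LA1.2.1 LA1.2.2 LA1.1 12) = 126142 :=
  (countR_append cntA1_0 (countR_append cntA1_1 (countR_append cntA1_2 (countR_append cntA1_3 (countR_append cntA1_4 (countR_append cntA1_5 (countR_append cntA1_6 (countR_append cntA1_7 (countR_append cntA1_8 (countR_append cntA1_9 (countR_append cntA1_10 (countR_append cntA1_11 (countR_append cntA1_12 (countR_append cntA1_13 (countR_append cntA1_14 (countR_append cntA1_15 (countR_append cntA1_16 (countR_append cntA1_17 (countR_append cntA1_18 (countR_append cntA1_19 (countR_append cntA1_20 (countR_append cntA1_21 (countR_append cntA1_22 (countR_append cntA1_23 (countR_append cntA1_24 (countR_append cntA1_25 (countR_append cntA1_26 (countR_append cntA1_27 (countR_append cntA1_28 (countR_append cntA1_29 (countR_append cntA1_30 (countR_append cntA1_31 (countR_append cntA1_32 (countR_append cntA1_33 (countR_append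 cntA1_34 (countR_append cntA1_35 (countR_append cntA1_36 (countR_append cntA1_37 (countR_append cntA1_38 (countR_append cntA1_39 (countR_append cntA1_40 (countR_append cntA1_41 (countR_append cntA1_42 (countR_append cntA1_43 (countR_append cntA1_44 (countR_append cntA1_45 (countR_append cntA1_46 (countR_append cntA1_47 (countR_append cntA1_48 (countR_append cntA1_49 (countR_append cntA1_50 (countR_append cntA1_51 (countR_append cntA1_52 (countR_append cntA1_53 (countR_append cntA1_54 (countR_append cntA1_55 (countR_append cntA1_56 (countR_append cntA1_57 (countR_append cntA1_58 (countR_append cntA1_59 (countR_append cntA1_60 (countR_append cntA1_61 (countR_append cntA1_62 (countR_append cntA1_63 (countR_append cntA1_64 (countR_append cntA1_65 (countR_append cntA1_66 (countR_append cntA1_67 (countR_append cntA1_68 (countR_append cntA1_69 (countR_append cntA1_70 (countR_append cntA1_71 (countR_append cntA1_72 (countR_append cntA1_73 (countR_append cntA1_74 (countR_append cntA1_75 (countR_append cntA1_76 (countR_append cntA1_77 (countR_append cntA1_78 (countR_append cntA1_79 (countR_append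 cntA1_80 (countR_append cntA1_81 (countR_append cntA1_82 (countR_append cntA1_83 (countR_append cntA1_84 (countR_append cntA1_85 (countR_append cntA1_86 (countR_append cntA1_87 (countR_append cntA1_88 (countR_append cntA1_89 (countR_append cntA1_90 (countR_append cntA1_91 (countR_append cntA1_92 (countR_append cntA1_93 (countR_append cntA1_94 (countR_append cntA1_95 (countR_append cntA1_96 (countR_append cntA1_97 (countR_append cntA1_98 (cntA1_99))))))))))))))))))))))))))))))))))))))))))))))))))))))))))))))))))))))))))))))))))))))))))))))))))) :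
    countR 0 (2773 + (2773 + (2773 + (2773 + (2773 + (2773 + (2773 + (2773 + (2773 + (2773 + (2773 + (2773 + (2773 + (2773 + (2773 + (2773 + (2773 + (2773 + (2773 + (2773 + (2773 + (2773 + (2773 + (2773 + (2773 + (2773 + (2773 + (2773 + (2773 + (2773 + (2773 + (2773 + (2773 + (2773 + (2773 + (2773 + (2773 + (2773 + (2773 + (2773 + (2773 + (2773 + (2773 + (2773 + (2773 + (2773 + (2773 + (2773 + (2773 + (2773 + (2773 + (2773 + (2773 + (2773 + (2773 + (2773 + (2773 + (2773 + (2773 + (2773 + (2773 + (2773 + (2773 + (2773 + (2773 + (2773 + (2773 + (2773 + (2773 + (2773 + (2773 + (2773 + (2773 + (2773 + (2773 + (2773 + (2773 + (2773 + (2773 + (2773 + (2773 + (2773 + (2773 + (2773 + (2773 + (2773 + (2773 + (2773 + (2773 + (2773 + (2773 + (2773 + (2773 + (2773 + (2773 + (2773 + (2773 + (2773 + (2773 + (2773)))))))))))))))))))))))))))))))))))))))))))))))))))))))))))))))))))))))))))))))))))))))))))))))))))) (traceTo LA1.2.1 LA1.2.2 LA1.1 12) = 775 + (900 + (1041 + (1086 + (1100 + (1084 + (1089 + (1068 + (1035 + (1040 + (1094 + (1080 + (1001 + (916 + (1275 + (1219 + (1456 + (1319 + (1381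 + (1338 + (1402 + (1406 + (1424 + (1304 + (1433 + (1396 + (1517 + (1382 + (1398 + (1507 + (1430 + (1430 + (1283 + (1408 + (1441 + (1474 + (1429 + (1563 + (1441 + (1438 + (1360 + (1433 + (1425 + (1469 + (1460 + (1403 + (1334 + (1406 + (1387 + (1451 + (1413 + (1397 + (1384 + (1296 + (1416 + (1353 + (1321 + (1337 + (1228 + (1046 + (1116 + (1179 + (1162 + (1101 + (1134 + (1250 + (1208 + (1072 + (1201 + (1232 + (1219 + (1120 + (1210 + (1275 + (1276 + (1156 + (1173 + (1178 + (1256 + (1336 + (1225 + (1163 + (1138 + (1164 + (1270 + (1256 + (1189 + (1212 + (1194 + (1185 + (1297 + (1247 + (1186 + (1219 + (1143 + (1314 + (1201 + (1133 + (1163 + (1267))))))))))))))))))))))))))))))))))))))))))))))))))))))))))))))))))))))))))))))))))))))))))))))))))))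

theorem cntA1_grp1 : countR 277300 277300 (traceTo LA1.2.1 LA1.2.2 LA1.1 12) = 131378 :=
  (countR_append cntA1_100 (countR_append cntA1_101 (countR_append cntA1_102 (countR_append cntA1_103 (countR_append cntA1_104 (countR_append cntA1_105 (countR_append cntA1_106 (countR_append cntA1_107 (countR_append cntA1_108 (countR_append cntA1_109 (countR_append cntA1_110 (countR_append cntA1_111 (countR_append cntA1_112 (countR_append cntA1_113 (countR_append cntA1_114 (countR_append cntA1_115 (countR_append cntA1_116 (countR_append cntA1_117 (countR_append cntA1_118 (countR_append cntA1_119 (countR_append cntA1_120 (countR_append cntA1_121 (countR_append cntA1_122 (countR_append cntA1_123 (countR_append cntA1_124 (countR_append cntA1_125 (countR_append cntA1_126 (countR_append cntA1_127 (countR_append cntA1_128 (countR_append cntA1_129 (countR_append cntA1_130 (countR_append cntA1_131 (countR_append cntA1_132 (countR_append cntA1_133 (countR_append cntA1_134 (countR_append cntA1_135 (countR_append cntA1_136 (countR_append cntA1_137 (countR_append cntA1_138 (countR_append cntA1_139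 (countR_append cntA1_140 (countR_append cntA1_141 (countR_append cntA1_142 (countR_append cntA1_143 (countR_append cntA1_144 (countR_append cntA1_145 (countR_append cntA1_146 (countR_append cntA1_147 (countR_append cntA1_148 (countR_append cntA1_149 (countR_append cntA1_150 (countR_append cntA1_151 (countR_append cntA1_152 (countR_append cntA1_153 (countR_append cntA1_154 (countR_append cntA1_155 (countR_append cntA1_156 (countR_append cntA1_157 (countR_append cntA1_158 (countR_append cntA1_159 (countR_append cntA1_160 (countR_append cntA1_161 (countR_append cntA1_162 (countR_append cntA1_163 (countR_append cntA1_164 (countR_append cntA1_165 (countR_append cntA1_166 (countR_append cntA1_167 (countR_append cntA1_168 (countR_append cntA1_169 (countR_append cntA1_170 (countR_append cntA1_171 (countR_append cntA1_172 (countR_append cntA1_173 (countR_append cntA1_174 (countR_append cntA1_175 (countR_append cntA1_176 (countR_append cntA1_177 (countR_append cntA1_178 (countR_append cntA1_179 (countR_append cntA1_180 (countR_append cntA1_181 (countR_append cntA1_182 (countR_append cntA1_183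 (countR_append cntA1_184 (countR_append cntA1_185 (countR_append cntA1_186 (countR_append cntA1_187 (countR_append cntA1_188 (countR_append cntA1_189 (countR_append cntA1_190 (countR_append cntA1_191 (countR_append cntA1_192 (countR_append cntA1_193 (countR_append cntA1_194 (countR_append cntA1_195 (countR_append cntA1_196 (countR_append cntA1_197 (countR_append cntA1_198 (cntA1_199))))))))))))))))))))))))))))))))))))))))))))))))))))))))))))))))))))))))))))))))))))))))))))))))))) :
    countR 277300 (2773 + (2773 + (2773 + (2773 + (2773 + (2773 + (2773 + (2773 + (2773 + (2773 + (2773 + (2773 + (2773 + (2773 + (2773 + (2773 + (2773 + (2773 + (2773 + (2773 + (2773 + (2773 + (2773 + (2773 + (2773 + (2773 + (2773 + (2773 + (2773 + (2773 + (2773 + (2773 + (2773 + (2773 + (2773 + (2773 + (2773 + (2773 + (2773 + (2773 + (2773 + (2773 + (2773 + (2773 + (2773 + (2773 + (2773 + (2773 + (2773 + (2773 + (2773 + (2773 + (2773 + (2773 + (2773 + (2773 + (2773 + (2773 + (2773 + (2773 + (2773 + (2773 + (2773 + (2773 + (2773 + (2773 + (2773 + (2773 + (2773 + (2773 + (2773 + (2773 + (2773 + (2773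 + (2773 + (2773 + (2773 + (2773 + (2773 + (2773 + (2773 + (2773 + (2773 + (2773 + (2773 + (2773 + (2773 + (2773 + (2773 + (2773 + (2773 + (2773 + (2773 + (2773 + (2773 + (2773 + (2773 + (2773 + (2773 + (2773)))))))))))))))))))))))))))))))))))))))))))))))))))))))))))))))))))))))))))))))))))))))))))))))))))) (traceTo LA1.2.1 LA1.2.2 LA1.1 12) = 1210 + (1156 + (1252 + (1198 + (1226 + (1276 + (1199 + (1369 + (1262 + (1246 + (1241 + (1352 + (1367 + (1303 + (1226 + (1160 + (1397 + (1321 + (1370 + (1275 + (1359 + (1337 + (1282 + (1306 + (1428 + (1286 + (1307 + (1198 + (1326 + (1236 + (1243 + (1338 + (1352 + (1281 + (1419 + (1373 + (1313 + (1277 + (1365 + (1373 + (1340 + (1329 + (1341 + (1273 + (1312 + (1311 + (1362 + (1373 + (1257 + (1278 + (1257 + (1260 + (1379 + (1274 + (1275 + (1314 + (1289 + (1284 + (1232 + (1268 + (1372 + (1287 + (1339 + (1248 + (1305 + (1310 + (1271 + (1302 + (1312 + (1311 + (1252 + (1334 + (1350 + (1405 + (1308 + (1349 + (1285 + (1312 + (1420 + (1395 + (1357 + (1333 + (1369 + (1384 + (1381 + (1403 + (1382 + (1314 + (1400 + (1342 + (1319 + (1346 + (1305 + (1377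 + (1304 + (1388 + (1358 + (1329 + (1335 + (1372))))))))))))))))))))))))))))))))))))))))))))))))))))))))))))))))))))))))))))))))))))))))))))))))))))

theorem cntA1_grp2 : countR 554600 277300 (traceTo LA1.2.1 LA1.2.2 LA1.1 12) = 132186 :=
  (countR_append cntA1_200 (countR_append cntA1_201 (countR_append cntA1_202 (countR_append cntA1_203 (countR_append cntA1_204 (countR_append cntA1_205 (countR_append cntA1_206 (countR_append cntA1_207 (countR_append cntA1_208 (countR_append cntA1_209 (countR_append cntA1_210 (countR_append cntA1_211 (countR_append cntA1_212 (countR_append cntA1_213 (countR_append cntA1_214 (countR_append cntA1_215 (countR_append cntA1_216 (countR_append cntA1_217 (countR_append cntA1_218 (countR_append cntA1_219 (countR_append cntA1_220 (countR_append cntA1_221 (countR_append cntA1_222 (countR_append cntA1_223 (countR_append cntA1_224 (countR_append cntA1_225 (countR_append cntA1_226 (countR_append cntA1_227 (countR_append cntA1_228 (countR_append cntA1_229 (countR_append cntA1_230 (countR_append cntA1_231 (countR_append cntA1_232 (countR_append cntA1_233 (countR_append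 cntA1_234 (countR_append cntA1_235 (countR_append cntA1_236 (countR_append cntA1_237 (countR_append cntA1_238 (countR_append cntA1_239 (countR_append cntA1_240 (countR_append cntA1_241 (countR_append cntA1_242 (countR_append cntA1_243 (countR_append cntA1_244 (countR_append cntA1_245 (countR_append cntA1_246 (countR_append cntA1_247 (countR_append cntA1_248 (countR_append cntA1_249 (countR_append cntA1_250 (countR_append cntA1_251 (countR_append cntA1_252 (countR_append cntA1_253 (countR_append cntA1_254 (countR_append cntA1_255 (countR_append cntA1_256 (countR_append cntA1_257 (countR_append cntA1_258 (countR_append cntA1_259 (countR_append cntA1_260 (countR_append cntA1_261 (countR_append cntA1_262 (countR_append cntA1_263 (countR_append cntA1_264 (countR_append cntA1_265 (countR_append cntA1_266 (countR_append cntA1_267 (countR_append cntA1_268 (countR_append cntA1_269 (countR_append cntA1_270 (countR_append cntA1_271 (countR_append cntA1_272 (countR_append cntA1_273 (countR_append cntA1_274 (countR_append cntA1_275 (countR_append cntA1_276 (countR_append cntA1_277 (countR_append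 cntA1_278 (countR_append cntA1_279 (countR_append cntA1_280 (countR_append cntA1_281 (countR_append cntA1_282 (countR_append cntA1_283 (countR_append cntA1_284 (countR_append cntA1_285 (countR_append cntA1_286 (countR_append cntA1_287 (countR_append cntA1_288 (countR_append cntA1_289 (countR_append cntA1_290 (countR_append cntA1_291 (countR_append cntA1_292 (countR_append cntA1_293 (countR_append cntA1_294 (countR_append cntA1_295 (countR_append cntA1_296 (countR_append cntA1_297 (countR_append cntA1_298 (cntA1_299))))))))))))))))))))))))))))))))))))))))))))))))))))))))))))))))))))))))))))))))))))))))))))))))))) :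
    countR 554600 (2773 + (2773 + (2773 + (2773 + (2773 + (2773 + (2773 + (2773 + (2773 + (2773 + (2773 + (2773 + (2773 + (2773 + (2773 + (2773 + (2773 + (2773 + (2773 + (2773 + (2773 + (2773 + (2773 + (2773 + (2773 + (2773 + (2773 + (2773 + (2773 + (2773 + (2773 + (2773 + (2773 + (2773 + (2773 + (2773 + (2773 + (2773 + (2773 + (2773 + (2773 + (2773 + (2773 + (2773 + (2773 + (2773 + (2773 + (2773 + (2773 + (2773 + (2773 + (2773 + (2773 + (2773 + (2773 + (2773 + (2773 + (2773 + (2773 + (2773 + (2773 + (2773 + (2773 + (2773 + (2773 + (2773 + (2773 + (2773 + (2773 + (2773 + (2773 + (2773 + (2773 + (2773 + (2773 + (2773 + (2773 + (2773 + (2773 + (2773 + (2773 + (2773 + (2773 + (2773 + (2773 + (2773 + (2773 + (2773 + (2773 + (2773 + (2773 + (2773 + (2773 + (2773 + (2773 + (2773 + (2773 + (2773 + (2773 + (2773)))))))))))))))))))))))))))))))))))))))))))))))))))))))))))))))))))))))))))))))))))))))))))))))))))) (traceTo LA1.2.1 LA1.2.2 LA1.1 12) = 1318 + (1307 + (1292 + (1245 + (1262 + (1275 + (1311 + (1315 + (1311 + (1342 + (1261 + (1283 + (1371 + (1311 + (1340 + (1309 + (1309 + (1244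 + (1273 + (1269 + (1279 + (1323 + (1264 + (1300 + (1376 + (1253 + (1322 + (1357 + (1324 + (1360 + (1334 + (1324 + (1372 + (1368 + (1345 + (1334 + (1339 + (1309 + (1347 + (1292 + (1385 + (1388 + (1333 + (1398 + (1354 + (1351 + (1378 + (1347 + (1363 + (1322 + (1305 + (1296 + (1323 + (1348 + (1306 + (1317 + (1327 + (1355 + (1271 + (1301 + (1372 + (1332 + (1278 + (1289 + (1321 + (1322 + (1278 + (1316 + (1329 + (1360 + (1356 + (1272 + (1359 + (1331 + (1299 + (1339 + (1378 + (1322 + (1284 + (1256 + (1295 + (1290 + (1327 + (1387 + (1302 + (1362 + (1399 + (1356 + (1379 + (1352 + (1333 + (1392 + (1288 + (1242 + (1281 + (1337 + (1277 + (1304 + (1264 + (1388))))))))))))))))))))))))))))))))))))))))))))))))))))))))))))))))))))))))))))))))))))))))))))))))))))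

theorem cntA1_grp3 : countR 831900 277300 (traceTo LA1.2.1 LA1.2.2 LA1.1 12) = 129278 :=
  (countR_append cntA1_300 (countR_append cntA1_301 (countR_append cntA1_302 (countR_append cntA1_303 (countR_append cntA1_304 (countR_append cntA1_305 (countR_append cntA1_306 (countR_append cntA1_307 (countR_append cntA1_308 (countR_append cntA1_309 (countR_append cntA1_310 (countR_append cntA1_311 (countR_append cntA1_312 (countR_append cntA1_313 (countR_append cntA1_314 (countR_append cntA1_315 (countR_append cntA1_316 (countR_append cntA1_317 (countR_append cntA1_318 (countR_append cntA1_319 (countR_append cntA1_320 (countR_append cntA1_321 (countR_append cntA1_322 (countR_append cntA1_323 (countR_append cntA1_324 (countR_append cntA1_325 (countR_append cntA1_326 (countR_append cntA1_327 (countR_append cntA1_328 (countR_append cntA1_329 (countR_append cntA1_330 (countR_append cntA1_331 (countR_append cntA1_332 (countR_append cntA1_333 (countR_append cntA1_334 (countR_append cntA1_335 (countR_append cntA1_336 (countR_append cntA1_337 (countR_append cntA1_338 (countR_append cntA1_339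 (countR_append cntA1_340 (countR_append cntA1_341 (countR_append cntA1_342 (countR_append cntA1_343 (countR_append cntA1_344 (countR_append cntA1_345 (countR_append cntA1_346 (countR_append cntA1_347 (countR_append cntA1_348 (countR_append cntA1_349 (countR_append cntA1_350 (countR_append cntA1_351 (countR_append cntA1_352 (countR_append cntA1_353 (countR_append cntA1_354 (countR_append cntA1_355 (countR_append cntA1_356 (countR_append cntA1_357 (countR_append cntA1_358 (countR_append cntA1_359 (countR_append cntA1_360 (countR_append cntA1_361 (countR_append cntA1_362 (countR_append cntA1_363 (countR_append cntA1_364 (countR_append cntA1_365 (countR_append cntA1_366 (countR_append cntA1_367 (countR_append cntA1_368 (countR_append cntA1_369 (countR_append cntA1_370 (countR_append cntA1_371 (countR_append cntA1_372 (countR_append cntA1_373 (countR_append cntA1_374 (countR_append cntA1_375 (countR_append cntA1_376 (countR_append cntA1_377 (countR_append cntA1_378 (countR_append cntA1_379 (countR_append cntA1_380 (countR_append cntA1_381 (countR_append cntA1_382 (countR_append cntA1_383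 (countR_append cntA1_384 (countR_append cntA1_385 (countR_append cntA1_386 (countR_append cntA1_387 (countR_append cntA1_388 (countR_append cntA1_389 (countR_append cntA1_390 (countR_append cntA1_391 (countR_append cntA1_392 (countR_append cntA1_393 (countR_append cntA1_394 (countR_append cntA1_395 (countR_append cntA1_396 (countR_append cntA1_397 (countR_append cntA1_398 (cntA1_399))))))))))))))))))))))))))))))))))))))))))))))))))))))))))))))))))))))))))))))))))))))))))))))))))) :
    countR 831900 (2773 + (2773 + (2773 + (2773 + (2773 + (2773 + (2773 + (2773 + (2773 + (2773 + (2773 + (2773 + (2773 + (2773 + (2773 + (2773 + (2773 + (2773 + (2773 + (2773 + (2773 + (2773 + (2773 + (2773 + (2773 + (2773 + (2773 + (2773 + (2773 + (2773 + (2773 + (2773 + (2773 + (2773 + (2773 + (2773 + (2773 + (2773 + (2773 + (2773 + (2773 + (2773 + (2773 + (2773 + (2773 + (2773 + (2773 + (2773 + (2773 + (2773 + (2773 + (2773 + (2773 + (2773 + (2773 + (2773 + (2773 + (2773 + (2773 + (2773 + (2773 + (2773 + (2773 + (2773 + (2773 + (2773 + (2773 + (2773 + (2773 + (2773 + (2773 + (2773 + (2773 + (2773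 + (2773 + (2773 + (2773 + (2773 + (2773 + (2773 + (2773 + (2773 + (2773 + (2773 + (2773 + (2773 + (2773 + (2773 + (2773 + (2773 + (2773 + (2773 + (2773 + (2773 + (2773 + (2773 + (2773 + (2773 + (2773 + (2773)))))))))))))))))))))))))))))))))))))))))))))))))))))))))))))))))))))))))))))))))))))))))))))))))))) (traceTo LA1.2.1 LA1.2.2 LA1.1 12) = 1339 + (1322 + (1328 + (1349 + (1306 + (1361 + (1331 + (1365 + (1262 + (1305 + (1382 + (1230 + (1271 + (1260 + (1381 + (1355 + (1314 + (1284 + (1372 + (1277 + (1283 + (1339 + (1317 + (1364 + (1351 + (1297 + (1301 + (1327 + (1363 + (1324 + (1265 + (1203 + (1247 + (1264 + (1314 + (1223 + (1306 + (1212 + (1273 + (1390 + (1305 + (1129 + (1264 + (1365 + (1338 + (1237 + (1249 + (1238 + (1264 + (1329 + (1386 + (1278 + (1175 + (1235 + (1266 + (1294 + (1265 + (1291 + (1321 + (1298 + (1301 + (1271 + (1323 + (1282 + (1301 + (1321 + (1338 + (1253 + (1357 + (1325 + (1316 + (1253 + (1155 + (1127 + (1204 + (1226 + (1267 + (1229 + (1335 + (1306 + (1350 + (1355 + (1285 + (1298 + (1256 + (1178 + (1235 + (1257 + (1223 + (1244 + (1342 + (1349 + (1207 + (1381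 + (1288 + (1359 + (1304 + (1277 + (1371 + (1345))))))))))))))))))))))))))))))))))))))))))))))))))))))))))))))))))))))))))))))))))))))))))))))))))))

theorem cntA1_grp4 : countR 1109200 277300 (traceTo LA1.2.1 LA1.2.2 LA1.1 12) = 141962 :=
  (countR_append cntA1_400 (countR_append cntA1_401 (countR_append cntA1_402 (countR_append cntA1_403 (countR_append cntA1_404 (countR_append cntA1_405 (countR_append cntA1_406 (countR_append cntA1_407 (countR_append cntA1_408 (countR_append cntA1_409 (countR_append cntA1_410 (countR_append cntA1_411 (countR_append cntA1_412 (countR_append cntA1_413 (countR_append cntA1_414 (countR_append cntA1_415 (countR_append cntA1_416 (countR_append cntA1_417 (countR_append cntA1_418 (countR_append cntA1_419 (countR_append cntA1_420 (countR_append cntA1_421 (countR_append cntA1_422 (countR_append cntA1_423 (countR_append cntA1_424 (countR_append cntA1_425 (countR_append cntA1_426 (countR_append cntA1_427 (countR_append cntA1_428 (countR_append cntA1_429 (countR_append cntA1_430 (countR_append cntA1_431 (countR_append cntA1_432 (countR_append cntA1_433 (countR_append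 cntA1_434 (countR_append cntA1_435 (countR_append cntA1_436 (countR_append cntA1_437 (countR_append cntA1_438 (countR_append cntA1_439 (countR_append cntA1_440 (countR_append cntA1_441 (countR_append cntA1_442 (countR_append cntA1_443 (countR_append cntA1_444 (countR_append cntA1_445 (countR_append cntA1_446 (countR_append cntA1_447 (countR_append cntA1_448 (countR_append cntA1_449 (countR_append cntA1_450 (countR_append cntA1_451 (countR_append cntA1_452 (countR_append cntA1_453 (countR_append cntA1_454 (countR_append cntA1_455 (countR_append cntA1_456 (countR_append cntA1_457 (countR_append cntA1_458 (countR_append cntA1_459 (countR_append cntA1_460 (countR_append cntA1_461 (countR_append cntA1_462 (countR_append cntA1_463 (countR_append cntA1_464 (countR_append cntA1_465 (countR_append cntA1_466 (countR_append cntA1_467 (countR_append cntA1_468 (countR_append cntA1_469 (countR_append cntA1_470 (countR_append cntA1_471 (countR_append cntA1_472 (countR_append cntA1_473 (countR_append cntA1_474 (countR_append cntA1_475 (countR_append cntA1_476 (countR_append cntA1_477 (countR_append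 cntA1_478 (countR_append cntA1_479 (countR_append cntA1_480 (countR_append cntA1_481 (countR_append cntA1_482 (countR_append cntA1_483 (countR_append cntA1_484 (countR_append cntA1_485 (countR_append cntA1_486 (countR_append cntA1_487 (countR_append cntA1_488 (countR_append cntA1_489 (countR_append cntA1_490 (countR_append cntA1_491 (countR_append cntA1_492 (countR_append cntA1_493 (countR_append cntA1_494 (countR_append cntA1_495 (countR_append cntA1_496 (countR_append cntA1_497 (countR_append cntA1_498 (cntA1_499))))))))))))))))))))))))))))))))))))))))))))))))))))))))))))))))))))))))))))))))))))))))))))))))))) :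
    countR 1109200 (2773 + (2773 + (2773 + (2773 + (2773 + (2773 + (2773 + (2773 + (2773 + (2773 + (2773 + (2773 + (2773 + (2773 + (2773 + (2773 + (2773 + (2773 + (2773 + (2773 + (2773 + (2773 + (2773 + (2773 + (2773 + (2773 + (2773 + (2773 + (2773 + (2773 + (2773 + (2773 + (2773 + (2773 + (2773 + (2773 + (2773 + (2773 + (2773 + (2773 + (2773 + (2773 + (2773 + (2773 + (2773 + (2773 + (2773 + (2773 + (2773 + (2773 + (2773 + (2773 + (2773 + (2773 + (2773 + (2773 + (2773 + (2773 + (2773 + (2773 + (2773 + (2773 + (2773 + (2773 + (2773 + (2773 + (2773 + (2773 + (2773 + (2773 + (2773 + (2773 + (2773 + (2773 + (2773 + (2773 + (2773 + (2773 + (2773 + (2773 + (2773 + (2773 + (2773 + (2773 + (2773 + (2773 + (2773 + (2773 + (2773 + (2773 + (2773 + (2773 + (2773 + (2773 + (2773 + (2773 + (2773 + (2773 + (2773 + (2773)))))))))))))))))))))))))))))))))))))))))))))))))))))))))))))))))))))))))))))))))))))))))))))))))))) (traceTo LA1.2.1 LA1.2.2 LA1.1 12) = 1273 + (1219 + (1264 + (1247 + (1193 + (1214 + (1279 + (1320 + (1269 + (1254 + (1267 + (1271 + (1322 + (1362 + (1305 + (1303 + (1287 + (1228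 + (1175 + (1270 + (1249 + (1263 + (1275 + (1382 + (1317 + (1222 + (1301 + (1304 + (1286 + (1295 + (1246 + (1285 + (1234 + (1306 + (1250 + (1200 + (1249 + (1306 + (1229 + (1275 + (1289 + (1317 + (1162 + (1259 + (1197 + (1631 + (2032 + (1980 + (2027 + (2033 + (2084 + (2045 + (1988 + (1810 + (1798 + (1401 + (1400 + (1594 + (1342 + (1528 + (1563 + (1615 + (1520 + (1401 + (1624 + (1493 + (1493 + (1517 + (1417 + (1514 + (1443 + (1497 + (1651 + (1460 + (1429 + (1340 + (1329 + (1529 + (1513 + (1461 + (1442 + (1439 + (1473 + (1521 + (1491 + (1279 + (1459 + (1486 + (1456 + (1349 + (1427 + (1397 + (1471 + (1321 + (1481 + (1401 + (1371 + (1327 + (1326 + (1523))))))))))))))))))))))))))))))))))))))))))))))))))))))))))))))))))))))))))))))))))))))))))))))))))))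

theorem cntA1_grp5 : countR 1386500 152500 (traceTo LA1.2.1 LA1.2.2 LA1.1 12) = 78254 :=
  (countR_append cntA1_500 (countR_append cntA1_501 (countR_append cntA1_502 (countR_append cntA1_503 (countR_append cntA1_504 (countR_append cntA1_505 (countR_append cntA1_506 (countR_append cntA1_507 (countR_append cntA1_508 (countR_append cntA1_509 (countR_append cntA1_510 (countR_append cntA1_511 (countR_append cntA1_512 (countR_append cntA1_513 (countR_append cntA1_514 (countR_append cntA1_515 (countR_append cntA1_516 (countR_append cntA1_517 (countR_append cntA1_518 (countR_append cntA1_519 (countR_append cntA1_520 (countR_append cntA1_521 (countR_append cntA1_522 (countR_append cntA1_523 (countR_append cntA1_524 (countR_append cntA1_525 (countR_append cntA1_526 (countR_append cntA1_527 (countR_append cntA1_528 (countR_append cntA1_529 (countR_append cntA1_530 (countR_append cntA1_531 (countR_append cntA1_532 (countR_append cntA1_533 (countR_append cntA1_534 (countR_append cntA1_535 (countR_append cntA1_536 (countR_append cntA1_537 (countR_append cntA1_538 (countR_append cntA1_539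 (countR_append cntA1_540 (countR_append cntA1_541 (countR_append cntA1_542 (countR_append cntA1_543 (countR_append cntA1_544 (countR_append cntA1_545 (countR_append cntA1_546 (countR_append cntA1_547 (countR_append cntA1_548 (countR_append cntA1_549 (countR_append cntA1_550 (countR_append cntA1_551 (countR_append cntA1_552 (countR_append cntA1_553 (cntA1_554)))))))))))))))))))))))))))))))))))))))))))))))))))))) :
    countR 1386500 (2773 + (2773 + (2773 + (2773 + (2773 + (2773 + (2773 + (2773 + (2773 + (2773 + (2773 + (2773 + (2773 + (2773 + (2773 + (2773 + (2773 + (2773 + (2773 + (2773 + (2773 + (2773 + (2773 + (2773 + (2773 + (2773 + (2773 + (2773 + (2773 + (2773 + (2773 + (2773 + (2773 + (2773 + (2773 + (2773 + (2773 + (2773 + (2773 + (2773 + (2773 + (2773 + (2773 + (2773 + (2773 + (2773 + (2773 + (2773 + (2773 + (2773 + (2773 + (2773 + (2773 + (2773 + (2758))))))))))))))))))))))))))))))))))))))))))))))))))))))) (traceTo LA1.2.1 LA1.2.2 LA1.1 12) = 1482 + (1587 + (1481 + (1619 + (1451 + (1609 + (1577 + (1472 + (1426 + (1456 + (1546 + (1573 + (1472 + (1483 + (1452 + (1512 +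 (1426 + (1423 + (1456 + (1442 + (1639 + (1367 + (1282 + (1449 + (1424 + (1363 + (1400 + (1491 + (1487 + (1557 + (1562 + (1563 + (1557 + (1502 + (1620 + (1399 + (1433 + (1355 + (1666 + (1543 + (1439 + (1479 + (1223 + (1437 + (1516 + (1316 + (1023 + (1129 + (1087 + (1065 + (1175 + (1143 + (1165 + (1122 + (1331)))))))))))))))))))))))))))))))))))))))))))))))))))))))

/-- the number of points of the tree number 1 of the chain `A` -/
theorem lenA1 : (orbitL 1539000 LA1.2.1 LA1.2.2 LA1.1 12).length = 739200 := by
  rw [length_orbitL]
  exact (countR_append cntA1_grp0 (countR_append cntA1_grp1 (countR_append cntA1_grp2 (countR_append cntA1_grp3 (countR_append cntA1_grp4 (cntA1_grp5))))) :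
    countR 0 (277300 + (277300 + (277300 + (277300 + (277300 + (152500)))))) (traceTo LA1.2.1 LA1.2.2 LA1.1 12) = 126142 + (131378 + (132186 + (129278 + (141962 + (78254))))))

end Cfsg.Agent.HNOut
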