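import Cfsg.Agent.Lib.Lead.HNOut.LevA

/-! # The outer automorphism group of the Harada–Norton group: the number of points of the tree number 2 of the chain `A`, a part (generated) -/

set_option autoImplicit false
set_option maxRecDepth 100000

namespace Cfsg.Agent.HNOut

open Cfsg.Agent.PF Cfsg.Agent.Lib.Helper6 Cfsg.Agent.Lib.Helper6.TC Cfsg.Agent.Lib.Helper6.NatArr
open Cfsg.Agent.PL (Acts evalF)

theorem cntA2_25 : countR 69325 2773 (traceTo LA2.2.1 LA2.2.2 LA2.1 12) = 3 := by decide +kernel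

theorem cntA2_26 : countR 72098 2773 (traceTo LA2.2.1 LA2.2.2 LA2.1 12) = 2 := by decide +kernel

theorem cntA2_27 : countR 74871 2773 (traceTo LA2.2.1 LA2.2.2 LA2.1 12) = 1 := by decide +kernel

theorem cntA2_28 : countR 77644 2773 (traceTo LA2.2.1 LA2.2.2 LA2.1 12) = 4 := by decide +kernel

theorem cntA2_29 : countR 80417 2773 (traceTo LA2.2.1 LA2.2.2 LA2.1 12) = 2 := by decide +kernel

theorem cntA2_30 : countR 83190 2773 (traceTo LA2.2.1 LA2.2.2 LA2.1 12) = 2 := by decide +kernel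

theorem cntA2_31 : countR 85963 2773 (traceTo LA2.2.1 LA2.2.2 LA2.1 12) = 4 := by decide +kernel

theorem cntA2_32 : countR 88736 2773 (traceTo LA2.2.1 LA2.2.2 LA2.1 12) = 1 := by decide +kernel

theorem cntA2_33 : countR 91509 2773 (traceTo LA2.2.1 LA2.2.2 LA2.1 12) = 2 := by decide +kernel

theorem cntA2_34 : countR 94282 2773 (traceTo LA2.2.1 LA2.2.2 LA2.1 12) = 3 := by decide +kernel

theorem cntA2_35 : countR 97055 2773 (traceTo LA2.2.1 LA2.2.2 LA2.1 12) = 2 := by decide +kernel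

theorem cntA2_36 : countR 99828 2773 (traceTo LA2.2.1 LA2.2.2 LA2.1 12) = 4 := by decide +kernel

theorem cntA2_37 : countR 102601 2773 (traceTo LA2.2.1 LA2.2.2 LA2.1 12) = 3 := by decide +kernel

theorem cntA2_38 : countR 105374 2773 (traceTo LA2.2.1 LA2.2.2 LA2.1 12) = 6 := by decide +kernel

theorem cntA2_39 : countR 108147 2773 (traceTo LA2.2.1 LA2.2.2 LA2.1 12) = 3 := by decide +kernel

theorem cntA2_40 : countR 110920 2773 (traceTo LA2.2.1 LA2.2.2 LA2.1 12) = 2 := by decide +kernel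

theorem cntA2_41 : countR 113693 2773 (traceTo LA2.2.1 LA2.2.2 LA2.1 12) = 1 := by decide +kernel

theorem cntA2_42 : countR 116466 2773 (traceTo LA2.2.1 LA2.2.2 LA2.1 12) = 3 := by decide +kernel

theorem cntA2_43 : countR 119239 2773 (traceTo LA2.2.1 LA2.2.2 LA2.1 12) = 4 := by decide +kernel

theorem cntA2_44 : countR 122012 2773 (traceTo LA2.2.1 LA2.2.2 LA2.1 12) = 1 := by decide +kernel

theorem cntA2_45 : countR 124785 2773 (traceTo LA2.2.1 LA2.2.2 LA2.1 12) = 2 := by decide +kernel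

theorem cntA2_46 : countR 127558 2773 (traceTo LA2.2.1 LA2.2.2 LA2.1 12) = 0 := by decide +kernel

theorem cntA2_47 : countR 130331 2773 (traceTo LA2.2.1 LA2.2.2 LA2.1 12) = 2 := by decide +kernel

theorem cntA2_48 : countR 133104 2773 (traceTo LA2.2.1 LA2.2.2 LA2.1 12) = 4 := by decide +kernel

theorem cntA2_49 : countR 135877 2773 (traceTo LA2.2.1 LA2.2.2 LA2.1 12) = 1 := by decide +kernel


end Cfsg.Agent.HNOut
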