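import Cfsg.Agent.Lib.Lead.HNOut.LevA

/-! # The outer automorphism group of the Harada–Norton group: the number of points of the tree number 2 of the chain `A`, a part (generated) -/

set_option autoImplicit false
set_option maxRecDepth 100000

namespace Cfsg.Agent.HNOut

open Cfsg.Agent.PF Cfsg.Agent.Lib.Helper6 Cfsg.Agent.Lib.Helper6.TC Cfsg.Agent.Lib.Helper6.NatArr
open Cfsg.Agent.PL (Acts evalF)

theorem cntA2_250 : countR 693250 2773 (traceTo LA2.2.1 LA2.2.2 LA2.1 12) = 0 := by decide +kernel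

theorem cntA2_251 : countR 696023 2773 (traceTo LA2.2.1 LA2.2.2 LA2.1 12) = 0 := by decide +kernel

theorem cntA2_252 : countR 698796 2773 (traceTo LA2.2.1 LA2.2.2 LA2.1 12) = 0 := by decide +kernel

theorem cntA2_253 : countR 701569 2773 (traceTo LA2.2.1 LA2.2.2 LA2.1 12) = 0 := by decide +kernel

theorem cntA2_254 : countR 704342 2773 (traceTo LA2.2.1 LA2.2.2 LA2.1 12) = 0 := by decide +kernel

theorem cntA2_255 : countR 707115 2773 (traceTo LA2.2.1 LA2.2.2 LA2.1 12) = 0 := by decide +kernel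

theorem cntA2_256 : countR 709888 2773 (traceTo LA2.2.1 LA2.2.2 LA2.1 12) = 0 := by decide +kernel

theorem cntA2_257 : countR 712661 2773 (traceTo LA2.2.1 LA2.2.2 LA2.1 12) = 0 := by decide +kernel

theorem cntA2_258 : countR 715434 2773 (traceTo LA2.2.1 LA2.2.2 LA2.1 12) = 0 := by decide +kernel

theorem cntA2_259 : countR 718207 2773 (traceTo LA2.2.1 LA2.2.2 LA2.1 12) = 0 := by decide +kernel

theorem cntA2_260 : countR 720980 2773 (traceTo LA2.2.1 LA2.2.2 LA2.1 12) = 0 := by decide +kernel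

theorem cntA2_261 : countR 723753 2773 (traceTo LA2.2.1 LA2.2.2 LA2.1 12) = 0 := by decide +kernel

theorem cntA2_262 : countR 726526 2773 (traceTo LA2.2.1 LA2.2.2 LA2.1 12) = 0 := by decide +kernel

theorem cntA2_263 : countR 729299 2773 (traceTo LA2.2.1 LA2.2.2 LA2.1 12) = 0 := by decide +kernel

theorem cntA2_264 : countR 732072 2773 (traceTo LA2.2.1 LA2.2.2 LA2.1 12) = 0 := by decide +kernel

theorem cntA2_265 : countR 734845 2773 (traceTo LA2.2.1 LA2.2.2 LA2.1 12) = 0 := by decide +kernel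

theorem cntA2_266 : countR 737618 2773 (traceTo LA2.2.1 LA2.2.2 LA2.1 12) = 0 := by decide +kernel

theorem cntA2_267 : countR 740391 2773 (traceTo LA2.2.1 LA2.2.2 LA2.1 12) = 0 := by decide +kernel

theorem cntA2_268 : countR 743164 2773 (traceTo LA2.2.1 LA2.2.2 LA2.1 12) = 0 := by decide +kernel

theorem cntA2_269 : countR 745937 2773 (traceTo LA2.2.1 LA2.2.2 LA2.1 12) = 0 := by decide +kernel

theorem cntA2_270 : countR 748710 2773 (traceTo LA2.2.1 LA2.2.2 LA2.1 12) = 0 := by decide +kernel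

theorem cntA2_271 : countR 751483 2773 (traceTo LA2.2.1 LA2.2.2 LA2.1 12) = 0 := by decide +kernel

theorem cntA2_272 : countR 754256 2773 (traceTo LA2.2.1 LA2.2.2 LA2.1 12) = 0 := by decide +kernel

theorem cntA2_273 : countR 757029 2773 (traceTo LA2.2.1 LA2.2.2 LA2.1 12) = 0 := by decide +kernel

theorem cntA2_274 : countR 759802 2773 (traceTo LA2.2.1 LA2.2.2 LA2.1 12) = 0 := by decide +kernel


end Cfsg.Agent.HNOut
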