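import Cfsg.Agent.Lib.Lead.HNOut.LevA

/-! # The outer automorphism group of the Harada–Norton group: the number of points of the tree number 2 of the chain `A`, a part (generated) -/

set_option autoImplicit false
set_option maxRecDepth 100000

namespace Cfsg.Agent.HNOut

open Cfsg.Agent.PF Cfsg.Agent.Lib.Helper6 Cfsg.Agent.Lib.Helper6.TC Cfsg.Agent.Lib.Helper6.NatArr
open Cfsg.Agent.PL (Acts evalF)

theorem cntA2_275 : countR 762575 2773 (traceTo LA2.2.1 LA2.2.2 LA2.1 12) = 0 := by decide +kernel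

theorem cntA2_276 : countR 765348 2773 (traceTo LA2.2.1 LA2.2.2 LA2.1 12) = 0 := by decide +kernel

theorem cntA2_277 : countR 768121 2773 (traceTo LA2.2.1 LA2.2.2 LA2.1 12) = 0 := by decide +kernel

theorem cntA2_278 : countR 770894 2773 (traceTo LA2.2.1 LA2.2.2 LA2.1 12) = 0 := by decide +kernel

theorem cntA2_279 : countR 773667 2773 (traceTo LA2.2.1 LA2.2.2 LA2.1 12) = 0 := by decide +kernel

theorem cntA2_280 : countR 776440 2773 (traceTo LA2.2.1 LA2.2.2 LA2.1 12) = 0 := by decide +kernel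

theorem cntA2_281 : countR 779213 2773 (traceTo LA2.2.1 LA2.2.2 LA2.1 12) = 0 := by decide +kernel

theorem cntA2_282 : countR 781986 2773 (traceTo LA2.2.1 LA2.2.2 LA2.1 12) = 0 := by decide +kernel

theorem cntA2_283 : countR 784759 2773 (traceTo LA2.2.1 LA2.2.2 LA2.1 12) = 0 := by decide +kernel

theorem cntA2_284 : countR 787532 2773 (traceTo LA2.2.1 LA2.2.2 LA2.1 12) = 0 := by decide +kernel

theorem cntA2_285 : countR 790305 2773 (traceTo LA2.2.1 LA2.2.2 LA2.1 12) = 0 := by decide +kernel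

theorem cntA2_286 : countR 793078 2773 (traceTo LA2.2.1 LA2.2.2 LA2.1 12) = 0 := by decide +kernel

theorem cntA2_287 : countR 795851 2773 (traceTo LA2.2.1 LA2.2.2 LA2.1 12) = 0 := by decide +kernel

theorem cntA2_288 : countR 798624 2773 (traceTo LA2.2.1 LA2.2.2 LA2.1 12) = 0 := by decide +kernel

theorem cntA2_289 : countR 801397 2773 (traceTo LA2.2.1 LA2.2.2 LA2.1 12) = 0 := by decide +kernel

theorem cntA2_290 : countR 804170 2773 (traceTo LA2.2.1 LA2.2.2 LA2.1 12) = 0 := by decide +kernel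

theorem cntA2_291 : countR 806943 2773 (traceTo LA2.2.1 LA2.2.2 LA2.1 12) = 0 := by decide +kernel

theorem cntA2_292 : countR 809716 2773 (traceTo LA2.2.1 LA2.2.2 LA2.1 12) = 0 := by decide +kernel

theorem cntA2_293 : countR 812489 2773 (traceTo LA2.2.1 LA2.2.2 LA2.1 12) = 0 := by decide +kernel

theorem cntA2_294 : countR 815262 2773 (traceTo LA2.2.1 LA2.2.2 LA2.1 12) = 0 := by decide +kernel

theorem cntA2_295 : countR 818035 2773 (traceTo LA2.2.1 LA2.2.2 LA2.1 12) = 0 := by decide +kernel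

theorem cntA2_296 : countR 820808 2773 (traceTo LA2.2.1 LA2.2.2 LA2.1 12) = 0 := by decide +kernel

theorem cntA2_297 : countR 823581 2773 (traceTo LA2.2.1 LA2.2.2 LA2.1 12) = 0 := by decide +kernel

theorem cntA2_298 : countR 826354 2773 (traceTo LA2.2.1 LA2.2.2 LA2.1 12) = 0 := by decide +kernel

theorem cntA2_299 : countR 829127 2773 (traceTo LA2.2.1 LA2.2.2 LA2.1 12) = 0 := by decide +kernel


end Cfsg.Agent.HNOut
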