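import Cfsg.Agent.Lib.Lead.HNOut.LevA

/-! # The outer automorphism group of the Harada–Norton group: the number of points of the tree number 2 of the chain `A`, a part (generated) -/

set_option autoImplicit false
set_option maxRecDepth 100000

namespace Cfsg.Agent.HNOut

open Cfsg.Agent.PF Cfsg.Agent.Lib.Helper6 Cfsg.Agent.Lib.Helper6.TC Cfsg.Agent.Lib.Helper6.NatArr
open Cfsg.Agent.PL (Acts evalF)

theorem cntA2_325 : countR 901225 2773 (traceTo LA2.2.1 LA2.2.2 LA2.1 12) = 0 := by decide +kernel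

theorem cntA2_326 : countR 903998 2773 (traceTo LA2.2.1 LA2.2.2 LA2.1 12) = 0 := by decide +kernel

theorem cntA2_327 : countR 906771 2773 (traceTo LA2.2.1 LA2.2.2 LA2.1 12) = 0 := by decide +kernel

theorem cntA2_328 : countR 909544 2773 (traceTo LA2.2.1 LA2.2.2 LA2.1 12) = 0 := by decide +kernel

theorem cntA2_329 : countR 912317 2773 (traceTo LA2.2.1 LA2.2.2 LA2.1 12) = 0 := by decide +kernel

theorem cntA2_330 : countR 915090 2773 (traceTo LA2.2.1 LA2.2.2 LA2.1 12) = 0 := by decide +kernel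

theorem cntA2_331 : countR 917863 2773 (traceTo LA2.2.1 LA2.2.2 LA2.1 12) = 0 := by decide +kernel

theorem cntA2_332 : countR 920636 2773 (traceTo LA2.2.1 LA2.2.2 LA2.1 12) = 0 := by decide +kernel

theorem cntA2_333 : countR 923409 2773 (traceTo LA2.2.1 LA2.2.2 LA2.1 12) = 2 := by decide +kernel

theorem cntA2_334 : countR 926182 2773 (traceTo LA2.2.1 LA2.2.2 LA2.1 12) = 0 := by decide +kernel

theorem cntA2_335 : countR 928955 2773 (traceTo LA2.2.1 LA2.2.2 LA2.1 12) = 1 := by decide +kernel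

theorem cntA2_336 : countR 931728 2773 (traceTo LA2.2.1 LA2.2.2 LA2.1 12) = 0 := by decide +kernel

theorem cntA2_337 : countR 934501 2773 (traceTo LA2.2.1 LA2.2.2 LA2.1 12) = 2 := by decide +kernel

theorem cntA2_338 : countR 937274 2773 (traceTo LA2.2.1 LA2.2.2 LA2.1 12) = 1 := by decide +kernel

theorem cntA2_339 : countR 940047 2773 (traceTo LA2.2.1 LA2.2.2 LA2.1 12) = 1 := by decide +kernel

theorem cntA2_340 : countR 942820 2773 (traceTo LA2.2.1 LA2.2.2 LA2.1 12) = 0 := by decide +kernel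

theorem cntA2_341 : countR 945593 2773 (traceTo LA2.2.1 LA2.2.2 LA2.1 12) = 0 := by decide +kernel

theorem cntA2_342 : countR 948366 2773 (traceTo LA2.2.1 LA2.2.2 LA2.1 12) = 0 := by decide +kernel

theorem cntA2_343 : countR 951139 2773 (traceTo LA2.2.1 LA2.2.2 LA2.1 12) = 0 := by decide +kernel

theorem cntA2_344 : countR 953912 2773 (traceTo LA2.2.1 LA2.2.2 LA2.1 12) = 2 := by decide +kernel

theorem cntA2_345 : countR 956685 2773 (traceTo LA2.2.1 LA2.2.2 LA2.1 12) = 0 := by decide +kernel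

theorem cntA2_346 : countR 959458 2773 (traceTo LA2.2.1 LA2.2.2 LA2.1 12) = 0 := by decide +kernel

theorem cntA2_347 : countR 962231 2773 (traceTo LA2.2.1 LA2.2.2 LA2.1 12) = 1 := by decide +kernel

theorem cntA2_348 : countR 965004 2773 (traceTo LA2.2.1 LA2.2.2 LA2.1 12) = 0 := by decide +kernel

theorem cntA2_349 : countR 967777 2773 (traceTo LA2.2.1 LA2.2.2 LA2.1 12) = 1 := by decide +kernel


end Cfsg.Agent.HNOut
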