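import Cfsg.Agent.Lib.Lead.HNOut.LevA

/-! # The outer automorphism group of the Harada–Norton group: the number of points of the tree number 2 of the chain `A`, a part (generated) -/

set_option autoImplicit false
set_option maxRecDepth 100000

namespace Cfsg.Agent.HNOut

open Cfsg.Agent.PF Cfsg.Agent.Lib.Helper6 Cfsg.Agent.Lib.Helper6.TC Cfsg.Agent.Lib.Helper6.NatArr
open Cfsg.Agent.PL (Acts evalF)

theorem cntA2_350 : countR 970550 2773 (traceTo LA2.2.1 LA2.2.2 LA2.1 12) = 1 := by decide +kernel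

theorem cntA2_351 : countR 973323 2773 (traceTo LA2.2.1 LA2.2.2 LA2.1 12) = 0 := by decide +kernel

theorem cntA2_352 : countR 976096 2773 (traceTo LA2.2.1 LA2.2.2 LA2.1 12) = 1 := by decide +kernel

theorem cntA2_353 : countR 978869 2773 (traceTo LA2.2.1 LA2.2.2 LA2.1 12) = 1 := by decide +kernel

theorem cntA2_354 : countR 981642 2773 (traceTo LA2.2.1 LA2.2.2 LA2.1 12) = 0 := by decide +kernel

theorem cntA2_355 : countR 984415 2773 (traceTo LA2.2.1 LA2.2.2 LA2.1 12) = 0 := by decide +kernel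

theorem cntA2_356 : countR 987188 2773 (traceTo LA2.2.1 LA2.2.2 LA2.1 12) = 0 := by decide +kernel

theorem cntA2_357 : countR 989961 2773 (traceTo LA2.2.1 LA2.2.2 LA2.1 12) = 0 := by decide +kernel

theorem cntA2_358 : countR 992734 2773 (traceTo LA2.2.1 LA2.2.2 LA2.1 12) = 0 := by decide +kernel

theorem cntA2_359 : countR 995507 2773 (traceTo LA2.2.1 LA2.2.2 LA2.1 12) = 0 := by decide +kernel

theorem cntA2_360 : countR 998280 2773 (traceTo LA2.2.1 LA2.2.2 LA2.1 12) = 2 := by decide +kernel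

theorem cntA2_361 : countR 1001053 2773 (traceTo LA2.2.1 LA2.2.2 LA2.1 12) = 1 := by decide +kernel

theorem cntA2_362 : countR 1003826 2773 (traceTo LA2.2.1 LA2.2.2 LA2.1 12) = 0 := by decide +kernel

theorem cntA2_363 : countR 1006599 2773 (traceTo LA2.2.1 LA2.2.2 LA2.1 12) = 2 := by decide +kernel

theorem cntA2_364 : countR 1009372 2773 (traceTo LA2.2.1 LA2.2.2 LA2.1 12) = 0 := by decide +kernel

theorem cntA2_365 : countR 1012145 2773 (traceTo LA2.2.1 LA2.2.2 LA2.1 12) = 0 := by decide +kernel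

theorem cntA2_366 : countR 1014918 2773 (traceTo LA2.2.1 LA2.2.2 LA2.1 12) = 0 := by decide +kernel

theorem cntA2_367 : countR 1017691 2773 (traceTo LA2.2.1 LA2.2.2 LA2.1 12) = 0 := by decide +kernel

theorem cntA2_368 : countR 1020464 2773 (traceTo LA2.2.1 LA2.2.2 LA2.1 12) = 1 := by decide +kernel

theorem cntA2_369 : countR 1023237 2773 (traceTo LA2.2.1 LA2.2.2 LA2.1 12) = 0 := by decide +kernel

theorem cntA2_370 : countR 1026010 2773 (traceTo LA2.2.1 LA2.2.2 LA2.1 12) = 1 := by decide +kernel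

theorem cntA2_371 : countR 1028783 2773 (traceTo LA2.2.1 LA2.2.2 LA2.1 12) = 0 := by decide +kernel

theorem cntA2_372 : countR 1031556 2773 (traceTo LA2.2.1 LA2.2.2 LA2.1 12) = 1 := by decide +kernel

theorem cntA2_373 : countR 1034329 2773 (traceTo LA2.2.1 LA2.2.2 LA2.1 12) = 0 := by decide +kernel

theorem cntA2_374 : countR 1037102 2773 (traceTo LA2.2.1 LA2.2.2 LA2.1 12) = 1 := by decide +kernel


end Cfsg.Agent.HNOut
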