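import Cfsg.Agent.Lib.Lead.HNOut.LevA

/-! # The outer automorphism group of the Harada–Norton group: the number of points of the tree number 2 of the chain `A`, a part (generated) -/

set_option autoImplicit false
set_option maxRecDepth 100000

namespace Cfsg.Agent.HNOut

open Cfsg.Agent.PF Cfsg.Agent.Lib.Helper6 Cfsg.Agent.Lib.Helper6.TC Cfsg.Agent.Lib.Helper6.NatArr
open Cfsg.Agent.PL (Acts evalF)

theorem cntA2_375 : countR 1039875 2773 (traceTo LA2.2.1 LA2.2.2 LA2.1 12) = 1 := by decide +kernel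

theorem cntA2_376 : countR 1042648 2773 (traceTo LA2.2.1 LA2.2.2 LA2.1 12) = 2 := by decide +kernel

theorem cntA2_377 : countR 1045421 2773 (traceTo LA2.2.1 LA2.2.2 LA2.1 12) = 1 := by decide +kernel

theorem cntA2_378 : countR 1048194 2773 (traceTo LA2.2.1 LA2.2.2 LA2.1 12) = 2 := by decide +kernel

theorem cntA2_379 : countR 1050967 2773 (traceTo LA2.2.1 LA2.2.2 LA2.1 12) = 1 := by decide +kernel

theorem cntA2_380 : countR 1053740 2773 (traceTo LA2.2.1 LA2.2.2 LA2.1 12) = 0 := by decide +kernel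

theorem cntA2_381 : countR 1056513 2773 (traceTo LA2.2.1 LA2.2.2 LA2.1 12) = 1 := by decide +kernel

theorem cntA2_382 : countR 1059286 2773 (traceTo LA2.2.1 LA2.2.2 LA2.1 12) = 1 := by decide +kernel

theorem cntA2_383 : countR 1062059 2773 (traceTo LA2.2.1 LA2.2.2 LA2.1 12) = 1 := by decide +kernel

theorem cntA2_384 : countR 1064832 2773 (traceTo LA2.2.1 LA2.2.2 LA2.1 12) = 4 := by decide +kernel

theorem cntA2_385 : countR 1067605 2773 (traceTo LA2.2.1 LA2.2.2 LA2.1 12) = 2 := by decide +kernel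

theorem cntA2_386 : countR 1070378 2773 (traceTo LA2.2.1 LA2.2.2 LA2.1 12) = 2 := by decide +kernel

theorem cntA2_387 : countR 1073151 2773 (traceTo LA2.2.1 LA2.2.2 LA2.1 12) = 0 := by decide +kernel

theorem cntA2_388 : countR 1075924 2773 (traceTo LA2.2.1 LA2.2.2 LA2.1 12) = 0 := by decide +kernel

theorem cntA2_389 : countR 1078697 2773 (traceTo LA2.2.1 LA2.2.2 LA2.1 12) = 0 := by decide +kernel

theorem cntA2_390 : countR 1081470 2773 (traceTo LA2.2.1 LA2.2.2 LA2.1 12) = 1 := by decide +kernel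

theorem cntA2_391 : countR 1084243 2773 (traceTo LA2.2.1 LA2.2.2 LA2.1 12) = 2 := by decide +kernel

theorem cntA2_392 : countR 1087016 2773 (traceTo LA2.2.1 LA2.2.2 LA2.1 12) = 0 := by decide +kernel

theorem cntA2_393 : countR 1089789 2773 (traceTo LA2.2.1 LA2.2.2 LA2.1 12) = 0 := by decide +kernel

theorem cntA2_394 : countR 1092562 2773 (traceTo LA2.2.1 LA2.2.2 LA2.1 12) = 2 := by decide +kernel

theorem cntA2_395 : countR 1095335 2773 (traceTo LA2.2.1 LA2.2.2 LA2.1 12) = 0 := by decide +kernel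

theorem cntA2_396 : countR 1098108 2773 (traceTo LA2.2.1 LA2.2.2 LA2.1 12) = 1 := by decide +kernel

theorem cntA2_397 : countR 1100881 2773 (traceTo LA2.2.1 LA2.2.2 LA2.1 12) = 1 := by decide +kernel

theorem cntA2_398 : countR 1103654 2773 (traceTo LA2.2.1 LA2.2.2 LA2.1 12) = 0 := by decide +kernel

theorem cntA2_399 : countR 1106427 2773 (traceTo LA2.2.1 LA2.2.2 LA2.1 12) = 1 := by decide +kernel


end Cfsg.Agent.HNOut
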