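import Cfsg.Agent.Lib.Lead.HNOut.CntA2x0
import Cfsg.Agent.Lib.Lead.HNOut.CntA2x1
import Cfsg.Agent.Lib.Lead.HNOut.CntA2x2
import Cfsg.Agent.Lib.Lead.HNOut.CntA2x3
import Cfsg.Agent.Lib.Lead.HNOut.CntA2x4
import Cfsg.Agent.Lib.Lead.HNOut.CntA2x5
import Cfsg.Agent.Lib.Lead.HNOut.CntA2x6
import Cfsg.Agent.Lib.Lead.HNOut.CntA2x7
import Cfsg.Agent.Lib.Lead.HNOut.CntA2x8
import Cfsg.Agent.Lib.Lead.HNOut.CntA2x9
import Cfsg.Agent.Lib.Lead.HNOut.CntA2x10
import Cfsg.Agent.Lib.Lead.HNOut.CntA2x11
import Cfsg.Agent.Lib.Lead.HNOut.CntA2x12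
import Cfsg.Agent.Lib.Lead.HNOut.CntA2x13
import Cfsg.Agent.Lib.Lead.HNOut.CntA2x14
import Cfsg.Agent.Lib.Lead.HNOut.CntA2x15
import Cfsg.Agent.Lib.Lead.HNOut.CntA2x16
import Cfsg.Agent.Lib.Lead.HNOut.CntA2x17
import Cfsg.Agent.Lib.Lead.HNOut.CntA2x18
import Cfsg.Agent.Lib.Lead.HNOut.CntA2x19
import Cfsg.Agent.Lib.Lead.HNOut.CntA2x20
import Cfsg.Agent.Lib.Lead.HNOut.CntA2x21
import Cfsg.Agent.Lib.Lead.HNOut.CntA2x22

/-! # The outer automorphism group of the Harada–Norton group: the number of points of the tree number 2 of the chain `A` (generated) -/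

set_option autoImplicit false
set_option maxRecDepth 100000

namespace Cfsg.Agent.HNOut

open Cfsg.Agent.PF Cfsg.Agent.Lib.Helper6 Cfsg.Agent.Lib.Helper6.TC Cfsg.Agent.Lib.Helper6.NatArr
open Cfsg.Agent.PL (Acts evalF)

theorem cntA2_grp0 : countR 0 277300 (traceTo LA2.2.1 LA2.2.2 LA2.1 12) = 140 :=
  (countR_append cntA2_0 (countR_append cntA2_1 (countR_append cntA2_2 (countR_append cntA2_3 (countR_append cntA2_4 (countR_append cntA2_5 (countR_append cntA2_6 (countR_append cntA2_7 (countR_append cntA2_8 (countR_append cntA2_9 (countR_append cntA2_10 (countR_append cntA2_11 (countR_append cntA2_12 (countR_append cntA2_13 (countR_append cntA2_14 (countR_append cntA2_15 (countR_append cntA2_16 (countR_append cntA2_17 (countR_append cntA2_18 (countR_append cntA2_19 (countR_append cntA2_20 (countR_append cntA2_21 (countR_append cntA2_22 (countR_append cntA2_23 (countR_append cntA2_24 (countR_append cntA2_25 (countR_append cntA2_26 (countR_append cntA2_27 (countR_append cntA2_28 (countR_append cntA2_29 (countR_append cntA2_30 (countR_append cntA2_31 (countR_append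 cntA2_32 (countR_append cntA2_33 (countR_append cntA2_34 (countR_append cntA2_35 (countR_append cntA2_36 (countR_append cntA2_37 (countR_append cntA2_38 (countR_append cntA2_39 (countR_append cntA2_40 (countR_append cntA2_41 (countR_append cntA2_42 (countR_append cntA2_43 (countR_append cntA2_44 (countR_append cntA2_45 (countR_append cntA2_46 (countR_append cntA2_47 (countR_append cntA2_48 (countR_append cntA2_49 (countR_append cntA2_50 (countR_append cntA2_51 (countR_append cntA2_52 (countR_append cntA2_53 (countR_append cntA2_54 (countR_append cntA2_55 (countR_append cntA2_56 (countR_append cntA2_57 (countR_append cntA2_58 (countR_append cntA2_59 (countR_append cntA2_60 (countR_append cntA2_61 (countR_append cntA2_62 (countR_append cntA2_63 (countR_append cntA2_64 (countR_append cntA2_65 (countR_append cntA2_66 (countR_append cntA2_67 (countR_append cntA2_68 (countR_append cntA2_69 (countR_append cntA2_70 (countR_append cntA2_71 (countR_append cntA2_72 (countR_append cntA2_73 (countR_append cntA2_74 (countR_append cntA2_75 (countR_append cntA2_76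 (countR_append cntA2_77 (countR_append cntA2_78 (countR_append cntA2_79 (countR_append cntA2_80 (countR_append cntA2_81 (countR_append cntA2_82 (countR_append cntA2_83 (countR_append cntA2_84 (countR_append cntA2_85 (countR_append cntA2_86 (countR_append cntA2_87 (countR_append cntA2_88 (countR_append cntA2_89 (countR_append cntA2_90 (countR_append cntA2_91 (countR_append cntA2_92 (countR_append cntA2_93 (countR_append cntA2_94 (countR_append cntA2_95 (countR_append cntA2_96 (countR_append cntA2_97 (countR_append cntA2_98 (cntA2_99))))))))))))))))))))))))))))))))))))))))))))))))))))))))))))))))))))))))))))))))))))))))))))))))))) :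
    countR 0 (2773 + (2773 + (2773 + (2773 + (2773 + (2773 + (2773 + (2773 + (2773 + (2773 + (2773 + (2773 + (2773 + (2773 + (2773 + (2773 + (2773 + (2773 + (2773 + (2773 + (2773 + (2773 + (2773 + (2773 + (2773 + (2773 + (2773 + (2773 + (2773 + (2773 + (2773 + (2773 + (2773 + (2773 + (2773 + (2773 + (2773 + (2773 + (2773 + (2773 + (2773 + (2773 + (2773 + (2773 + (2773 + (2773 + (2773 + (2773 + (2773 + (2773 + (2773 + (2773 + (2773 + (2773 + (2773 + (2773 + (2773 + (2773 + (2773 + (2773 + (2773 + (2773 + (2773 + (2773 + (2773 + (2773 + (2773 + (2773 + (2773 + (2773 + (2773 + (2773 + (2773 + (2773 + (2773 + (2773 + (2773 + (2773 + (2773 + (2773 + (2773 + (2773 + (2773 + (2773 + (2773 + (2773 + (2773 + (2773 + (2773 + (2773 + (2773 + (2773 + (2773 + (2773 + (2773 + (2773 + (2773 + (2773 + (2773 + (2773)))))))))))))))))))))))))))))))))))))))))))))))))))))))))))))))))))))))))))))))))))))))))))))))))))) (traceTo LA2.2.1 LA2.2.2 LA2.1 12) = 0 + (0 + (4 + (2 + (5 + (1 + (2 + (5 + (1 + (0 + (0 + (0 + (0 + (0 + (3 + (3 + (2 + (1 + (1 + (5 + (2 + (4 + (4 + (4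 + (2 + (3 + (2 + (1 + (4 + (2 + (2 + (4 + (1 + (2 + (3 + (2 + (4 + (3 + (6 + (3 + (2 + (1 + (3 + (4 + (1 + (2 + (0 + (2 + (4 + (1 + (3 + (3 + (5 + (4 + (4 + (1 + (2 + (0 + (5 + (0 + (0 + (0 + (0 + (0 + (0 + (0 + (0 + (0 + (0 + (0 + (0 + (0 + (0 + (0 + (0 + (0 + (0 + (0 + (0 + (0 + (0 + (0 + (0 + (0 + (0 + (0 + (0 + (0 + (0 + (0 + (0 + (0 + (0 + (0 + (0 + (0 + (0 + (0 + (0 + (0))))))))))))))))))))))))))))))))))))))))))))))))))))))))))))))))))))))))))))))))))))))))))))))))))))

theorem cntA2_grp1 : countR 277300 277300 (traceTo LA2.2.1 LA2.2.2 LA2.1 12) = 0 :=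
  (countR_append cntA2_100 (countR_append cntA2_101 (countR_append cntA2_102 (countR_append cntA2_103 (countR_append cntA2_104 (countR_append cntA2_105 (countR_append cntA2_106 (countR_append cntA2_107 (countR_append cntA2_108 (countR_append cntA2_109 (countR_append cntA2_110 (countR_append cntA2_111 (countR_append cntA2_112 (countR_append cntA2_113 (countR_append cntA2_114 (countR_append cntA2_115 (countR_append cntA2_116 (countR_append cntA2_117 (countR_append cntA2_118 (countR_append cntA2_119 (countR_append cntA2_120 (countR_append cntA2_121 (countR_append cntA2_122 (countR_append cntA2_123 (countR_append cntA2_124 (countR_append cntA2_125 (countR_append cntA2_126 (countR_append cntA2_127 (countR_append cntA2_128 (countR_append cntA2_129 (countR_append cntA2_130 (countR_append cntA2_131 (countR_append cntA2_132 (countR_append cntA2_133 (countR_append cntA2_134 (countR_append cntA2_135 (countR_append cntA2_136 (countR_append cntA2_137 (countR_append cntA2_138 (countR_append cntA2_139 (countR_append cntA2_140 (countR_append cntA2_141 (countR_append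 cntA2_142 (countR_append cntA2_143 (countR_append cntA2_144 (countR_append cntA2_145 (countR_append cntA2_146 (countR_append cntA2_147 (countR_append cntA2_148 (countR_append cntA2_149 (countR_append cntA2_150 (countR_append cntA2_151 (countR_append cntA2_152 (countR_append cntA2_153 (countR_append cntA2_154 (countR_append cntA2_155 (countR_append cntA2_156 (countR_append cntA2_157 (countR_append cntA2_158 (countR_append cntA2_159 (countR_append cntA2_160 (countR_append cntA2_161 (countR_append cntA2_162 (countR_append cntA2_163 (countR_append cntA2_164 (countR_append cntA2_165 (countR_append cntA2_166 (countR_append cntA2_167 (countR_append cntA2_168 (countR_append cntA2_169 (countR_append cntA2_170 (countR_append cntA2_171 (countR_append cntA2_172 (countR_append cntA2_173 (countR_append cntA2_174 (countR_append cntA2_175 (countR_append cntA2_176 (countR_append cntA2_177 (countR_append cntA2_178 (countR_append cntA2_179 (countR_append cntA2_180 (countR_append cntA2_181 (countR_append cntA2_182 (countR_append cntA2_183 (countR_append cntA2_184 (countR_append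 cntA2_185 (countR_append cntA2_186 (countR_append cntA2_187 (countR_append cntA2_188 (countR_append cntA2_189 (countR_append cntA2_190 (countR_append cntA2_191 (countR_append cntA2_192 (countR_append cntA2_193 (countR_append cntA2_194 (countR_append cntA2_195 (countR_append cntA2_196 (countR_append cntA2_197 (countR_append cntA2_198 (cntA2_199))))))))))))))))))))))))))))))))))))))))))))))))))))))))))))))))))))))))))))))))))))))))))))))))))) :
    countR 277300 (2773 + (2773 + (2773 + (2773 + (2773 + (2773 + (2773 + (2773 + (2773 + (2773 + (2773 + (2773 + (2773 + (2773 + (2773 + (2773 + (2773 + (2773 + (2773 + (2773 + (2773 + (2773 + (2773 + (2773 + (2773 + (2773 + (2773 + (2773 + (2773 + (2773 + (2773 + (2773 + (2773 + (2773 + (2773 + (2773 + (2773 + (2773 + (2773 + (2773 + (2773 + (2773 + (2773 + (2773 + (2773 + (2773 + (2773 + (2773 + (2773 + (2773 + (2773 + (2773 + (2773 + (2773 + (2773 + (2773 + (2773 + (2773 + (2773 + (2773 + (2773 + (2773 + (2773 + (2773 + (2773 + (2773 + (2773 + (2773 + (2773 + (2773 + (2773 + (2773 + (2773 + (2773 + (2773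 + (2773 + (2773 + (2773 + (2773 + (2773 + (2773 + (2773 + (2773 + (2773 + (2773 + (2773 + (2773 + (2773 + (2773 + (2773 + (2773 + (2773 + (2773 + (2773 + (2773 + (2773 + (2773 + (2773 + (2773 + (2773)))))))))))))))))))))))))))))))))))))))))))))))))))))))))))))))))))))))))))))))))))))))))))))))))))) (traceTo LA2.2.1 LA2.2.2 LA2.1 12) = 0 + (0 + (0 + (0 + (0 + (0 + (0 + (0 + (0 + (0 + (0 + (0 + (0 + (0 + (0 + (0 + (0 + (0 + (0 + (0 + (0 + (0 + (0 + (0 + (0 + (0 + (0 + (0 + (0 + (0 + (0 + (0 + (0 + (0 + (0 + (0 + (0 + (0 + (0 + (0 + (0 + (0 + (0 + (0 + (0 + (0 + (0 + (0 + (0 + (0 + (0 + (0 + (0 + (0 + (0 + (0 + (0 + (0 + (0 + (0 + (0 + (0 + (0 + (0 + (0 + (0 + (0 + (0 + (0 + (0 + (0 + (0 + (0 + (0 + (0 + (0 + (0 + (0 + (0 + (0 + (0 + (0 + (0 + (0 + (0 + (0 + (0 + (0 + (0 + (0 + (0 + (0 + (0 + (0 + (0 + (0 + (0 + (0 + (0 + (0))))))))))))))))))))))))))))))))))))))))))))))))))))))))))))))))))))))))))))))))))))))))))))))))))))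

theorem cntA2_grp2 : countR 554600 277300 (traceTo LA2.2.1 LA2.2.2 LA2.1 12) = 0 :=
  (countR_append cntA2_200 (countR_append cntA2_201 (countR_append cntA2_202 (countR_append cntA2_203 (countR_append cntA2_204 (countR_append cntA2_205 (countR_append cntA2_206 (countR_append cntA2_207 (countR_append cntA2_208 (countR_append cntA2_209 (countR_append cntA2_210 (countR_append cntA2_211 (countR_append cntA2_212 (countR_append cntA2_213 (countR_append cntA2_214 (countR_append cntA2_215 (countR_append cntA2_216 (countR_append cntA2_217 (countR_append cntA2_218 (countR_append cntA2_219 (countR_append cntA2_220 (countR_append cntA2_221 (countR_append cntA2_222 (countR_append cntA2_223 (countR_append cntA2_224 (countR_append cntA2_225 (countR_append cntA2_226 (countR_append cntA2_227 (countR_append cntA2_228 (countR_append cntA2_229 (countR_append cntA2_230 (countR_append cntA2_231 (countR_append cntA2_232 (countR_append cntA2_233 (countR_append cntA2_234 (countR_append cntA2_235 (countR_append cntA2_236 (countR_append cntA2_237 (countR_append cntA2_238 (countR_append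 cntA2_239 (countR_append cntA2_240 (countR_append cntA2_241 (countR_append cntA2_242 (countR_append cntA2_243 (countR_append cntA2_244 (countR_append cntA2_245 (countR_append cntA2_246 (countR_append cntA2_247 (countR_append cntA2_248 (countR_append cntA2_249 (countR_append cntA2_250 (countR_append cntA2_251 (countR_append cntA2_252 (countR_append cntA2_253 (countR_append cntA2_254 (countR_append cntA2_255 (countR_append cntA2_256 (countR_append cntA2_257 (countR_append cntA2_258 (countR_append cntA2_259 (countR_append cntA2_260 (countR_append cntA2_261 (countR_append cntA2_262 (countR_append cntA2_263 (countR_append cntA2_264 (countR_append cntA2_265 (countR_append cntA2_266 (countR_append cntA2_267 (countR_append cntA2_268 (countR_append cntA2_269 (countR_append cntA2_270 (countR_append cntA2_271 (countR_append cntA2_272 (countR_append cntA2_273 (countR_append cntA2_274 (countR_append cntA2_275 (countR_append cntA2_276 (countR_append cntA2_277 (countR_append cntA2_278 (countR_append cntA2_279 (countR_append cntA2_280 (countR_append cntA2_281 (countR_append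 cntA2_282 (countR_append cntA2_283 (countR_append cntA2_284 (countR_append cntA2_285 (countR_append cntA2_286 (countR_append cntA2_287 (countR_append cntA2_288 (countR_append cntA2_289 (countR_append cntA2_290 (countR_append cntA2_291 (countR_append cntA2_292 (countR_append cntA2_293 (countR_append cntA2_294 (countR_append cntA2_295 (countR_append cntA2_296 (countR_append cntA2_297 (countR_append cntA2_298 (cntA2_299))))))))))))))))))))))))))))))))))))))))))))))))))))))))))))))))))))))))))))))))))))))))))))))))))) :
    countR 554600 (2773 + (2773 + (2773 + (2773 + (2773 + (2773 + (2773 + (2773 + (2773 + (2773 + (2773 + (2773 + (2773 + (2773 + (2773 + (2773 + (2773 + (2773 + (2773 + (2773 + (2773 + (2773 + (2773 + (2773 + (2773 + (2773 + (2773 + (2773 + (2773 + (2773 + (2773 + (2773 + (2773 + (2773 + (2773 + (2773 + (2773 + (2773 + (2773 + (2773 + (2773 + (2773 + (2773 + (2773 + (2773 + (2773 + (2773 + (2773 + (2773 + (2773 + (2773 + (2773 + (2773 + (2773 + (2773 + (2773 + (2773 + (2773 + (2773 + (2773 + (2773 + (2773 + (2773 + (2773 + (2773 + (2773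 + (2773 + (2773 + (2773 + (2773 + (2773 + (2773 + (2773 + (2773 + (2773 + (2773 + (2773 + (2773 + (2773 + (2773 + (2773 + (2773 + (2773 + (2773 + (2773 + (2773 + (2773 + (2773 + (2773 + (2773 + (2773 + (2773 + (2773 + (2773 + (2773 + (2773 + (2773 + (2773 + (2773 + (2773)))))))))))))))))))))))))))))))))))))))))))))))))))))))))))))))))))))))))))))))))))))))))))))))))))) (traceTo LA2.2.1 LA2.2.2 LA2.1 12) = 0 + (0 + (0 + (0 + (0 + (0 + (0 + (0 + (0 + (0 + (0 + (0 + (0 + (0 + (0 + (0 + (0 + (0 + (0 + (0 + (0 + (0 + (0 + (0 + (0 + (0 + (0 + (0 + (0 + (0 + (0 + (0 + (0 + (0 + (0 + (0 + (0 + (0 + (0 + (0 + (0 + (0 + (0 + (0 + (0 + (0 + (0 + (0 + (0 + (0 + (0 + (0 + (0 + (0 + (0 + (0 + (0 + (0 + (0 + (0 + (0 + (0 + (0 + (0 + (0 + (0 + (0 + (0 + (0 + (0 + (0 + (0 + (0 + (0 + (0 + (0 + (0 + (0 + (0 + (0 + (0 + (0 + (0 + (0 + (0 + (0 + (0 + (0 + (0 + (0 + (0 + (0 + (0 + (0 + (0 + (0 + (0 + (0 + (0 + (0))))))))))))))))))))))))))))))))))))))))))))))))))))))))))))))))))))))))))))))))))))))))))))))))))))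

theorem cntA2_grp3 : countR 831900 277300 (traceTo LA2.2.1 LA2.2.2 LA2.1 12) = 49 :=
  (countR_append cntA2_300 (countR_append cntA2_301 (countR_append cntA2_302 (countR_append cntA2_303 (countR_append cntA2_304 (countR_append cntA2_305 (countR_append cntA2_306 (countR_append cntA2_307 (countR_append cntA2_308 (countR_append cntA2_309 (countR_append cntA2_310 (countR_append cntA2_311 (countR_append cntA2_312 (countR_append cntA2_313 (countR_append cntA2_314 (countR_append cntA2_315 (countR_append cntA2_316 (countR_append cntA2_317 (countR_append cntA2_318 (countR_append cntA2_319 (countR_append cntA2_320 (countR_append cntA2_321 (countR_append cntA2_322 (countR_append cntA2_323 (countR_append cntA2_324 (countR_append cntA2_325 (countR_append cntA2_326 (countR_append cntA2_327 (countR_append cntA2_328 (countR_append cntA2_329 (countR_append cntA2_330 (countR_append cntA2_331 (countR_append cntA2_332 (countR_append cntA2_333 (countR_append cntA2_334 (countR_append cntA2_335 (countR_append cntA2_336 (countR_append cntA2_337 (countR_append cntA2_338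 (countR_append cntA2_339 (countR_append cntA2_340 (countR_append cntA2_341 (countR_append cntA2_342 (countR_append cntA2_343 (countR_append cntA2_344 (countR_append cntA2_345 (countR_append cntA2_346 (countR_append cntA2_347 (countR_append cntA2_348 (countR_append cntA2_349 (countR_append cntA2_350 (countR_append cntA2_351 (countR_append cntA2_352 (countR_append cntA2_353 (countR_append cntA2_354 (countR_append cntA2_355 (countR_append cntA2_356 (countR_append cntA2_357 (countR_append cntA2_358 (countR_append cntA2_359 (countR_append cntA2_360 (countR_append cntA2_361 (countR_append cntA2_362 (countR_append cntA2_363 (countR_append cntA2_364 (countR_append cntA2_365 (countR_append cntA2_366 (countR_append cntA2_367 (countR_append cntA2_368 (countR_append cntA2_369 (countR_append cntA2_370 (countR_append cntA2_371 (countR_append cntA2_372 (countR_append cntA2_373 (countR_append cntA2_374 (countR_append cntA2_375 (countR_append cntA2_376 (countR_append cntA2_377 (countR_append cntA2_378 (countR_append cntA2_379 (countR_append cntA2_380 (countR_append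 cntA2_381 (countR_append cntA2_382 (countR_append cntA2_383 (countR_append cntA2_384 (countR_append cntA2_385 (countR_append cntA2_386 (countR_append cntA2_387 (countR_append cntA2_388 (countR_append cntA2_389 (countR_append cntA2_390 (countR_append cntA2_391 (countR_append cntA2_392 (countR_append cntA2_393 (countR_append cntA2_394 (countR_append cntA2_395 (countR_append cntA2_396 (countR_append cntA2_397 (countR_append cntA2_398 (cntA2_399))))))))))))))))))))))))))))))))))))))))))))))))))))))))))))))))))))))))))))))))))))))))))))))))))) :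
    countR 831900 (2773 + (2773 + (2773 + (2773 + (2773 + (2773 + (2773 + (2773 + (2773 + (2773 + (2773 + (2773 + (2773 + (2773 + (2773 + (2773 + (2773 + (2773 + (2773 + (2773 + (2773 + (2773 + (2773 + (2773 + (2773 + (2773 + (2773 + (2773 + (2773 + (2773 + (2773 + (2773 + (2773 + (2773 + (2773 + (2773 + (2773 + (2773 + (2773 + (2773 + (2773 + (2773 + (2773 + (2773 + (2773 + (2773 + (2773 + (2773 + (2773 + (2773 + (2773 + (2773 + (2773 + (2773 + (2773 + (2773 + (2773 + (2773 + (2773 + (2773 + (2773 + (2773 + (2773 + (2773 + (2773 + (2773 + (2773 + (2773 + (2773 + (2773 + (2773 + (2773 + (2773 + (2773 + (2773 + (2773 + (2773 + (2773 + (2773 + (2773 + (2773 + (2773 + (2773 + (2773 + (2773 + (2773 + (2773 + (2773 + (2773 + (2773 + (2773 + (2773 + (2773 + (2773 + (2773 + (2773 + (2773 + (2773 + (2773 + (2773)))))))))))))))))))))))))))))))))))))))))))))))))))))))))))))))))))))))))))))))))))))))))))))))))))) (traceTo LA2.2.1 LA2.2.2 LA2.1 12) = 0 + (0 + (0 + (0 + (0 + (0 + (0 + (0 + (0 + (0 + (0 + (0 + (0 + (0 + (0 + (0 + (0 + (0 + (0 + (0 + (0 + (0 + (0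 + (0 + (0 + (0 + (0 + (0 + (0 + (0 + (0 + (0 + (0 + (2 + (0 + (1 + (0 + (2 + (1 + (1 + (0 + (0 + (0 + (0 + (2 + (0 + (0 + (1 + (0 + (1 + (1 + (0 + (1 + (1 + (0 + (0 + (0 + (0 + (0 + (0 + (2 + (1 + (0 + (2 + (0 + (0 + (0 + (0 + (1 + (0 + (1 + (0 + (1 + (0 + (1 + (1 + (2 + (1 + (2 + (1 + (0 + (1 + (1 + (1 + (4 + (2 + (2 + (0 + (0 + (0 + (1 + (2 + (0 + (0 + (2 + (0 + (1 + (1 + (0 + (1))))))))))))))))))))))))))))))))))))))))))))))))))))))))))))))))))))))))))))))))))))))))))))))))))))

theorem cntA2_grp4 : countR 1109200 277300 (traceTo LA2.2.1 LA2.2.2 LA2.1 12) = 51 :=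
  (countR_append cntA2_400 (countR_append cntA2_401 (countR_append cntA2_402 (countR_append cntA2_403 (countR_append cntA2_404 (countR_append cntA2_405 (countR_append cntA2_406 (countR_append cntA2_407 (countR_append cntA2_408 (countR_append cntA2_409 (countR_append cntA2_410 (countR_append cntA2_411 (countR_append cntA2_412 (countR_append cntA2_413 (countR_append cntA2_414 (countR_append cntA2_415 (countR_append cntA2_416 (countR_append cntA2_417 (countR_append cntA2_418 (countR_append cntA2_419 (countR_append cntA2_420 (countR_append cntA2_421 (countR_append cntA2_422 (countR_append cntA2_423 (countR_append cntA2_424 (countR_append cntA2_425 (countR_append cntA2_426 (countR_append cntA2_427 (countR_append cntA2_428 (countR_append cntA2_429 (countR_append cntA2_430 (countR_append cntA2_431 (countR_append cntA2_432 (countR_append cntA2_433 (countR_append cntA2_434 (countR_append cntA2_435 (countR_append cntA2_436 (countR_append cntA2_437 (countR_append cntA2_438 (countR_append cntA2_439 (countR_append cntA2_440 (countR_append cntA2_441 (countR_append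 cntA2_442 (countR_append cntA2_443 (countR_append cntA2_444 (countR_append cntA2_445 (countR_append cntA2_446 (countR_append cntA2_447 (countR_append cntA2_448 (countR_append cntA2_449 (countR_append cntA2_450 (countR_append cntA2_451 (countR_append cntA2_452 (countR_append cntA2_453 (countR_append cntA2_454 (countR_append cntA2_455 (countR_append cntA2_456 (countR_append cntA2_457 (countR_append cntA2_458 (countR_append cntA2_459 (countR_append cntA2_460 (countR_append cntA2_461 (countR_append cntA2_462 (countR_append cntA2_463 (countR_append cntA2_464 (countR_append cntA2_465 (countR_append cntA2_466 (countR_append cntA2_467 (countR_append cntA2_468 (countR_append cntA2_469 (countR_append cntA2_470 (countR_append cntA2_471 (countR_append cntA2_472 (countR_append cntA2_473 (countR_append cntA2_474 (countR_append cntA2_475 (countR_append cntA2_476 (countR_append cntA2_477 (countR_append cntA2_478 (countR_append cntA2_479 (countR_append cntA2_480 (countR_append cntA2_481 (countR_append cntA2_482 (countR_append cntA2_483 (countR_append cntA2_484 (countR_append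 cntA2_485 (countR_append cntA2_486 (countR_append cntA2_487 (countR_append cntA2_488 (countR_append cntA2_489 (countR_append cntA2_490 (countR_append cntA2_491 (countR_append cntA2_492 (countR_append cntA2_493 (countR_append cntA2_494 (countR_append cntA2_495 (countR_append cntA2_496 (countR_append cntA2_497 (countR_append cntA2_498 (cntA2_499))))))))))))))))))))))))))))))))))))))))))))))))))))))))))))))))))))))))))))))))))))))))))))))))))) :
    countR 1109200 (2773 + (2773 + (2773 + (2773 + (2773 + (2773 + (2773 + (2773 + (2773 + (2773 + (2773 + (2773 + (2773 + (2773 + (2773 + (2773 + (2773 + (2773 + (2773 + (2773 + (2773 + (2773 + (2773 + (2773 + (2773 + (2773 + (2773 + (2773 + (2773 + (2773 + (2773 + (2773 + (2773 + (2773 + (2773 + (2773 + (2773 + (2773 + (2773 + (2773 + (2773 + (2773 + (2773 + (2773 + (2773 + (2773 + (2773 + (2773 + (2773 + (2773 + (2773 + (2773 + (2773 + (2773 + (2773 + (2773 + (2773 + (2773 + (2773 + (2773 + (2773 + (2773 + (2773 + (2773 + (2773 + (2773 + (2773 + (2773 + (2773 + (2773 + (2773 + (2773 + (2773 + (2773 + (2773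 + (2773 + (2773 + (2773 + (2773 + (2773 + (2773 + (2773 + (2773 + (2773 + (2773 + (2773 + (2773 + (2773 + (2773 + (2773 + (2773 + (2773 + (2773 + (2773 + (2773 + (2773 + (2773 + (2773 + (2773 + (2773)))))))))))))))))))))))))))))))))))))))))))))))))))))))))))))))))))))))))))))))))))))))))))))))))))) (traceTo LA2.2.1 LA2.2.2 LA2.1 12) = 0 + (1 + (0 + (0 + (0 + (0 + (2 + (0 + (1 + (0 + (0 + (2 + (2 + (2 + (1 + (0 + (1 + (1 + (0 + (0 + (1 + (1 + (2 + (0 + (1 + (0 + (1 + (1 + (1 + (1 + (1 + (0 + (1 + (2 + (0 + (0 + (0 + (0 + (1 + (1 + (1 + (0 + (1 + (0 + (1 + (0 + (2 + (2 + (0 + (5 + (2 + (2 + (3 + (2 + (2 + (0 + (0 + (0 + (0 + (0 + (0 + (0 + (0 + (0 + (0 + (0 + (0 + (0 + (0 + (0 + (0 + (0 + (0 + (0 + (0 + (0 + (0 + (0 + (0 + (0 + (0 + (0 + (0 + (0 + (0 + (0 + (0 + (0 + (0 + (0 + (0 + (0 + (0 + (0 + (0 + (0 + (0 + (0 + (0 + (0))))))))))))))))))))))))))))))))))))))))))))))))))))))))))))))))))))))))))))))))))))))))))))))))))))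

theorem cntA2_grp5 : countR 1386500 152500 (traceTo LA2.2.1 LA2.2.2 LA2.1 12) = 0 :=
  (countR_append cntA2_500 (countR_append cntA2_501 (countR_append cntA2_502 (countR_append cntA2_503 (countR_append cntA2_504 (countR_append cntA2_505 (countR_append cntA2_506 (countR_append cntA2_507 (countR_append cntA2_508 (countR_append cntA2_509 (countR_append cntA2_510 (countR_append cntA2_511 (countR_append cntA2_512 (countR_append cntA2_513 (countR_append cntA2_514 (countR_append cntA2_515 (countR_append cntA2_516 (countR_append cntA2_517 (countR_append cntA2_518 (countR_append cntA2_519 (countR_append cntA2_520 (countR_append cntA2_521 (countR_append cntA2_522 (countR_append cntA2_523 (countR_append cntA2_524 (countR_append cntA2_525 (countR_append cntA2_526 (countR_append cntA2_527 (countR_append cntA2_528 (countR_append cntA2_529 (countR_append cntA2_530 (countR_append cntA2_531 (countR_append cntA2_532 (countR_append cntA2_533 (countR_append cntA2_534 (countR_append cntA2_535 (countR_append cntA2_536 (countR_append cntA2_537 (countR_append cntA2_538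 (countR_append cntA2_539 (countR_append cntA2_540 (countR_append cntA2_541 (countR_append cntA2_542 (countR_append cntA2_543 (countR_append cntA2_544 (countR_append cntA2_545 (countR_append cntA2_546 (countR_append cntA2_547 (countR_append cntA2_548 (countR_append cntA2_549 (countR_append cntA2_550 (countR_append cntA2_551 (countR_append cntA2_552 (countR_append cntA2_553 (cntA2_554)))))))))))))))))))))))))))))))))))))))))))))))))))))) :
    countR 1386500 (2773 + (2773 + (2773 + (2773 + (2773 + (2773 + (2773 + (2773 + (2773 + (2773 + (2773 + (2773 + (2773 + (2773 + (2773 + (2773 + (2773 + (2773 + (2773 + (2773 + (2773 + (2773 + (2773 + (2773 + (2773 + (2773 + (2773 + (2773 + (2773 + (2773 + (2773 + (2773 + (2773 + (2773 + (2773 + (2773 + (2773 + (2773 + (2773 + (2773 + (2773 + (2773 + (2773 + (2773 + (2773 + (2773 + (2773 + (2773 + (2773 + (2773 + (2773 + (2773 + (2773 + (2773 + (2758))))))))))))))))))))))))))))))))))))))))))))))))))))))) (traceTo LA2.2.1 LA2.2.2 LA2.1 12) = 0 + (0 + (0 + (0 + (0 + (0 + (0 + (0 + (0 + (0 + (0 + (0 + (0 + (0 + (0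 + (0 + (0 + (0 + (0 + (0 + (0 + (0 + (0 + (0 + (0 + (0 + (0 + (0 + (0 + (0 + (0 + (0 + (0 + (0 + (0 + (0 + (0 + (0 + (0 + (0 + (0 + (0 + (0 + (0 + (0 + (0 + (0 + (0 + (0 + (0 + (0 + (0 + (0 + (0 + (0)))))))))))))))))))))))))))))))))))))))))))))))))))))))

/-- the number of points of the tree number 2 of the chain `A` -/
theorem lenA2 : (orbitL 1539000 LA2.2.1 LA2.2.2 LA2.1 12).length = 240 := by
  rw [length_orbitL]
  exact (countR_append cntA2_grp0 (countR_append cntA2_grp1 (countR_append cntA2_grp2 (countR_append cntA2_grp3 (countR_append cntA2_grp4 (cntA2_grp5))))) :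
    countR 0 (277300 + (277300 + (277300 + (277300 + (277300 + (152500)))))) (traceTo LA2.2.1 LA2.2.2 LA2.1 12) = 140 + (0 + (0 + (49 + (51 + (0))))))

end Cfsg.Agent.HNOut
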