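import Cfsg.Agent.Lib.Lead.HNOut.CntA0
import Cfsg.Agent.Lib.Lead.HNOut.CntA1
import Cfsg.Agent.Lib.Lead.HNOut.CntA2

/-! # The outer automorphism group of the Harada–Norton group: the numbers of points of the trees of the chain `A` (generated) -/

set_option autoImplicit false
set_option maxRecDepth 100000

namespace Cfsg.Agent.HNOut

open Cfsg.Agent.PF Cfsg.Agent.Lib.Helper6 Cfsg.Agent.Lib.Helper6.TC Cfsg.Agent.Lib.Helper6.NatArr
open Cfsg.Agent.PL (Acts evalF)

theorem chk_countsA : (treeCounts 1539000 12 (LA0 :: LsA)).prod = 273030912000000 := by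
  have h : treeCounts 1539000 12 (LA0 :: LsA) = [1539000, 739200, 240] := by
    show [(orbitL 1539000 LA0.2.1 LA0.2.2 LA0.1 12).length, (orbitL 1539000 LA1.2.1 LA1.2.2 LA1.1 12).length, (orbitL 1539000 LA2.2.1 LA2.2.2 LA2.1 12).length] = _
    rw [lenA0, lenA1, lenA2]
  rw [h]
  rfl

end Cfsg.Agent.HNOut
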