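import Cfsg.Agent.Lib.Lead.HNOut.LevA

/-! # The outer automorphism group of the Harada–Norton group: the number of points of the tree number 0 of the chain `A`, a part (generated) -/

set_option autoImplicit false
set_option maxRecDepth 100000

namespace Cfsg.Agent.HNOut

open Cfsg.Agent.PF Cfsg.Agent.Lib.Helper6 Cfsg.Agent.Lib.Helper6.TC Cfsg.Agent.Lib.Helper6.NatArr
open Cfsg.Agent.PL (Acts evalF)

theorem cntA0_25 : countR 83300 3332 (traceTo LA0.2.1 LA0.2.2 LA0.1 12) = 3332 := by decide +kernel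

theorem cntA0_26 : countR 86632 3332 (traceTo LA0.2.1 LA0.2.2 LA0.1 12) = 3332 := by decide +kernel

theorem cntA0_27 : countR 89964 3332 (traceTo LA0.2.1 LA0.2.2 LA0.1 12) = 3332 := by decide +kernel

theorem cntA0_28 : countR 93296 3332 (traceTo LA0.2.1 LA0.2.2 LA0.1 12) = 3332 := by decide +kernel

theorem cntA0_29 : countR 96628 3332 (traceTo LA0.2.1 LA0.2.2 LA0.1 12) = 3332 := by decide +kernel

theorem cntA0_30 : countR 99960 3332 (traceTo LA0.2.1 LA0.2.2 LA0.1 12) = 3332 := by decide +kernel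

theorem cntA0_31 : countR 103292 3332 (traceTo LA0.2.1 LA0.2.2 LA0.1 12) = 3332 := by decide +kernel

theorem cntA0_32 : countR 106624 3332 (traceTo LA0.2.1 LA0.2.2 LA0.1 12) = 3332 := by decide +kernel

theorem cntA0_33 : countR 109956 3332 (traceTo LA0.2.1 LA0.2.2 LA0.1 12) = 3332 := by decide +kernel

theorem cntA0_34 : countR 113288 3332 (traceTo LA0.2.1 LA0.2.2 LA0.1 12) = 3332 := by decide +kernel

theorem cntA0_35 : countR 116620 3332 (traceTo LA0.2.1 LA0.2.2 LA0.1 12) = 3332 := by decide +kernel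

theorem cntA0_36 : countR 119952 3332 (traceTo LA0.2.1 LA0.2.2 LA0.1 12) = 3332 := by decide +kernel

theorem cntA0_37 : countR 123284 3332 (traceTo LA0.2.1 LA0.2.2 LA0.1 12) = 3332 := by decide +kernel

theorem cntA0_38 : countR 126616 3332 (traceTo LA0.2.1 LA0.2.2 LA0.1 12) = 3332 := by decide +kernel

theorem cntA0_39 : countR 129948 3332 (traceTo LA0.2.1 LA0.2.2 LA0.1 12) = 3332 := by decide +kernel

theorem cntA0_40 : countR 133280 3332 (traceTo LA0.2.1 LA0.2.2 LA0.1 12) = 3332 := by decide +kernel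

theorem cntA0_41 : countR 136612 3332 (traceTo LA0.2.1 LA0.2.2 LA0.1 12) = 3332 := by decide +kernel

theorem cntA0_42 : countR 139944 3332 (traceTo LA0.2.1 LA0.2.2 LA0.1 12) = 3332 := by decide +kernel

theorem cntA0_43 : countR 143276 3332 (traceTo LA0.2.1 LA0.2.2 LA0.1 12) = 3332 := by decide +kernel

theorem cntA0_44 : countR 146608 3332 (traceTo LA0.2.1 LA0.2.2 LA0.1 12) = 3332 := by decide +kernel

theorem cntA0_45 : countR 149940 3332 (traceTo LA0.2.1 LA0.2.2 LA0.1 12) = 3332 := by decide +kernel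

theorem cntA0_46 : countR 153272 3332 (traceTo LA0.2.1 LA0.2.2 LA0.1 12) = 3332 := by decide +kernel

theorem cntA0_47 : countR 156604 3332 (traceTo LA0.2.1 LA0.2.2 LA0.1 12) = 3332 := by decide +kernel

theorem cntA0_48 : countR 159936 3332 (traceTo LA0.2.1 LA0.2.2 LA0.1 12) = 3332 := by decide +kernel

theorem cntA0_49 : countR 163268 3332 (traceTo LA0.2.1 LA0.2.2 LA0.1 12) = 3332 := by decide +kernel


end Cfsg.Agent.HNOut
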