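import Cfsg.Agent.Lib.Lead.HNOut.LevA

/-! # The outer automorphism group of the Harada–Norton group: the number of points of the tree number 0 of the chain `A`, a part (generated) -/

set_option autoImplicit false
set_option maxRecDepth 100000

namespace Cfsg.Agent.HNOut

open Cfsg.Agent.PF Cfsg.Agent.Lib.Helper6 Cfsg.Agent.Lib.Helper6.TC Cfsg.Agent.Lib.Helper6.NatArr
open Cfsg.Agent.PL (Acts evalF)

theorem cntA0_250 : countR 833000 3332 (traceTo LA0.2.1 LA0.2.2 LA0.1 12) = 3332 := by decide +kernel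

theorem cntA0_251 : countR 836332 3332 (traceTo LA0.2.1 LA0.2.2 LA0.1 12) = 3332 := by decide +kernel

theorem cntA0_252 : countR 839664 3332 (traceTo LA0.2.1 LA0.2.2 LA0.1 12) = 3332 := by decide +kernel

theorem cntA0_253 : countR 842996 3332 (traceTo LA0.2.1 LA0.2.2 LA0.1 12) = 3332 := by decide +kernel

theorem cntA0_254 : countR 846328 3332 (traceTo LA0.2.1 LA0.2.2 LA0.1 12) = 3332 := by decide +kernel

theorem cntA0_255 : countR 849660 3332 (traceTo LA0.2.1 LA0.2.2 LA0.1 12) = 3332 := by decide +kernel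

theorem cntA0_256 : countR 852992 3332 (traceTo LA0.2.1 LA0.2.2 LA0.1 12) = 3332 := by decide +kernel

theorem cntA0_257 : countR 856324 3332 (traceTo LA0.2.1 LA0.2.2 LA0.1 12) = 3332 := by decide +kernel

theorem cntA0_258 : countR 859656 3332 (traceTo LA0.2.1 LA0.2.2 LA0.1 12) = 3332 := by decide +kernel

theorem cntA0_259 : countR 862988 3332 (traceTo LA0.2.1 LA0.2.2 LA0.1 12) = 3332 := by decide +kernel

theorem cntA0_260 : countR 866320 3332 (traceTo LA0.2.1 LA0.2.2 LA0.1 12) = 3332 := by decide +kernel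

theorem cntA0_261 : countR 869652 3332 (traceTo LA0.2.1 LA0.2.2 LA0.1 12) = 3332 := by decide +kernel

theorem cntA0_262 : countR 872984 3332 (traceTo LA0.2.1 LA0.2.2 LA0.1 12) = 3332 := by decide +kernel

theorem cntA0_263 : countR 876316 3332 (traceTo LA0.2.1 LA0.2.2 LA0.1 12) = 3332 := by decide +kernel

theorem cntA0_264 : countR 879648 3332 (traceTo LA0.2.1 LA0.2.2 LA0.1 12) = 3332 := by decide +kernel

theorem cntA0_265 : countR 882980 3332 (traceTo LA0.2.1 LA0.2.2 LA0.1 12) = 3332 := by decide +kernel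

theorem cntA0_266 : countR 886312 3332 (traceTo LA0.2.1 LA0.2.2 LA0.1 12) = 3332 := by decide +kernel

theorem cntA0_267 : countR 889644 3332 (traceTo LA0.2.1 LA0.2.2 LA0.1 12) = 3332 := by decide +kernel

theorem cntA0_268 : countR 892976 3332 (traceTo LA0.2.1 LA0.2.2 LA0.1 12) = 3332 := by decide +kernel

theorem cntA0_269 : countR 896308 3332 (traceTo LA0.2.1 LA0.2.2 LA0.1 12) = 3332 := by decide +kernel

theorem cntA0_270 : countR 899640 3332 (traceTo LA0.2.1 LA0.2.2 LA0.1 12) = 3332 := by decide +kernel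

theorem cntA0_271 : countR 902972 3332 (traceTo LA0.2.1 LA0.2.2 LA0.1 12) = 3332 := by decide +kernel

theorem cntA0_272 : countR 906304 3332 (traceTo LA0.2.1 LA0.2.2 LA0.1 12) = 3332 := by decide +kernel

theorem cntA0_273 : countR 909636 3332 (traceTo LA0.2.1 LA0.2.2 LA0.1 12) = 3332 := by decide +kernel

theorem cntA0_274 : countR 912968 3332 (traceTo LA0.2.1 LA0.2.2 LA0.1 12) = 3332 := by decide +kernel


end Cfsg.Agent.HNOut
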