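import Cfsg.Agent.Lib.Lead.HNOut.LevA

/-! # The outer automorphism group of the Harada–Norton group: the number of points of the tree number 0 of the chain `A`, a part (generated) -/

set_option autoImplicit false
set_option maxRecDepth 100000

namespace Cfsg.Agent.HNOut

open Cfsg.Agent.PF Cfsg.Agent.Lib.Helper6 Cfsg.Agent.Lib.Helper6.TC Cfsg.Agent.Lib.Helper6.NatArr
open Cfsg.Agent.PL (Acts evalF)

theorem cntA0_275 : countR 916300 3332 (traceTo LA0.2.1 LA0.2.2 LA0.1 12) = 3332 := by decide +kernel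

theorem cntA0_276 : countR 919632 3332 (traceTo LA0.2.1 LA0.2.2 LA0.1 12) = 3332 := by decide +kernel

theorem cntA0_277 : countR 922964 3332 (traceTo LA0.2.1 LA0.2.2 LA0.1 12) = 3332 := by decide +kernel

theorem cntA0_278 : countR 926296 3332 (traceTo LA0.2.1 LA0.2.2 LA0.1 12) = 3332 := by decide +kernel

theorem cntA0_279 : countR 929628 3332 (traceTo LA0.2.1 LA0.2.2 LA0.1 12) = 3332 := by decide +kernel

theorem cntA0_280 : countR 932960 3332 (traceTo LA0.2.1 LA0.2.2 LA0.1 12) = 3332 := by decide +kernel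

theorem cntA0_281 : countR 936292 3332 (traceTo LA0.2.1 LA0.2.2 LA0.1 12) = 3332 := by decide +kernel

theorem cntA0_282 : countR 939624 3332 (traceTo LA0.2.1 LA0.2.2 LA0.1 12) = 3332 := by decide +kernel

theorem cntA0_283 : countR 942956 3332 (traceTo LA0.2.1 LA0.2.2 LA0.1 12) = 3332 := by decide +kernel

theorem cntA0_284 : countR 946288 3332 (traceTo LA0.2.1 LA0.2.2 LA0.1 12) = 3332 := by decide +kernel

theorem cntA0_285 : countR 949620 3332 (traceTo LA0.2.1 LA0.2.2 LA0.1 12) = 3332 := by decide +kernel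

theorem cntA0_286 : countR 952952 3332 (traceTo LA0.2.1 LA0.2.2 LA0.1 12) = 3332 := by decide +kernel

theorem cntA0_287 : countR 956284 3332 (traceTo LA0.2.1 LA0.2.2 LA0.1 12) = 3332 := by decide +kernel

theorem cntA0_288 : countR 959616 3332 (traceTo LA0.2.1 LA0.2.2 LA0.1 12) = 3332 := by decide +kernel

theorem cntA0_289 : countR 962948 3332 (traceTo LA0.2.1 LA0.2.2 LA0.1 12) = 3332 := by decide +kernel

theorem cntA0_290 : countR 966280 3332 (traceTo LA0.2.1 LA0.2.2 LA0.1 12) = 3332 := by decide +kernel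

theorem cntA0_291 : countR 969612 3332 (traceTo LA0.2.1 LA0.2.2 LA0.1 12) = 3332 := by decide +kernel

theorem cntA0_292 : countR 972944 3332 (traceTo LA0.2.1 LA0.2.2 LA0.1 12) = 3332 := by decide +kernel

theorem cntA0_293 : countR 976276 3332 (traceTo LA0.2.1 LA0.2.2 LA0.1 12) = 3332 := by decide +kernel

theorem cntA0_294 : countR 979608 3332 (traceTo LA0.2.1 LA0.2.2 LA0.1 12) = 3332 := by decide +kernel

theorem cntA0_295 : countR 982940 3332 (traceTo LA0.2.1 LA0.2.2 LA0.1 12) = 3332 := by decide +kernel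

theorem cntA0_296 : countR 986272 3332 (traceTo LA0.2.1 LA0.2.2 LA0.1 12) = 3332 := by decide +kernel

theorem cntA0_297 : countR 989604 3332 (traceTo LA0.2.1 LA0.2.2 LA0.1 12) = 3332 := by decide +kernel

theorem cntA0_298 : countR 992936 3332 (traceTo LA0.2.1 LA0.2.2 LA0.1 12) = 3332 := by decide +kernel

theorem cntA0_299 : countR 996268 3332 (traceTo LA0.2.1 LA0.2.2 LA0.1 12) = 3332 := by decide +kernel


end Cfsg.Agent.HNOut
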