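import Cfsg.Agent.Lib.Lead.HNOut.LevA

/-! # The outer automorphism group of the Harada–Norton group: the number of points of the tree number 0 of the chain `A`, a part (generated) -/

set_option autoImplicit false
set_option maxRecDepth 100000

namespace Cfsg.Agent.HNOut

open Cfsg.Agent.PF Cfsg.Agent.Lib.Helper6 Cfsg.Agent.Lib.Helper6.TC Cfsg.Agent.Lib.Helper6.NatArr
open Cfsg.Agent.PL (Acts evalF)

theorem cntA0_300 : countR 999600 3332 (traceTo LA0.2.1 LA0.2.2 LA0.1 12) = 3332 := by decide +kernel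

theorem cntA0_301 : countR 1002932 3332 (traceTo LA0.2.1 LA0.2.2 LA0.1 12) = 3332 := by decide +kernel

theorem cntA0_302 : countR 1006264 3332 (traceTo LA0.2.1 LA0.2.2 LA0.1 12) = 3332 := by decide +kernel

theorem cntA0_303 : countR 1009596 3332 (traceTo LA0.2.1 LA0.2.2 LA0.1 12) = 3332 := by decide +kernel

theorem cntA0_304 : countR 1012928 3332 (traceTo LA0.2.1 LA0.2.2 LA0.1 12) = 3332 := by decide +kernel

theorem cntA0_305 : countR 1016260 3332 (traceTo LA0.2.1 LA0.2.2 LA0.1 12) = 3332 := by decide +kernel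

theorem cntA0_306 : countR 1019592 3332 (traceTo LA0.2.1 LA0.2.2 LA0.1 12) = 3332 := by decide +kernel

theorem cntA0_307 : countR 1022924 3332 (traceTo LA0.2.1 LA0.2.2 LA0.1 12) = 3332 := by decide +kernel

theorem cntA0_308 : countR 1026256 3332 (traceTo LA0.2.1 LA0.2.2 LA0.1 12) = 3332 := by decide +kernel

theorem cntA0_309 : countR 1029588 3332 (traceTo LA0.2.1 LA0.2.2 LA0.1 12) = 3332 := by decide +kernel

theorem cntA0_310 : countR 1032920 3332 (traceTo LA0.2.1 LA0.2.2 LA0.1 12) = 3332 := by decide +kernel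

theorem cntA0_311 : countR 1036252 3332 (traceTo LA0.2.1 LA0.2.2 LA0.1 12) = 3332 := by decide +kernel

theorem cntA0_312 : countR 1039584 3332 (traceTo LA0.2.1 LA0.2.2 LA0.1 12) = 3332 := by decide +kernel

theorem cntA0_313 : countR 1042916 3332 (traceTo LA0.2.1 LA0.2.2 LA0.1 12) = 3332 := by decide +kernel

theorem cntA0_314 : countR 1046248 3332 (traceTo LA0.2.1 LA0.2.2 LA0.1 12) = 3332 := by decide +kernel

theorem cntA0_315 : countR 1049580 3332 (traceTo LA0.2.1 LA0.2.2 LA0.1 12) = 3332 := by decide +kernel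

theorem cntA0_316 : countR 1052912 3332 (traceTo LA0.2.1 LA0.2.2 LA0.1 12) = 3332 := by decide +kernel

theorem cntA0_317 : countR 1056244 3332 (traceTo LA0.2.1 LA0.2.2 LA0.1 12) = 3332 := by decide +kernel

theorem cntA0_318 : countR 1059576 3332 (traceTo LA0.2.1 LA0.2.2 LA0.1 12) = 3332 := by decide +kernel

theorem cntA0_319 : countR 1062908 3332 (traceTo LA0.2.1 LA0.2.2 LA0.1 12) = 3332 := by decide +kernel

theorem cntA0_320 : countR 1066240 3332 (traceTo LA0.2.1 LA0.2.2 LA0.1 12) = 3332 := by decide +kernel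

theorem cntA0_321 : countR 1069572 3332 (traceTo LA0.2.1 LA0.2.2 LA0.1 12) = 3332 := by decide +kernel

theorem cntA0_322 : countR 1072904 3332 (traceTo LA0.2.1 LA0.2.2 LA0.1 12) = 3332 := by decide +kernel

theorem cntA0_323 : countR 1076236 3332 (traceTo LA0.2.1 LA0.2.2 LA0.1 12) = 3332 := by decide +kernel

theorem cntA0_324 : countR 1079568 3332 (traceTo LA0.2.1 LA0.2.2 LA0.1 12) = 3332 := by decide +kernel


end Cfsg.Agent.HNOut
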