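import Cfsg.Agent.Lib.Lead.HNOut.CntA0x0
import Cfsg.Agent.Lib.Lead.HNOut.CntA0x1
import Cfsg.Agent.Lib.Lead.HNOut.CntA0x2
import Cfsg.Agent.Lib.Lead.HNOut.CntA0x3
import Cfsg.Agent.Lib.Lead.HNOut.CntA0x4
import Cfsg.Agent.Lib.Lead.HNOut.CntA0x5
import Cfsg.Agent.Lib.Lead.HNOut.CntA0x6
import Cfsg.Agent.Lib.Lead.HNOut.CntA0x7
import Cfsg.Agent.Lib.Lead.HNOut.CntA0x8
import Cfsg.Agent.Lib.Lead.HNOut.CntA0x9
import Cfsg.Agent.Lib.Lead.HNOut.CntA0x10
import Cfsg.Agent.Lib.Lead.HNOut.CntA0x11
import Cfsg.Agent.Lib.Lead.HNOut.CntA0x12
import Cfsg.Agent.Lib.Lead.HNOut.CntA0x13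
import Cfsg.Agent.Lib.Lead.HNOut.CntA0x14
import Cfsg.Agent.Lib.Lead.HNOut.CntA0x15
import Cfsg.Agent.Lib.Lead.HNOut.CntA0x16
import Cfsg.Agent.Lib.Lead.HNOut.CntA0x17
import Cfsg.Agent.Lib.Lead.HNOut.CntA0x18

/-! # The outer automorphism group of the Harada–Norton group: the number of points of the tree number 0 of the chain `A` (generated) -/

set_option autoImplicit false
set_option maxRecDepth 100000

namespace Cfsg.Agent.HNOut

open Cfsg.Agent.PF Cfsg.Agent.Lib.Helper6 Cfsg.Agent.Lib.Helper6.TC Cfsg.Agent.Lib.Helper6.NatArr
open Cfsg.Agent.PL (Acts evalF)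

theorem cntA0_grp0 : countR 0 333200 (traceTo LA0.2.1 LA0.2.2 LA0.1 12) = 333200 :=
  (countR_append cntA0_0 (countR_append cntA0_1 (countR_append cntA0_2 (countR_append cntA0_3 (countR_append cntA0_4 (countR_append cntA0_5 (countR_append cntA0_6 (countR_append cntA0_7 (countR_append cntA0_8 (countR_append cntA0_9 (countR_append cntA0_10 (countR_append cntA0_11 (countR_append cntA0_12 (countR_append cntA0_13 (countR_append cntA0_14 (countR_append cntA0_15 (countR_append cntA0_16 (countR_append cntA0_17 (countR_append cntA0_18 (countR_append cntA0_19 (countR_append cntA0_20 (countR_append cntA0_21 (countR_append cntA0_22 (countR_append cntA0_23 (countR_append cntA0_24 (countR_append cntA0_25 (countR_append cntA0_26 (countR_append cntA0_27 (countR_append cntA0_28 (countR_append cntA0_29 (countR_append cntA0_30 (countR_append cntA0_31 (countR_append cntA0_32 (countR_append cntA0_33 (countR_append cntA0_34 (countR_append cntA0_35 (countR_append cntA0_36 (countR_append cntA0_37 (countR_append cntA0_38 (countR_append cntA0_39 (countR_append cntA0_40 (countR_append cntA0_41 (countR_append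 cntA0_42 (countR_append cntA0_43 (countR_append cntA0_44 (countR_append cntA0_45 (countR_append cntA0_46 (countR_append cntA0_47 (countR_append cntA0_48 (countR_append cntA0_49 (countR_append cntA0_50 (countR_append cntA0_51 (countR_append cntA0_52 (countR_append cntA0_53 (countR_append cntA0_54 (countR_append cntA0_55 (countR_append cntA0_56 (countR_append cntA0_57 (countR_append cntA0_58 (countR_append cntA0_59 (countR_append cntA0_60 (countR_append cntA0_61 (countR_append cntA0_62 (countR_append cntA0_63 (countR_append cntA0_64 (countR_append cntA0_65 (countR_append cntA0_66 (countR_append cntA0_67 (countR_append cntA0_68 (countR_append cntA0_69 (countR_append cntA0_70 (countR_append cntA0_71 (countR_append cntA0_72 (countR_append cntA0_73 (countR_append cntA0_74 (countR_append cntA0_75 (countR_append cntA0_76 (countR_append cntA0_77 (countR_append cntA0_78 (countR_append cntA0_79 (countR_append cntA0_80 (countR_append cntA0_81 (countR_append cntA0_82 (countR_append cntA0_83 (countR_append cntA0_84 (countR_append cntA0_85 (countR_append cntA0_86 (countR_append cntA0_87 (countR_append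 cntA0_88 (countR_append cntA0_89 (countR_append cntA0_90 (countR_append cntA0_91 (countR_append cntA0_92 (countR_append cntA0_93 (countR_append cntA0_94 (countR_append cntA0_95 (countR_append cntA0_96 (countR_append cntA0_97 (countR_append cntA0_98 (cntA0_99))))))))))))))))))))))))))))))))))))))))))))))))))))))))))))))))))))))))))))))))))))))))))))))))))) :
    countR 0 (3332 + (3332 + (3332 + (3332 + (3332 + (3332 + (3332 + (3332 + (3332 + (3332 + (3332 + (3332 + (3332 + (3332 + (3332 + (3332 + (3332 + (3332 + (3332 + (3332 + (3332 + (3332 + (3332 + (3332 + (3332 + (3332 + (3332 + (3332 + (3332 + (3332 + (3332 + (3332 + (3332 + (3332 + (3332 + (3332 + (3332 + (3332 + (3332 + (3332 + (3332 + (3332 + (3332 + (3332 + (3332 + (3332 + (3332 + (3332 + (3332 + (3332 + (3332 + (3332 + (3332 + (3332 + (3332 + (3332 + (3332 + (3332 + (3332 + (3332 + (3332 + (3332 + (3332 + (3332 + (3332 + (3332 + (3332 + (3332 + (3332 + (3332 + (3332 + (3332 + (3332 + (3332 + (3332 + (3332 + (3332 + (3332 + (3332 + (3332 + (3332 + (3332 + (3332 + (3332 + (3332 + (3332 + (3332 + (3332 + (3332 + (3332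 + (3332 + (3332 + (3332 + (3332 + (3332 + (3332 + (3332 + (3332 + (3332 + (3332)))))))))))))))))))))))))))))))))))))))))))))))))))))))))))))))))))))))))))))))))))))))))))))))))))) (traceTo LA0.2.1 LA0.2.2 LA0.1 12) = 3332 + (3332 + (3332 + (3332 + (3332 + (3332 + (3332 + (3332 + (3332 + (3332 + (3332 + (3332 + (3332 + (3332 + (3332 + (3332 + (3332 + (3332 + (3332 + (3332 + (3332 + (3332 + (3332 + (3332 + (3332 + (3332 + (3332 + (3332 + (3332 + (3332 + (3332 + (3332 + (3332 + (3332 + (3332 + (3332 + (3332 + (3332 + (3332 + (3332 + (3332 + (3332 + (3332 + (3332 + (3332 + (3332 + (3332 + (3332 + (3332 + (3332 + (3332 + (3332 + (3332 + (3332 + (3332 + (3332 + (3332 + (3332 + (3332 + (3332 + (3332 + (3332 + (3332 + (3332 + (3332 + (3332 + (3332 + (3332 + (3332 + (3332 + (3332 + (3332 + (3332 + (3332 + (3332 + (3332 + (3332 + (3332 + (3332 + (3332 + (3332 + (3332 + (3332 + (3332 + (3332 + (3332 + (3332 + (3332 + (3332 + (3332 + (3332 + (3332 + (3332 + (3332 + (3332 + (3332 + (3332 + (3332 + (3332 + (3332))))))))))))))))))))))))))))))))))))))))))))))))))))))))))))))))))))))))))))))))))))))))))))))))))))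

theorem cntA0_grp1 : countR 333200 333200 (traceTo LA0.2.1 LA0.2.2 LA0.1 12) = 333200 :=
  (countR_append cntA0_100 (countR_append cntA0_101 (countR_append cntA0_102 (countR_append cntA0_103 (countR_append cntA0_104 (countR_append cntA0_105 (countR_append cntA0_106 (countR_append cntA0_107 (countR_append cntA0_108 (countR_append cntA0_109 (countR_append cntA0_110 (countR_append cntA0_111 (countR_append cntA0_112 (countR_append cntA0_113 (countR_append cntA0_114 (countR_append cntA0_115 (countR_append cntA0_116 (countR_append cntA0_117 (countR_append cntA0_118 (countR_append cntA0_119 (countR_append cntA0_120 (countR_append cntA0_121 (countR_append cntA0_122 (countR_append cntA0_123 (countR_append cntA0_124 (countR_append cntA0_125 (countR_append cntA0_126 (countR_append cntA0_127 (countR_append cntA0_128 (countR_append cntA0_129 (countR_append cntA0_130 (countR_append cntA0_131 (countR_append cntA0_132 (countR_append cntA0_133 (countR_append cntA0_134 (countR_append cntA0_135 (countR_append cntA0_136 (countR_append cntA0_137 (countR_append cntA0_138 (countR_append cntA0_139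 (countR_append cntA0_140 (countR_append cntA0_141 (countR_append cntA0_142 (countR_append cntA0_143 (countR_append cntA0_144 (countR_append cntA0_145 (countR_append cntA0_146 (countR_append cntA0_147 (countR_append cntA0_148 (countR_append cntA0_149 (countR_append cntA0_150 (countR_append cntA0_151 (countR_append cntA0_152 (countR_append cntA0_153 (countR_append cntA0_154 (countR_append cntA0_155 (countR_append cntA0_156 (countR_append cntA0_157 (countR_append cntA0_158 (countR_append cntA0_159 (countR_append cntA0_160 (countR_append cntA0_161 (countR_append cntA0_162 (countR_append cntA0_163 (countR_append cntA0_164 (countR_append cntA0_165 (countR_append cntA0_166 (countR_append cntA0_167 (countR_append cntA0_168 (countR_append cntA0_169 (countR_append cntA0_170 (countR_append cntA0_171 (countR_append cntA0_172 (countR_append cntA0_173 (countR_append cntA0_174 (countR_append cntA0_175 (countR_append cntA0_176 (countR_append cntA0_177 (countR_append cntA0_178 (countR_append cntA0_179 (countR_append cntA0_180 (countR_append cntA0_181 (countR_append cntA0_182 (countR_append cntA0_183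 (countR_append cntA0_184 (countR_append cntA0_185 (countR_append cntA0_186 (countR_append cntA0_187 (countR_append cntA0_188 (countR_append cntA0_189 (countR_append cntA0_190 (countR_append cntA0_191 (countR_append cntA0_192 (countR_append cntA0_193 (countR_append cntA0_194 (countR_append cntA0_195 (countR_append cntA0_196 (countR_append cntA0_197 (countR_append cntA0_198 (cntA0_199))))))))))))))))))))))))))))))))))))))))))))))))))))))))))))))))))))))))))))))))))))))))))))))))))) :
    countR 333200 (3332 + (3332 + (3332 + (3332 + (3332 + (3332 + (3332 + (3332 + (3332 + (3332 + (3332 + (3332 + (3332 + (3332 + (3332 + (3332 + (3332 + (3332 + (3332 + (3332 + (3332 + (3332 + (3332 + (3332 + (3332 + (3332 + (3332 + (3332 + (3332 + (3332 + (3332 + (3332 + (3332 + (3332 + (3332 + (3332 + (3332 + (3332 + (3332 + (3332 + (3332 + (3332 + (3332 + (3332 + (3332 + (3332 + (3332 + (3332 + (3332 + (3332 + (3332 + (3332 + (3332 + (3332 + (3332 + (3332 + (3332 + (3332 + (3332 + (3332 + (3332 + (3332 + (3332 + (3332 + (3332 + (3332 + (3332 + (3332 + (3332 + (3332 + (3332 + (3332 + (3332 + (3332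 + (3332 + (3332 + (3332 + (3332 + (3332 + (3332 + (3332 + (3332 + (3332 + (3332 + (3332 + (3332 + (3332 + (3332 + (3332 + (3332 + (3332 + (3332 + (3332 + (3332 + (3332 + (3332 + (3332 + (3332 + (3332 + (3332)))))))))))))))))))))))))))))))))))))))))))))))))))))))))))))))))))))))))))))))))))))))))))))))))))) (traceTo LA0.2.1 LA0.2.2 LA0.1 12) = 3332 + (3332 + (3332 + (3332 + (3332 + (3332 + (3332 + (3332 + (3332 + (3332 + (3332 + (3332 + (3332 + (3332 + (3332 + (3332 + (3332 + (3332 + (3332 + (3332 + (3332 + (3332 + (3332 + (3332 + (3332 + (3332 + (3332 + (3332 + (3332 + (3332 + (3332 + (3332 + (3332 + (3332 + (3332 + (3332 + (3332 + (3332 + (3332 + (3332 + (3332 + (3332 + (3332 + (3332 + (3332 + (3332 + (3332 + (3332 + (3332 + (3332 + (3332 + (3332 + (3332 + (3332 + (3332 + (3332 + (3332 + (3332 + (3332 + (3332 + (3332 + (3332 + (3332 + (3332 + (3332 + (3332 + (3332 + (3332 + (3332 + (3332 + (3332 + (3332 + (3332 + (3332 + (3332 + (3332 + (3332 + (3332 + (3332 + (3332 + (3332 + (3332 + (3332 + (3332 + (3332 + (3332 + (3332 + (3332 + (3332 + (3332 + (3332 + (3332 + (3332 + (3332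 + (3332 + (3332 + (3332 + (3332 + (3332 + (3332))))))))))))))))))))))))))))))))))))))))))))))))))))))))))))))))))))))))))))))))))))))))))))))))))))

theorem cntA0_grp2 : countR 666400 333200 (traceTo LA0.2.1 LA0.2.2 LA0.1 12) = 333200 :=
  (countR_append cntA0_200 (countR_append cntA0_201 (countR_append cntA0_202 (countR_append cntA0_203 (countR_append cntA0_204 (countR_append cntA0_205 (countR_append cntA0_206 (countR_append cntA0_207 (countR_append cntA0_208 (countR_append cntA0_209 (countR_append cntA0_210 (countR_append cntA0_211 (countR_append cntA0_212 (countR_append cntA0_213 (countR_append cntA0_214 (countR_append cntA0_215 (countR_append cntA0_216 (countR_append cntA0_217 (countR_append cntA0_218 (countR_append cntA0_219 (countR_append cntA0_220 (countR_append cntA0_221 (countR_append cntA0_222 (countR_append cntA0_223 (countR_append cntA0_224 (countR_append cntA0_225 (countR_append cntA0_226 (countR_append cntA0_227 (countR_append cntA0_228 (countR_append cntA0_229 (countR_append cntA0_230 (countR_append cntA0_231 (countR_append cntA0_232 (countR_append cntA0_233 (countR_append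 cntA0_234 (countR_append cntA0_235 (countR_append cntA0_236 (countR_append cntA0_237 (countR_append cntA0_238 (countR_append cntA0_239 (countR_append cntA0_240 (countR_append cntA0_241 (countR_append cntA0_242 (countR_append cntA0_243 (countR_append cntA0_244 (countR_append cntA0_245 (countR_append cntA0_246 (countR_append cntA0_247 (countR_append cntA0_248 (countR_append cntA0_249 (countR_append cntA0_250 (countR_append cntA0_251 (countR_append cntA0_252 (countR_append cntA0_253 (countR_append cntA0_254 (countR_append cntA0_255 (countR_append cntA0_256 (countR_append cntA0_257 (countR_append cntA0_258 (countR_append cntA0_259 (countR_append cntA0_260 (countR_append cntA0_261 (countR_append cntA0_262 (countR_append cntA0_263 (countR_append cntA0_264 (countR_append cntA0_265 (countR_append cntA0_266 (countR_append cntA0_267 (countR_append cntA0_268 (countR_append cntA0_269 (countR_append cntA0_270 (countR_append cntA0_271 (countR_append cntA0_272 (countR_append cntA0_273 (countR_append cntA0_274 (countR_append cntA0_275 (countR_append cntA0_276 (countR_append cntA0_277 (countR_append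 cntA0_278 (countR_append cntA0_279 (countR_append cntA0_280 (countR_append cntA0_281 (countR_append cntA0_282 (countR_append cntA0_283 (countR_append cntA0_284 (countR_append cntA0_285 (countR_append cntA0_286 (countR_append cntA0_287 (countR_append cntA0_288 (countR_append cntA0_289 (countR_append cntA0_290 (countR_append cntA0_291 (countR_append cntA0_292 (countR_append cntA0_293 (countR_append cntA0_294 (countR_append cntA0_295 (countR_append cntA0_296 (countR_append cntA0_297 (countR_append cntA0_298 (cntA0_299))))))))))))))))))))))))))))))))))))))))))))))))))))))))))))))))))))))))))))))))))))))))))))))))))) :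
    countR 666400 (3332 + (3332 + (3332 + (3332 + (3332 + (3332 + (3332 + (3332 + (3332 + (3332 + (3332 + (3332 + (3332 + (3332 + (3332 + (3332 + (3332 + (3332 + (3332 + (3332 + (3332 + (3332 + (3332 + (3332 + (3332 + (3332 + (3332 + (3332 + (3332 + (3332 + (3332 + (3332 + (3332 + (3332 + (3332 + (3332 + (3332 + (3332 + (3332 + (3332 + (3332 + (3332 + (3332 + (3332 + (3332 + (3332 + (3332 + (3332 + (3332 + (3332 + (3332 + (3332 + (3332 + (3332 + (3332 + (3332 + (3332 + (3332 + (3332 + (3332 + (3332 + (3332 + (3332 + (3332 + (3332 + (3332 + (3332 + (3332 + (3332 + (3332 + (3332 + (3332 + (3332 + (3332 + (3332 + (3332 + (3332 + (3332 + (3332 + (3332 + (3332 + (3332 + (3332 + (3332 + (3332 + (3332 + (3332 + (3332 + (3332 + (3332 + (3332 + (3332 + (3332 + (3332 + (3332 + (3332 + (3332 + (3332 + (3332 + (3332)))))))))))))))))))))))))))))))))))))))))))))))))))))))))))))))))))))))))))))))))))))))))))))))))))) (traceTo LA0.2.1 LA0.2.2 LA0.1 12) = 3332 + (3332 + (3332 + (3332 + (3332 + (3332 + (3332 + (3332 + (3332 + (3332 + (3332 + (3332 + (3332 + (3332 + (3332 + (3332 + (3332 + (3332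 + (3332 + (3332 + (3332 + (3332 + (3332 + (3332 + (3332 + (3332 + (3332 + (3332 + (3332 + (3332 + (3332 + (3332 + (3332 + (3332 + (3332 + (3332 + (3332 + (3332 + (3332 + (3332 + (3332 + (3332 + (3332 + (3332 + (3332 + (3332 + (3332 + (3332 + (3332 + (3332 + (3332 + (3332 + (3332 + (3332 + (3332 + (3332 + (3332 + (3332 + (3332 + (3332 + (3332 + (3332 + (3332 + (3332 + (3332 + (3332 + (3332 + (3332 + (3332 + (3332 + (3332 + (3332 + (3332 + (3332 + (3332 + (3332 + (3332 + (3332 + (3332 + (3332 + (3332 + (3332 + (3332 + (3332 + (3332 + (3332 + (3332 + (3332 + (3332 + (3332 + (3332 + (3332 + (3332 + (3332 + (3332 + (3332 + (3332 + (3332 + (3332 + (3332))))))))))))))))))))))))))))))))))))))))))))))))))))))))))))))))))))))))))))))))))))))))))))))))))))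

theorem cntA0_grp3 : countR 999600 333200 (traceTo LA0.2.1 LA0.2.2 LA0.1 12) = 333200 :=
  (countR_append cntA0_300 (countR_append cntA0_301 (countR_append cntA0_302 (countR_append cntA0_303 (countR_append cntA0_304 (countR_append cntA0_305 (countR_append cntA0_306 (countR_append cntA0_307 (countR_append cntA0_308 (countR_append cntA0_309 (countR_append cntA0_310 (countR_append cntA0_311 (countR_append cntA0_312 (countR_append cntA0_313 (countR_append cntA0_314 (countR_append cntA0_315 (countR_append cntA0_316 (countR_append cntA0_317 (countR_append cntA0_318 (countR_append cntA0_319 (countR_append cntA0_320 (countR_append cntA0_321 (countR_append cntA0_322 (countR_append cntA0_323 (countR_append cntA0_324 (countR_append cntA0_325 (countR_append cntA0_326 (countR_append cntA0_327 (countR_append cntA0_328 (countR_append cntA0_329 (countR_append cntA0_330 (countR_append cntA0_331 (countR_append cntA0_332 (countR_append cntA0_333 (countR_append cntA0_334 (countR_append cntA0_335 (countR_append cntA0_336 (countR_append cntA0_337 (countR_append cntA0_338 (countR_append cntA0_339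 (countR_append cntA0_340 (countR_append cntA0_341 (countR_append cntA0_342 (countR_append cntA0_343 (countR_append cntA0_344 (countR_append cntA0_345 (countR_append cntA0_346 (countR_append cntA0_347 (countR_append cntA0_348 (countR_append cntA0_349 (countR_append cntA0_350 (countR_append cntA0_351 (countR_append cntA0_352 (countR_append cntA0_353 (countR_append cntA0_354 (countR_append cntA0_355 (countR_append cntA0_356 (countR_append cntA0_357 (countR_append cntA0_358 (countR_append cntA0_359 (countR_append cntA0_360 (countR_append cntA0_361 (countR_append cntA0_362 (countR_append cntA0_363 (countR_append cntA0_364 (countR_append cntA0_365 (countR_append cntA0_366 (countR_append cntA0_367 (countR_append cntA0_368 (countR_append cntA0_369 (countR_append cntA0_370 (countR_append cntA0_371 (countR_append cntA0_372 (countR_append cntA0_373 (countR_append cntA0_374 (countR_append cntA0_375 (countR_append cntA0_376 (countR_append cntA0_377 (countR_append cntA0_378 (countR_append cntA0_379 (countR_append cntA0_380 (countR_append cntA0_381 (countR_append cntA0_382 (countR_append cntA0_383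 (countR_append cntA0_384 (countR_append cntA0_385 (countR_append cntA0_386 (countR_append cntA0_387 (countR_append cntA0_388 (countR_append cntA0_389 (countR_append cntA0_390 (countR_append cntA0_391 (countR_append cntA0_392 (countR_append cntA0_393 (countR_append cntA0_394 (countR_append cntA0_395 (countR_append cntA0_396 (countR_append cntA0_397 (countR_append cntA0_398 (cntA0_399))))))))))))))))))))))))))))))))))))))))))))))))))))))))))))))))))))))))))))))))))))))))))))))))))) :
    countR 999600 (3332 + (3332 + (3332 + (3332 + (3332 + (3332 + (3332 + (3332 + (3332 + (3332 + (3332 + (3332 + (3332 + (3332 + (3332 + (3332 + (3332 + (3332 + (3332 + (3332 + (3332 + (3332 + (3332 + (3332 + (3332 + (3332 + (3332 + (3332 + (3332 + (3332 + (3332 + (3332 + (3332 + (3332 + (3332 + (3332 + (3332 + (3332 + (3332 + (3332 + (3332 + (3332 + (3332 + (3332 + (3332 + (3332 + (3332 + (3332 + (3332 + (3332 + (3332 + (3332 + (3332 + (3332 + (3332 + (3332 + (3332 + (3332 + (3332 + (3332 + (3332 + (3332 + (3332 + (3332 + (3332 + (3332 + (3332 + (3332 + (3332 + (3332 + (3332 + (3332 + (3332 + (3332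 + (3332 + (3332 + (3332 + (3332 + (3332 + (3332 + (3332 + (3332 + (3332 + (3332 + (3332 + (3332 + (3332 + (3332 + (3332 + (3332 + (3332 + (3332 + (3332 + (3332 + (3332 + (3332 + (3332 + (3332 + (3332 + (3332)))))))))))))))))))))))))))))))))))))))))))))))))))))))))))))))))))))))))))))))))))))))))))))))))))) (traceTo LA0.2.1 LA0.2.2 LA0.1 12) = 3332 + (3332 + (3332 + (3332 + (3332 + (3332 + (3332 + (3332 + (3332 + (3332 + (3332 + (3332 + (3332 + (3332 + (3332 + (3332 + (3332 + (3332 + (3332 + (3332 + (3332 + (3332 + (3332 + (3332 + (3332 + (3332 + (3332 + (3332 + (3332 + (3332 + (3332 + (3332 + (3332 + (3332 + (3332 + (3332 + (3332 + (3332 + (3332 + (3332 + (3332 + (3332 + (3332 + (3332 + (3332 + (3332 + (3332 + (3332 + (3332 + (3332 + (3332 + (3332 + (3332 + (3332 + (3332 + (3332 + (3332 + (3332 + (3332 + (3332 + (3332 + (3332 + (3332 + (3332 + (3332 + (3332 + (3332 + (3332 + (3332 + (3332 + (3332 + (3332 + (3332 + (3332 + (3332 + (3332 + (3332 + (3332 + (3332 + (3332 + (3332 + (3332 + (3332 + (3332 + (3332 + (3332 + (3332 + (3332 + (3332 + (3332 + (3332 + (3332 + (3332 + (3332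 + (3332 + (3332 + (3332 + (3332 + (3332 + (3332))))))))))))))))))))))))))))))))))))))))))))))))))))))))))))))))))))))))))))))))))))))))))))))))))))

theorem cntA0_grp4 : countR 1332800 206200 (traceTo LA0.2.1 LA0.2.2 LA0.1 12) = 206200 :=
  (countR_append cntA0_400 (countR_append cntA0_401 (countR_append cntA0_402 (countR_append cntA0_403 (countR_append cntA0_404 (countR_append cntA0_405 (countR_append cntA0_406 (countR_append cntA0_407 (countR_append cntA0_408 (countR_append cntA0_409 (countR_append cntA0_410 (countR_append cntA0_411 (countR_append cntA0_412 (countR_append cntA0_413 (countR_append cntA0_414 (countR_append cntA0_415 (countR_append cntA0_416 (countR_append cntA0_417 (countR_append cntA0_418 (countR_append cntA0_419 (countR_append cntA0_420 (countR_append cntA0_421 (countR_append cntA0_422 (countR_append cntA0_423 (countR_append cntA0_424 (countR_append cntA0_425 (countR_append cntA0_426 (countR_append cntA0_427 (countR_append cntA0_428 (countR_append cntA0_429 (countR_append cntA0_430 (countR_append cntA0_431 (countR_append cntA0_432 (countR_append cntA0_433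 (countR_append cntA0_434 (countR_append cntA0_435 (countR_append cntA0_436 (countR_append cntA0_437 (countR_append cntA0_438 (countR_append cntA0_439 (countR_append cntA0_440 (countR_append cntA0_441 (countR_append cntA0_442 (countR_append cntA0_443 (countR_append cntA0_444 (countR_append cntA0_445 (countR_append cntA0_446 (countR_append cntA0_447 (countR_append cntA0_448 (countR_append cntA0_449 (countR_append cntA0_450 (countR_append cntA0_451 (countR_append cntA0_452 (countR_append cntA0_453 (countR_append cntA0_454 (countR_append cntA0_455 (countR_append cntA0_456 (countR_append cntA0_457 (countR_append cntA0_458 (countR_append cntA0_459 (countR_append cntA0_460 (cntA0_461))))))))))))))))))))))))))))))))))))))))))))))))))))))))))))) :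
    countR 1332800 (3332 + (3332 + (3332 + (3332 + (3332 + (3332 + (3332 + (3332 + (3332 + (3332 + (3332 + (3332 + (3332 + (3332 + (3332 + (3332 + (3332 + (3332 + (3332 + (3332 + (3332 + (3332 + (3332 + (3332 + (3332 + (3332 + (3332 + (3332 + (3332 + (3332 + (3332 + (3332 + (3332 + (3332 + (3332 + (3332 + (3332 + (3332 + (3332 + (3332 + (3332 + (3332 + (3332 + (3332 + (3332 + (3332 + (3332 + (3332 + (3332 + (3332 + (3332 + (3332 + (3332 + (3332 + (3332 + (3332 + (3332 + (3332 + (3332 + (3332 + (3332 + (2948)))))))))))))))))))))))))))))))))))))))))))))))))))))))))))))) (traceTo LA0.2.1 LA0.2.2 LA0.1 12) = 3332 + (3332 + (3332 + (3332 + (3332 + (3332 + (3332 + (3332 + (3332 + (3332 + (3332 + (3332 + (3332 + (3332 + (3332 + (3332 + (3332 + (3332 + (3332 + (3332 + (3332 + (3332 + (3332 + (3332 + (3332 + (3332 + (3332 + (3332 + (3332 + (3332 + (3332 + (3332 + (3332 + (3332 + (3332 + (3332 + (3332 + (3332 + (3332 + (3332 + (3332 + (3332 + (3332 + (3332 + (3332 + (3332 + (3332 + (3332 + (3332 + (3332 + (3332 + (3332 + (3332 + (3332 + (3332 + (3332 + (3332 + (3332 + (3332 + (3332 +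 (3332 + (2948))))))))))))))))))))))))))))))))))))))))))))))))))))))))))))))

/-- the number of points of the tree number 0 of the chain `A` -/
theorem lenA0 : (orbitL 1539000 LA0.2.1 LA0.2.2 LA0.1 12).length = 1539000 := by
  rw [length_orbitL]
  exact (countR_append cntA0_grp0 (countR_append cntA0_grp1 (countR_append cntA0_grp2 (countR_append cntA0_grp3 (cntA0_grp4)))) :
    countR 0 (333200 + (333200 + (333200 + (333200 + (206200))))) (traceTo LA0.2.1 LA0.2.2 LA0.1 12) = 333200 + (333200 + (333200 + (333200 + (206200)))))

end Cfsg.Agent.HNOut
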