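import Cfsg.Agent.Lib.Lead.HNOut.LevA

/-! # The outer automorphism group of the Harada–Norton group: the number of points of the tree number 0 of the chain `A`, a part (generated) -/

set_option autoImplicit false
set_option maxRecDepth 100000

namespace Cfsg.Agent.HNOut

open Cfsg.Agent.PF Cfsg.Agent.Lib.Helper6 Cfsg.Agent.Lib.Helper6.TC Cfsg.Agent.Lib.Helper6.NatArr
open Cfsg.Agent.PL (Acts evalF)

theorem cntA0_0 : countR 0 3332 (traceTo LA0.2.1 LA0.2.2 LA0.1 12) = 3332 := by decide +kernel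

theorem cntA0_1 : countR 3332 3332 (traceTo LA0.2.1 LA0.2.2 LA0.1 12) = 3332 := by decide +kernel

theorem cntA0_2 : countR 6664 3332 (traceTo LA0.2.1 LA0.2.2 LA0.1 12) = 3332 := by decide +kernel

theorem cntA0_3 : countR 9996 3332 (traceTo LA0.2.1 LA0.2.2 LA0.1 12) = 3332 := by decide +kernel

theorem cntA0_4 : countR 13328 3332 (traceTo LA0.2.1 LA0.2.2 LA0.1 12) = 3332 := by decide +kernel

theorem cntA0_5 : countR 16660 3332 (traceTo LA0.2.1 LA0.2.2 LA0.1 12) = 3332 := by decide +kernel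

theorem cntA0_6 : countR 19992 3332 (traceTo LA0.2.1 LA0.2.2 LA0.1 12) = 3332 := by decide +kernel

theorem cntA0_7 : countR 23324 3332 (traceTo LA0.2.1 LA0.2.2 LA0.1 12) = 3332 := by decide +kernel

theorem cntA0_8 : countR 26656 3332 (traceTo LA0.2.1 LA0.2.2 LA0.1 12) = 3332 := by decide +kernel

theorem cntA0_9 : countR 29988 3332 (traceTo LA0.2.1 LA0.2.2 LA0.1 12) = 3332 := by decide +kernel

theorem cntA0_10 : countR 33320 3332 (traceTo LA0.2.1 LA0.2.2 LA0.1 12) = 3332 := by decide +kernel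

theorem cntA0_11 : countR 36652 3332 (traceTo LA0.2.1 LA0.2.2 LA0.1 12) = 3332 := by decide +kernel

theorem cntA0_12 : countR 39984 3332 (traceTo LA0.2.1 LA0.2.2 LA0.1 12) = 3332 := by decide +kernel

theorem cntA0_13 : countR 43316 3332 (traceTo LA0.2.1 LA0.2.2 LA0.1 12) = 3332 := by decide +kernel

theorem cntA0_14 : countR 46648 3332 (traceTo LA0.2.1 LA0.2.2 LA0.1 12) = 3332 := by decide +kernel

theorem cntA0_15 : countR 49980 3332 (traceTo LA0.2.1 LA0.2.2 LA0.1 12) = 3332 := by decide +kernel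

theorem cntA0_16 : countR 53312 3332 (traceTo LA0.2.1 LA0.2.2 LA0.1 12) = 3332 := by decide +kernel

theorem cntA0_17 : countR 56644 3332 (traceTo LA0.2.1 LA0.2.2 LA0.1 12) = 3332 := by decide +kernel

theorem cntA0_18 : countR 59976 3332 (traceTo LA0.2.1 LA0.2.2 LA0.1 12) = 3332 := by decide +kernel

theorem cntA0_19 : countR 63308 3332 (traceTo LA0.2.1 LA0.2.2 LA0.1 12) = 3332 := by decide +kernel

theorem cntA0_20 : countR 66640 3332 (traceTo LA0.2.1 LA0.2.2 LA0.1 12) = 3332 := by decide +kernel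

theorem cntA0_21 : countR 69972 3332 (traceTo LA0.2.1 LA0.2.2 LA0.1 12) = 3332 := by decide +kernel

theorem cntA0_22 : countR 73304 3332 (traceTo LA0.2.1 LA0.2.2 LA0.1 12) = 3332 := by decide +kernel

theorem cntA0_23 : countR 76636 3332 (traceTo LA0.2.1 LA0.2.2 LA0.1 12) = 3332 := by decide +kernel

theorem cntA0_24 : countR 79968 3332 (traceTo LA0.2.1 LA0.2.2 LA0.1 12) = 3332 := by decide +kernel


end Cfsg.Agent.HNOut
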