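import Cfsg.Agent.Lib.Lead.HNOut.LevA

/-! # The outer automorphism group of the Harada–Norton group: the number of points of the tree number 1 of the chain `A`, a part (generated) -/

set_option autoImplicit false
set_option maxRecDepth 100000

namespace Cfsg.Agent.HNOut

open Cfsg.Agent.PF Cfsg.Agent.Lib.Helper6 Cfsg.Agent.Lib.Helper6.TC Cfsg.Agent.Lib.Helper6.NatArr
open Cfsg.Agent.PL (Acts evalF)

theorem cntA1_0 : countR 0 2773 (traceTo LA1.2.1 LA1.2.2 LA1.1 12) = 775 := by decide +kernel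

theorem cntA1_1 : countR 2773 2773 (traceTo LA1.2.1 LA1.2.2 LA1.1 12) = 900 := by decide +kernel

theorem cntA1_2 : countR 5546 2773 (traceTo LA1.2.1 LA1.2.2 LA1.1 12) = 1041 := by decide +kernel

theorem cntA1_3 : countR 8319 2773 (traceTo LA1.2.1 LA1.2.2 LA1.1 12) = 1086 := by decide +kernel

theorem cntA1_4 : countR 11092 2773 (traceTo LA1.2.1 LA1.2.2 LA1.1 12) = 1100 := by decide +kernel

theorem cntA1_5 : countR 13865 2773 (traceTo LA1.2.1 LA1.2.2 LA1.1 12) = 1084 := by decide +kernel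

theorem cntA1_6 : countR 16638 2773 (traceTo LA1.2.1 LA1.2.2 LA1.1 12) = 1089 := by decide +kernel

theorem cntA1_7 : countR 19411 2773 (traceTo LA1.2.1 LA1.2.2 LA1.1 12) = 1068 := by decide +kernel

theorem cntA1_8 : countR 22184 2773 (traceTo LA1.2.1 LA1.2.2 LA1.1 12) = 1035 := by decide +kernel

theorem cntA1_9 : countR 24957 2773 (traceTo LA1.2.1 LA1.2.2 LA1.1 12) = 1040 := by decide +kernel

theorem cntA1_10 : countR 27730 2773 (traceTo LA1.2.1 LA1.2.2 LA1.1 12) = 1094 := by decide +kernel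

theorem cntA1_11 : countR 30503 2773 (traceTo LA1.2.1 LA1.2.2 LA1.1 12) = 1080 := by decide +kernel

theorem cntA1_12 : countR 33276 2773 (traceTo LA1.2.1 LA1.2.2 LA1.1 12) = 1001 := by decide +kernel

theorem cntA1_13 : countR 36049 2773 (traceTo LA1.2.1 LA1.2.2 LA1.1 12) = 916 := by decide +kernel

theorem cntA1_14 : countR 38822 2773 (traceTo LA1.2.1 LA1.2.2 LA1.1 12) = 1275 := by decide +kernel

theorem cntA1_15 : countR 41595 2773 (traceTo LA1.2.1 LA1.2.2 LA1.1 12) = 1219 := by decide +kernel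

theorem cntA1_16 : countR 44368 2773 (traceTo LA1.2.1 LA1.2.2 LA1.1 12) = 1456 := by decide +kernel

theorem cntA1_17 : countR 47141 2773 (traceTo LA1.2.1 LA1.2.2 LA1.1 12) = 1319 := by decide +kernel

theorem cntA1_18 : countR 49914 2773 (traceTo LA1.2.1 LA1.2.2 LA1.1 12) = 1381 := by decide +kernel

theorem cntA1_19 : countR 52687 2773 (traceTo LA1.2.1 LA1.2.2 LA1.1 12) = 1338 := by decide +kernel

theorem cntA1_20 : countR 55460 2773 (traceTo LA1.2.1 LA1.2.2 LA1.1 12) = 1402 := by decide +kernel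

theorem cntA1_21 : countR 58233 2773 (traceTo LA1.2.1 LA1.2.2 LA1.1 12) = 1406 := by decide +kernel

theorem cntA1_22 : countR 61006 2773 (traceTo LA1.2.1 LA1.2.2 LA1.1 12) = 1424 := by decide +kernel

theorem cntA1_23 : countR 63779 2773 (traceTo LA1.2.1 LA1.2.2 LA1.1 12) = 1304 := by decide +kernel

theorem cntA1_24 : countR 66552 2773 (traceTo LA1.2.1 LA1.2.2 LA1.1 12) = 1433 := by decide +kernel


end Cfsg.Agent.HNOut
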