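import Cfsg.Agent.Lib.Lead.HNOut.LevA

/-! # The outer automorphism group of the Harada–Norton group: the number of points of the tree number 2 of the chain `A`, a part (generated) -/

set_option autoImplicit false
set_option maxRecDepth 100000

namespace Cfsg.Agent.HNOut

open Cfsg.Agent.PF Cfsg.Agent.Lib.Helper6 Cfsg.Agent.Lib.Helper6.TC Cfsg.Agent.Lib.Helper6.NatArr
open Cfsg.Agent.PL (Acts evalF)

theorem cntA2_0 : countR 0 2773 (traceTo LA2.2.1 LA2.2.2 LA2.1 12) = 0 := by decide +kernel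

theorem cntA2_1 : countR 2773 2773 (traceTo LA2.2.1 LA2.2.2 LA2.1 12) = 0 := by decide +kernel

theorem cntA2_2 : countR 5546 2773 (traceTo LA2.2.1 LA2.2.2 LA2.1 12) = 4 := by decide +kernel

theorem cntA2_3 : countR 8319 2773 (traceTo LA2.2.1 LA2.2.2 LA2.1 12) = 2 := by decide +kernel

theorem cntA2_4 : countR 11092 2773 (traceTo LA2.2.1 LA2.2.2 LA2.1 12) = 5 := by decide +kernel

theorem cntA2_5 : countR 13865 2773 (traceTo LA2.2.1 LA2.2.2 LA2.1 12) = 1 := by decide +kernel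

theorem cntA2_6 : countR 16638 2773 (traceTo LA2.2.1 LA2.2.2 LA2.1 12) = 2 := by decide +kernel

theorem cntA2_7 : countR 19411 2773 (traceTo LA2.2.1 LA2.2.2 LA2.1 12) = 5 := by decide +kernel

theorem cntA2_8 : countR 22184 2773 (traceTo LA2.2.1 LA2.2.2 LA2.1 12) = 1 := by decide +kernel

theorem cntA2_9 : countR 24957 2773 (traceTo LA2.2.1 LA2.2.2 LA2.1 12) = 0 := by decide +kernel

theorem cntA2_10 : countR 27730 2773 (traceTo LA2.2.1 LA2.2.2 LA2.1 12) = 0 := by decide +kernel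

theorem cntA2_11 : countR 30503 2773 (traceTo LA2.2.1 LA2.2.2 LA2.1 12) = 0 := by decide +kernel

theorem cntA2_12 : countR 33276 2773 (traceTo LA2.2.1 LA2.2.2 LA2.1 12) = 0 := by decide +kernel

theorem cntA2_13 : countR 36049 2773 (traceTo LA2.2.1 LA2.2.2 LA2.1 12) = 0 := by decide +kernel

theorem cntA2_14 : countR 38822 2773 (traceTo LA2.2.1 LA2.2.2 LA2.1 12) = 3 := by decide +kernel

theorem cntA2_15 : countR 41595 2773 (traceTo LA2.2.1 LA2.2.2 LA2.1 12) = 3 := by decide +kernel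

theorem cntA2_16 : countR 44368 2773 (traceTo LA2.2.1 LA2.2.2 LA2.1 12) = 2 := by decide +kernel

theorem cntA2_17 : countR 47141 2773 (traceTo LA2.2.1 LA2.2.2 LA2.1 12) = 1 := by decide +kernel

theorem cntA2_18 : countR 49914 2773 (traceTo LA2.2.1 LA2.2.2 LA2.1 12) = 1 := by decide +kernel

theorem cntA2_19 : countR 52687 2773 (traceTo LA2.2.1 LA2.2.2 LA2.1 12) = 5 := by decide +kernel

theorem cntA2_20 : countR 55460 2773 (traceTo LA2.2.1 LA2.2.2 LA2.1 12) = 2 := by decide +kernel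

theorem cntA2_21 : countR 58233 2773 (traceTo LA2.2.1 LA2.2.2 LA2.1 12) = 4 := by decide +kernel

theorem cntA2_22 : countR 61006 2773 (traceTo LA2.2.1 LA2.2.2 LA2.1 12) = 4 := by decide +kernel

theorem cntA2_23 : countR 63779 2773 (traceTo LA2.2.1 LA2.2.2 LA2.1 12) = 4 := by decide +kernel

theorem cntA2_24 : countR 66552 2773 (traceTo LA2.2.1 LA2.2.2 LA2.1 12) = 2 := by decide +kernel


end Cfsg.Agent.HNOut
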