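import Cfsg.Agent.Lib.Lead.HNOut.LevA

/-! # The outer automorphism group of the Harada–Norton group: the number of points of the tree number 2 of the chain `A`, a part (generated) -/

set_option autoImplicit false
set_option maxRecDepth 100000

namespace Cfsg.Agent.HNOut

open Cfsg.Agent.PF Cfsg.Agent.Lib.Helper6 Cfsg.Agent.Lib.Helper6.TC Cfsg.Agent.Lib.Helper6.NatArr
open Cfsg.Agent.PL (Acts evalF)

theorem cntA2_300 : countR 831900 2773 (traceTo LA2.2.1 LA2.2.2 LA2.1 12) = 0 := by decide +kernel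

theorem cntA2_301 : countR 834673 2773 (traceTo LA2.2.1 LA2.2.2 LA2.1 12) = 0 := by decide +kernel

theorem cntA2_302 : countR 837446 2773 (traceTo LA2.2.1 LA2.2.2 LA2.1 12) = 0 := by decide +kernel

theorem cntA2_303 : countR 840219 2773 (traceTo LA2.2.1 LA2.2.2 LA2.1 12) = 0 := by decide +kernel

theorem cntA2_304 : countR 842992 2773 (traceTo LA2.2.1 LA2.2.2 LA2.1 12) = 0 := by decide +kernel

theorem cntA2_305 : countR 845765 2773 (traceTo LA2.2.1 LA2.2.2 LA2.1 12) = 0 := by decide +kernel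

theorem cntA2_306 : countR 848538 2773 (traceTo LA2.2.1 LA2.2.2 LA2.1 12) = 0 := by decide +kernel

theorem cntA2_307 : countR 851311 2773 (traceTo LA2.2.1 LA2.2.2 LA2.1 12) = 0 := by decide +kernel

theorem cntA2_308 : countR 854084 2773 (traceTo LA2.2.1 LA2.2.2 LA2.1 12) = 0 := by decide +kernel

theorem cntA2_309 : countR 856857 2773 (traceTo LA2.2.1 LA2.2.2 LA2.1 12) = 0 := by decide +kernel

theorem cntA2_310 : countR 859630 2773 (traceTo LA2.2.1 LA2.2.2 LA2.1 12) = 0 := by decide +kernel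

theorem cntA2_311 : countR 862403 2773 (traceTo LA2.2.1 LA2.2.2 LA2.1 12) = 0 := by decide +kernel

theorem cntA2_312 : countR 865176 2773 (traceTo LA2.2.1 LA2.2.2 LA2.1 12) = 0 := by decide +kernel

theorem cntA2_313 : countR 867949 2773 (traceTo LA2.2.1 LA2.2.2 LA2.1 12) = 0 := by decide +kernel

theorem cntA2_314 : countR 870722 2773 (traceTo LA2.2.1 LA2.2.2 LA2.1 12) = 0 := by decide +kernel

theorem cntA2_315 : countR 873495 2773 (traceTo LA2.2.1 LA2.2.2 LA2.1 12) = 0 := by decide +kernel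

theorem cntA2_316 : countR 876268 2773 (traceTo LA2.2.1 LA2.2.2 LA2.1 12) = 0 := by decide +kernel

theorem cntA2_317 : countR 879041 2773 (traceTo LA2.2.1 LA2.2.2 LA2.1 12) = 0 := by decide +kernel

theorem cntA2_318 : countR 881814 2773 (traceTo LA2.2.1 LA2.2.2 LA2.1 12) = 0 := by decide +kernel

theorem cntA2_319 : countR 884587 2773 (traceTo LA2.2.1 LA2.2.2 LA2.1 12) = 0 := by decide +kernel

theorem cntA2_320 : countR 887360 2773 (traceTo LA2.2.1 LA2.2.2 LA2.1 12) = 0 := by decide +kernel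

theorem cntA2_321 : countR 890133 2773 (traceTo LA2.2.1 LA2.2.2 LA2.1 12) = 0 := by decide +kernel

theorem cntA2_322 : countR 892906 2773 (traceTo LA2.2.1 LA2.2.2 LA2.1 12) = 0 := by decide +kernel

theorem cntA2_323 : countR 895679 2773 (traceTo LA2.2.1 LA2.2.2 LA2.1 12) = 0 := by decide +kernel

theorem cntA2_324 : countR 898452 2773 (traceTo LA2.2.1 LA2.2.2 LA2.1 12) = 0 := by decide +kernel


end Cfsg.Agent.HNOut
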