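import Cfsg.Agent.Lib.Lead.HNOut.LevB

/-! # The outer automorphism group of the Harada–Norton group: the number of points of the tree number 1 of the chain `B`, a part (generated) -/

set_option autoImplicit false
set_option maxRecDepth 100000

namespace Cfsg.Agent.HNOut

open Cfsg.Agent.PF Cfsg.Agent.Lib.Helper6 Cfsg.Agent.Lib.Helper6.TC Cfsg.Agent.Lib.Helper6.NatArr
open Cfsg.Agent.PL (Acts evalF)

theorem cntB1_25 : countR 92500 3700 (traceTo LB1.2.1 LB1.2.2 LB1.1 12) = 451 := by decide +kernel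

theorem cntB1_26 : countR 96200 3700 (traceTo LB1.2.1 LB1.2.2 LB1.1 12) = 458 := by decide +kernel

theorem cntB1_27 : countR 99900 3700 (traceTo LB1.2.1 LB1.2.2 LB1.1 12) = 425 := by decide +kernel

theorem cntB1_28 : countR 103600 3700 (traceTo LB1.2.1 LB1.2.2 LB1.1 12) = 416 := by decide +kernel

theorem cntB1_29 : countR 107300 3700 (traceTo LB1.2.1 LB1.2.2 LB1.1 12) = 422 := by decide +kernel

theorem cntB1_30 : countR 111000 3700 (traceTo LB1.2.1 LB1.2.2 LB1.1 12) = 452 := by decide +kernel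

theorem cntB1_31 : countR 114700 3700 (traceTo LB1.2.1 LB1.2.2 LB1.1 12) = 465 := by decide +kernel

theorem cntB1_32 : countR 118400 3700 (traceTo LB1.2.1 LB1.2.2 LB1.1 12) = 435 := by decide +kernel

theorem cntB1_33 : countR 122100 3700 (traceTo LB1.2.1 LB1.2.2 LB1.1 12) = 462 := by decide +kernel

theorem cntB1_34 : countR 125800 3700 (traceTo LB1.2.1 LB1.2.2 LB1.1 12) = 445 := by decide +kernel

theorem cntB1_35 : countR 129500 3700 (traceTo LB1.2.1 LB1.2.2 LB1.1 12) = 476 := by decide +kernel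

theorem cntB1_36 : countR 133200 3700 (traceTo LB1.2.1 LB1.2.2 LB1.1 12) = 439 := by decide +kernel

theorem cntB1_37 : countR 136900 3700 (traceTo LB1.2.1 LB1.2.2 LB1.1 12) = 424 := by decide +kernel

theorem cntB1_38 : countR 140600 3700 (traceTo LB1.2.1 LB1.2.2 LB1.1 12) = 429 := by decide +kernel

theorem cntB1_39 : countR 144300 3700 (traceTo LB1.2.1 LB1.2.2 LB1.1 12) = 451 := by decide +kernel

theorem cntB1_40 : countR 148000 3700 (traceTo LB1.2.1 LB1.2.2 LB1.1 12) = 454 := by decide +kernel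

theorem cntB1_41 : countR 151700 3700 (traceTo LB1.2.1 LB1.2.2 LB1.1 12) = 431 := by decide +kernel

theorem cntB1_42 : countR 155400 3700 (traceTo LB1.2.1 LB1.2.2 LB1.1 12) = 448 := by decide +kernel

theorem cntB1_43 : countR 159100 3700 (traceTo LB1.2.1 LB1.2.2 LB1.1 12) = 381 := by decide +kernel

theorem cntB1_44 : countR 162800 3700 (traceTo LB1.2.1 LB1.2.2 LB1.1 12) = 493 := by decide +kernel

theorem cntB1_45 : countR 166500 3700 (traceTo LB1.2.1 LB1.2.2 LB1.1 12) = 616 := by decide +kernel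

theorem cntB1_46 : countR 170200 3700 (traceTo LB1.2.1 LB1.2.2 LB1.1 12) = 747 := by decide +kernel

theorem cntB1_47 : countR 173900 3700 (traceTo LB1.2.1 LB1.2.2 LB1.1 12) = 651 := by decide +kernel

theorem cntB1_48 : countR 177600 3700 (traceTo LB1.2.1 LB1.2.2 LB1.1 12) = 658 := by decide +kernel

theorem cntB1_49 : countR 181300 3700 (traceTo LB1.2.1 LB1.2.2 LB1.1 12) = 726 := by decide +kernel


end Cfsg.Agent.HNOut
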