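import Cfsg.Agent.Lib.Lead.HNOut.LevB

/-! # The outer automorphism group of the Harada–Norton group: the number of points of the tree number 1 of the chain `B`, a part (generated) -/

set_option autoImplicit false
set_option maxRecDepth 100000

namespace Cfsg.Agent.HNOut

open Cfsg.Agent.PF Cfsg.Agent.Lib.Helper6 Cfsg.Agent.Lib.Helper6.TC Cfsg.Agent.Lib.Helper6.NatArr
open Cfsg.Agent.PL (Acts evalF)

theorem cntB1_250 : countR 925000 3700 (traceTo LB1.2.1 LB1.2.2 LB1.1 12) = 766 := by decide +kernel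

theorem cntB1_251 : countR 928700 3700 (traceTo LB1.2.1 LB1.2.2 LB1.1 12) = 847 := by decide +kernel

theorem cntB1_252 : countR 932400 3700 (traceTo LB1.2.1 LB1.2.2 LB1.1 12) = 661 := by decide +kernel

theorem cntB1_253 : countR 936100 3700 (traceTo LB1.2.1 LB1.2.2 LB1.1 12) = 927 := by decide +kernel

theorem cntB1_254 : countR 939800 3700 (traceTo LB1.2.1 LB1.2.2 LB1.1 12) = 597 := by decide +kernel

theorem cntB1_255 : countR 943500 3700 (traceTo LB1.2.1 LB1.2.2 LB1.1 12) = 852 := by decide +kernel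

theorem cntB1_256 : countR 947200 3700 (traceTo LB1.2.1 LB1.2.2 LB1.1 12) = 699 := by decide +kernel

theorem cntB1_257 : countR 950900 3700 (traceTo LB1.2.1 LB1.2.2 LB1.1 12) = 634 := by decide +kernel

theorem cntB1_258 : countR 954600 3700 (traceTo LB1.2.1 LB1.2.2 LB1.1 12) = 783 := by decide +kernel

theorem cntB1_259 : countR 958300 3700 (traceTo LB1.2.1 LB1.2.2 LB1.1 12) = 976 := by decide +kernel

theorem cntB1_260 : countR 962000 3700 (traceTo LB1.2.1 LB1.2.2 LB1.1 12) = 833 := by decide +kernel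

theorem cntB1_261 : countR 965700 3700 (traceTo LB1.2.1 LB1.2.2 LB1.1 12) = 684 := by decide +kernel

theorem cntB1_262 : countR 969400 3700 (traceTo LB1.2.1 LB1.2.2 LB1.1 12) = 602 := by decide +kernel

theorem cntB1_263 : countR 973100 3700 (traceTo LB1.2.1 LB1.2.2 LB1.1 12) = 696 := by decide +kernel

theorem cntB1_264 : countR 976800 3700 (traceTo LB1.2.1 LB1.2.2 LB1.1 12) = 847 := by decide +kernel

theorem cntB1_265 : countR 980500 3700 (traceTo LB1.2.1 LB1.2.2 LB1.1 12) = 822 := by decide +kernel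

theorem cntB1_266 : countR 984200 3700 (traceTo LB1.2.1 LB1.2.2 LB1.1 12) = 662 := by decide +kernel

theorem cntB1_267 : countR 987900 3700 (traceTo LB1.2.1 LB1.2.2 LB1.1 12) = 705 := by decide +kernel

theorem cntB1_268 : countR 991600 3700 (traceTo LB1.2.1 LB1.2.2 LB1.1 12) = 650 := by decide +kernel

theorem cntB1_269 : countR 995300 3700 (traceTo LB1.2.1 LB1.2.2 LB1.1 12) = 795 := by decide +kernel

theorem cntB1_270 : countR 999000 3700 (traceTo LB1.2.1 LB1.2.2 LB1.1 12) = 795 := by decide +kernel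

theorem cntB1_271 : countR 1002700 3700 (traceTo LB1.2.1 LB1.2.2 LB1.1 12) = 837 := by decide +kernel

theorem cntB1_272 : countR 1006400 3700 (traceTo LB1.2.1 LB1.2.2 LB1.1 12) = 882 := by decide +kernel

theorem cntB1_273 : countR 1010100 3700 (traceTo LB1.2.1 LB1.2.2 LB1.1 12) = 698 := by decide +kernel

theorem cntB1_274 : countR 1013800 3700 (traceTo LB1.2.1 LB1.2.2 LB1.1 12) = 715 := by decide +kernel


end Cfsg.Agent.HNOut
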