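import Cfsg.Agent.Lib.Lead.HNOut.LevB

/-! # The outer automorphism group of the Harada–Norton group: the number of points of the tree number 1 of the chain `B`, a part (generated) -/

set_option autoImplicit false
set_option maxRecDepth 100000

namespace Cfsg.Agent.HNOut

open Cfsg.Agent.PF Cfsg.Agent.Lib.Helper6 Cfsg.Agent.Lib.Helper6.TC Cfsg.Agent.Lib.Helper6.NatArr
open Cfsg.Agent.PL (Acts evalF)

theorem cntB1_275 : countR 1017500 3700 (traceTo LB1.2.1 LB1.2.2 LB1.1 12) = 782 := by decide +kernel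

theorem cntB1_276 : countR 1021200 3700 (traceTo LB1.2.1 LB1.2.2 LB1.1 12) = 633 := by decide +kernel

theorem cntB1_277 : countR 1024900 3700 (traceTo LB1.2.1 LB1.2.2 LB1.1 12) = 698 := by decide +kernel

theorem cntB1_278 : countR 1028600 3700 (traceTo LB1.2.1 LB1.2.2 LB1.1 12) = 680 := by decide +kernel

theorem cntB1_279 : countR 1032300 3700 (traceTo LB1.2.1 LB1.2.2 LB1.1 12) = 875 := by decide +kernel

theorem cntB1_280 : countR 1036000 3700 (traceTo LB1.2.1 LB1.2.2 LB1.1 12) = 941 := by decide +kernel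

theorem cntB1_281 : countR 1039700 3700 (traceTo LB1.2.1 LB1.2.2 LB1.1 12) = 780 := by decide +kernel

theorem cntB1_282 : countR 1043400 3700 (traceTo LB1.2.1 LB1.2.2 LB1.1 12) = 919 := by decide +kernel

theorem cntB1_283 : countR 1047100 3700 (traceTo LB1.2.1 LB1.2.2 LB1.1 12) = 704 := by decide +kernel

theorem cntB1_284 : countR 1050800 3700 (traceTo LB1.2.1 LB1.2.2 LB1.1 12) = 697 := by decide +kernel

theorem cntB1_285 : countR 1054500 3700 (traceTo LB1.2.1 LB1.2.2 LB1.1 12) = 671 := by decide +kernel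

theorem cntB1_286 : countR 1058200 3700 (traceTo LB1.2.1 LB1.2.2 LB1.1 12) = 796 := by decide +kernel

theorem cntB1_287 : countR 1061900 3700 (traceTo LB1.2.1 LB1.2.2 LB1.1 12) = 747 := by decide +kernel

theorem cntB1_288 : countR 1065600 3700 (traceTo LB1.2.1 LB1.2.2 LB1.1 12) = 763 := by decide +kernel

theorem cntB1_289 : countR 1069300 3700 (traceTo LB1.2.1 LB1.2.2 LB1.1 12) = 938 := by decide +kernel

theorem cntB1_290 : countR 1073000 3700 (traceTo LB1.2.1 LB1.2.2 LB1.1 12) = 741 := by decide +kernel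

theorem cntB1_291 : countR 1076700 3700 (traceTo LB1.2.1 LB1.2.2 LB1.1 12) = 897 := by decide +kernel

theorem cntB1_292 : countR 1080400 3700 (traceTo LB1.2.1 LB1.2.2 LB1.1 12) = 799 := by decide +kernel

theorem cntB1_293 : countR 1084100 3700 (traceTo LB1.2.1 LB1.2.2 LB1.1 12) = 824 := by decide +kernel

theorem cntB1_294 : countR 1087800 3700 (traceTo LB1.2.1 LB1.2.2 LB1.1 12) = 755 := by decide +kernel

theorem cntB1_295 : countR 1091500 3700 (traceTo LB1.2.1 LB1.2.2 LB1.1 12) = 778 := by decide +kernel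

theorem cntB1_296 : countR 1095200 3700 (traceTo LB1.2.1 LB1.2.2 LB1.1 12) = 749 := by decide +kernel

theorem cntB1_297 : countR 1098900 3700 (traceTo LB1.2.1 LB1.2.2 LB1.1 12) = 790 := by decide +kernel

theorem cntB1_298 : countR 1102600 3700 (traceTo LB1.2.1 LB1.2.2 LB1.1 12) = 692 := by decide +kernel

theorem cntB1_299 : countR 1106300 3700 (traceTo LB1.2.1 LB1.2.2 LB1.1 12) = 703 := by decide +kernel


end Cfsg.Agent.HNOut
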