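import Cfsg.Agent.Lib.Lead.HNOut.LevB

/-! # The outer automorphism group of the Harada–Norton group: the number of points of the tree number 1 of the chain `B`, a part (generated) -/

set_option autoImplicit false
set_option maxRecDepth 100000

namespace Cfsg.Agent.HNOut

open Cfsg.Agent.PF Cfsg.Agent.Lib.Helper6 Cfsg.Agent.Lib.Helper6.TC Cfsg.Agent.Lib.Helper6.NatArr
open Cfsg.Agent.PL (Acts evalF)

theorem cntB1_300 : countR 1110000 3700 (traceTo LB1.2.1 LB1.2.2 LB1.1 12) = 761 := by decide +kernel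

theorem cntB1_301 : countR 1113700 3700 (traceTo LB1.2.1 LB1.2.2 LB1.1 12) = 762 := by decide +kernel

theorem cntB1_302 : countR 1117400 3700 (traceTo LB1.2.1 LB1.2.2 LB1.1 12) = 892 := by decide +kernel

theorem cntB1_303 : countR 1121100 3700 (traceTo LB1.2.1 LB1.2.2 LB1.1 12) = 893 := by decide +kernel

theorem cntB1_304 : countR 1124800 3700 (traceTo LB1.2.1 LB1.2.2 LB1.1 12) = 877 := by decide +kernel

theorem cntB1_305 : countR 1128500 3700 (traceTo LB1.2.1 LB1.2.2 LB1.1 12) = 762 := by decide +kernel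

theorem cntB1_306 : countR 1132200 3700 (traceTo LB1.2.1 LB1.2.2 LB1.1 12) = 788 := by decide +kernel

theorem cntB1_307 : countR 1135900 3700 (traceTo LB1.2.1 LB1.2.2 LB1.1 12) = 843 := by decide +kernel

theorem cntB1_308 : countR 1139600 3700 (traceTo LB1.2.1 LB1.2.2 LB1.1 12) = 791 := by decide +kernel

theorem cntB1_309 : countR 1143300 3700 (traceTo LB1.2.1 LB1.2.2 LB1.1 12) = 674 := by decide +kernel

theorem cntB1_310 : countR 1147000 3700 (traceTo LB1.2.1 LB1.2.2 LB1.1 12) = 798 := by decide +kernel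

theorem cntB1_311 : countR 1150700 3700 (traceTo LB1.2.1 LB1.2.2 LB1.1 12) = 743 := by decide +kernel

theorem cntB1_312 : countR 1154400 3700 (traceTo LB1.2.1 LB1.2.2 LB1.1 12) = 737 := by decide +kernel

theorem cntB1_313 : countR 1158100 3700 (traceTo LB1.2.1 LB1.2.2 LB1.1 12) = 896 := by decide +kernel

theorem cntB1_314 : countR 1161800 3700 (traceTo LB1.2.1 LB1.2.2 LB1.1 12) = 734 := by decide +kernel

theorem cntB1_315 : countR 1165500 3700 (traceTo LB1.2.1 LB1.2.2 LB1.1 12) = 781 := by decide +kernel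

theorem cntB1_316 : countR 1169200 3700 (traceTo LB1.2.1 LB1.2.2 LB1.1 12) = 717 := by decide +kernel

theorem cntB1_317 : countR 1172900 3700 (traceTo LB1.2.1 LB1.2.2 LB1.1 12) = 756 := by decide +kernel

theorem cntB1_318 : countR 1176600 3700 (traceTo LB1.2.1 LB1.2.2 LB1.1 12) = 766 := by decide +kernel

theorem cntB1_319 : countR 1180300 3700 (traceTo LB1.2.1 LB1.2.2 LB1.1 12) = 714 := by decide +kernel

theorem cntB1_320 : countR 1184000 3700 (traceTo LB1.2.1 LB1.2.2 LB1.1 12) = 847 := by decide +kernel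

theorem cntB1_321 : countR 1187700 3700 (traceTo LB1.2.1 LB1.2.2 LB1.1 12) = 774 := by decide +kernel

theorem cntB1_322 : countR 1191400 3700 (traceTo LB1.2.1 LB1.2.2 LB1.1 12) = 802 := by decide +kernel

theorem cntB1_323 : countR 1195100 3700 (traceTo LB1.2.1 LB1.2.2 LB1.1 12) = 793 := by decide +kernel

theorem cntB1_324 : countR 1198800 3700 (traceTo LB1.2.1 LB1.2.2 LB1.1 12) = 834 := by decide +kernel


end Cfsg.Agent.HNOut
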