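import Cfsg.Agent.Lib.Lead.HNOut.LevB

/-! # The outer automorphism group of the Harada–Norton group: the number of points of the tree number 1 of the chain `B`, a part (generated) -/

set_option autoImplicit false
set_option maxRecDepth 100000

namespace Cfsg.Agent.HNOut

open Cfsg.Agent.PF Cfsg.Agent.Lib.Helper6 Cfsg.Agent.Lib.Helper6.TC Cfsg.Agent.Lib.Helper6.NatArr
open Cfsg.Agent.PL (Acts evalF)

theorem cntB1_350 : countR 1295000 3700 (traceTo LB1.2.1 LB1.2.2 LB1.1 12) = 550 := by decide +kernel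

theorem cntB1_351 : countR 1298700 3700 (traceTo LB1.2.1 LB1.2.2 LB1.1 12) = 648 := by decide +kernel

theorem cntB1_352 : countR 1302400 3700 (traceTo LB1.2.1 LB1.2.2 LB1.1 12) = 534 := by decide +kernel

theorem cntB1_353 : countR 1306100 3700 (traceTo LB1.2.1 LB1.2.2 LB1.1 12) = 542 := by decide +kernel

theorem cntB1_354 : countR 1309800 3700 (traceTo LB1.2.1 LB1.2.2 LB1.1 12) = 551 := by decide +kernel

theorem cntB1_355 : countR 1313500 3700 (traceTo LB1.2.1 LB1.2.2 LB1.1 12) = 590 := by decide +kernel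

theorem cntB1_356 : countR 1317200 3700 (traceTo LB1.2.1 LB1.2.2 LB1.1 12) = 634 := by decide +kernel

theorem cntB1_357 : countR 1320900 3700 (traceTo LB1.2.1 LB1.2.2 LB1.1 12) = 658 := by decide +kernel

theorem cntB1_358 : countR 1324600 3700 (traceTo LB1.2.1 LB1.2.2 LB1.1 12) = 586 := by decide +kernel

theorem cntB1_359 : countR 1328300 3700 (traceTo LB1.2.1 LB1.2.2 LB1.1 12) = 644 := by decide +kernel

theorem cntB1_360 : countR 1332000 3700 (traceTo LB1.2.1 LB1.2.2 LB1.1 12) = 599 := by decide +kernel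

theorem cntB1_361 : countR 1335700 3700 (traceTo LB1.2.1 LB1.2.2 LB1.1 12) = 599 := by decide +kernel

theorem cntB1_362 : countR 1339400 3700 (traceTo LB1.2.1 LB1.2.2 LB1.1 12) = 575 := by decide +kernel

theorem cntB1_363 : countR 1343100 3700 (traceTo LB1.2.1 LB1.2.2 LB1.1 12) = 620 := by decide +kernel

theorem cntB1_364 : countR 1346800 3700 (traceTo LB1.2.1 LB1.2.2 LB1.1 12) = 665 := by decide +kernel

theorem cntB1_365 : countR 1350500 3700 (traceTo LB1.2.1 LB1.2.2 LB1.1 12) = 570 := by decide +kernel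

theorem cntB1_366 : countR 1354200 3700 (traceTo LB1.2.1 LB1.2.2 LB1.1 12) = 529 := by decide +kernel

theorem cntB1_367 : countR 1357900 3700 (traceTo LB1.2.1 LB1.2.2 LB1.1 12) = 589 := by decide +kernel

theorem cntB1_368 : countR 1361600 3700 (traceTo LB1.2.1 LB1.2.2 LB1.1 12) = 561 := by decide +kernel

theorem cntB1_369 : countR 1365300 3700 (traceTo LB1.2.1 LB1.2.2 LB1.1 12) = 616 := by decide +kernel

theorem cntB1_370 : countR 1369000 3700 (traceTo LB1.2.1 LB1.2.2 LB1.1 12) = 613 := by decide +kernel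

theorem cntB1_371 : countR 1372700 3700 (traceTo LB1.2.1 LB1.2.2 LB1.1 12) = 636 := by decide +kernel

theorem cntB1_372 : countR 1376400 3700 (traceTo LB1.2.1 LB1.2.2 LB1.1 12) = 558 := by decide +kernel

theorem cntB1_373 : countR 1380100 3700 (traceTo LB1.2.1 LB1.2.2 LB1.1 12) = 682 := by decide +kernel

theorem cntB1_374 : countR 1383800 3700 (traceTo LB1.2.1 LB1.2.2 LB1.1 12) = 588 := by decide +kernel


end Cfsg.Agent.HNOut
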