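import Cfsg.Agent.Lib.Lead.HNOut.LevB

/-! # The outer automorphism group of the Harada–Norton group: the number of points of the tree number 1 of the chain `B`, a part (generated) -/

set_option autoImplicit false
set_option maxRecDepth 100000

namespace Cfsg.Agent.HNOut

open Cfsg.Agent.PF Cfsg.Agent.Lib.Helper6 Cfsg.Agent.Lib.Helper6.TC Cfsg.Agent.Lib.Helper6.NatArr
open Cfsg.Agent.PL (Acts evalF)

theorem cntB1_375 : countR 1387500 3700 (traceTo LB1.2.1 LB1.2.2 LB1.1 12) = 650 := by decide +kernel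

theorem cntB1_376 : countR 1391200 3700 (traceTo LB1.2.1 LB1.2.2 LB1.1 12) = 560 := by decide +kernel

theorem cntB1_377 : countR 1394900 3700 (traceTo LB1.2.1 LB1.2.2 LB1.1 12) = 601 := by decide +kernel

theorem cntB1_378 : countR 1398600 3700 (traceTo LB1.2.1 LB1.2.2 LB1.1 12) = 544 := by decide +kernel

theorem cntB1_379 : countR 1402300 3700 (traceTo LB1.2.1 LB1.2.2 LB1.1 12) = 529 := by decide +kernel

theorem cntB1_380 : countR 1406000 3700 (traceTo LB1.2.1 LB1.2.2 LB1.1 12) = 604 := by decide +kernel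

theorem cntB1_381 : countR 1409700 3700 (traceTo LB1.2.1 LB1.2.2 LB1.1 12) = 642 := by decide +kernel

theorem cntB1_382 : countR 1413400 3700 (traceTo LB1.2.1 LB1.2.2 LB1.1 12) = 531 := by decide +kernel

theorem cntB1_383 : countR 1417100 3700 (traceTo LB1.2.1 LB1.2.2 LB1.1 12) = 571 := by decide +kernel

theorem cntB1_384 : countR 1420800 3700 (traceTo LB1.2.1 LB1.2.2 LB1.1 12) = 607 := by decide +kernel

theorem cntB1_385 : countR 1424500 3700 (traceTo LB1.2.1 LB1.2.2 LB1.1 12) = 592 := by decide +kernel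

theorem cntB1_386 : countR 1428200 3700 (traceTo LB1.2.1 LB1.2.2 LB1.1 12) = 559 := by decide +kernel

theorem cntB1_387 : countR 1431900 3700 (traceTo LB1.2.1 LB1.2.2 LB1.1 12) = 567 := by decide +kernel

theorem cntB1_388 : countR 1435600 3700 (traceTo LB1.2.1 LB1.2.2 LB1.1 12) = 593 := by decide +kernel

theorem cntB1_389 : countR 1439300 3700 (traceTo LB1.2.1 LB1.2.2 LB1.1 12) = 609 := by decide +kernel

theorem cntB1_390 : countR 1443000 3700 (traceTo LB1.2.1 LB1.2.2 LB1.1 12) = 539 := by decide +kernel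

theorem cntB1_391 : countR 1446700 3700 (traceTo LB1.2.1 LB1.2.2 LB1.1 12) = 675 := by decide +kernel

theorem cntB1_392 : countR 1450400 3700 (traceTo LB1.2.1 LB1.2.2 LB1.1 12) = 603 := by decide +kernel

theorem cntB1_393 : countR 1454100 3700 (traceTo LB1.2.1 LB1.2.2 LB1.1 12) = 659 := by decide +kernel

theorem cntB1_394 : countR 1457800 3700 (traceTo LB1.2.1 LB1.2.2 LB1.1 12) = 647 := by decide +kernel

theorem cntB1_395 : countR 1461500 3700 (traceTo LB1.2.1 LB1.2.2 LB1.1 12) = 612 := by decide +kernel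

theorem cntB1_396 : countR 1465200 3700 (traceTo LB1.2.1 LB1.2.2 LB1.1 12) = 565 := by decide +kernel

theorem cntB1_397 : countR 1468900 3700 (traceTo LB1.2.1 LB1.2.2 LB1.1 12) = 605 := by decide +kernel

theorem cntB1_398 : countR 1472600 3700 (traceTo LB1.2.1 LB1.2.2 LB1.1 12) = 602 := by decide +kernel

theorem cntB1_399 : countR 1476300 3700 (traceTo LB1.2.1 LB1.2.2 LB1.1 12) = 644 := by decide +kernel


end Cfsg.Agent.HNOut
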