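import Cfsg.Agent.Lib.Lead.HNOut.LevB

/-! # The outer automorphism group of the Harada–Norton group: the number of points of the tree number 1 of the chain `B`, a part (generated) -/

set_option autoImplicit false
set_option maxRecDepth 100000

namespace Cfsg.Agent.HNOut

open Cfsg.Agent.PF Cfsg.Agent.Lib.Helper6 Cfsg.Agent.Lib.Helper6.TC Cfsg.Agent.Lib.Helper6.NatArr
open Cfsg.Agent.PL (Acts evalF)

theorem cntB1_400 : countR 1480000 3700 (traceTo LB1.2.1 LB1.2.2 LB1.1 12) = 535 := by decide +kernel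

theorem cntB1_401 : countR 1483700 3700 (traceTo LB1.2.1 LB1.2.2 LB1.1 12) = 619 := by decide +kernel

theorem cntB1_402 : countR 1487400 3700 (traceTo LB1.2.1 LB1.2.2 LB1.1 12) = 612 := by decide +kernel

theorem cntB1_403 : countR 1491100 3700 (traceTo LB1.2.1 LB1.2.2 LB1.1 12) = 555 := by decide +kernel

theorem cntB1_404 : countR 1494800 3700 (traceTo LB1.2.1 LB1.2.2 LB1.1 12) = 523 := by decide +kernel

theorem cntB1_405 : countR 1498500 3700 (traceTo LB1.2.1 LB1.2.2 LB1.1 12) = 562 := by decide +kernel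

theorem cntB1_406 : countR 1502200 3700 (traceTo LB1.2.1 LB1.2.2 LB1.1 12) = 689 := by decide +kernel

theorem cntB1_407 : countR 1505900 3700 (traceTo LB1.2.1 LB1.2.2 LB1.1 12) = 600 := by decide +kernel

theorem cntB1_408 : countR 1509600 3700 (traceTo LB1.2.1 LB1.2.2 LB1.1 12) = 529 := by decide +kernel

theorem cntB1_409 : countR 1513300 3700 (traceTo LB1.2.1 LB1.2.2 LB1.1 12) = 1294 := by decide +kernel

theorem cntB1_410 : countR 1517000 3700 (traceTo LB1.2.1 LB1.2.2 LB1.1 12) = 1012 := by decide +kernel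

theorem cntB1_411 : countR 1520700 3700 (traceTo LB1.2.1 LB1.2.2 LB1.1 12) = 1312 := by decide +kernel

theorem cntB1_412 : countR 1524400 3700 (traceTo LB1.2.1 LB1.2.2 LB1.1 12) = 904 := by decide +kernel

theorem cntB1_413 : countR 1528100 3700 (traceTo LB1.2.1 LB1.2.2 LB1.1 12) = 1068 := by decide +kernel

theorem cntB1_414 : countR 1531800 3700 (traceTo LB1.2.1 LB1.2.2 LB1.1 12) = 986 := by decide +kernel

theorem cntB1_415 : countR 1535500 3500 (traceTo LB1.2.1 LB1.2.2 LB1.1 12) = 982 := by decide +kernel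


end Cfsg.Agent.HNOut
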