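import Cfsg.Agent.Lib.Lead.HNOut.LevB

/-! # The outer automorphism group of the Harada–Norton group: the number of points of the tree number 1 of the chain `B`, a part (generated) -/

set_option autoImplicit false
set_option maxRecDepth 100000

namespace Cfsg.Agent.HNOut

open Cfsg.Agent.PF Cfsg.Agent.Lib.Helper6 Cfsg.Agent.Lib.Helper6.TC Cfsg.Agent.Lib.Helper6.NatArr
open Cfsg.Agent.PL (Acts evalF)

theorem cntB1_50 : countR 185000 3700 (traceTo LB1.2.1 LB1.2.2 LB1.1 12) = 641 := by decide +kernel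

theorem cntB1_51 : countR 188700 3700 (traceTo LB1.2.1 LB1.2.2 LB1.1 12) = 745 := by decide +kernel

theorem cntB1_52 : countR 192400 3700 (traceTo LB1.2.1 LB1.2.2 LB1.1 12) = 785 := by decide +kernel

theorem cntB1_53 : countR 196100 3700 (traceTo LB1.2.1 LB1.2.2 LB1.1 12) = 671 := by decide +kernel

theorem cntB1_54 : countR 199800 3700 (traceTo LB1.2.1 LB1.2.2 LB1.1 12) = 741 := by decide +kernel

theorem cntB1_55 : countR 203500 3700 (traceTo LB1.2.1 LB1.2.2 LB1.1 12) = 834 := by decide +kernel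

theorem cntB1_56 : countR 207200 3700 (traceTo LB1.2.1 LB1.2.2 LB1.1 12) = 723 := by decide +kernel

theorem cntB1_57 : countR 210900 3700 (traceTo LB1.2.1 LB1.2.2 LB1.1 12) = 719 := by decide +kernel

theorem cntB1_58 : countR 214600 3700 (traceTo LB1.2.1 LB1.2.2 LB1.1 12) = 764 := by decide +kernel

theorem cntB1_59 : countR 218300 3700 (traceTo LB1.2.1 LB1.2.2 LB1.1 12) = 838 := by decide +kernel

theorem cntB1_60 : countR 222000 3700 (traceTo LB1.2.1 LB1.2.2 LB1.1 12) = 672 := by decide +kernel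

theorem cntB1_61 : countR 225700 3700 (traceTo LB1.2.1 LB1.2.2 LB1.1 12) = 676 := by decide +kernel

theorem cntB1_62 : countR 229400 3700 (traceTo LB1.2.1 LB1.2.2 LB1.1 12) = 707 := by decide +kernel

theorem cntB1_63 : countR 233100 3700 (traceTo LB1.2.1 LB1.2.2 LB1.1 12) = 850 := by decide +kernel

theorem cntB1_64 : countR 236800 3700 (traceTo LB1.2.1 LB1.2.2 LB1.1 12) = 763 := by decide +kernel

theorem cntB1_65 : countR 240500 3700 (traceTo LB1.2.1 LB1.2.2 LB1.1 12) = 758 := by decide +kernel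

theorem cntB1_66 : countR 244200 3700 (traceTo LB1.2.1 LB1.2.2 LB1.1 12) = 746 := by decide +kernel

theorem cntB1_67 : countR 247900 3700 (traceTo LB1.2.1 LB1.2.2 LB1.1 12) = 780 := by decide +kernel

theorem cntB1_68 : countR 251600 3700 (traceTo LB1.2.1 LB1.2.2 LB1.1 12) = 802 := by decide +kernel

theorem cntB1_69 : countR 255300 3700 (traceTo LB1.2.1 LB1.2.2 LB1.1 12) = 714 := by decide +kernel

theorem cntB1_70 : countR 259000 3700 (traceTo LB1.2.1 LB1.2.2 LB1.1 12) = 762 := by decide +kernel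

theorem cntB1_71 : countR 262700 3700 (traceTo LB1.2.1 LB1.2.2 LB1.1 12) = 822 := by decide +kernel

theorem cntB1_72 : countR 266400 3700 (traceTo LB1.2.1 LB1.2.2 LB1.1 12) = 746 := by decide +kernel

theorem cntB1_73 : countR 270100 3700 (traceTo LB1.2.1 LB1.2.2 LB1.1 12) = 675 := by decide +kernel

theorem cntB1_74 : countR 273800 3700 (traceTo LB1.2.1 LB1.2.2 LB1.1 12) = 853 := by decide +kernel


end Cfsg.Agent.HNOut
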