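import Cfsg.Agent.Lib.Lead.HNOut.LevB

/-! # The outer automorphism group of the Harada–Norton group: the number of points of the tree number 1 of the chain `B`, a part (generated) -/

set_option autoImplicit false
set_option maxRecDepth 100000

namespace Cfsg.Agent.HNOut

open Cfsg.Agent.PF Cfsg.Agent.Lib.Helper6 Cfsg.Agent.Lib.Helper6.TC Cfsg.Agent.Lib.Helper6.NatArr
open Cfsg.Agent.PL (Acts evalF)

theorem cntB1_75 : countR 277500 3700 (traceTo LB1.2.1 LB1.2.2 LB1.1 12) = 742 := by decide +kernel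

theorem cntB1_76 : countR 281200 3700 (traceTo LB1.2.1 LB1.2.2 LB1.1 12) = 791 := by decide +kernel

theorem cntB1_77 : countR 284900 3700 (traceTo LB1.2.1 LB1.2.2 LB1.1 12) = 817 := by decide +kernel

theorem cntB1_78 : countR 288600 3700 (traceTo LB1.2.1 LB1.2.2 LB1.1 12) = 604 := by decide +kernel

theorem cntB1_79 : countR 292300 3700 (traceTo LB1.2.1 LB1.2.2 LB1.1 12) = 604 := by decide +kernel

theorem cntB1_80 : countR 296000 3700 (traceTo LB1.2.1 LB1.2.2 LB1.1 12) = 540 := by decide +kernel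

theorem cntB1_81 : countR 299700 3700 (traceTo LB1.2.1 LB1.2.2 LB1.1 12) = 666 := by decide +kernel

theorem cntB1_82 : countR 303400 3700 (traceTo LB1.2.1 LB1.2.2 LB1.1 12) = 642 := by decide +kernel

theorem cntB1_83 : countR 307100 3700 (traceTo LB1.2.1 LB1.2.2 LB1.1 12) = 566 := by decide +kernel

theorem cntB1_84 : countR 310800 3700 (traceTo LB1.2.1 LB1.2.2 LB1.1 12) = 588 := by decide +kernel

theorem cntB1_85 : countR 314500 3700 (traceTo LB1.2.1 LB1.2.2 LB1.1 12) = 691 := by decide +kernel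

theorem cntB1_86 : countR 318200 3700 (traceTo LB1.2.1 LB1.2.2 LB1.1 12) = 663 := by decide +kernel

theorem cntB1_87 : countR 321900 3700 (traceTo LB1.2.1 LB1.2.2 LB1.1 12) = 613 := by decide +kernel

theorem cntB1_88 : countR 325600 3700 (traceTo LB1.2.1 LB1.2.2 LB1.1 12) = 556 := by decide +kernel

theorem cntB1_89 : countR 329300 3700 (traceTo LB1.2.1 LB1.2.2 LB1.1 12) = 688 := by decide +kernel

theorem cntB1_90 : countR 333000 3700 (traceTo LB1.2.1 LB1.2.2 LB1.1 12) = 636 := by decide +kernel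

theorem cntB1_91 : countR 336700 3700 (traceTo LB1.2.1 LB1.2.2 LB1.1 12) = 667 := by decide +kernel

theorem cntB1_92 : countR 340400 3700 (traceTo LB1.2.1 LB1.2.2 LB1.1 12) = 678 := by decide +kernel

theorem cntB1_93 : countR 344100 3700 (traceTo LB1.2.1 LB1.2.2 LB1.1 12) = 592 := by decide +kernel

theorem cntB1_94 : countR 347800 3700 (traceTo LB1.2.1 LB1.2.2 LB1.1 12) = 681 := by decide +kernel

theorem cntB1_95 : countR 351500 3700 (traceTo LB1.2.1 LB1.2.2 LB1.1 12) = 704 := by decide +kernel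

theorem cntB1_96 : countR 355200 3700 (traceTo LB1.2.1 LB1.2.2 LB1.1 12) = 683 := by decide +kernel

theorem cntB1_97 : countR 358900 3700 (traceTo LB1.2.1 LB1.2.2 LB1.1 12) = 702 := by decide +kernel

theorem cntB1_98 : countR 362600 3700 (traceTo LB1.2.1 LB1.2.2 LB1.1 12) = 586 := by decide +kernel

theorem cntB1_99 : countR 366300 3700 (traceTo LB1.2.1 LB1.2.2 LB1.1 12) = 683 := by decide +kernel


end Cfsg.Agent.HNOut
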