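import Cfsg.Agent.Lib.Lead.HNOut.LevB

/-! # The outer automorphism group of the Harada–Norton group: the number of points of the tree number 1 of the chain `B`, a part (generated) -/

set_option autoImplicit false
set_option maxRecDepth 100000

namespace Cfsg.Agent.HNOut

open Cfsg.Agent.PF Cfsg.Agent.Lib.Helper6 Cfsg.Agent.Lib.Helper6.TC Cfsg.Agent.Lib.Helper6.NatArr
open Cfsg.Agent.PL (Acts evalF)

theorem cntB1_100 : countR 370000 3700 (traceTo LB1.2.1 LB1.2.2 LB1.1 12) = 593 := by decide +kernel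

theorem cntB1_101 : countR 373700 3700 (traceTo LB1.2.1 LB1.2.2 LB1.1 12) = 596 := by decide +kernel

theorem cntB1_102 : countR 377400 3700 (traceTo LB1.2.1 LB1.2.2 LB1.1 12) = 676 := by decide +kernel

theorem cntB1_103 : countR 381100 3700 (traceTo LB1.2.1 LB1.2.2 LB1.1 12) = 645 := by decide +kernel

theorem cntB1_104 : countR 384800 3700 (traceTo LB1.2.1 LB1.2.2 LB1.1 12) = 643 := by decide +kernel

theorem cntB1_105 : countR 388500 3700 (traceTo LB1.2.1 LB1.2.2 LB1.1 12) = 671 := by decide +kernel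

theorem cntB1_106 : countR 392200 3700 (traceTo LB1.2.1 LB1.2.2 LB1.1 12) = 669 := by decide +kernel

theorem cntB1_107 : countR 395900 3700 (traceTo LB1.2.1 LB1.2.2 LB1.1 12) = 688 := by decide +kernel

theorem cntB1_108 : countR 399600 3700 (traceTo LB1.2.1 LB1.2.2 LB1.1 12) = 701 := by decide +kernel

theorem cntB1_109 : countR 403300 3700 (traceTo LB1.2.1 LB1.2.2 LB1.1 12) = 697 := by decide +kernel

theorem cntB1_110 : countR 407000 3700 (traceTo LB1.2.1 LB1.2.2 LB1.1 12) = 641 := by decide +kernel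

theorem cntB1_111 : countR 410700 3700 (traceTo LB1.2.1 LB1.2.2 LB1.1 12) = 686 := by decide +kernel

theorem cntB1_112 : countR 414400 3700 (traceTo LB1.2.1 LB1.2.2 LB1.1 12) = 643 := by decide +kernel

theorem cntB1_113 : countR 418100 3700 (traceTo LB1.2.1 LB1.2.2 LB1.1 12) = 644 := by decide +kernel

theorem cntB1_114 : countR 421800 3700 (traceTo LB1.2.1 LB1.2.2 LB1.1 12) = 603 := by decide +kernel

theorem cntB1_115 : countR 425500 3700 (traceTo LB1.2.1 LB1.2.2 LB1.1 12) = 701 := by decide +kernel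

theorem cntB1_116 : countR 429200 3700 (traceTo LB1.2.1 LB1.2.2 LB1.1 12) = 696 := by decide +kernel

theorem cntB1_117 : countR 432900 3700 (traceTo LB1.2.1 LB1.2.2 LB1.1 12) = 678 := by decide +kernel

theorem cntB1_118 : countR 436600 3700 (traceTo LB1.2.1 LB1.2.2 LB1.1 12) = 741 := by decide +kernel

theorem cntB1_119 : countR 440300 3700 (traceTo LB1.2.1 LB1.2.2 LB1.1 12) = 660 := by decide +kernel

theorem cntB1_120 : countR 444000 3700 (traceTo LB1.2.1 LB1.2.2 LB1.1 12) = 678 := by decide +kernel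

theorem cntB1_121 : countR 447700 3700 (traceTo LB1.2.1 LB1.2.2 LB1.1 12) = 677 := by decide +kernel

theorem cntB1_122 : countR 451400 3700 (traceTo LB1.2.1 LB1.2.2 LB1.1 12) = 757 := by decide +kernel

theorem cntB1_123 : countR 455100 3700 (traceTo LB1.2.1 LB1.2.2 LB1.1 12) = 615 := by decide +kernel

theorem cntB1_124 : countR 458800 3700 (traceTo LB1.2.1 LB1.2.2 LB1.1 12) = 686 := by decide +kernel


end Cfsg.Agent.HNOut
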