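import Cfsg.Agent.Lib.Lead.HNOut.LevB

/-! # The outer automorphism group of the Harada–Norton group: the number of points of the tree number 1 of the chain `B`, a part (generated) -/

set_option autoImplicit false
set_option maxRecDepth 100000

namespace Cfsg.Agent.HNOut

open Cfsg.Agent.PF Cfsg.Agent.Lib.Helper6 Cfsg.Agent.Lib.Helper6.TC Cfsg.Agent.Lib.Helper6.NatArr
open Cfsg.Agent.PL (Acts evalF)

theorem cntB1_125 : countR 462500 3700 (traceTo LB1.2.1 LB1.2.2 LB1.1 12) = 674 := by decide +kernel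

theorem cntB1_126 : countR 466200 3700 (traceTo LB1.2.1 LB1.2.2 LB1.1 12) = 658 := by decide +kernel

theorem cntB1_127 : countR 469900 3700 (traceTo LB1.2.1 LB1.2.2 LB1.1 12) = 666 := by decide +kernel

theorem cntB1_128 : countR 473600 3700 (traceTo LB1.2.1 LB1.2.2 LB1.1 12) = 669 := by decide +kernel

theorem cntB1_129 : countR 477300 3700 (traceTo LB1.2.1 LB1.2.2 LB1.1 12) = 669 := by decide +kernel

theorem cntB1_130 : countR 481000 3700 (traceTo LB1.2.1 LB1.2.2 LB1.1 12) = 630 := by decide +kernel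

theorem cntB1_131 : countR 484700 3700 (traceTo LB1.2.1 LB1.2.2 LB1.1 12) = 699 := by decide +kernel

theorem cntB1_132 : countR 488400 3700 (traceTo LB1.2.1 LB1.2.2 LB1.1 12) = 703 := by decide +kernel

theorem cntB1_133 : countR 492100 3700 (traceTo LB1.2.1 LB1.2.2 LB1.1 12) = 608 := by decide +kernel

theorem cntB1_134 : countR 495800 3700 (traceTo LB1.2.1 LB1.2.2 LB1.1 12) = 640 := by decide +kernel

theorem cntB1_135 : countR 499500 3700 (traceTo LB1.2.1 LB1.2.2 LB1.1 12) = 714 := by decide +kernel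

theorem cntB1_136 : countR 503200 3700 (traceTo LB1.2.1 LB1.2.2 LB1.1 12) = 682 := by decide +kernel

theorem cntB1_137 : countR 506900 3700 (traceTo LB1.2.1 LB1.2.2 LB1.1 12) = 641 := by decide +kernel

theorem cntB1_138 : countR 510600 3700 (traceTo LB1.2.1 LB1.2.2 LB1.1 12) = 737 := by decide +kernel

theorem cntB1_139 : countR 514300 3700 (traceTo LB1.2.1 LB1.2.2 LB1.1 12) = 604 := by decide +kernel

theorem cntB1_140 : countR 518000 3700 (traceTo LB1.2.1 LB1.2.2 LB1.1 12) = 725 := by decide +kernel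

theorem cntB1_141 : countR 521700 3700 (traceTo LB1.2.1 LB1.2.2 LB1.1 12) = 630 := by decide +kernel

theorem cntB1_142 : countR 525400 3700 (traceTo LB1.2.1 LB1.2.2 LB1.1 12) = 739 := by decide +kernel

theorem cntB1_143 : countR 529100 3700 (traceTo LB1.2.1 LB1.2.2 LB1.1 12) = 614 := by decide +kernel

theorem cntB1_144 : countR 532800 3700 (traceTo LB1.2.1 LB1.2.2 LB1.1 12) = 612 := by decide +kernel

theorem cntB1_145 : countR 536500 3700 (traceTo LB1.2.1 LB1.2.2 LB1.1 12) = 702 := by decide +kernel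

theorem cntB1_146 : countR 540200 3700 (traceTo LB1.2.1 LB1.2.2 LB1.1 12) = 666 := by decide +kernel

theorem cntB1_147 : countR 543900 3700 (traceTo LB1.2.1 LB1.2.2 LB1.1 12) = 635 := by decide +kernel

theorem cntB1_148 : countR 547600 3700 (traceTo LB1.2.1 LB1.2.2 LB1.1 12) = 627 := by decide +kernel

theorem cntB1_149 : countR 551300 3700 (traceTo LB1.2.1 LB1.2.2 LB1.1 12) = 676 := by decide +kernel


end Cfsg.Agent.HNOut
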