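import Cfsg.Agent.Lib.Lead.HNOut.LevB

/-! # The outer automorphism group of the Harada–Norton group: the number of points of the tree number 1 of the chain `B`, a part (generated) -/

set_option autoImplicit false
set_option maxRecDepth 100000

namespace Cfsg.Agent.HNOut

open Cfsg.Agent.PF Cfsg.Agent.Lib.Helper6 Cfsg.Agent.Lib.Helper6.TC Cfsg.Agent.Lib.Helper6.NatArr
open Cfsg.Agent.PL (Acts evalF)

theorem cntB1_150 : countR 555000 3700 (traceTo LB1.2.1 LB1.2.2 LB1.1 12) = 647 := by decide +kernel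

theorem cntB1_151 : countR 558700 3700 (traceTo LB1.2.1 LB1.2.2 LB1.1 12) = 669 := by decide +kernel

theorem cntB1_152 : countR 562400 3700 (traceTo LB1.2.1 LB1.2.2 LB1.1 12) = 734 := by decide +kernel

theorem cntB1_153 : countR 566100 3700 (traceTo LB1.2.1 LB1.2.2 LB1.1 12) = 700 := by decide +kernel

theorem cntB1_154 : countR 569800 3700 (traceTo LB1.2.1 LB1.2.2 LB1.1 12) = 644 := by decide +kernel

theorem cntB1_155 : countR 573500 3700 (traceTo LB1.2.1 LB1.2.2 LB1.1 12) = 666 := by decide +kernel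

theorem cntB1_156 : countR 577200 3700 (traceTo LB1.2.1 LB1.2.2 LB1.1 12) = 709 := by decide +kernel

theorem cntB1_157 : countR 580900 3700 (traceTo LB1.2.1 LB1.2.2 LB1.1 12) = 709 := by decide +kernel

theorem cntB1_158 : countR 584600 3700 (traceTo LB1.2.1 LB1.2.2 LB1.1 12) = 764 := by decide +kernel

theorem cntB1_159 : countR 588300 3700 (traceTo LB1.2.1 LB1.2.2 LB1.1 12) = 724 := by decide +kernel

theorem cntB1_160 : countR 592000 3700 (traceTo LB1.2.1 LB1.2.2 LB1.1 12) = 669 := by decide +kernel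

theorem cntB1_161 : countR 595700 3700 (traceTo LB1.2.1 LB1.2.2 LB1.1 12) = 605 := by decide +kernel

theorem cntB1_162 : countR 599400 3700 (traceTo LB1.2.1 LB1.2.2 LB1.1 12) = 712 := by decide +kernel

theorem cntB1_163 : countR 603100 3700 (traceTo LB1.2.1 LB1.2.2 LB1.1 12) = 715 := by decide +kernel

theorem cntB1_164 : countR 606800 3700 (traceTo LB1.2.1 LB1.2.2 LB1.1 12) = 757 := by decide +kernel

theorem cntB1_165 : countR 610500 3700 (traceTo LB1.2.1 LB1.2.2 LB1.1 12) = 676 := by decide +kernel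

theorem cntB1_166 : countR 614200 3700 (traceTo LB1.2.1 LB1.2.2 LB1.1 12) = 669 := by decide +kernel

theorem cntB1_167 : countR 617900 3700 (traceTo LB1.2.1 LB1.2.2 LB1.1 12) = 638 := by decide +kernel

theorem cntB1_168 : countR 621600 3700 (traceTo LB1.2.1 LB1.2.2 LB1.1 12) = 675 := by decide +kernel

theorem cntB1_169 : countR 625300 3700 (traceTo LB1.2.1 LB1.2.2 LB1.1 12) = 683 := by decide +kernel

theorem cntB1_170 : countR 629000 3700 (traceTo LB1.2.1 LB1.2.2 LB1.1 12) = 659 := by decide +kernel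

theorem cntB1_171 : countR 632700 3700 (traceTo LB1.2.1 LB1.2.2 LB1.1 12) = 654 := by decide +kernel

theorem cntB1_172 : countR 636400 3700 (traceTo LB1.2.1 LB1.2.2 LB1.1 12) = 678 := by decide +kernel

theorem cntB1_173 : countR 640100 3700 (traceTo LB1.2.1 LB1.2.2 LB1.1 12) = 679 := by decide +kernel

theorem cntB1_174 : countR 643800 3700 (traceTo LB1.2.1 LB1.2.2 LB1.1 12) = 658 := by decide +kernel


end Cfsg.Agent.HNOut
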