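import Cfsg.Agent.Lib.Lead.HNOut.LevB

/-! # The outer automorphism group of the Harada–Norton group: the number of points of the tree number 1 of the chain `B`, a part (generated) -/

set_option autoImplicit false
set_option maxRecDepth 100000

namespace Cfsg.Agent.HNOut

open Cfsg.Agent.PF Cfsg.Agent.Lib.Helper6 Cfsg.Agent.Lib.Helper6.TC Cfsg.Agent.Lib.Helper6.NatArr
open Cfsg.Agent.PL (Acts evalF)

theorem cntB1_175 : countR 647500 3700 (traceTo LB1.2.1 LB1.2.2 LB1.1 12) = 681 := by decide +kernel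

theorem cntB1_176 : countR 651200 3700 (traceTo LB1.2.1 LB1.2.2 LB1.1 12) = 681 := by decide +kernel

theorem cntB1_177 : countR 654900 3700 (traceTo LB1.2.1 LB1.2.2 LB1.1 12) = 671 := by decide +kernel

theorem cntB1_178 : countR 658600 3700 (traceTo LB1.2.1 LB1.2.2 LB1.1 12) = 709 := by decide +kernel

theorem cntB1_179 : countR 662300 3700 (traceTo LB1.2.1 LB1.2.2 LB1.1 12) = 721 := by decide +kernel

theorem cntB1_180 : countR 666000 3700 (traceTo LB1.2.1 LB1.2.2 LB1.1 12) = 638 := by decide +kernel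

theorem cntB1_181 : countR 669700 3700 (traceTo LB1.2.1 LB1.2.2 LB1.1 12) = 703 := by decide +kernel

theorem cntB1_182 : countR 673400 3700 (traceTo LB1.2.1 LB1.2.2 LB1.1 12) = 644 := by decide +kernel

theorem cntB1_183 : countR 677100 3700 (traceTo LB1.2.1 LB1.2.2 LB1.1 12) = 680 := by decide +kernel

theorem cntB1_184 : countR 680800 3700 (traceTo LB1.2.1 LB1.2.2 LB1.1 12) = 656 := by decide +kernel

theorem cntB1_185 : countR 684500 3700 (traceTo LB1.2.1 LB1.2.2 LB1.1 12) = 684 := by decide +kernel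

theorem cntB1_186 : countR 688200 3700 (traceTo LB1.2.1 LB1.2.2 LB1.1 12) = 600 := by decide +kernel

theorem cntB1_187 : countR 691900 3700 (traceTo LB1.2.1 LB1.2.2 LB1.1 12) = 675 := by decide +kernel

theorem cntB1_188 : countR 695600 3700 (traceTo LB1.2.1 LB1.2.2 LB1.1 12) = 694 := by decide +kernel

theorem cntB1_189 : countR 699300 3700 (traceTo LB1.2.1 LB1.2.2 LB1.1 12) = 682 := by decide +kernel

theorem cntB1_190 : countR 703000 3700 (traceTo LB1.2.1 LB1.2.2 LB1.1 12) = 733 := by decide +kernel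

theorem cntB1_191 : countR 706700 3700 (traceTo LB1.2.1 LB1.2.2 LB1.1 12) = 671 := by decide +kernel

theorem cntB1_192 : countR 710400 3700 (traceTo LB1.2.1 LB1.2.2 LB1.1 12) = 666 := by decide +kernel

theorem cntB1_193 : countR 714100 3700 (traceTo LB1.2.1 LB1.2.2 LB1.1 12) = 688 := by decide +kernel

theorem cntB1_194 : countR 717800 3700 (traceTo LB1.2.1 LB1.2.2 LB1.1 12) = 640 := by decide +kernel

theorem cntB1_195 : countR 721500 3700 (traceTo LB1.2.1 LB1.2.2 LB1.1 12) = 638 := by decide +kernel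

theorem cntB1_196 : countR 725200 3700 (traceTo LB1.2.1 LB1.2.2 LB1.1 12) = 693 := by decide +kernel

theorem cntB1_197 : countR 728900 3700 (traceTo LB1.2.1 LB1.2.2 LB1.1 12) = 689 := by decide +kernel

theorem cntB1_198 : countR 732600 3700 (traceTo LB1.2.1 LB1.2.2 LB1.1 12) = 694 := by decide +kernel

theorem cntB1_199 : countR 736300 3700 (traceTo LB1.2.1 LB1.2.2 LB1.1 12) = 715 := by decide +kernel


end Cfsg.Agent.HNOut
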