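import Cfsg.Agent.Lib.Lead.HNOut.LevB

/-! # The outer automorphism group of the Harada–Norton group: the number of points of the tree number 1 of the chain `B`, a part (generated) -/

set_option autoImplicit false
set_option maxRecDepth 100000

namespace Cfsg.Agent.HNOut

open Cfsg.Agent.PF Cfsg.Agent.Lib.Helper6 Cfsg.Agent.Lib.Helper6.TC Cfsg.Agent.Lib.Helper6.NatArr
open Cfsg.Agent.PL (Acts evalF)

theorem cntB1_200 : countR 740000 3700 (traceTo LB1.2.1 LB1.2.2 LB1.1 12) = 672 := by decide +kernel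

theorem cntB1_201 : countR 743700 3700 (traceTo LB1.2.1 LB1.2.2 LB1.1 12) = 663 := by decide +kernel

theorem cntB1_202 : countR 747400 3700 (traceTo LB1.2.1 LB1.2.2 LB1.1 12) = 635 := by decide +kernel

theorem cntB1_203 : countR 751100 3700 (traceTo LB1.2.1 LB1.2.2 LB1.1 12) = 767 := by decide +kernel

theorem cntB1_204 : countR 754800 3700 (traceTo LB1.2.1 LB1.2.2 LB1.1 12) = 598 := by decide +kernel

theorem cntB1_205 : countR 758500 3700 (traceTo LB1.2.1 LB1.2.2 LB1.1 12) = 750 := by decide +kernel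

theorem cntB1_206 : countR 762200 3700 (traceTo LB1.2.1 LB1.2.2 LB1.1 12) = 616 := by decide +kernel

theorem cntB1_207 : countR 765900 3700 (traceTo LB1.2.1 LB1.2.2 LB1.1 12) = 653 := by decide +kernel

theorem cntB1_208 : countR 769600 3700 (traceTo LB1.2.1 LB1.2.2 LB1.1 12) = 737 := by decide +kernel

theorem cntB1_209 : countR 773300 3700 (traceTo LB1.2.1 LB1.2.2 LB1.1 12) = 795 := by decide +kernel

theorem cntB1_210 : countR 777000 3700 (traceTo LB1.2.1 LB1.2.2 LB1.1 12) = 727 := by decide +kernel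

theorem cntB1_211 : countR 780700 3700 (traceTo LB1.2.1 LB1.2.2 LB1.1 12) = 654 := by decide +kernel

theorem cntB1_212 : countR 784400 3700 (traceTo LB1.2.1 LB1.2.2 LB1.1 12) = 716 := by decide +kernel

theorem cntB1_213 : countR 788100 3700 (traceTo LB1.2.1 LB1.2.2 LB1.1 12) = 745 := by decide +kernel

theorem cntB1_214 : countR 791800 3700 (traceTo LB1.2.1 LB1.2.2 LB1.1 12) = 704 := by decide +kernel

theorem cntB1_215 : countR 795500 3700 (traceTo LB1.2.1 LB1.2.2 LB1.1 12) = 625 := by decide +kernel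

theorem cntB1_216 : countR 799200 3700 (traceTo LB1.2.1 LB1.2.2 LB1.1 12) = 648 := by decide +kernel

theorem cntB1_217 : countR 802900 3700 (traceTo LB1.2.1 LB1.2.2 LB1.1 12) = 694 := by decide +kernel

theorem cntB1_218 : countR 806600 3700 (traceTo LB1.2.1 LB1.2.2 LB1.1 12) = 658 := by decide +kernel

theorem cntB1_219 : countR 810300 3700 (traceTo LB1.2.1 LB1.2.2 LB1.1 12) = 781 := by decide +kernel

theorem cntB1_220 : countR 814000 3700 (traceTo LB1.2.1 LB1.2.2 LB1.1 12) = 752 := by decide +kernel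

theorem cntB1_221 : countR 817700 3700 (traceTo LB1.2.1 LB1.2.2 LB1.1 12) = 701 := by decide +kernel

theorem cntB1_222 : countR 821400 3700 (traceTo LB1.2.1 LB1.2.2 LB1.1 12) = 709 := by decide +kernel

theorem cntB1_223 : countR 825100 3700 (traceTo LB1.2.1 LB1.2.2 LB1.1 12) = 736 := by decide +kernel

theorem cntB1_224 : countR 828800 3700 (traceTo LB1.2.1 LB1.2.2 LB1.1 12) = 670 := by decide +kernel


end Cfsg.Agent.HNOut
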