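import Cfsg.Agent.Lib.Lead.HNOut.LevB

/-! # The outer automorphism group of the Harada–Norton group: the number of points of the tree number 1 of the chain `B`, a part (generated) -/

set_option autoImplicit false
set_option maxRecDepth 100000

namespace Cfsg.Agent.HNOut

open Cfsg.Agent.PF Cfsg.Agent.Lib.Helper6 Cfsg.Agent.Lib.Helper6.TC Cfsg.Agent.Lib.Helper6.NatArr
open Cfsg.Agent.PL (Acts evalF)

theorem cntB1_225 : countR 832500 3700 (traceTo LB1.2.1 LB1.2.2 LB1.1 12) = 698 := by decide +kernel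

theorem cntB1_226 : countR 836200 3700 (traceTo LB1.2.1 LB1.2.2 LB1.1 12) = 655 := by decide +kernel

theorem cntB1_227 : countR 839900 3700 (traceTo LB1.2.1 LB1.2.2 LB1.1 12) = 670 := by decide +kernel

theorem cntB1_228 : countR 843600 3700 (traceTo LB1.2.1 LB1.2.2 LB1.1 12) = 634 := by decide +kernel

theorem cntB1_229 : countR 847300 3700 (traceTo LB1.2.1 LB1.2.2 LB1.1 12) = 673 := by decide +kernel

theorem cntB1_230 : countR 851000 3700 (traceTo LB1.2.1 LB1.2.2 LB1.1 12) = 719 := by decide +kernel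

theorem cntB1_231 : countR 854700 3700 (traceTo LB1.2.1 LB1.2.2 LB1.1 12) = 720 := by decide +kernel

theorem cntB1_232 : countR 858400 3700 (traceTo LB1.2.1 LB1.2.2 LB1.1 12) = 608 := by decide +kernel

theorem cntB1_233 : countR 862100 3700 (traceTo LB1.2.1 LB1.2.2 LB1.1 12) = 774 := by decide +kernel

theorem cntB1_234 : countR 865800 3700 (traceTo LB1.2.1 LB1.2.2 LB1.1 12) = 766 := by decide +kernel

theorem cntB1_235 : countR 869500 3700 (traceTo LB1.2.1 LB1.2.2 LB1.1 12) = 658 := by decide +kernel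

theorem cntB1_236 : countR 873200 3700 (traceTo LB1.2.1 LB1.2.2 LB1.1 12) = 678 := by decide +kernel

theorem cntB1_237 : countR 876900 3700 (traceTo LB1.2.1 LB1.2.2 LB1.1 12) = 651 := by decide +kernel

theorem cntB1_238 : countR 880600 3700 (traceTo LB1.2.1 LB1.2.2 LB1.1 12) = 719 := by decide +kernel

theorem cntB1_239 : countR 884300 3700 (traceTo LB1.2.1 LB1.2.2 LB1.1 12) = 736 := by decide +kernel

theorem cntB1_240 : countR 888000 3700 (traceTo LB1.2.1 LB1.2.2 LB1.1 12) = 680 := by decide +kernel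

theorem cntB1_241 : countR 891700 3700 (traceTo LB1.2.1 LB1.2.2 LB1.1 12) = 719 := by decide +kernel

theorem cntB1_242 : countR 895400 3700 (traceTo LB1.2.1 LB1.2.2 LB1.1 12) = 650 := by decide +kernel

theorem cntB1_243 : countR 899100 3700 (traceTo LB1.2.1 LB1.2.2 LB1.1 12) = 679 := by decide +kernel

theorem cntB1_244 : countR 902800 3700 (traceTo LB1.2.1 LB1.2.2 LB1.1 12) = 656 := by decide +kernel

theorem cntB1_245 : countR 906500 3700 (traceTo LB1.2.1 LB1.2.2 LB1.1 12) = 657 := by decide +kernel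

theorem cntB1_246 : countR 910200 3700 (traceTo LB1.2.1 LB1.2.2 LB1.1 12) = 646 := by decide +kernel

theorem cntB1_247 : countR 913900 3700 (traceTo LB1.2.1 LB1.2.2 LB1.1 12) = 667 := by decide +kernel

theorem cntB1_248 : countR 917600 3700 (traceTo LB1.2.1 LB1.2.2 LB1.1 12) = 674 := by decide +kernel

theorem cntB1_249 : countR 921300 3700 (traceTo LB1.2.1 LB1.2.2 LB1.1 12) = 720 := by decide +kernel


end Cfsg.Agent.HNOut
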