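import Cfsg.Agent.Lib.Lead.HNOut.CntB1x0
import Cfsg.Agent.Lib.Lead.HNOut.CntB1x1
import Cfsg.Agent.Lib.Lead.HNOut.CntB1x2
import Cfsg.Agent.Lib.Lead.HNOut.CntB1x3
import Cfsg.Agent.Lib.Lead.HNOut.CntB1x4
import Cfsg.Agent.Lib.Lead.HNOut.CntB1x5
import Cfsg.Agent.Lib.Lead.HNOut.CntB1x6
import Cfsg.Agent.Lib.Lead.HNOut.CntB1x7
import Cfsg.Agent.Lib.Lead.HNOut.CntB1x8
import Cfsg.Agent.Lib.Lead.HNOut.CntB1x9
import Cfsg.Agent.Lib.Lead.HNOut.CntB1x10
import Cfsg.Agent.Lib.Lead.HNOut.CntB1x11
import Cfsg.Agent.Lib.Lead.HNOut.CntB1x12
import Cfsg.Agent.Lib.Lead.HNOut.CntB1x13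
import Cfsg.Agent.Lib.Lead.HNOut.CntB1x14
import Cfsg.Agent.Lib.Lead.HNOut.CntB1x15
import Cfsg.Agent.Lib.Lead.HNOut.CntB1x16

/-! # The outer automorphism group of the Harada–Norton group: the number of points of the tree number 1 of the chain `B` (generated) -/

set_option autoImplicit false
set_option maxRecDepth 100000

namespace Cfsg.Agent.HNOut

open Cfsg.Agent.PF Cfsg.Agent.Lib.Helper6 Cfsg.Agent.Lib.Helper6.TC Cfsg.Agent.Lib.Helper6.NatArr
open Cfsg.Agent.PL (Acts evalF)

theorem cntB1_grp0 : countR 0 370000 (traceTo LB1.2.1 LB1.2.2 LB1.1 12) = 59103 :=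
  (countR_append cntB1_0 (countR_append cntB1_1 (countR_append cntB1_2 (countR_append cntB1_3 (countR_append cntB1_4 (countR_append cntB1_5 (countR_append cntB1_6 (countR_append cntB1_7 (countR_append cntB1_8 (countR_append cntB1_9 (countR_append cntB1_10 (countR_append cntB1_11 (countR_append cntB1_12 (countR_append cntB1_13 (countR_append cntB1_14 (countR_append cntB1_15 (countR_append cntB1_16 (countR_append cntB1_17 (countR_append cntB1_18 (countR_append cntB1_19 (countR_append cntB1_20 (countR_append cntB1_21 (countR_append cntB1_22 (countR_append cntB1_23 (countR_append cntB1_24 (countR_append cntB1_25 (countR_append cntB1_26 (countR_append cntB1_27 (countR_append cntB1_28 (countR_append cntB1_29 (countR_append cntB1_30 (countR_append cntB1_31 (countR_append cntB1_32 (countR_append cntB1_33 (countR_append cntB1_34 (countR_append cntB1_35 (countR_append cntB1_36 (countR_append cntB1_37 (countR_append cntB1_38 (countR_append cntB1_39 (countR_append cntB1_40 (countR_append cntB1_41 (countR_append cntB1_42 (countR_append cntB1_43 (countR_append cntB1_44 (countR_append cntB1_45 (countR_append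 cntB1_46 (countR_append cntB1_47 (countR_append cntB1_48 (countR_append cntB1_49 (countR_append cntB1_50 (countR_append cntB1_51 (countR_append cntB1_52 (countR_append cntB1_53 (countR_append cntB1_54 (countR_append cntB1_55 (countR_append cntB1_56 (countR_append cntB1_57 (countR_append cntB1_58 (countR_append cntB1_59 (countR_append cntB1_60 (countR_append cntB1_61 (countR_append cntB1_62 (countR_append cntB1_63 (countR_append cntB1_64 (countR_append cntB1_65 (countR_append cntB1_66 (countR_append cntB1_67 (countR_append cntB1_68 (countR_append cntB1_69 (countR_append cntB1_70 (countR_append cntB1_71 (countR_append cntB1_72 (countR_append cntB1_73 (countR_append cntB1_74 (countR_append cntB1_75 (countR_append cntB1_76 (countR_append cntB1_77 (countR_append cntB1_78 (countR_append cntB1_79 (countR_append cntB1_80 (countR_append cntB1_81 (countR_append cntB1_82 (countR_append cntB1_83 (countR_append cntB1_84 (countR_append cntB1_85 (countR_append cntB1_86 (countR_append cntB1_87 (countR_append cntB1_88 (countR_append cntB1_89 (countR_append cntB1_90 (countR_append cntB1_91 (countR_append cntB1_92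 (countR_append cntB1_93 (countR_append cntB1_94 (countR_append cntB1_95 (countR_append cntB1_96 (countR_append cntB1_97 (countR_append cntB1_98 (cntB1_99))))))))))))))))))))))))))))))))))))))))))))))))))))))))))))))))))))))))))))))))))))))))))))))))))) :
    countR 0 (3700 + (3700 + (3700 + (3700 + (3700 + (3700 + (3700 + (3700 + (3700 + (3700 + (3700 + (3700 + (3700 + (3700 + (3700 + (3700 + (3700 + (3700 + (3700 + (3700 + (3700 + (3700 + (3700 + (3700 + (3700 + (3700 + (3700 + (3700 + (3700 + (3700 + (3700 + (3700 + (3700 + (3700 + (3700 + (3700 + (3700 + (3700 + (3700 + (3700 + (3700 + (3700 + (3700 + (3700 + (3700 + (3700 + (3700 + (3700 + (3700 + (3700 + (3700 + (3700 + (3700 + (3700 + (3700 + (3700 + (3700 + (3700 + (3700 + (3700 + (3700 + (3700 + (3700 + (3700 + (3700 + (3700 + (3700 + (3700 + (3700 + (3700 + (3700 + (3700 + (3700 + (3700 + (3700 + (3700 + (3700 + (3700 + (3700 + (3700 + (3700 + (3700 + (3700 + (3700 + (3700 + (3700 + (3700 + (3700 + (3700 + (3700 + (3700 + (3700 + (3700 + (3700 + (3700 + (3700 + (3700 + (3700 + (3700 + (3700))))))))))))))))))))))))))))))))))))))))))))))))))))))))))))))))))))))))))))))))))))))))))))))))))))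 (traceTo LB1.2.1 LB1.2.2 LB1.1 12) = 0 + (396 + (450 + (464 + (506 + (478 + (405 + (974 + (964 + (403 + (308 + (460 + (418 + (475 + (489 + (397 + (400 + (507 + (480 + (461 + (434 + (438 + (438 + (434 + (499 + (451 + (458 + (425 + (416 + (422 + (452 + (465 + (435 + (462 + (445 + (476 + (439 + (424 + (429 + (451 + (454 + (431 + (448 + (381 + (493 + (616 + (747 + (651 + (658 + (726 + (641 + (745 + (785 + (671 + (741 + (834 + (723 + (719 + (764 + (838 + (672 + (676 + (707 + (850 + (763 + (758 + (746 + (780 + (802 + (714 + (762 + (822 + (746 + (675 + (853 + (742 + (791 + (817 + (604 + (604 + (540 + (666 + (642 + (566 + (588 + (691 + (663 + (613 + (556 + (688 + (636 + (667 + (678 + (592 + (681 + (704 + (683 + (702 + (586 + (683))))))))))))))))))))))))))))))))))))))))))))))))))))))))))))))))))))))))))))))))))))))))))))))))))))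

theorem cntB1_grp1 : countR 370000 370000 (traceTo LB1.2.1 LB1.2.2 LB1.1 12) = 67344 :=
  (countR_append cntB1_100 (countR_append cntB1_101 (countR_append cntB1_102 (countR_append cntB1_103 (countR_append cntB1_104 (countR_append cntB1_105 (countR_append cntB1_106 (countR_append cntB1_107 (countR_append cntB1_108 (countR_append cntB1_109 (countR_append cntB1_110 (countR_append cntB1_111 (countR_append cntB1_112 (countR_append cntB1_113 (countR_append cntB1_114 (countR_append cntB1_115 (countR_append cntB1_116 (countR_append cntB1_117 (countR_append cntB1_118 (countR_append cntB1_119 (countR_append cntB1_120 (countR_append cntB1_121 (countR_append cntB1_122 (countR_append cntB1_123 (countR_append cntB1_124 (countR_append cntB1_125 (countR_append cntB1_126 (countR_append cntB1_127 (countR_append cntB1_128 (countR_append cntB1_129 (countR_append cntB1_130 (countR_append cntB1_131 (countR_append cntB1_132 (countR_append cntB1_133 (countR_append cntB1_134 (countR_append cntB1_135 (countR_append cntB1_136 (countR_append cntB1_137 (countR_append cntB1_138 (countR_append cntB1_139 (countR_append cntB1_140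 (countR_append cntB1_141 (countR_append cntB1_142 (countR_append cntB1_143 (countR_append cntB1_144 (countR_append cntB1_145 (countR_append cntB1_146 (countR_append cntB1_147 (countR_append cntB1_148 (countR_append cntB1_149 (countR_append cntB1_150 (countR_append cntB1_151 (countR_append cntB1_152 (countR_append cntB1_153 (countR_append cntB1_154 (countR_append cntB1_155 (countR_append cntB1_156 (countR_append cntB1_157 (countR_append cntB1_158 (countR_append cntB1_159 (countR_append cntB1_160 (countR_append cntB1_161 (countR_append cntB1_162 (countR_append cntB1_163 (countR_append cntB1_164 (countR_append cntB1_165 (countR_append cntB1_166 (countR_append cntB1_167 (countR_append cntB1_168 (countR_append cntB1_169 (countR_append cntB1_170 (countR_append cntB1_171 (countR_append cntB1_172 (countR_append cntB1_173 (countR_append cntB1_174 (countR_append cntB1_175 (countR_append cntB1_176 (countR_append cntB1_177 (countR_append cntB1_178 (countR_append cntB1_179 (countR_append cntB1_180 (countR_append cntB1_181 (countR_append cntB1_182 (countR_append cntB1_183 (countR_append cntB1_184 (countR_append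 cntB1_185 (countR_append cntB1_186 (countR_append cntB1_187 (countR_append cntB1_188 (countR_append cntB1_189 (countR_append cntB1_190 (countR_append cntB1_191 (countR_append cntB1_192 (countR_append cntB1_193 (countR_append cntB1_194 (countR_append cntB1_195 (countR_append cntB1_196 (countR_append cntB1_197 (countR_append cntB1_198 (cntB1_199))))))))))))))))))))))))))))))))))))))))))))))))))))))))))))))))))))))))))))))))))))))))))))))))))) :
    countR 370000 (3700 + (3700 + (3700 + (3700 + (3700 + (3700 + (3700 + (3700 + (3700 + (3700 + (3700 + (3700 + (3700 + (3700 + (3700 + (3700 + (3700 + (3700 + (3700 + (3700 + (3700 + (3700 + (3700 + (3700 + (3700 + (3700 + (3700 + (3700 + (3700 + (3700 + (3700 + (3700 + (3700 + (3700 + (3700 + (3700 + (3700 + (3700 + (3700 + (3700 + (3700 + (3700 + (3700 + (3700 + (3700 + (3700 + (3700 + (3700 + (3700 + (3700 + (3700 + (3700 + (3700 + (3700 + (3700 + (3700 + (3700 + (3700 + (3700 + (3700 + (3700 + (3700 + (3700 + (3700 + (3700 + (3700 + (3700 + (3700 + (3700 + (3700 + (3700 + (3700 + (3700 + (3700 + (3700 + (3700 + (3700 + (3700 + (3700 + (3700 + (3700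 + (3700 + (3700 + (3700 + (3700 + (3700 + (3700 + (3700 + (3700 + (3700 + (3700 + (3700 + (3700 + (3700 + (3700 + (3700 + (3700 + (3700 + (3700 + (3700)))))))))))))))))))))))))))))))))))))))))))))))))))))))))))))))))))))))))))))))))))))))))))))))))))) (traceTo LB1.2.1 LB1.2.2 LB1.1 12) = 593 + (596 + (676 + (645 + (643 + (671 + (669 + (688 + (701 + (697 + (641 + (686 + (643 + (644 + (603 + (701 + (696 + (678 + (741 + (660 + (678 + (677 + (757 + (615 + (686 + (674 + (658 + (666 + (669 + (669 + (630 + (699 + (703 + (608 + (640 + (714 + (682 + (641 + (737 + (604 + (725 + (630 + (739 + (614 + (612 + (702 + (666 + (635 + (627 + (676 + (647 + (669 + (734 + (700 + (644 + (666 + (709 + (709 + (764 + (724 + (669 + (605 + (712 + (715 + (757 + (676 + (669 + (638 + (675 + (683 + (659 + (654 + (678 + (679 + (658 + (681 + (681 + (671 + (709 + (721 + (638 + (703 + (644 + (680 + (656 + (684 + (600 + (675 + (694 + (682 + (733 + (671 + (666 + (688 + (640 + (638 + (693 + (689 + (694 + (715))))))))))))))))))))))))))))))))))))))))))))))))))))))))))))))))))))))))))))))))))))))))))))))))))))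

theorem cntB1_grp2 : countR 740000 370000 (traceTo LB1.2.1 LB1.2.2 LB1.1 12) = 72830 :=
  (countR_append cntB1_200 (countR_append cntB1_201 (countR_append cntB1_202 (countR_append cntB1_203 (countR_append cntB1_204 (countR_append cntB1_205 (countR_append cntB1_206 (countR_append cntB1_207 (countR_append cntB1_208 (countR_append cntB1_209 (countR_append cntB1_210 (countR_append cntB1_211 (countR_append cntB1_212 (countR_append cntB1_213 (countR_append cntB1_214 (countR_append cntB1_215 (countR_append cntB1_216 (countR_append cntB1_217 (countR_append cntB1_218 (countR_append cntB1_219 (countR_append cntB1_220 (countR_append cntB1_221 (countR_append cntB1_222 (countR_append cntB1_223 (countR_append cntB1_224 (countR_append cntB1_225 (countR_append cntB1_226 (countR_append cntB1_227 (countR_append cntB1_228 (countR_append cntB1_229 (countR_append cntB1_230 (countR_append cntB1_231 (countR_append cntB1_232 (countR_append cntB1_233 (countR_append cntB1_234 (countR_append cntB1_235 (countR_append cntB1_236 (countR_append cntB1_237 (countR_append cntB1_238 (countR_append cntB1_239 (countR_append cntB1_240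 (countR_append cntB1_241 (countR_append cntB1_242 (countR_append cntB1_243 (countR_append cntB1_244 (countR_append cntB1_245 (countR_append cntB1_246 (countR_append cntB1_247 (countR_append cntB1_248 (countR_append cntB1_249 (countR_append cntB1_250 (countR_append cntB1_251 (countR_append cntB1_252 (countR_append cntB1_253 (countR_append cntB1_254 (countR_append cntB1_255 (countR_append cntB1_256 (countR_append cntB1_257 (countR_append cntB1_258 (countR_append cntB1_259 (countR_append cntB1_260 (countR_append cntB1_261 (countR_append cntB1_262 (countR_append cntB1_263 (countR_append cntB1_264 (countR_append cntB1_265 (countR_append cntB1_266 (countR_append cntB1_267 (countR_append cntB1_268 (countR_append cntB1_269 (countR_append cntB1_270 (countR_append cntB1_271 (countR_append cntB1_272 (countR_append cntB1_273 (countR_append cntB1_274 (countR_append cntB1_275 (countR_append cntB1_276 (countR_append cntB1_277 (countR_append cntB1_278 (countR_append cntB1_279 (countR_append cntB1_280 (countR_append cntB1_281 (countR_append cntB1_282 (countR_append cntB1_283 (countR_append cntB1_284 (countR_append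 cntB1_285 (countR_append cntB1_286 (countR_append cntB1_287 (countR_append cntB1_288 (countR_append cntB1_289 (countR_append cntB1_290 (countR_append cntB1_291 (countR_append cntB1_292 (countR_append cntB1_293 (countR_append cntB1_294 (countR_append cntB1_295 (countR_append cntB1_296 (countR_append cntB1_297 (countR_append cntB1_298 (cntB1_299))))))))))))))))))))))))))))))))))))))))))))))))))))))))))))))))))))))))))))))))))))))))))))))))))) :
    countR 740000 (3700 + (3700 + (3700 + (3700 + (3700 + (3700 + (3700 + (3700 + (3700 + (3700 + (3700 + (3700 + (3700 + (3700 + (3700 + (3700 + (3700 + (3700 + (3700 + (3700 + (3700 + (3700 + (3700 + (3700 + (3700 + (3700 + (3700 + (3700 + (3700 + (3700 + (3700 + (3700 + (3700 + (3700 + (3700 + (3700 + (3700 + (3700 + (3700 + (3700 + (3700 + (3700 + (3700 + (3700 + (3700 + (3700 + (3700 + (3700 + (3700 + (3700 + (3700 + (3700 + (3700 + (3700 + (3700 + (3700 + (3700 + (3700 + (3700 + (3700 + (3700 + (3700 + (3700 + (3700 + (3700 + (3700 + (3700 + (3700 + (3700 + (3700 + (3700 + (3700 + (3700 + (3700 + (3700 + (3700 + (3700 + (3700 + (3700 + (3700 + (3700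 + (3700 + (3700 + (3700 + (3700 + (3700 + (3700 + (3700 + (3700 + (3700 + (3700 + (3700 + (3700 + (3700 + (3700 + (3700 + (3700 + (3700 + (3700 + (3700)))))))))))))))))))))))))))))))))))))))))))))))))))))))))))))))))))))))))))))))))))))))))))))))))))) (traceTo LB1.2.1 LB1.2.2 LB1.1 12) = 672 + (663 + (635 + (767 + (598 + (750 + (616 + (653 + (737 + (795 + (727 + (654 + (716 + (745 + (704 + (625 + (648 + (694 + (658 + (781 + (752 + (701 + (709 + (736 + (670 + (698 + (655 + (670 + (634 + (673 + (719 + (720 + (608 + (774 + (766 + (658 + (678 + (651 + (719 + (736 + (680 + (719 + (650 + (679 + (656 + (657 + (646 + (667 + (674 + (720 + (766 + (847 + (661 + (927 + (597 + (852 + (699 + (634 + (783 + (976 + (833 + (684 + (602 + (696 + (847 + (822 + (662 + (705 + (650 + (795 + (795 + (837 + (882 + (698 + (715 + (782 + (633 + (698 + (680 + (875 + (941 + (780 + (919 + (704 + (697 + (671 + (796 + (747 + (763 + (938 + (741 + (897 + (799 + (824 + (755 + (778 + (749 + (790 + (692 + (703))))))))))))))))))))))))))))))))))))))))))))))))))))))))))))))))))))))))))))))))))))))))))))))))))))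

theorem cntB1_grp3 : countR 1110000 370000 (traceTo LB1.2.1 LB1.2.2 LB1.1 12) = 65141 :=
  (countR_append cntB1_300 (countR_append cntB1_301 (countR_append cntB1_302 (countR_append cntB1_303 (countR_append cntB1_304 (countR_append cntB1_305 (countR_append cntB1_306 (countR_append cntB1_307 (countR_append cntB1_308 (countR_append cntB1_309 (countR_append cntB1_310 (countR_append cntB1_311 (countR_append cntB1_312 (countR_append cntB1_313 (countR_append cntB1_314 (countR_append cntB1_315 (countR_append cntB1_316 (countR_append cntB1_317 (countR_append cntB1_318 (countR_append cntB1_319 (countR_append cntB1_320 (countR_append cntB1_321 (countR_append cntB1_322 (countR_append cntB1_323 (countR_append cntB1_324 (countR_append cntB1_325 (countR_append cntB1_326 (countR_append cntB1_327 (countR_append cntB1_328 (countR_append cntB1_329 (countR_append cntB1_330 (countR_append cntB1_331 (countR_append cntB1_332 (countR_append cntB1_333 (countR_append cntB1_334 (countR_append cntB1_335 (countR_append cntB1_336 (countR_append cntB1_337 (countR_append cntB1_338 (countR_append cntB1_339 (countR_append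 cntB1_340 (countR_append cntB1_341 (countR_append cntB1_342 (countR_append cntB1_343 (countR_append cntB1_344 (countR_append cntB1_345 (countR_append cntB1_346 (countR_append cntB1_347 (countR_append cntB1_348 (countR_append cntB1_349 (countR_append cntB1_350 (countR_append cntB1_351 (countR_append cntB1_352 (countR_append cntB1_353 (countR_append cntB1_354 (countR_append cntB1_355 (countR_append cntB1_356 (countR_append cntB1_357 (countR_append cntB1_358 (countR_append cntB1_359 (countR_append cntB1_360 (countR_append cntB1_361 (countR_append cntB1_362 (countR_append cntB1_363 (countR_append cntB1_364 (countR_append cntB1_365 (countR_append cntB1_366 (countR_append cntB1_367 (countR_append cntB1_368 (countR_append cntB1_369 (countR_append cntB1_370 (countR_append cntB1_371 (countR_append cntB1_372 (countR_append cntB1_373 (countR_append cntB1_374 (countR_append cntB1_375 (countR_append cntB1_376 (countR_append cntB1_377 (countR_append cntB1_378 (countR_append cntB1_379 (countR_append cntB1_380 (countR_append cntB1_381 (countR_append cntB1_382 (countR_append cntB1_383 (countR_append cntB1_384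 (countR_append cntB1_385 (countR_append cntB1_386 (countR_append cntB1_387 (countR_append cntB1_388 (countR_append cntB1_389 (countR_append cntB1_390 (countR_append cntB1_391 (countR_append cntB1_392 (countR_append cntB1_393 (countR_append cntB1_394 (countR_append cntB1_395 (countR_append cntB1_396 (countR_append cntB1_397 (countR_append cntB1_398 (cntB1_399))))))))))))))))))))))))))))))))))))))))))))))))))))))))))))))))))))))))))))))))))))))))))))))))))) :
    countR 1110000 (3700 + (3700 + (3700 + (3700 + (3700 + (3700 + (3700 + (3700 + (3700 + (3700 + (3700 + (3700 + (3700 + (3700 + (3700 + (3700 + (3700 + (3700 + (3700 + (3700 + (3700 + (3700 + (3700 + (3700 + (3700 + (3700 + (3700 + (3700 + (3700 + (3700 + (3700 + (3700 + (3700 + (3700 + (3700 + (3700 + (3700 + (3700 + (3700 + (3700 + (3700 + (3700 + (3700 + (3700 + (3700 + (3700 + (3700 + (3700 + (3700 + (3700 + (3700 + (3700 + (3700 + (3700 + (3700 + (3700 + (3700 + (3700 + (3700 + (3700 + (3700 + (3700 + (3700 + (3700 + (3700 + (3700 + (3700 + (3700 + (3700 + (3700 + (3700 + (3700 + (3700 + (3700 + (3700 + (3700 + (3700 + (3700 + (3700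 + (3700 + (3700 + (3700 + (3700 + (3700 + (3700 + (3700 + (3700 + (3700 + (3700 + (3700 + (3700 + (3700 + (3700 + (3700 + (3700 + (3700 + (3700 + (3700 + (3700 + (3700)))))))))))))))))))))))))))))))))))))))))))))))))))))))))))))))))))))))))))))))))))))))))))))))))))) (traceTo LB1.2.1 LB1.2.2 LB1.1 12) = 761 + (762 + (892 + (893 + (877 + (762 + (788 + (843 + (791 + (674 + (798 + (743 + (737 + (896 + (734 + (781 + (717 + (756 + (766 + (714 + (847 + (774 + (802 + (793 + (834 + (776 + (901 + (884 + (899 + (850 + (781 + (945 + (865 + (957 + (342 + (298 + (276 + (298 + (366 + (436 + (476 + (598 + (526 + (605 + (562 + (551 + (548 + (630 + (569 + (620 + (550 + (648 + (534 + (542 + (551 + (590 + (634 + (658 + (586 + (644 + (599 + (599 + (575 + (620 + (665 + (570 + (529 + (589 + (561 + (616 + (613 + (636 + (558 + (682 + (588 + (650 + (560 + (601 + (544 + (529 + (604 + (642 + (531 + (571 + (607 + (592 + (559 + (567 + (593 + (609 + (539 + (675 + (603 + (659 + (647 + (612 + (565 + (605 + (602 + (644))))))))))))))))))))))))))))))))))))))))))))))))))))))))))))))))))))))))))))))))))))))))))))))))))))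

theorem cntB1_grp4 : countR 1480000 59000 (traceTo LB1.2.1 LB1.2.2 LB1.1 12) = 12782 :=
  (countR_append cntB1_400 (countR_append cntB1_401 (countR_append cntB1_402 (countR_append cntB1_403 (countR_append cntB1_404 (countR_append cntB1_405 (countR_append cntB1_406 (countR_append cntB1_407 (countR_append cntB1_408 (countR_append cntB1_409 (countR_append cntB1_410 (countR_append cntB1_411 (countR_append cntB1_412 (countR_append cntB1_413 (countR_append cntB1_414 (cntB1_415))))))))))))))) :
    countR 1480000 (3700 + (3700 + (3700 + (3700 + (3700 + (3700 + (3700 + (3700 + (3700 + (3700 + (3700 + (3700 + (3700 + (3700 + (3700 + (3500)))))))))))))))) (traceTo LB1.2.1 LB1.2.2 LB1.1 12) = 535 + (619 + (612 + (555 + (523 + (562 + (689 + (600 + (529 + (1294 + (1012 + (1312 + (904 + (1068 + (986 + (982))))))))))))))))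

/-- the number of points of the tree number 1 of the chain `B` -/
theorem lenB1 : (orbitL 1539000 LB1.2.1 LB1.2.2 LB1.1 12).length = 277200 := by
  rw [length_orbitL]
  exact (countR_append cntB1_grp0 (countR_append cntB1_grp1 (countR_append cntB1_grp2 (countR_append cntB1_grp3 (cntB1_grp4)))) :
    countR 0 (370000 + (370000 + (370000 + (370000 + (59000))))) (traceTo LB1.2.1 LB1.2.2 LB1.1 12) = 59103 + (67344 + (72830 + (65141 + (12782)))))

end Cfsg.Agent.HNOut
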