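import Cfsg.Agent.Lib.Lead.HNOut.LevB

/-! # The outer automorphism group of the Harada–Norton group: the number of points of the tree number 2 of the chain `B`, a part (generated) -/

set_option autoImplicit false
set_option maxRecDepth 100000

namespace Cfsg.Agent.HNOut

open Cfsg.Agent.PF Cfsg.Agent.Lib.Helper6 Cfsg.Agent.Lib.Helper6.TC Cfsg.Agent.Lib.Helper6.NatArr
open Cfsg.Agent.PL (Acts evalF)

theorem cntB2_25 : countR 92500 3700 (traceTo LB2.2.1 LB2.2.2 LB2.1 12) = 5 := by decide +kernel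

theorem cntB2_26 : countR 96200 3700 (traceTo LB2.2.1 LB2.2.2 LB2.1 12) = 5 := by decide +kernel

theorem cntB2_27 : countR 99900 3700 (traceTo LB2.2.1 LB2.2.2 LB2.1 12) = 1 := by decide +kernel

theorem cntB2_28 : countR 103600 3700 (traceTo LB2.2.1 LB2.2.2 LB2.1 12) = 0 := by decide +kernel

theorem cntB2_29 : countR 107300 3700 (traceTo LB2.2.1 LB2.2.2 LB2.1 12) = 1 := by decide +kernel

theorem cntB2_30 : countR 111000 3700 (traceTo LB2.2.1 LB2.2.2 LB2.1 12) = 2 := by decide +kernel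

theorem cntB2_31 : countR 114700 3700 (traceTo LB2.2.1 LB2.2.2 LB2.1 12) = 1 := by decide +kernel

theorem cntB2_32 : countR 118400 3700 (traceTo LB2.2.1 LB2.2.2 LB2.1 12) = 0 := by decide +kernel

theorem cntB2_33 : countR 122100 3700 (traceTo LB2.2.1 LB2.2.2 LB2.1 12) = 2 := by decide +kernel

theorem cntB2_34 : countR 125800 3700 (traceTo LB2.2.1 LB2.2.2 LB2.1 12) = 1 := by decide +kernel

theorem cntB2_35 : countR 129500 3700 (traceTo LB2.2.1 LB2.2.2 LB2.1 12) = 0 := by decide +kernel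

theorem cntB2_36 : countR 133200 3700 (traceTo LB2.2.1 LB2.2.2 LB2.1 12) = 2 := by decide +kernel

theorem cntB2_37 : countR 136900 3700 (traceTo LB2.2.1 LB2.2.2 LB2.1 12) = 1 := by decide +kernel

theorem cntB2_38 : countR 140600 3700 (traceTo LB2.2.1 LB2.2.2 LB2.1 12) = 2 := by decide +kernel

theorem cntB2_39 : countR 144300 3700 (traceTo LB2.2.1 LB2.2.2 LB2.1 12) = 2 := by decide +kernel

theorem cntB2_40 : countR 148000 3700 (traceTo LB2.2.1 LB2.2.2 LB2.1 12) = 2 := by decide +kernel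

theorem cntB2_41 : countR 151700 3700 (traceTo LB2.2.1 LB2.2.2 LB2.1 12) = 2 := by decide +kernel

theorem cntB2_42 : countR 155400 3700 (traceTo LB2.2.1 LB2.2.2 LB2.1 12) = 2 := by decide +kernel

theorem cntB2_43 : countR 159100 3700 (traceTo LB2.2.1 LB2.2.2 LB2.1 12) = 0 := by decide +kernel

theorem cntB2_44 : countR 162800 3700 (traceTo LB2.2.1 LB2.2.2 LB2.1 12) = 2 := by decide +kernel

theorem cntB2_45 : countR 166500 3700 (traceTo LB2.2.1 LB2.2.2 LB2.1 12) = 3 := by decide +kernel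

theorem cntB2_46 : countR 170200 3700 (traceTo LB2.2.1 LB2.2.2 LB2.1 12) = 0 := by decide +kernel

theorem cntB2_47 : countR 173900 3700 (traceTo LB2.2.1 LB2.2.2 LB2.1 12) = 1 := by decide +kernel

theorem cntB2_48 : countR 177600 3700 (traceTo LB2.2.1 LB2.2.2 LB2.1 12) = 0 := by decide +kernel

theorem cntB2_49 : countR 181300 3700 (traceTo LB2.2.1 LB2.2.2 LB2.1 12) = 0 := by decide +kernel


end Cfsg.Agent.HNOut
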