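import Cfsg.Agent.Lib.Lead.HNOut.LevB

/-! # The outer automorphism group of the Harada–Norton group: the number of points of the tree number 2 of the chain `B`, a part (generated) -/

set_option autoImplicit false
set_option maxRecDepth 100000

namespace Cfsg.Agent.HNOut

open Cfsg.Agent.PF Cfsg.Agent.Lib.Helper6 Cfsg.Agent.Lib.Helper6.TC Cfsg.Agent.Lib.Helper6.NatArr
open Cfsg.Agent.PL (Acts evalF)

theorem cntB2_250 : countR 925000 3700 (traceTo LB2.2.1 LB2.2.2 LB2.1 12) = 0 := by decide +kernel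

theorem cntB2_251 : countR 928700 3700 (traceTo LB2.2.1 LB2.2.2 LB2.1 12) = 1 := by decide +kernel

theorem cntB2_252 : countR 932400 3700 (traceTo LB2.2.1 LB2.2.2 LB2.1 12) = 3 := by decide +kernel

theorem cntB2_253 : countR 936100 3700 (traceTo LB2.2.1 LB2.2.2 LB2.1 12) = 3 := by decide +kernel

theorem cntB2_254 : countR 939800 3700 (traceTo LB2.2.1 LB2.2.2 LB2.1 12) = 1 := by decide +kernel

theorem cntB2_255 : countR 943500 3700 (traceTo LB2.2.1 LB2.2.2 LB2.1 12) = 3 := by decide +kernel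

theorem cntB2_256 : countR 947200 3700 (traceTo LB2.2.1 LB2.2.2 LB2.1 12) = 1 := by decide +kernel

theorem cntB2_257 : countR 950900 3700 (traceTo LB2.2.1 LB2.2.2 LB2.1 12) = 3 := by decide +kernel

theorem cntB2_258 : countR 954600 3700 (traceTo LB2.2.1 LB2.2.2 LB2.1 12) = 1 := by decide +kernel

theorem cntB2_259 : countR 958300 3700 (traceTo LB2.2.1 LB2.2.2 LB2.1 12) = 1 := by decide +kernel

theorem cntB2_260 : countR 962000 3700 (traceTo LB2.2.1 LB2.2.2 LB2.1 12) = 3 := by decide +kernel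

theorem cntB2_261 : countR 965700 3700 (traceTo LB2.2.1 LB2.2.2 LB2.1 12) = 1 := by decide +kernel

theorem cntB2_262 : countR 969400 3700 (traceTo LB2.2.1 LB2.2.2 LB2.1 12) = 5 := by decide +kernel

theorem cntB2_263 : countR 973100 3700 (traceTo LB2.2.1 LB2.2.2 LB2.1 12) = 2 := by decide +kernel

theorem cntB2_264 : countR 976800 3700 (traceTo LB2.2.1 LB2.2.2 LB2.1 12) = 1 := by decide +kernel

theorem cntB2_265 : countR 980500 3700 (traceTo LB2.2.1 LB2.2.2 LB2.1 12) = 2 := by decide +kernel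

theorem cntB2_266 : countR 984200 3700 (traceTo LB2.2.1 LB2.2.2 LB2.1 12) = 2 := by decide +kernel

theorem cntB2_267 : countR 987900 3700 (traceTo LB2.2.1 LB2.2.2 LB2.1 12) = 2 := by decide +kernel

theorem cntB2_268 : countR 991600 3700 (traceTo LB2.2.1 LB2.2.2 LB2.1 12) = 3 := by decide +kernel

theorem cntB2_269 : countR 995300 3700 (traceTo LB2.2.1 LB2.2.2 LB2.1 12) = 0 := by decide +kernel

theorem cntB2_270 : countR 999000 3700 (traceTo LB2.2.1 LB2.2.2 LB2.1 12) = 2 := by decide +kernel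

theorem cntB2_271 : countR 1002700 3700 (traceTo LB2.2.1 LB2.2.2 LB2.1 12) = 1 := by decide +kernel

theorem cntB2_272 : countR 1006400 3700 (traceTo LB2.2.1 LB2.2.2 LB2.1 12) = 2 := by decide +kernel

theorem cntB2_273 : countR 1010100 3700 (traceTo LB2.2.1 LB2.2.2 LB2.1 12) = 0 := by decide +kernel

theorem cntB2_274 : countR 1013800 3700 (traceTo LB2.2.1 LB2.2.2 LB2.1 12) = 2 := by decide +kernel


end Cfsg.Agent.HNOut
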