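import Cfsg.Agent.Lib.Lead.HNOut.LevB

/-! # The outer automorphism group of the Harada–Norton group: the number of points of the tree number 2 of the chain `B`, a part (generated) -/

set_option autoImplicit false
set_option maxRecDepth 100000

namespace Cfsg.Agent.HNOut

open Cfsg.Agent.PF Cfsg.Agent.Lib.Helper6 Cfsg.Agent.Lib.Helper6.TC Cfsg.Agent.Lib.Helper6.NatArr
open Cfsg.Agent.PL (Acts evalF)

theorem cntB2_275 : countR 1017500 3700 (traceTo LB2.2.1 LB2.2.2 LB2.1 12) = 1 := by decide +kernel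

theorem cntB2_276 : countR 1021200 3700 (traceTo LB2.2.1 LB2.2.2 LB2.1 12) = 2 := by decide +kernel

theorem cntB2_277 : countR 1024900 3700 (traceTo LB2.2.1 LB2.2.2 LB2.1 12) = 1 := by decide +kernel

theorem cntB2_278 : countR 1028600 3700 (traceTo LB2.2.1 LB2.2.2 LB2.1 12) = 1 := by decide +kernel

theorem cntB2_279 : countR 1032300 3700 (traceTo LB2.2.1 LB2.2.2 LB2.1 12) = 2 := by decide +kernel

theorem cntB2_280 : countR 1036000 3700 (traceTo LB2.2.1 LB2.2.2 LB2.1 12) = 2 := by decide +kernel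

theorem cntB2_281 : countR 1039700 3700 (traceTo LB2.2.1 LB2.2.2 LB2.1 12) = 1 := by decide +kernel

theorem cntB2_282 : countR 1043400 3700 (traceTo LB2.2.1 LB2.2.2 LB2.1 12) = 4 := by decide +kernel

theorem cntB2_283 : countR 1047100 3700 (traceTo LB2.2.1 LB2.2.2 LB2.1 12) = 2 := by decide +kernel

theorem cntB2_284 : countR 1050800 3700 (traceTo LB2.2.1 LB2.2.2 LB2.1 12) = 2 := by decide +kernel

theorem cntB2_285 : countR 1054500 3700 (traceTo LB2.2.1 LB2.2.2 LB2.1 12) = 1 := by decide +kernel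

theorem cntB2_286 : countR 1058200 3700 (traceTo LB2.2.1 LB2.2.2 LB2.1 12) = 3 := by decide +kernel

theorem cntB2_287 : countR 1061900 3700 (traceTo LB2.2.1 LB2.2.2 LB2.1 12) = 0 := by decide +kernel

theorem cntB2_288 : countR 1065600 3700 (traceTo LB2.2.1 LB2.2.2 LB2.1 12) = 2 := by decide +kernel

theorem cntB2_289 : countR 1069300 3700 (traceTo LB2.2.1 LB2.2.2 LB2.1 12) = 1 := by decide +kernel

theorem cntB2_290 : countR 1073000 3700 (traceTo LB2.2.1 LB2.2.2 LB2.1 12) = 2 := by decide +kernel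

theorem cntB2_291 : countR 1076700 3700 (traceTo LB2.2.1 LB2.2.2 LB2.1 12) = 0 := by decide +kernel

theorem cntB2_292 : countR 1080400 3700 (traceTo LB2.2.1 LB2.2.2 LB2.1 12) = 3 := by decide +kernel

theorem cntB2_293 : countR 1084100 3700 (traceTo LB2.2.1 LB2.2.2 LB2.1 12) = 3 := by decide +kernel

theorem cntB2_294 : countR 1087800 3700 (traceTo LB2.2.1 LB2.2.2 LB2.1 12) = 2 := by decide +kernel

theorem cntB2_295 : countR 1091500 3700 (traceTo LB2.2.1 LB2.2.2 LB2.1 12) = 1 := by decide +kernel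

theorem cntB2_296 : countR 1095200 3700 (traceTo LB2.2.1 LB2.2.2 LB2.1 12) = 2 := by decide +kernel

theorem cntB2_297 : countR 1098900 3700 (traceTo LB2.2.1 LB2.2.2 LB2.1 12) = 2 := by decide +kernel

theorem cntB2_298 : countR 1102600 3700 (traceTo LB2.2.1 LB2.2.2 LB2.1 12) = 2 := by decide +kernel

theorem cntB2_299 : countR 1106300 3700 (traceTo LB2.2.1 LB2.2.2 LB2.1 12) = 2 := by decide +kernel


end Cfsg.Agent.HNOut
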