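import Cfsg.Agent.Lib.Lead.HNOut.CntB2x0
import Cfsg.Agent.Lib.Lead.HNOut.CntB2x1
import Cfsg.Agent.Lib.Lead.HNOut.CntB2x2
import Cfsg.Agent.Lib.Lead.HNOut.CntB2x3
import Cfsg.Agent.Lib.Lead.HNOut.CntB2x4
import Cfsg.Agent.Lib.Lead.HNOut.CntB2x5
import Cfsg.Agent.Lib.Lead.HNOut.CntB2x6
import Cfsg.Agent.Lib.Lead.HNOut.CntB2x7
import Cfsg.Agent.Lib.Lead.HNOut.CntB2x8
import Cfsg.Agent.Lib.Lead.HNOut.CntB2x9
import Cfsg.Agent.Lib.Lead.HNOut.CntB2x10
import Cfsg.Agent.Lib.Lead.HNOut.CntB2x11
import Cfsg.Agent.Lib.Lead.HNOut.CntB2x12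
import Cfsg.Agent.Lib.Lead.HNOut.CntB2x13
import Cfsg.Agent.Lib.Lead.HNOut.CntB2x14
import Cfsg.Agent.Lib.Lead.HNOut.CntB2x15
import Cfsg.Agent.Lib.Lead.HNOut.CntB2x16

/-! # The outer automorphism group of the Harada–Norton group: the number of points of the tree number 2 of the chain `B` (generated) -/

set_option autoImplicit false
set_option maxRecDepth 100000

namespace Cfsg.Agent.HNOut

open Cfsg.Agent.PF Cfsg.Agent.Lib.Helper6 Cfsg.Agent.Lib.Helper6.TC Cfsg.Agent.Lib.Helper6.NatArr
open Cfsg.Agent.PL (Acts evalF)

theorem cntB2_grp0 : countR 0 370000 (traceTo LB2.2.1 LB2.2.2 LB2.1 12) = 149 :=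
  (countR_append cntB2_0 (countR_append cntB2_1 (countR_append cntB2_2 (countR_append cntB2_3 (countR_append cntB2_4 (countR_append cntB2_5 (countR_append cntB2_6 (countR_append cntB2_7 (countR_append cntB2_8 (countR_append cntB2_9 (countR_append cntB2_10 (countR_append cntB2_11 (countR_append cntB2_12 (countR_append cntB2_13 (countR_append cntB2_14 (countR_append cntB2_15 (countR_append cntB2_16 (countR_append cntB2_17 (countR_append cntB2_18 (countR_append cntB2_19 (countR_append cntB2_20 (countR_append cntB2_21 (countR_append cntB2_22 (countR_append cntB2_23 (countR_append cntB2_24 (countR_append cntB2_25 (countR_append cntB2_26 (countR_append cntB2_27 (countR_append cntB2_28 (countR_append cntB2_29 (countR_append cntB2_30 (countR_append cntB2_31 (countR_append cntB2_32 (countR_append cntB2_33 (countR_append cntB2_34 (countR_append cntB2_35 (countR_append cntB2_36 (countR_append cntB2_37 (countR_append cntB2_38 (countR_append cntB2_39 (countR_append cntB2_40 (countR_append cntB2_41 (countR_append cntB2_42 (countR_append cntB2_43 (countR_append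 cntB2_44 (countR_append cntB2_45 (countR_append cntB2_46 (countR_append cntB2_47 (countR_append cntB2_48 (countR_append cntB2_49 (countR_append cntB2_50 (countR_append cntB2_51 (countR_append cntB2_52 (countR_append cntB2_53 (countR_append cntB2_54 (countR_append cntB2_55 (countR_append cntB2_56 (countR_append cntB2_57 (countR_append cntB2_58 (countR_append cntB2_59 (countR_append cntB2_60 (countR_append cntB2_61 (countR_append cntB2_62 (countR_append cntB2_63 (countR_append cntB2_64 (countR_append cntB2_65 (countR_append cntB2_66 (countR_append cntB2_67 (countR_append cntB2_68 (countR_append cntB2_69 (countR_append cntB2_70 (countR_append cntB2_71 (countR_append cntB2_72 (countR_append cntB2_73 (countR_append cntB2_74 (countR_append cntB2_75 (countR_append cntB2_76 (countR_append cntB2_77 (countR_append cntB2_78 (countR_append cntB2_79 (countR_append cntB2_80 (countR_append cntB2_81 (countR_append cntB2_82 (countR_append cntB2_83 (countR_append cntB2_84 (countR_append cntB2_85 (countR_append cntB2_86 (countR_append cntB2_87 (countR_append cntB2_88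 (countR_append cntB2_89 (countR_append cntB2_90 (countR_append cntB2_91 (countR_append cntB2_92 (countR_append cntB2_93 (countR_append cntB2_94 (countR_append cntB2_95 (countR_append cntB2_96 (countR_append cntB2_97 (countR_append cntB2_98 (cntB2_99))))))))))))))))))))))))))))))))))))))))))))))))))))))))))))))))))))))))))))))))))))))))))))))))))) :
    countR 0 (3700 + (3700 + (3700 + (3700 + (3700 + (3700 + (3700 + (3700 + (3700 + (3700 + (3700 + (3700 + (3700 + (3700 + (3700 + (3700 + (3700 + (3700 + (3700 + (3700 + (3700 + (3700 + (3700 + (3700 + (3700 + (3700 + (3700 + (3700 + (3700 + (3700 + (3700 + (3700 + (3700 + (3700 + (3700 + (3700 + (3700 + (3700 + (3700 + (3700 + (3700 + (3700 + (3700 + (3700 + (3700 + (3700 + (3700 + (3700 + (3700 + (3700 + (3700 + (3700 + (3700 + (3700 + (3700 + (3700 + (3700 + (3700 + (3700 + (3700 + (3700 + (3700 + (3700 + (3700 + (3700 + (3700 + (3700 + (3700 + (3700 + (3700 + (3700 + (3700 + (3700 + (3700 + (3700 + (3700 + (3700 + (3700 + (3700 + (3700 + (3700 + (3700 + (3700 + (3700 + (3700 + (3700 + (3700 + (3700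 + (3700 + (3700 + (3700 + (3700 + (3700 + (3700 + (3700 + (3700 + (3700 + (3700 + (3700 + (3700)))))))))))))))))))))))))))))))))))))))))))))))))))))))))))))))))))))))))))))))))))))))))))))))))))) (traceTo LB2.2.1 LB2.2.2 LB2.1 12) = 3 + (2 + (4 + (2 + (4 + (2 + (1 + (0 + (1 + (1 + (0 + (1 + (0 + (0 + (0 + (2 + (1 + (3 + (2 + (0 + (3 + (1 + (1 + (0 + (0 + (5 + (5 + (1 + (0 + (1 + (2 + (1 + (0 + (2 + (1 + (0 + (2 + (1 + (2 + (2 + (2 + (2 + (2 + (0 + (2 + (3 + (0 + (1 + (0 + (0 + (0 + (2 + (2 + (2 + (3 + (1 + (2 + (1 + (3 + (0 + (1 + (2 + (1 + (1 + (0 + (2 + (0 + (1 + (1 + (0 + (0 + (0 + (4 + (1 + (0 + (1 + (1 + (2 + (1 + (1 + (0 + (1 + (4 + (1 + (1 + (3 + (1 + (1 + (1 + (6 + (2 + (3 + (3 + (1 + (1 + (2 + (1 + (3 + (3 + (4))))))))))))))))))))))))))))))))))))))))))))))))))))))))))))))))))))))))))))))))))))))))))))))))))))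

theorem cntB2_grp1 : countR 370000 370000 (traceTo LB2.2.1 LB2.2.2 LB2.1 12) = 170 :=
  (countR_append cntB2_100 (countR_append cntB2_101 (countR_append cntB2_102 (countR_append cntB2_103 (countR_append cntB2_104 (countR_append cntB2_105 (countR_append cntB2_106 (countR_append cntB2_107 (countR_append cntB2_108 (countR_append cntB2_109 (countR_append cntB2_110 (countR_append cntB2_111 (countR_append cntB2_112 (countR_append cntB2_113 (countR_append cntB2_114 (countR_append cntB2_115 (countR_append cntB2_116 (countR_append cntB2_117 (countR_append cntB2_118 (countR_append cntB2_119 (countR_append cntB2_120 (countR_append cntB2_121 (countR_append cntB2_122 (countR_append cntB2_123 (countR_append cntB2_124 (countR_append cntB2_125 (countR_append cntB2_126 (countR_append cntB2_127 (countR_append cntB2_128 (countR_append cntB2_129 (countR_append cntB2_130 (countR_append cntB2_131 (countR_append cntB2_132 (countR_append cntB2_133 (countR_append cntB2_134 (countR_append cntB2_135 (countR_append cntB2_136 (countR_append cntB2_137 (countR_append cntB2_138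 (countR_append cntB2_139 (countR_append cntB2_140 (countR_append cntB2_141 (countR_append cntB2_142 (countR_append cntB2_143 (countR_append cntB2_144 (countR_append cntB2_145 (countR_append cntB2_146 (countR_append cntB2_147 (countR_append cntB2_148 (countR_append cntB2_149 (countR_append cntB2_150 (countR_append cntB2_151 (countR_append cntB2_152 (countR_append cntB2_153 (countR_append cntB2_154 (countR_append cntB2_155 (countR_append cntB2_156 (countR_append cntB2_157 (countR_append cntB2_158 (countR_append cntB2_159 (countR_append cntB2_160 (countR_append cntB2_161 (countR_append cntB2_162 (countR_append cntB2_163 (countR_append cntB2_164 (countR_append cntB2_165 (countR_append cntB2_166 (countR_append cntB2_167 (countR_append cntB2_168 (countR_append cntB2_169 (countR_append cntB2_170 (countR_append cntB2_171 (countR_append cntB2_172 (countR_append cntB2_173 (countR_append cntB2_174 (countR_append cntB2_175 (countR_append cntB2_176 (countR_append cntB2_177 (countR_append cntB2_178 (countR_append cntB2_179 (countR_append cntB2_180 (countR_append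 cntB2_181 (countR_append cntB2_182 (countR_append cntB2_183 (countR_append cntB2_184 (countR_append cntB2_185 (countR_append cntB2_186 (countR_append cntB2_187 (countR_append cntB2_188 (countR_append cntB2_189 (countR_append cntB2_190 (countR_append cntB2_191 (countR_append cntB2_192 (countR_append cntB2_193 (countR_append cntB2_194 (countR_append cntB2_195 (countR_append cntB2_196 (countR_append cntB2_197 (countR_append cntB2_198 (cntB2_199))))))))))))))))))))))))))))))))))))))))))))))))))))))))))))))))))))))))))))))))))))))))))))))))))) :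
    countR 370000 (3700 + (3700 + (3700 + (3700 + (3700 + (3700 + (3700 + (3700 + (3700 + (3700 + (3700 + (3700 + (3700 + (3700 + (3700 + (3700 + (3700 + (3700 + (3700 + (3700 + (3700 + (3700 + (3700 + (3700 + (3700 + (3700 + (3700 + (3700 + (3700 + (3700 + (3700 + (3700 + (3700 + (3700 + (3700 + (3700 + (3700 + (3700 + (3700 + (3700 + (3700 + (3700 + (3700 + (3700 + (3700 + (3700 + (3700 + (3700 + (3700 + (3700 + (3700 + (3700 + (3700 + (3700 + (3700 + (3700 + (3700 + (3700 + (3700 + (3700 + (3700 + (3700 + (3700 + (3700 + (3700 + (3700 + (3700 + (3700 + (3700 + (3700 + (3700 + (3700 + (3700 + (3700 + (3700 + (3700 + (3700 + (3700 + (3700 + (3700 + (3700 + (3700 + (3700 + (3700 + (3700 + (3700 + (3700 + (3700 + (3700 + (3700 + (3700 + (3700 + (3700 + (3700 + (3700 + (3700 + (3700 + (3700 + (3700 + (3700)))))))))))))))))))))))))))))))))))))))))))))))))))))))))))))))))))))))))))))))))))))))))))))))))))) (traceTo LB2.2.1 LB2.2.2 LB2.1 12) = 1 + (3 + (2 + (0 + (2 + (3 + (3 + (1 + (0 + (1 + (0 + (0 + (1 + (2 + (2 + (2 + (2 + (2 + (1 + (2 + (2 + (3 +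 (0 + (1 + (2 + (1 + (0 + (1 + (1 + (4 + (2 + (2 + (1 + (0 + (1 + (2 + (2 + (1 + (2 + (1 + (4 + (1 + (3 + (0 + (3 + (1 + (3 + (0 + (3 + (3 + (5 + (1 + (1 + (2 + (1 + (1 + (3 + (1 + (1 + (2 + (1 + (3 + (3 + (3 + (3 + (1 + (1 + (1 + (2 + (1 + (2 + (1 + (0 + (0 + (2 + (2 + (2 + (2 + (4 + (0 + (1 + (1 + (2 + (1 + (2 + (4 + (3 + (3 + (3 + (4 + (1 + (1 + (3 + (1 + (2 + (2 + (0 + (1 + (1 + (2))))))))))))))))))))))))))))))))))))))))))))))))))))))))))))))))))))))))))))))))))))))))))))))))))))

theorem cntB2_grp2 : countR 740000 370000 (traceTo LB2.2.1 LB2.2.2 LB2.1 12) = 165 :=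
  (countR_append cntB2_200 (countR_append cntB2_201 (countR_append cntB2_202 (countR_append cntB2_203 (countR_append cntB2_204 (countR_append cntB2_205 (countR_append cntB2_206 (countR_append cntB2_207 (countR_append cntB2_208 (countR_append cntB2_209 (countR_append cntB2_210 (countR_append cntB2_211 (countR_append cntB2_212 (countR_append cntB2_213 (countR_append cntB2_214 (countR_append cntB2_215 (countR_append cntB2_216 (countR_append cntB2_217 (countR_append cntB2_218 (countR_append cntB2_219 (countR_append cntB2_220 (countR_append cntB2_221 (countR_append cntB2_222 (countR_append cntB2_223 (countR_append cntB2_224 (countR_append cntB2_225 (countR_append cntB2_226 (countR_append cntB2_227 (countR_append cntB2_228 (countR_append cntB2_229 (countR_append cntB2_230 (countR_append cntB2_231 (countR_append cntB2_232 (countR_append cntB2_233 (countR_append cntB2_234 (countR_append cntB2_235 (countR_append cntB2_236 (countR_append cntB2_237 (countR_append cntB2_238 (countR_append cntB2_239 (countR_append cntB2_240 (countR_append cntB2_241 (countR_append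 cntB2_242 (countR_append cntB2_243 (countR_append cntB2_244 (countR_append cntB2_245 (countR_append cntB2_246 (countR_append cntB2_247 (countR_append cntB2_248 (countR_append cntB2_249 (countR_append cntB2_250 (countR_append cntB2_251 (countR_append cntB2_252 (countR_append cntB2_253 (countR_append cntB2_254 (countR_append cntB2_255 (countR_append cntB2_256 (countR_append cntB2_257 (countR_append cntB2_258 (countR_append cntB2_259 (countR_append cntB2_260 (countR_append cntB2_261 (countR_append cntB2_262 (countR_append cntB2_263 (countR_append cntB2_264 (countR_append cntB2_265 (countR_append cntB2_266 (countR_append cntB2_267 (countR_append cntB2_268 (countR_append cntB2_269 (countR_append cntB2_270 (countR_append cntB2_271 (countR_append cntB2_272 (countR_append cntB2_273 (countR_append cntB2_274 (countR_append cntB2_275 (countR_append cntB2_276 (countR_append cntB2_277 (countR_append cntB2_278 (countR_append cntB2_279 (countR_append cntB2_280 (countR_append cntB2_281 (countR_append cntB2_282 (countR_append cntB2_283 (countR_append cntB2_284 (countR_append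 cntB2_285 (countR_append cntB2_286 (countR_append cntB2_287 (countR_append cntB2_288 (countR_append cntB2_289 (countR_append cntB2_290 (countR_append cntB2_291 (countR_append cntB2_292 (countR_append cntB2_293 (countR_append cntB2_294 (countR_append cntB2_295 (countR_append cntB2_296 (countR_append cntB2_297 (countR_append cntB2_298 (cntB2_299))))))))))))))))))))))))))))))))))))))))))))))))))))))))))))))))))))))))))))))))))))))))))))))))))) :
    countR 740000 (3700 + (3700 + (3700 + (3700 + (3700 + (3700 + (3700 + (3700 + (3700 + (3700 + (3700 + (3700 + (3700 + (3700 + (3700 + (3700 + (3700 + (3700 + (3700 + (3700 + (3700 + (3700 + (3700 + (3700 + (3700 + (3700 + (3700 + (3700 + (3700 + (3700 + (3700 + (3700 + (3700 + (3700 + (3700 + (3700 + (3700 + (3700 + (3700 + (3700 + (3700 + (3700 + (3700 + (3700 + (3700 + (3700 + (3700 + (3700 + (3700 + (3700 + (3700 + (3700 + (3700 + (3700 + (3700 + (3700 + (3700 + (3700 + (3700 + (3700 + (3700 + (3700 + (3700 + (3700 + (3700 + (3700 + (3700 + (3700 + (3700 + (3700 + (3700 + (3700 + (3700 + (3700 + (3700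 + (3700 + (3700 + (3700 + (3700 + (3700 + (3700 + (3700 + (3700 + (3700 + (3700 + (3700 + (3700 + (3700 + (3700 + (3700 + (3700 + (3700 + (3700 + (3700 + (3700 + (3700 + (3700 + (3700 + (3700 + (3700)))))))))))))))))))))))))))))))))))))))))))))))))))))))))))))))))))))))))))))))))))))))))))))))))))) (traceTo LB2.2.1 LB2.2.2 LB2.1 12) = 0 + (1 + (1 + (1 + (3 + (2 + (1 + (1 + (0 + (4 + (0 + (1 + (1 + (1 + (1 + (1 + (1 + (2 + (1 + (2 + (2 + (0 + (2 + (2 + (1 + (1 + (1 + (1 + (4 + (4 + (2 + (0 + (1 + (2 + (4 + (4 + (4 + (1 + (1 + (1 + (3 + (0 + (2 + (2 + (0 + (0 + (3 + (1 + (1 + (1 + (0 + (1 + (3 + (3 + (1 + (3 + (1 + (3 + (1 + (1 + (3 + (1 + (5 + (2 + (1 + (2 + (2 + (2 + (3 + (0 + (2 + (1 + (2 + (0 + (2 + (1 + (2 + (1 + (1 + (2 + (2 + (1 + (4 + (2 + (2 + (1 + (3 + (0 + (2 + (1 + (2 + (0 + (3 + (3 + (2 + (1 + (2 + (2 + (2 + (2))))))))))))))))))))))))))))))))))))))))))))))))))))))))))))))))))))))))))))))))))))))))))))))))))))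

theorem cntB2_grp3 : countR 1110000 370000 (traceTo LB2.2.1 LB2.2.2 LB2.1 12) = 124 :=
  (countR_append cntB2_300 (countR_append cntB2_301 (countR_append cntB2_302 (countR_append cntB2_303 (countR_append cntB2_304 (countR_append cntB2_305 (countR_append cntB2_306 (countR_append cntB2_307 (countR_append cntB2_308 (countR_append cntB2_309 (countR_append cntB2_310 (countR_append cntB2_311 (countR_append cntB2_312 (countR_append cntB2_313 (countR_append cntB2_314 (countR_append cntB2_315 (countR_append cntB2_316 (countR_append cntB2_317 (countR_append cntB2_318 (countR_append cntB2_319 (countR_append cntB2_320 (countR_append cntB2_321 (countR_append cntB2_322 (countR_append cntB2_323 (countR_append cntB2_324 (countR_append cntB2_325 (countR_append cntB2_326 (countR_append cntB2_327 (countR_append cntB2_328 (countR_append cntB2_329 (countR_append cntB2_330 (countR_append cntB2_331 (countR_append cntB2_332 (countR_append cntB2_333 (countR_append cntB2_334 (countR_append cntB2_335 (countR_append cntB2_336 (countR_append cntB2_337 (countR_append cntB2_338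 (countR_append cntB2_339 (countR_append cntB2_340 (countR_append cntB2_341 (countR_append cntB2_342 (countR_append cntB2_343 (countR_append cntB2_344 (countR_append cntB2_345 (countR_append cntB2_346 (countR_append cntB2_347 (countR_append cntB2_348 (countR_append cntB2_349 (countR_append cntB2_350 (countR_append cntB2_351 (countR_append cntB2_352 (countR_append cntB2_353 (countR_append cntB2_354 (countR_append cntB2_355 (countR_append cntB2_356 (countR_append cntB2_357 (countR_append cntB2_358 (countR_append cntB2_359 (countR_append cntB2_360 (countR_append cntB2_361 (countR_append cntB2_362 (countR_append cntB2_363 (countR_append cntB2_364 (countR_append cntB2_365 (countR_append cntB2_366 (countR_append cntB2_367 (countR_append cntB2_368 (countR_append cntB2_369 (countR_append cntB2_370 (countR_append cntB2_371 (countR_append cntB2_372 (countR_append cntB2_373 (countR_append cntB2_374 (countR_append cntB2_375 (countR_append cntB2_376 (countR_append cntB2_377 (countR_append cntB2_378 (countR_append cntB2_379 (countR_append cntB2_380 (countR_append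 cntB2_381 (countR_append cntB2_382 (countR_append cntB2_383 (countR_append cntB2_384 (countR_append cntB2_385 (countR_append cntB2_386 (countR_append cntB2_387 (countR_append cntB2_388 (countR_append cntB2_389 (countR_append cntB2_390 (countR_append cntB2_391 (countR_append cntB2_392 (countR_append cntB2_393 (countR_append cntB2_394 (countR_append cntB2_395 (countR_append cntB2_396 (countR_append cntB2_397 (countR_append cntB2_398 (cntB2_399))))))))))))))))))))))))))))))))))))))))))))))))))))))))))))))))))))))))))))))))))))))))))))))))))) :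
    countR 1110000 (3700 + (3700 + (3700 + (3700 + (3700 + (3700 + (3700 + (3700 + (3700 + (3700 + (3700 + (3700 + (3700 + (3700 + (3700 + (3700 + (3700 + (3700 + (3700 + (3700 + (3700 + (3700 + (3700 + (3700 + (3700 + (3700 + (3700 + (3700 + (3700 + (3700 + (3700 + (3700 + (3700 + (3700 + (3700 + (3700 + (3700 + (3700 + (3700 + (3700 + (3700 + (3700 + (3700 + (3700 + (3700 + (3700 + (3700 + (3700 + (3700 + (3700 + (3700 + (3700 + (3700 + (3700 + (3700 + (3700 + (3700 + (3700 + (3700 + (3700 + (3700 + (3700 + (3700 + (3700 + (3700 + (3700 + (3700 + (3700 + (3700 + (3700 + (3700 + (3700 + (3700 + (3700 + (3700 + (3700 + (3700 + (3700 + (3700 + (3700 + (3700 + (3700 + (3700 + (3700 + (3700 + (3700 + (3700 + (3700 + (3700 + (3700 + (3700 + (3700 + (3700 + (3700 + (3700 + (3700 + (3700 + (3700 + (3700 + (3700)))))))))))))))))))))))))))))))))))))))))))))))))))))))))))))))))))))))))))))))))))))))))))))))))))) (traceTo LB2.2.1 LB2.2.2 LB2.1 12) = 0 + (3 + (2 + (2 + (1 + (1 + (3 + (1 + (0 + (0 + (2 + (4 + (3 + (1 + (2 + (3 + (2 + (2 + (2 + (3 + (1 + (1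 + (1 + (3 + (3 + (0 + (0 + (1 + (0 + (0 + (2 + (1 + (1 + (1 + (2 + (0 + (0 + (1 + (1 + (0 + (0 + (2 + (1 + (0 + (3 + (0 + (1 + (1 + (0 + (2 + (1 + (1 + (0 + (0 + (3 + (1 + (1 + (2 + (1 + (0 + (0 + (2 + (1 + (0 + (1 + (2 + (2 + (4 + (3 + (2 + (3 + (1 + (1 + (1 + (0 + (1 + (1 + (1 + (0 + (4 + (1 + (1 + (0 + (1 + (2 + (0 + (0 + (2 + (2 + (2 + (0 + (0 + (1 + (0 + (0 + (1 + (1 + (1 + (0 + (3))))))))))))))))))))))))))))))))))))))))))))))))))))))))))))))))))))))))))))))))))))))))))))))))))))

theorem cntB2_grp4 : countR 1480000 59000 (traceTo LB2.2.1 LB2.2.2 LB2.1 12) = 32 :=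
  (countR_append cntB2_400 (countR_append cntB2_401 (countR_append cntB2_402 (countR_append cntB2_403 (countR_append cntB2_404 (countR_append cntB2_405 (countR_append cntB2_406 (countR_append cntB2_407 (countR_append cntB2_408 (countR_append cntB2_409 (countR_append cntB2_410 (countR_append cntB2_411 (countR_append cntB2_412 (countR_append cntB2_413 (countR_append cntB2_414 (cntB2_415))))))))))))))) :
    countR 1480000 (3700 + (3700 + (3700 + (3700 + (3700 + (3700 + (3700 + (3700 + (3700 + (3700 + (3700 + (3700 + (3700 + (3700 + (3700 + (3500)))))))))))))))) (traceTo LB2.2.1 LB2.2.2 LB2.1 12) = 1 + (1 + (2 + (0 + (3 + (2 + (1 + (2 + (2 + (2 + (2 + (2 + (6 + (2 + (2 + (2))))))))))))))))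

/-- the number of points of the tree number 2 of the chain `B` -/
theorem lenB2 : (orbitL 1539000 LB2.2.1 LB2.2.2 LB2.1 12).length = 640 := by
  rw [length_orbitL]
  exact (countR_append cntB2_grp0 (countR_append cntB2_grp1 (countR_append cntB2_grp2 (countR_append cntB2_grp3 (cntB2_grp4)))) :
    countR 0 (370000 + (370000 + (370000 + (370000 + (59000))))) (traceTo LB2.2.1 LB2.2.2 LB2.1 12) = 149 + (170 + (165 + (124 + (32)))))

end Cfsg.Agent.HNOut
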