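import Cfsg.Agent.Lib.Lead.HNOut.LevB

/-! # The outer automorphism group of the Harada–Norton group: the number of points of the tree number 0 of the chain `B`, a part (generated) -/

set_option autoImplicit false
set_option maxRecDepth 100000

namespace Cfsg.Agent.HNOut

open Cfsg.Agent.PF Cfsg.Agent.Lib.Helper6 Cfsg.Agent.Lib.Helper6.TC Cfsg.Agent.Lib.Helper6.NatArr
open Cfsg.Agent.PL (Acts evalF)

theorem cntB0_25 : countR 104000 4160 (traceTo LB0.2.1 LB0.2.2 LB0.1 12) = 4160 := by decide +kernel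

theorem cntB0_26 : countR 108160 4160 (traceTo LB0.2.1 LB0.2.2 LB0.1 12) = 4160 := by decide +kernel

theorem cntB0_27 : countR 112320 4160 (traceTo LB0.2.1 LB0.2.2 LB0.1 12) = 4160 := by decide +kernel

theorem cntB0_28 : countR 116480 4160 (traceTo LB0.2.1 LB0.2.2 LB0.1 12) = 4160 := by decide +kernel

theorem cntB0_29 : countR 120640 4160 (traceTo LB0.2.1 LB0.2.2 LB0.1 12) = 4160 := by decide +kernel

theorem cntB0_30 : countR 124800 4160 (traceTo LB0.2.1 LB0.2.2 LB0.1 12) = 4160 := by decide +kernel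

theorem cntB0_31 : countR 128960 4160 (traceTo LB0.2.1 LB0.2.2 LB0.1 12) = 4160 := by decide +kernel

theorem cntB0_32 : countR 133120 4160 (traceTo LB0.2.1 LB0.2.2 LB0.1 12) = 4160 := by decide +kernel

theorem cntB0_33 : countR 137280 4160 (traceTo LB0.2.1 LB0.2.2 LB0.1 12) = 4160 := by decide +kernel

theorem cntB0_34 : countR 141440 4160 (traceTo LB0.2.1 LB0.2.2 LB0.1 12) = 4160 := by decide +kernel

theorem cntB0_35 : countR 145600 4160 (traceTo LB0.2.1 LB0.2.2 LB0.1 12) = 4160 := by decide +kernel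

theorem cntB0_36 : countR 149760 4160 (traceTo LB0.2.1 LB0.2.2 LB0.1 12) = 4160 := by decide +kernel

theorem cntB0_37 : countR 153920 4160 (traceTo LB0.2.1 LB0.2.2 LB0.1 12) = 4160 := by decide +kernel

theorem cntB0_38 : countR 158080 4160 (traceTo LB0.2.1 LB0.2.2 LB0.1 12) = 4160 := by decide +kernel

theorem cntB0_39 : countR 162240 4160 (traceTo LB0.2.1 LB0.2.2 LB0.1 12) = 4160 := by decide +kernel

theorem cntB0_40 : countR 166400 4160 (traceTo LB0.2.1 LB0.2.2 LB0.1 12) = 4160 := by decide +kernel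

theorem cntB0_41 : countR 170560 4160 (traceTo LB0.2.1 LB0.2.2 LB0.1 12) = 4160 := by decide +kernel

theorem cntB0_42 : countR 174720 4160 (traceTo LB0.2.1 LB0.2.2 LB0.1 12) = 4160 := by decide +kernel

theorem cntB0_43 : countR 178880 4160 (traceTo LB0.2.1 LB0.2.2 LB0.1 12) = 4160 := by decide +kernel

theorem cntB0_44 : countR 183040 4160 (traceTo LB0.2.1 LB0.2.2 LB0.1 12) = 4160 := by decide +kernel

theorem cntB0_45 : countR 187200 4160 (traceTo LB0.2.1 LB0.2.2 LB0.1 12) = 4160 := by decide +kernel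

theorem cntB0_46 : countR 191360 4160 (traceTo LB0.2.1 LB0.2.2 LB0.1 12) = 4160 := by decide +kernel

theorem cntB0_47 : countR 195520 4160 (traceTo LB0.2.1 LB0.2.2 LB0.1 12) = 4160 := by decide +kernel

theorem cntB0_48 : countR 199680 4160 (traceTo LB0.2.1 LB0.2.2 LB0.1 12) = 4160 := by decide +kernel

theorem cntB0_49 : countR 203840 4160 (traceTo LB0.2.1 LB0.2.2 LB0.1 12) = 4160 := by decide +kernel


end Cfsg.Agent.HNOut
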