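import Cfsg.Agent.Lib.Lead.HNOut.LevB

/-! # The outer automorphism group of the Harada–Norton group: the number of points of the tree number 0 of the chain `B`, a part (generated) -/

set_option autoImplicit false
set_option maxRecDepth 100000

namespace Cfsg.Agent.HNOut

open Cfsg.Agent.PF Cfsg.Agent.Lib.Helper6 Cfsg.Agent.Lib.Helper6.TC Cfsg.Agent.Lib.Helper6.NatArr
open Cfsg.Agent.PL (Acts evalF)

theorem cntB0_250 : countR 1040000 4160 (traceTo LB0.2.1 LB0.2.2 LB0.1 12) = 4160 := by decide +kernel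

theorem cntB0_251 : countR 1044160 4160 (traceTo LB0.2.1 LB0.2.2 LB0.1 12) = 4160 := by decide +kernel

theorem cntB0_252 : countR 1048320 4160 (traceTo LB0.2.1 LB0.2.2 LB0.1 12) = 4160 := by decide +kernel

theorem cntB0_253 : countR 1052480 4160 (traceTo LB0.2.1 LB0.2.2 LB0.1 12) = 4160 := by decide +kernel

theorem cntB0_254 : countR 1056640 4160 (traceTo LB0.2.1 LB0.2.2 LB0.1 12) = 4160 := by decide +kernel

theorem cntB0_255 : countR 1060800 4160 (traceTo LB0.2.1 LB0.2.2 LB0.1 12) = 4160 := by decide +kernel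

theorem cntB0_256 : countR 1064960 4160 (traceTo LB0.2.1 LB0.2.2 LB0.1 12) = 4160 := by decide +kernel

theorem cntB0_257 : countR 1069120 4160 (traceTo LB0.2.1 LB0.2.2 LB0.1 12) = 4160 := by decide +kernel

theorem cntB0_258 : countR 1073280 4160 (traceTo LB0.2.1 LB0.2.2 LB0.1 12) = 4160 := by decide +kernel

theorem cntB0_259 : countR 1077440 4160 (traceTo LB0.2.1 LB0.2.2 LB0.1 12) = 4160 := by decide +kernel

theorem cntB0_260 : countR 1081600 4160 (traceTo LB0.2.1 LB0.2.2 LB0.1 12) = 4160 := by decide +kernel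

theorem cntB0_261 : countR 1085760 4160 (traceTo LB0.2.1 LB0.2.2 LB0.1 12) = 4160 := by decide +kernel

theorem cntB0_262 : countR 1089920 4160 (traceTo LB0.2.1 LB0.2.2 LB0.1 12) = 4160 := by decide +kernel

theorem cntB0_263 : countR 1094080 4160 (traceTo LB0.2.1 LB0.2.2 LB0.1 12) = 4160 := by decide +kernel

theorem cntB0_264 : countR 1098240 4160 (traceTo LB0.2.1 LB0.2.2 LB0.1 12) = 4160 := by decide +kernel

theorem cntB0_265 : countR 1102400 4160 (traceTo LB0.2.1 LB0.2.2 LB0.1 12) = 4160 := by decide +kernel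

theorem cntB0_266 : countR 1106560 4160 (traceTo LB0.2.1 LB0.2.2 LB0.1 12) = 4160 := by decide +kernel

theorem cntB0_267 : countR 1110720 4160 (traceTo LB0.2.1 LB0.2.2 LB0.1 12) = 4160 := by decide +kernel

theorem cntB0_268 : countR 1114880 4160 (traceTo LB0.2.1 LB0.2.2 LB0.1 12) = 4160 := by decide +kernel

theorem cntB0_269 : countR 1119040 4160 (traceTo LB0.2.1 LB0.2.2 LB0.1 12) = 4160 := by decide +kernel

theorem cntB0_270 : countR 1123200 4160 (traceTo LB0.2.1 LB0.2.2 LB0.1 12) = 4160 := by decide +kernel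

theorem cntB0_271 : countR 1127360 4160 (traceTo LB0.2.1 LB0.2.2 LB0.1 12) = 4160 := by decide +kernel

theorem cntB0_272 : countR 1131520 4160 (traceTo LB0.2.1 LB0.2.2 LB0.1 12) = 4160 := by decide +kernel

theorem cntB0_273 : countR 1135680 4160 (traceTo LB0.2.1 LB0.2.2 LB0.1 12) = 4160 := by decide +kernel

theorem cntB0_274 : countR 1139840 4160 (traceTo LB0.2.1 LB0.2.2 LB0.1 12) = 4160 := by decide +kernel


end Cfsg.Agent.HNOut
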