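import Cfsg.Agent.Lib.Lead.HNOut.LevB

/-! # The outer automorphism group of the Harada–Norton group: the number of points of the tree number 0 of the chain `B`, a part (generated) -/

set_option autoImplicit false
set_option maxRecDepth 100000

namespace Cfsg.Agent.HNOut

open Cfsg.Agent.PF Cfsg.Agent.Lib.Helper6 Cfsg.Agent.Lib.Helper6.TC Cfsg.Agent.Lib.Helper6.NatArr
open Cfsg.Agent.PL (Acts evalF)

theorem cntB0_275 : countR 1144000 4160 (traceTo LB0.2.1 LB0.2.2 LB0.1 12) = 4160 := by decide +kernel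

theorem cntB0_276 : countR 1148160 4160 (traceTo LB0.2.1 LB0.2.2 LB0.1 12) = 4160 := by decide +kernel

theorem cntB0_277 : countR 1152320 4160 (traceTo LB0.2.1 LB0.2.2 LB0.1 12) = 4160 := by decide +kernel

theorem cntB0_278 : countR 1156480 4160 (traceTo LB0.2.1 LB0.2.2 LB0.1 12) = 4160 := by decide +kernel

theorem cntB0_279 : countR 1160640 4160 (traceTo LB0.2.1 LB0.2.2 LB0.1 12) = 4160 := by decide +kernel

theorem cntB0_280 : countR 1164800 4160 (traceTo LB0.2.1 LB0.2.2 LB0.1 12) = 4160 := by decide +kernel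

theorem cntB0_281 : countR 1168960 4160 (traceTo LB0.2.1 LB0.2.2 LB0.1 12) = 4160 := by decide +kernel

theorem cntB0_282 : countR 1173120 4160 (traceTo LB0.2.1 LB0.2.2 LB0.1 12) = 4160 := by decide +kernel

theorem cntB0_283 : countR 1177280 4160 (traceTo LB0.2.1 LB0.2.2 LB0.1 12) = 4160 := by decide +kernel

theorem cntB0_284 : countR 1181440 4160 (traceTo LB0.2.1 LB0.2.2 LB0.1 12) = 4160 := by decide +kernel

theorem cntB0_285 : countR 1185600 4160 (traceTo LB0.2.1 LB0.2.2 LB0.1 12) = 4160 := by decide +kernel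

theorem cntB0_286 : countR 1189760 4160 (traceTo LB0.2.1 LB0.2.2 LB0.1 12) = 4160 := by decide +kernel

theorem cntB0_287 : countR 1193920 4160 (traceTo LB0.2.1 LB0.2.2 LB0.1 12) = 4160 := by decide +kernel

theorem cntB0_288 : countR 1198080 4160 (traceTo LB0.2.1 LB0.2.2 LB0.1 12) = 4160 := by decide +kernel

theorem cntB0_289 : countR 1202240 4160 (traceTo LB0.2.1 LB0.2.2 LB0.1 12) = 4160 := by decide +kernel

theorem cntB0_290 : countR 1206400 4160 (traceTo LB0.2.1 LB0.2.2 LB0.1 12) = 4160 := by decide +kernel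

theorem cntB0_291 : countR 1210560 4160 (traceTo LB0.2.1 LB0.2.2 LB0.1 12) = 4160 := by decide +kernel

theorem cntB0_292 : countR 1214720 4160 (traceTo LB0.2.1 LB0.2.2 LB0.1 12) = 4160 := by decide +kernel

theorem cntB0_293 : countR 1218880 4160 (traceTo LB0.2.1 LB0.2.2 LB0.1 12) = 4160 := by decide +kernel

theorem cntB0_294 : countR 1223040 4160 (traceTo LB0.2.1 LB0.2.2 LB0.1 12) = 4160 := by decide +kernel

theorem cntB0_295 : countR 1227200 4160 (traceTo LB0.2.1 LB0.2.2 LB0.1 12) = 4160 := by decide +kernel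

theorem cntB0_296 : countR 1231360 4160 (traceTo LB0.2.1 LB0.2.2 LB0.1 12) = 4160 := by decide +kernel

theorem cntB0_297 : countR 1235520 4160 (traceTo LB0.2.1 LB0.2.2 LB0.1 12) = 4160 := by decide +kernel

theorem cntB0_298 : countR 1239680 4160 (traceTo LB0.2.1 LB0.2.2 LB0.1 12) = 4160 := by decide +kernel

theorem cntB0_299 : countR 1243840 4160 (traceTo LB0.2.1 LB0.2.2 LB0.1 12) = 4160 := by decide +kernel


end Cfsg.Agent.HNOut
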