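import Cfsg.Agent.Lib.Lead.HNOut.LevB

/-! # The outer automorphism group of the Harada–Norton group: the number of points of the tree number 0 of the chain `B`, a part (generated) -/

set_option autoImplicit false
set_option maxRecDepth 100000

namespace Cfsg.Agent.HNOut

open Cfsg.Agent.PF Cfsg.Agent.Lib.Helper6 Cfsg.Agent.Lib.Helper6.TC Cfsg.Agent.Lib.Helper6.NatArr
open Cfsg.Agent.PL (Acts evalF)

theorem cntB0_300 : countR 1248000 4160 (traceTo LB0.2.1 LB0.2.2 LB0.1 12) = 4160 := by decide +kernel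

theorem cntB0_301 : countR 1252160 4160 (traceTo LB0.2.1 LB0.2.2 LB0.1 12) = 4160 := by decide +kernel

theorem cntB0_302 : countR 1256320 4160 (traceTo LB0.2.1 LB0.2.2 LB0.1 12) = 4160 := by decide +kernel

theorem cntB0_303 : countR 1260480 4160 (traceTo LB0.2.1 LB0.2.2 LB0.1 12) = 4160 := by decide +kernel

theorem cntB0_304 : countR 1264640 4160 (traceTo LB0.2.1 LB0.2.2 LB0.1 12) = 4160 := by decide +kernel

theorem cntB0_305 : countR 1268800 4160 (traceTo LB0.2.1 LB0.2.2 LB0.1 12) = 4160 := by decide +kernel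

theorem cntB0_306 : countR 1272960 4160 (traceTo LB0.2.1 LB0.2.2 LB0.1 12) = 4160 := by decide +kernel

theorem cntB0_307 : countR 1277120 4160 (traceTo LB0.2.1 LB0.2.2 LB0.1 12) = 4160 := by decide +kernel

theorem cntB0_308 : countR 1281280 4160 (traceTo LB0.2.1 LB0.2.2 LB0.1 12) = 4160 := by decide +kernel

theorem cntB0_309 : countR 1285440 4160 (traceTo LB0.2.1 LB0.2.2 LB0.1 12) = 4160 := by decide +kernel

theorem cntB0_310 : countR 1289600 4160 (traceTo LB0.2.1 LB0.2.2 LB0.1 12) = 4160 := by decide +kernel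

theorem cntB0_311 : countR 1293760 4160 (traceTo LB0.2.1 LB0.2.2 LB0.1 12) = 4160 := by decide +kernel

theorem cntB0_312 : countR 1297920 4160 (traceTo LB0.2.1 LB0.2.2 LB0.1 12) = 4160 := by decide +kernel

theorem cntB0_313 : countR 1302080 4160 (traceTo LB0.2.1 LB0.2.2 LB0.1 12) = 4160 := by decide +kernel

theorem cntB0_314 : countR 1306240 4160 (traceTo LB0.2.1 LB0.2.2 LB0.1 12) = 4160 := by decide +kernel

theorem cntB0_315 : countR 1310400 4160 (traceTo LB0.2.1 LB0.2.2 LB0.1 12) = 4160 := by decide +kernel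

theorem cntB0_316 : countR 1314560 4160 (traceTo LB0.2.1 LB0.2.2 LB0.1 12) = 4160 := by decide +kernel

theorem cntB0_317 : countR 1318720 4160 (traceTo LB0.2.1 LB0.2.2 LB0.1 12) = 4160 := by decide +kernel

theorem cntB0_318 : countR 1322880 4160 (traceTo LB0.2.1 LB0.2.2 LB0.1 12) = 4160 := by decide +kernel

theorem cntB0_319 : countR 1327040 4160 (traceTo LB0.2.1 LB0.2.2 LB0.1 12) = 4160 := by decide +kernel

theorem cntB0_320 : countR 1331200 4160 (traceTo LB0.2.1 LB0.2.2 LB0.1 12) = 4160 := by decide +kernel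

theorem cntB0_321 : countR 1335360 4160 (traceTo LB0.2.1 LB0.2.2 LB0.1 12) = 4160 := by decide +kernel

theorem cntB0_322 : countR 1339520 4160 (traceTo LB0.2.1 LB0.2.2 LB0.1 12) = 4160 := by decide +kernel

theorem cntB0_323 : countR 1343680 4160 (traceTo LB0.2.1 LB0.2.2 LB0.1 12) = 4160 := by decide +kernel

theorem cntB0_324 : countR 1347840 4160 (traceTo LB0.2.1 LB0.2.2 LB0.1 12) = 4160 := by decide +kernel


end Cfsg.Agent.HNOut
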