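import Cfsg.Agent.Lib.Lead.HNOut.CntB0x0
import Cfsg.Agent.Lib.Lead.HNOut.CntB0x1
import Cfsg.Agent.Lib.Lead.HNOut.CntB0x2
import Cfsg.Agent.Lib.Lead.HNOut.CntB0x3
import Cfsg.Agent.Lib.Lead.HNOut.CntB0x4
import Cfsg.Agent.Lib.Lead.HNOut.CntB0x5
import Cfsg.Agent.Lib.Lead.HNOut.CntB0x6
import Cfsg.Agent.Lib.Lead.HNOut.CntB0x7
import Cfsg.Agent.Lib.Lead.HNOut.CntB0x8
import Cfsg.Agent.Lib.Lead.HNOut.CntB0x9
import Cfsg.Agent.Lib.Lead.HNOut.CntB0x10
import Cfsg.Agent.Lib.Lead.HNOut.CntB0x11
import Cfsg.Agent.Lib.Lead.HNOut.CntB0x12
import Cfsg.Agent.Lib.Lead.HNOut.CntB0x13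
import Cfsg.Agent.Lib.Lead.HNOut.CntB0x14

/-! # The outer automorphism group of the Harada–Norton group: the number of points of the tree number 0 of the chain `B` (generated) -/

set_option autoImplicit false
set_option maxRecDepth 100000

namespace Cfsg.Agent.HNOut

open Cfsg.Agent.PF Cfsg.Agent.Lib.Helper6 Cfsg.Agent.Lib.Helper6.TC Cfsg.Agent.Lib.Helper6.NatArr
open Cfsg.Agent.PL (Acts evalF)

theorem cntB0_grp0 : countR 0 416000 (traceTo LB0.2.1 LB0.2.2 LB0.1 12) = 416000 :=
  (countR_append cntB0_0 (countR_append cntB0_1 (countR_append cntB0_2 (countR_append cntB0_3 (countR_append cntB0_4 (countR_append cntB0_5 (countR_append cntB0_6 (countR_append cntB0_7 (countR_append cntB0_8 (countR_append cntB0_9 (countR_append cntB0_10 (countR_append cntB0_11 (countR_append cntB0_12 (countR_append cntB0_13 (countR_append cntB0_14 (countR_append cntB0_15 (countR_append cntB0_16 (countR_append cntB0_17 (countR_append cntB0_18 (countR_append cntB0_19 (countR_append cntB0_20 (countR_append cntB0_21 (countR_append cntB0_22 (countR_append cntB0_23 (countR_append cntB0_24 (countR_append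 cntB0_25 (countR_append cntB0_26 (countR_append cntB0_27 (countR_append cntB0_28 (countR_append cntB0_29 (countR_append cntB0_30 (countR_append cntB0_31 (countR_append cntB0_32 (countR_append cntB0_33 (countR_append cntB0_34 (countR_append cntB0_35 (countR_append cntB0_36 (countR_append cntB0_37 (countR_append cntB0_38 (countR_append cntB0_39 (countR_append cntB0_40 (countR_append cntB0_41 (countR_append cntB0_42 (countR_append cntB0_43 (countR_append cntB0_44 (countR_append cntB0_45 (countR_append cntB0_46 (countR_append cntB0_47 (countR_append cntB0_48 (countR_append cntB0_49 (countR_append cntB0_50 (countR_append cntB0_51 (countR_append cntB0_52 (countR_append cntB0_53 (countR_append cntB0_54 (countR_append cntB0_55 (countR_append cntB0_56 (countR_append cntB0_57 (countR_append cntB0_58 (countR_append cntB0_59 (countR_append cntB0_60 (countR_append cntB0_61 (countR_append cntB0_62 (countR_append cntB0_63 (countR_append cntB0_64 (countR_append cntB0_65 (countR_append cntB0_66 (countR_append cntB0_67 (countR_append cntB0_68 (countR_append cntB0_69 (countR_append cntB0_70 (countR_append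 cntB0_71 (countR_append cntB0_72 (countR_append cntB0_73 (countR_append cntB0_74 (countR_append cntB0_75 (countR_append cntB0_76 (countR_append cntB0_77 (countR_append cntB0_78 (countR_append cntB0_79 (countR_append cntB0_80 (countR_append cntB0_81 (countR_append cntB0_82 (countR_append cntB0_83 (countR_append cntB0_84 (countR_append cntB0_85 (countR_append cntB0_86 (countR_append cntB0_87 (countR_append cntB0_88 (countR_append cntB0_89 (countR_append cntB0_90 (countR_append cntB0_91 (countR_append cntB0_92 (countR_append cntB0_93 (countR_append cntB0_94 (countR_append cntB0_95 (countR_append cntB0_96 (countR_append cntB0_97 (countR_append cntB0_98 (cntB0_99))))))))))))))))))))))))))))))))))))))))))))))))))))))))))))))))))))))))))))))))))))))))))))))))))) :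
    countR 0 (4160 + (4160 + (4160 + (4160 + (4160 + (4160 + (4160 + (4160 + (4160 + (4160 + (4160 + (4160 + (4160 + (4160 + (4160 + (4160 + (4160 + (4160 + (4160 + (4160 + (4160 + (4160 + (4160 + (4160 + (4160 + (4160 + (4160 + (4160 + (4160 + (4160 + (4160 + (4160 + (4160 + (4160 + (4160 + (4160 + (4160 + (4160 + (4160 + (4160 + (4160 + (4160 + (4160 + (4160 + (4160 + (4160 + (4160 + (4160 + (4160 + (4160 + (4160 + (4160 + (4160 + (4160 + (4160 + (4160 + (4160 + (4160 + (4160 + (4160 + (4160 + (4160 + (4160 + (4160 + (4160 + (4160 + (4160 + (4160 + (4160 + (4160 + (4160 + (4160 + (4160 + (4160 + (4160 + (4160 + (4160 + (4160 + (4160 + (4160 + (4160 + (4160 + (4160 + (4160 + (4160 + (4160 + (4160 + (4160 + (4160 + (4160 + (4160 + (4160 + (4160 + (4160 + (4160 + (4160 + (4160 + (4160 + (4160 + (4160)))))))))))))))))))))))))))))))))))))))))))))))))))))))))))))))))))))))))))))))))))))))))))))))))))) (traceTo LB0.2.1 LB0.2.2 LB0.1 12) = 4160 + (4160 + (4160 + (4160 + (4160 + (4160 + (4160 + (4160 + (4160 + (4160 + (4160 + (4160 + (4160 + (4160 + (4160 + (4160 + (4160 + (4160 +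 (4160 + (4160 + (4160 + (4160 + (4160 + (4160 + (4160 + (4160 + (4160 + (4160 + (4160 + (4160 + (4160 + (4160 + (4160 + (4160 + (4160 + (4160 + (4160 + (4160 + (4160 + (4160 + (4160 + (4160 + (4160 + (4160 + (4160 + (4160 + (4160 + (4160 + (4160 + (4160 + (4160 + (4160 + (4160 + (4160 + (4160 + (4160 + (4160 + (4160 + (4160 + (4160 + (4160 + (4160 + (4160 + (4160 + (4160 + (4160 + (4160 + (4160 + (4160 + (4160 + (4160 + (4160 + (4160 + (4160 + (4160 + (4160 + (4160 + (4160 + (4160 + (4160 + (4160 + (4160 + (4160 + (4160 + (4160 + (4160 + (4160 + (4160 + (4160 + (4160 + (4160 + (4160 + (4160 + (4160 + (4160 + (4160 + (4160 + (4160 + (4160 + (4160))))))))))))))))))))))))))))))))))))))))))))))))))))))))))))))))))))))))))))))))))))))))))))))))))))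

theorem cntB0_grp1 : countR 416000 416000 (traceTo LB0.2.1 LB0.2.2 LB0.1 12) = 416000 :=
  (countR_append cntB0_100 (countR_append cntB0_101 (countR_append cntB0_102 (countR_append cntB0_103 (countR_append cntB0_104 (countR_append cntB0_105 (countR_append cntB0_106 (countR_append cntB0_107 (countR_append cntB0_108 (countR_append cntB0_109 (countR_append cntB0_110 (countR_append cntB0_111 (countR_append cntB0_112 (countR_append cntB0_113 (countR_append cntB0_114 (countR_append cntB0_115 (countR_append cntB0_116 (countR_append cntB0_117 (countR_append cntB0_118 (countR_append cntB0_119 (countR_append cntB0_120 (countR_append cntB0_121 (countR_append cntB0_122 (countR_append cntB0_123 (countR_append cntB0_124 (countR_append cntB0_125 (countR_append cntB0_126 (countR_append cntB0_127 (countR_append cntB0_128 (countR_append cntB0_129 (countR_append cntB0_130 (countR_append cntB0_131 (countR_append cntB0_132 (countR_append cntB0_133 (countR_append cntB0_134 (countR_append cntB0_135 (countR_append cntB0_136 (countR_append cntB0_137 (countR_append cntB0_138 (countR_append cntB0_139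 (countR_append cntB0_140 (countR_append cntB0_141 (countR_append cntB0_142 (countR_append cntB0_143 (countR_append cntB0_144 (countR_append cntB0_145 (countR_append cntB0_146 (countR_append cntB0_147 (countR_append cntB0_148 (countR_append cntB0_149 (countR_append cntB0_150 (countR_append cntB0_151 (countR_append cntB0_152 (countR_append cntB0_153 (countR_append cntB0_154 (countR_append cntB0_155 (countR_append cntB0_156 (countR_append cntB0_157 (countR_append cntB0_158 (countR_append cntB0_159 (countR_append cntB0_160 (countR_append cntB0_161 (countR_append cntB0_162 (countR_append cntB0_163 (countR_append cntB0_164 (countR_append cntB0_165 (countR_append cntB0_166 (countR_append cntB0_167 (countR_append cntB0_168 (countR_append cntB0_169 (countR_append cntB0_170 (countR_append cntB0_171 (countR_append cntB0_172 (countR_append cntB0_173 (countR_append cntB0_174 (countR_append cntB0_175 (countR_append cntB0_176 (countR_append cntB0_177 (countR_append cntB0_178 (countR_append cntB0_179 (countR_append cntB0_180 (countR_append cntB0_181 (countR_append cntB0_182 (countR_append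 cntB0_183 (countR_append cntB0_184 (countR_append cntB0_185 (countR_append cntB0_186 (countR_append cntB0_187 (countR_append cntB0_188 (countR_append cntB0_189 (countR_append cntB0_190 (countR_append cntB0_191 (countR_append cntB0_192 (countR_append cntB0_193 (countR_append cntB0_194 (countR_append cntB0_195 (countR_append cntB0_196 (countR_append cntB0_197 (countR_append cntB0_198 (cntB0_199))))))))))))))))))))))))))))))))))))))))))))))))))))))))))))))))))))))))))))))))))))))))))))))))))) :
    countR 416000 (4160 + (4160 + (4160 + (4160 + (4160 + (4160 + (4160 + (4160 + (4160 + (4160 + (4160 + (4160 + (4160 + (4160 + (4160 + (4160 + (4160 + (4160 + (4160 + (4160 + (4160 + (4160 + (4160 + (4160 + (4160 + (4160 + (4160 + (4160 + (4160 + (4160 + (4160 + (4160 + (4160 + (4160 + (4160 + (4160 + (4160 + (4160 + (4160 + (4160 + (4160 + (4160 + (4160 + (4160 + (4160 + (4160 + (4160 + (4160 + (4160 + (4160 + (4160 + (4160 + (4160 + (4160 + (4160 + (4160 + (4160 + (4160 + (4160 + (4160 + (4160 + (4160 + (4160 + (4160 + (4160 + (4160 + (4160 + (4160 + (4160 + (4160 + (4160 + (4160 +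 (4160 + (4160 + (4160 + (4160 + (4160 + (4160 + (4160 + (4160 + (4160 + (4160 + (4160 + (4160 + (4160 + (4160 + (4160 + (4160 + (4160 + (4160 + (4160 + (4160 + (4160 + (4160 + (4160 + (4160 + (4160 + (4160 + (4160 + (4160)))))))))))))))))))))))))))))))))))))))))))))))))))))))))))))))))))))))))))))))))))))))))))))))))))) (traceTo LB0.2.1 LB0.2.2 LB0.1 12) = 4160 + (4160 + (4160 + (4160 + (4160 + (4160 + (4160 + (4160 + (4160 + (4160 + (4160 + (4160 + (4160 + (4160 + (4160 + (4160 + (4160 + (4160 + (4160 + (4160 + (4160 + (4160 + (4160 + (4160 + (4160 + (4160 + (4160 + (4160 + (4160 + (4160 + (4160 + (4160 + (4160 + (4160 + (4160 + (4160 + (4160 + (4160 + (4160 + (4160 + (4160 + (4160 + (4160 + (4160 + (4160 + (4160 + (4160 + (4160 + (4160 + (4160 + (4160 + (4160 + (4160 + (4160 + (4160 + (4160 + (4160 + (4160 + (4160 + (4160 + (4160 + (4160 + (4160 + (4160 + (4160 + (4160 + (4160 + (4160 + (4160 + (4160 + (4160 + (4160 + (4160 + (4160 + (4160 + (4160 + (4160 + (4160 + (4160 + (4160 + (4160 + (4160 + (4160 + (4160 + (4160 + (4160 + (4160 + (4160 + (4160 + (4160 + (4160 + (4160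 + (4160 + (4160 + (4160 + (4160 + (4160 + (4160 + (4160 + (4160))))))))))))))))))))))))))))))))))))))))))))))))))))))))))))))))))))))))))))))))))))))))))))))))))))

theorem cntB0_grp2 : countR 832000 416000 (traceTo LB0.2.1 LB0.2.2 LB0.1 12) = 416000 :=
  (countR_append cntB0_200 (countR_append cntB0_201 (countR_append cntB0_202 (countR_append cntB0_203 (countR_append cntB0_204 (countR_append cntB0_205 (countR_append cntB0_206 (countR_append cntB0_207 (countR_append cntB0_208 (countR_append cntB0_209 (countR_append cntB0_210 (countR_append cntB0_211 (countR_append cntB0_212 (countR_append cntB0_213 (countR_append cntB0_214 (countR_append cntB0_215 (countR_append cntB0_216 (countR_append cntB0_217 (countR_append cntB0_218 (countR_append cntB0_219 (countR_append cntB0_220 (countR_append cntB0_221 (countR_append cntB0_222 (countR_append cntB0_223 (countR_append cntB0_224 (countR_append cntB0_225 (countR_append cntB0_226 (countR_append cntB0_227 (countR_append cntB0_228 (countR_append cntB0_229 (countR_append cntB0_230 (countR_append cntB0_231 (countR_append cntB0_232 (countR_append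 cntB0_233 (countR_append cntB0_234 (countR_append cntB0_235 (countR_append cntB0_236 (countR_append cntB0_237 (countR_append cntB0_238 (countR_append cntB0_239 (countR_append cntB0_240 (countR_append cntB0_241 (countR_append cntB0_242 (countR_append cntB0_243 (countR_append cntB0_244 (countR_append cntB0_245 (countR_append cntB0_246 (countR_append cntB0_247 (countR_append cntB0_248 (countR_append cntB0_249 (countR_append cntB0_250 (countR_append cntB0_251 (countR_append cntB0_252 (countR_append cntB0_253 (countR_append cntB0_254 (countR_append cntB0_255 (countR_append cntB0_256 (countR_append cntB0_257 (countR_append cntB0_258 (countR_append cntB0_259 (countR_append cntB0_260 (countR_append cntB0_261 (countR_append cntB0_262 (countR_append cntB0_263 (countR_append cntB0_264 (countR_append cntB0_265 (countR_append cntB0_266 (countR_append cntB0_267 (countR_append cntB0_268 (countR_append cntB0_269 (countR_append cntB0_270 (countR_append cntB0_271 (countR_append cntB0_272 (countR_append cntB0_273 (countR_append cntB0_274 (countR_append cntB0_275 (countR_append cntB0_276 (countR_append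 cntB0_277 (countR_append cntB0_278 (countR_append cntB0_279 (countR_append cntB0_280 (countR_append cntB0_281 (countR_append cntB0_282 (countR_append cntB0_283 (countR_append cntB0_284 (countR_append cntB0_285 (countR_append cntB0_286 (countR_append cntB0_287 (countR_append cntB0_288 (countR_append cntB0_289 (countR_append cntB0_290 (countR_append cntB0_291 (countR_append cntB0_292 (countR_append cntB0_293 (countR_append cntB0_294 (countR_append cntB0_295 (countR_append cntB0_296 (countR_append cntB0_297 (countR_append cntB0_298 (cntB0_299))))))))))))))))))))))))))))))))))))))))))))))))))))))))))))))))))))))))))))))))))))))))))))))))))) :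
    countR 832000 (4160 + (4160 + (4160 + (4160 + (4160 + (4160 + (4160 + (4160 + (4160 + (4160 + (4160 + (4160 + (4160 + (4160 + (4160 + (4160 + (4160 + (4160 + (4160 + (4160 + (4160 + (4160 + (4160 + (4160 + (4160 + (4160 + (4160 + (4160 + (4160 + (4160 + (4160 + (4160 + (4160 + (4160 + (4160 + (4160 + (4160 + (4160 + (4160 + (4160 + (4160 + (4160 + (4160 + (4160 + (4160 + (4160 + (4160 + (4160 + (4160 + (4160 + (4160 + (4160 + (4160 + (4160 + (4160 + (4160 + (4160 + (4160 + (4160 + (4160 + (4160 + (4160 + (4160 + (4160 + (4160 + (4160 + (4160 + (4160 + (4160 + (4160 + (4160 + (4160 + (4160 + (4160 + (4160 + (4160 + (4160 + (4160 + (4160 + (4160 + (4160 + (4160 + (4160 + (4160 + (4160 + (4160 + (4160 + (4160 + (4160 + (4160 + (4160 + (4160 + (4160 + (4160 + (4160 + (4160 + (4160 + (4160 + (4160 + (4160)))))))))))))))))))))))))))))))))))))))))))))))))))))))))))))))))))))))))))))))))))))))))))))))))))) (traceTo LB0.2.1 LB0.2.2 LB0.1 12) = 4160 + (4160 + (4160 + (4160 + (4160 + (4160 + (4160 + (4160 + (4160 + (4160 + (4160 + (4160 + (4160 + (4160 + (4160 + (4160 + (4160 + (4160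 + (4160 + (4160 + (4160 + (4160 + (4160 + (4160 + (4160 + (4160 + (4160 + (4160 + (4160 + (4160 + (4160 + (4160 + (4160 + (4160 + (4160 + (4160 + (4160 + (4160 + (4160 + (4160 + (4160 + (4160 + (4160 + (4160 + (4160 + (4160 + (4160 + (4160 + (4160 + (4160 + (4160 + (4160 + (4160 + (4160 + (4160 + (4160 + (4160 + (4160 + (4160 + (4160 + (4160 + (4160 + (4160 + (4160 + (4160 + (4160 + (4160 + (4160 + (4160 + (4160 + (4160 + (4160 + (4160 + (4160 + (4160 + (4160 + (4160 + (4160 + (4160 + (4160 + (4160 + (4160 + (4160 + (4160 + (4160 + (4160 + (4160 + (4160 + (4160 + (4160 + (4160 + (4160 + (4160 + (4160 + (4160 + (4160 + (4160 + (4160 + (4160 + (4160))))))))))))))))))))))))))))))))))))))))))))))))))))))))))))))))))))))))))))))))))))))))))))))))))))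

theorem cntB0_grp3 : countR 1248000 291000 (traceTo LB0.2.1 LB0.2.2 LB0.1 12) = 291000 :=
  (countR_append cntB0_300 (countR_append cntB0_301 (countR_append cntB0_302 (countR_append cntB0_303 (countR_append cntB0_304 (countR_append cntB0_305 (countR_append cntB0_306 (countR_append cntB0_307 (countR_append cntB0_308 (countR_append cntB0_309 (countR_append cntB0_310 (countR_append cntB0_311 (countR_append cntB0_312 (countR_append cntB0_313 (countR_append cntB0_314 (countR_append cntB0_315 (countR_append cntB0_316 (countR_append cntB0_317 (countR_append cntB0_318 (countR_append cntB0_319 (countR_append cntB0_320 (countR_append cntB0_321 (countR_append cntB0_322 (countR_append cntB0_323 (countR_append cntB0_324 (countR_append cntB0_325 (countR_append cntB0_326 (countR_append cntB0_327 (countR_append cntB0_328 (countR_append cntB0_329 (countR_append cntB0_330 (countR_append cntB0_331 (countR_append cntB0_332 (countR_append cntB0_333 (countR_append cntB0_334 (countR_append cntB0_335 (countR_append cntB0_336 (countR_append cntB0_337 (countR_append cntB0_338 (countR_append cntB0_339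 (countR_append cntB0_340 (countR_append cntB0_341 (countR_append cntB0_342 (countR_append cntB0_343 (countR_append cntB0_344 (countR_append cntB0_345 (countR_append cntB0_346 (countR_append cntB0_347 (countR_append cntB0_348 (countR_append cntB0_349 (countR_append cntB0_350 (countR_append cntB0_351 (countR_append cntB0_352 (countR_append cntB0_353 (countR_append cntB0_354 (countR_append cntB0_355 (countR_append cntB0_356 (countR_append cntB0_357 (countR_append cntB0_358 (countR_append cntB0_359 (countR_append cntB0_360 (countR_append cntB0_361 (countR_append cntB0_362 (countR_append cntB0_363 (countR_append cntB0_364 (countR_append cntB0_365 (countR_append cntB0_366 (countR_append cntB0_367 (countR_append cntB0_368 (cntB0_369))))))))))))))))))))))))))))))))))))))))))))))))))))))))))))))))))))) :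
    countR 1248000 (4160 + (4160 + (4160 + (4160 + (4160 + (4160 + (4160 + (4160 + (4160 + (4160 + (4160 + (4160 + (4160 + (4160 + (4160 + (4160 + (4160 + (4160 + (4160 + (4160 + (4160 + (4160 + (4160 + (4160 + (4160 + (4160 + (4160 + (4160 + (4160 + (4160 + (4160 + (4160 + (4160 + (4160 + (4160 + (4160 + (4160 + (4160 + (4160 + (4160 + (4160 + (4160 + (4160 + (4160 + (4160 + (4160 + (4160 + (4160 + (4160 + (4160 + (4160 + (4160 + (4160 + (4160 + (4160 + (4160 + (4160 + (4160 + (4160 + (4160 + (4160 + (4160 + (4160 + (4160 + (4160 + (4160 + (4160 + (4160 + (4160 + (3960)))))))))))))))))))))))))))))))))))))))))))))))))))))))))))))))))))))) (traceTo LB0.2.1 LB0.2.2 LB0.1 12) = 4160 + (4160 + (4160 + (4160 + (4160 + (4160 + (4160 + (4160 + (4160 + (4160 + (4160 + (4160 + (4160 + (4160 + (4160 + (4160 + (4160 + (4160 + (4160 + (4160 + (4160 + (4160 + (4160 + (4160 + (4160 + (4160 + (4160 + (4160 + (4160 + (4160 + (4160 + (4160 + (4160 + (4160 + (4160 + (4160 + (4160 + (4160 + (4160 + (4160 + (4160 + (4160 + (4160 + (4160 + (4160 + (4160 + (4160 + (4160 + (4160 + (4160 + (4160 +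 (4160 + (4160 + (4160 + (4160 + (4160 + (4160 + (4160 + (4160 + (4160 + (4160 + (4160 + (4160 + (4160 + (4160 + (4160 + (4160 + (4160 + (4160 + (3960))))))))))))))))))))))))))))))))))))))))))))))))))))))))))))))))))))))

/-- the number of points of the tree number 0 of the chain `B` -/
theorem lenB0 : (orbitL 1539000 LB0.2.1 LB0.2.2 LB0.1 12).length = 1539000 := by
  rw [length_orbitL]
  exact (countR_append cntB0_grp0 (countR_append cntB0_grp1 (countR_append cntB0_grp2 (cntB0_grp3))) :
    countR 0 (416000 + (416000 + (416000 + (291000)))) (traceTo LB0.2.1 LB0.2.2 LB0.1 12) = 416000 + (416000 + (416000 + (291000))))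

end Cfsg.Agent.HNOut
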