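import Cfsg.Agent.Lib.Lead.HNOut.LevB

/-! # The outer automorphism group of the Harada–Norton group: the number of points of the tree number 0 of the chain `B`, a part (generated) -/

set_option autoImplicit false
set_option maxRecDepth 100000

namespace Cfsg.Agent.HNOut

open Cfsg.Agent.PF Cfsg.Agent.Lib.Helper6 Cfsg.Agent.Lib.Helper6.TC Cfsg.Agent.Lib.Helper6.NatArr
open Cfsg.Agent.PL (Acts evalF)

theorem cntB0_0 : countR 0 4160 (traceTo LB0.2.1 LB0.2.2 LB0.1 12) = 4160 := by decide +kernel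

theorem cntB0_1 : countR 4160 4160 (traceTo LB0.2.1 LB0.2.2 LB0.1 12) = 4160 := by decide +kernel

theorem cntB0_2 : countR 8320 4160 (traceTo LB0.2.1 LB0.2.2 LB0.1 12) = 4160 := by decide +kernel

theorem cntB0_3 : countR 12480 4160 (traceTo LB0.2.1 LB0.2.2 LB0.1 12) = 4160 := by decide +kernel

theorem cntB0_4 : countR 16640 4160 (traceTo LB0.2.1 LB0.2.2 LB0.1 12) = 4160 := by decide +kernel

theorem cntB0_5 : countR 20800 4160 (traceTo LB0.2.1 LB0.2.2 LB0.1 12) = 4160 := by decide +kernel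

theorem cntB0_6 : countR 24960 4160 (traceTo LB0.2.1 LB0.2.2 LB0.1 12) = 4160 := by decide +kernel

theorem cntB0_7 : countR 29120 4160 (traceTo LB0.2.1 LB0.2.2 LB0.1 12) = 4160 := by decide +kernel

theorem cntB0_8 : countR 33280 4160 (traceTo LB0.2.1 LB0.2.2 LB0.1 12) = 4160 := by decide +kernel

theorem cntB0_9 : countR 37440 4160 (traceTo LB0.2.1 LB0.2.2 LB0.1 12) = 4160 := by decide +kernel

theorem cntB0_10 : countR 41600 4160 (traceTo LB0.2.1 LB0.2.2 LB0.1 12) = 4160 := by decide +kernel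

theorem cntB0_11 : countR 45760 4160 (traceTo LB0.2.1 LB0.2.2 LB0.1 12) = 4160 := by decide +kernel

theorem cntB0_12 : countR 49920 4160 (traceTo LB0.2.1 LB0.2.2 LB0.1 12) = 4160 := by decide +kernel

theorem cntB0_13 : countR 54080 4160 (traceTo LB0.2.1 LB0.2.2 LB0.1 12) = 4160 := by decide +kernel

theorem cntB0_14 : countR 58240 4160 (traceTo LB0.2.1 LB0.2.2 LB0.1 12) = 4160 := by decide +kernel

theorem cntB0_15 : countR 62400 4160 (traceTo LB0.2.1 LB0.2.2 LB0.1 12) = 4160 := by decide +kernel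

theorem cntB0_16 : countR 66560 4160 (traceTo LB0.2.1 LB0.2.2 LB0.1 12) = 4160 := by decide +kernel

theorem cntB0_17 : countR 70720 4160 (traceTo LB0.2.1 LB0.2.2 LB0.1 12) = 4160 := by decide +kernel

theorem cntB0_18 : countR 74880 4160 (traceTo LB0.2.1 LB0.2.2 LB0.1 12) = 4160 := by decide +kernel

theorem cntB0_19 : countR 79040 4160 (traceTo LB0.2.1 LB0.2.2 LB0.1 12) = 4160 := by decide +kernel

theorem cntB0_20 : countR 83200 4160 (traceTo LB0.2.1 LB0.2.2 LB0.1 12) = 4160 := by decide +kernel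

theorem cntB0_21 : countR 87360 4160 (traceTo LB0.2.1 LB0.2.2 LB0.1 12) = 4160 := by decide +kernel

theorem cntB0_22 : countR 91520 4160 (traceTo LB0.2.1 LB0.2.2 LB0.1 12) = 4160 := by decide +kernel

theorem cntB0_23 : countR 95680 4160 (traceTo LB0.2.1 LB0.2.2 LB0.1 12) = 4160 := by decide +kernel

theorem cntB0_24 : countR 99840 4160 (traceTo LB0.2.1 LB0.2.2 LB0.1 12) = 4160 := by decide +kernel


end Cfsg.Agent.HNOut
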