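import Cfsg.Agent.Lib.Lead.HNOut.LevB

/-! # The outer automorphism group of the Harada–Norton group: the number of points of the tree number 1 of the chain `B`, a part (generated) -/

set_option autoImplicit false
set_option maxRecDepth 100000

namespace Cfsg.Agent.HNOut

open Cfsg.Agent.PF Cfsg.Agent.Lib.Helper6 Cfsg.Agent.Lib.Helper6.TC Cfsg.Agent.Lib.Helper6.NatArr
open Cfsg.Agent.PL (Acts evalF)

theorem cntB1_325 : countR 1202500 3700 (traceTo LB1.2.1 LB1.2.2 LB1.1 12) = 776 := by decide +kernel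

theorem cntB1_326 : countR 1206200 3700 (traceTo LB1.2.1 LB1.2.2 LB1.1 12) = 901 := by decide +kernel

theorem cntB1_327 : countR 1209900 3700 (traceTo LB1.2.1 LB1.2.2 LB1.1 12) = 884 := by decide +kernel

theorem cntB1_328 : countR 1213600 3700 (traceTo LB1.2.1 LB1.2.2 LB1.1 12) = 899 := by decide +kernel

theorem cntB1_329 : countR 1217300 3700 (traceTo LB1.2.1 LB1.2.2 LB1.1 12) = 850 := by decide +kernel

theorem cntB1_330 : countR 1221000 3700 (traceTo LB1.2.1 LB1.2.2 LB1.1 12) = 781 := by decide +kernel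

theorem cntB1_331 : countR 1224700 3700 (traceTo LB1.2.1 LB1.2.2 LB1.1 12) = 945 := by decide +kernel

theorem cntB1_332 : countR 1228400 3700 (traceTo LB1.2.1 LB1.2.2 LB1.1 12) = 865 := by decide +kernel

theorem cntB1_333 : countR 1232100 3700 (traceTo LB1.2.1 LB1.2.2 LB1.1 12) = 957 := by decide +kernel

theorem cntB1_334 : countR 1235800 3700 (traceTo LB1.2.1 LB1.2.2 LB1.1 12) = 342 := by decide +kernel

theorem cntB1_335 : countR 1239500 3700 (traceTo LB1.2.1 LB1.2.2 LB1.1 12) = 298 := by decide +kernel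

theorem cntB1_336 : countR 1243200 3700 (traceTo LB1.2.1 LB1.2.2 LB1.1 12) = 276 := by decide +kernel

theorem cntB1_337 : countR 1246900 3700 (traceTo LB1.2.1 LB1.2.2 LB1.1 12) = 298 := by decide +kernel

theorem cntB1_338 : countR 1250600 3700 (traceTo LB1.2.1 LB1.2.2 LB1.1 12) = 366 := by decide +kernel

theorem cntB1_339 : countR 1254300 3700 (traceTo LB1.2.1 LB1.2.2 LB1.1 12) = 436 := by decide +kernel

theorem cntB1_340 : countR 1258000 3700 (traceTo LB1.2.1 LB1.2.2 LB1.1 12) = 476 := by decide +kernel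

theorem cntB1_341 : countR 1261700 3700 (traceTo LB1.2.1 LB1.2.2 LB1.1 12) = 598 := by decide +kernel

theorem cntB1_342 : countR 1265400 3700 (traceTo LB1.2.1 LB1.2.2 LB1.1 12) = 526 := by decide +kernel

theorem cntB1_343 : countR 1269100 3700 (traceTo LB1.2.1 LB1.2.2 LB1.1 12) = 605 := by decide +kernel

theorem cntB1_344 : countR 1272800 3700 (traceTo LB1.2.1 LB1.2.2 LB1.1 12) = 562 := by decide +kernel

theorem cntB1_345 : countR 1276500 3700 (traceTo LB1.2.1 LB1.2.2 LB1.1 12) = 551 := by decide +kernel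

theorem cntB1_346 : countR 1280200 3700 (traceTo LB1.2.1 LB1.2.2 LB1.1 12) = 548 := by decide +kernel

theorem cntB1_347 : countR 1283900 3700 (traceTo LB1.2.1 LB1.2.2 LB1.1 12) = 630 := by decide +kernel

theorem cntB1_348 : countR 1287600 3700 (traceTo LB1.2.1 LB1.2.2 LB1.1 12) = 569 := by decide +kernel

theorem cntB1_349 : countR 1291300 3700 (traceTo LB1.2.1 LB1.2.2 LB1.1 12) = 620 := by decide +kernel


end Cfsg.Agent.HNOut
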