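import Cfsg.Agent.Lib.Lead.HNOut.LevB

/-! # The outer automorphism group of the Harada–Norton group: the number of points of the tree number 2 of the chain `B`, a part (generated) -/

set_option autoImplicit false
set_option maxRecDepth 100000

namespace Cfsg.Agent.HNOut

open Cfsg.Agent.PF Cfsg.Agent.Lib.Helper6 Cfsg.Agent.Lib.Helper6.TC Cfsg.Agent.Lib.Helper6.NatArr
open Cfsg.Agent.PL (Acts evalF)

theorem cntB2_0 : countR 0 3700 (traceTo LB2.2.1 LB2.2.2 LB2.1 12) = 3 := by decide +kernel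

theorem cntB2_1 : countR 3700 3700 (traceTo LB2.2.1 LB2.2.2 LB2.1 12) = 2 := by decide +kernel

theorem cntB2_2 : countR 7400 3700 (traceTo LB2.2.1 LB2.2.2 LB2.1 12) = 4 := by decide +kernel

theorem cntB2_3 : countR 11100 3700 (traceTo LB2.2.1 LB2.2.2 LB2.1 12) = 2 := by decide +kernel

theorem cntB2_4 : countR 14800 3700 (traceTo LB2.2.1 LB2.2.2 LB2.1 12) = 4 := by decide +kernel

theorem cntB2_5 : countR 18500 3700 (traceTo LB2.2.1 LB2.2.2 LB2.1 12) = 2 := by decide +kernel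

theorem cntB2_6 : countR 22200 3700 (traceTo LB2.2.1 LB2.2.2 LB2.1 12) = 1 := by decide +kernel

theorem cntB2_7 : countR 25900 3700 (traceTo LB2.2.1 LB2.2.2 LB2.1 12) = 0 := by decide +kernel

theorem cntB2_8 : countR 29600 3700 (traceTo LB2.2.1 LB2.2.2 LB2.1 12) = 1 := by decide +kernel

theorem cntB2_9 : countR 33300 3700 (traceTo LB2.2.1 LB2.2.2 LB2.1 12) = 1 := by decide +kernel

theorem cntB2_10 : countR 37000 3700 (traceTo LB2.2.1 LB2.2.2 LB2.1 12) = 0 := by decide +kernel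

theorem cntB2_11 : countR 40700 3700 (traceTo LB2.2.1 LB2.2.2 LB2.1 12) = 1 := by decide +kernel

theorem cntB2_12 : countR 44400 3700 (traceTo LB2.2.1 LB2.2.2 LB2.1 12) = 0 := by decide +kernel

theorem cntB2_13 : countR 48100 3700 (traceTo LB2.2.1 LB2.2.2 LB2.1 12) = 0 := by decide +kernel

theorem cntB2_14 : countR 51800 3700 (traceTo LB2.2.1 LB2.2.2 LB2.1 12) = 0 := by decide +kernel

theorem cntB2_15 : countR 55500 3700 (traceTo LB2.2.1 LB2.2.2 LB2.1 12) = 2 := by decide +kernel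

theorem cntB2_16 : countR 59200 3700 (traceTo LB2.2.1 LB2.2.2 LB2.1 12) = 1 := by decide +kernel

theorem cntB2_17 : countR 62900 3700 (traceTo LB2.2.1 LB2.2.2 LB2.1 12) = 3 := by decide +kernel

theorem cntB2_18 : countR 66600 3700 (traceTo LB2.2.1 LB2.2.2 LB2.1 12) = 2 := by decide +kernel

theorem cntB2_19 : countR 70300 3700 (traceTo LB2.2.1 LB2.2.2 LB2.1 12) = 0 := by decide +kernel

theorem cntB2_20 : countR 74000 3700 (traceTo LB2.2.1 LB2.2.2 LB2.1 12) = 3 := by decide +kernel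

theorem cntB2_21 : countR 77700 3700 (traceTo LB2.2.1 LB2.2.2 LB2.1 12) = 1 := by decide +kernel

theorem cntB2_22 : countR 81400 3700 (traceTo LB2.2.1 LB2.2.2 LB2.1 12) = 1 := by decide +kernel

theorem cntB2_23 : countR 85100 3700 (traceTo LB2.2.1 LB2.2.2 LB2.1 12) = 0 := by decide +kernel

theorem cntB2_24 : countR 88800 3700 (traceTo LB2.2.1 LB2.2.2 LB2.1 12) = 0 := by decide +kernel


end Cfsg.Agent.HNOut
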