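import Cfsg.Agent.Lib.Lead.HNOut.LevB

/-! # The outer automorphism group of the Harada–Norton group: the number of points of the tree number 2 of the chain `B`, a part (generated) -/

set_option autoImplicit false
set_option maxRecDepth 100000

namespace Cfsg.Agent.HNOut

open Cfsg.Agent.PF Cfsg.Agent.Lib.Helper6 Cfsg.Agent.Lib.Helper6.TC Cfsg.Agent.Lib.Helper6.NatArr
open Cfsg.Agent.PL (Acts evalF)

theorem cntB2_300 : countR 1110000 3700 (traceTo LB2.2.1 LB2.2.2 LB2.1 12) = 0 := by decide +kernel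

theorem cntB2_301 : countR 1113700 3700 (traceTo LB2.2.1 LB2.2.2 LB2.1 12) = 3 := by decide +kernel

theorem cntB2_302 : countR 1117400 3700 (traceTo LB2.2.1 LB2.2.2 LB2.1 12) = 2 := by decide +kernel

theorem cntB2_303 : countR 1121100 3700 (traceTo LB2.2.1 LB2.2.2 LB2.1 12) = 2 := by decide +kernel

theorem cntB2_304 : countR 1124800 3700 (traceTo LB2.2.1 LB2.2.2 LB2.1 12) = 1 := by decide +kernel

theorem cntB2_305 : countR 1128500 3700 (traceTo LB2.2.1 LB2.2.2 LB2.1 12) = 1 := by decide +kernel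

theorem cntB2_306 : countR 1132200 3700 (traceTo LB2.2.1 LB2.2.2 LB2.1 12) = 3 := by decide +kernel

theorem cntB2_307 : countR 1135900 3700 (traceTo LB2.2.1 LB2.2.2 LB2.1 12) = 1 := by decide +kernel

theorem cntB2_308 : countR 1139600 3700 (traceTo LB2.2.1 LB2.2.2 LB2.1 12) = 0 := by decide +kernel

theorem cntB2_309 : countR 1143300 3700 (traceTo LB2.2.1 LB2.2.2 LB2.1 12) = 0 := by decide +kernel

theorem cntB2_310 : countR 1147000 3700 (traceTo LB2.2.1 LB2.2.2 LB2.1 12) = 2 := by decide +kernel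

theorem cntB2_311 : countR 1150700 3700 (traceTo LB2.2.1 LB2.2.2 LB2.1 12) = 4 := by decide +kernel

theorem cntB2_312 : countR 1154400 3700 (traceTo LB2.2.1 LB2.2.2 LB2.1 12) = 3 := by decide +kernel

theorem cntB2_313 : countR 1158100 3700 (traceTo LB2.2.1 LB2.2.2 LB2.1 12) = 1 := by decide +kernel

theorem cntB2_314 : countR 1161800 3700 (traceTo LB2.2.1 LB2.2.2 LB2.1 12) = 2 := by decide +kernel

theorem cntB2_315 : countR 1165500 3700 (traceTo LB2.2.1 LB2.2.2 LB2.1 12) = 3 := by decide +kernel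

theorem cntB2_316 : countR 1169200 3700 (traceTo LB2.2.1 LB2.2.2 LB2.1 12) = 2 := by decide +kernel

theorem cntB2_317 : countR 1172900 3700 (traceTo LB2.2.1 LB2.2.2 LB2.1 12) = 2 := by decide +kernel

theorem cntB2_318 : countR 1176600 3700 (traceTo LB2.2.1 LB2.2.2 LB2.1 12) = 2 := by decide +kernel

theorem cntB2_319 : countR 1180300 3700 (traceTo LB2.2.1 LB2.2.2 LB2.1 12) = 3 := by decide +kernel

theorem cntB2_320 : countR 1184000 3700 (traceTo LB2.2.1 LB2.2.2 LB2.1 12) = 1 := by decide +kernel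

theorem cntB2_321 : countR 1187700 3700 (traceTo LB2.2.1 LB2.2.2 LB2.1 12) = 1 := by decide +kernel

theorem cntB2_322 : countR 1191400 3700 (traceTo LB2.2.1 LB2.2.2 LB2.1 12) = 1 := by decide +kernel

theorem cntB2_323 : countR 1195100 3700 (traceTo LB2.2.1 LB2.2.2 LB2.1 12) = 3 := by decide +kernel

theorem cntB2_324 : countR 1198800 3700 (traceTo LB2.2.1 LB2.2.2 LB2.1 12) = 3 := by decide +kernel


end Cfsg.Agent.HNOut
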