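import Cfsg.Agent.Lib.Lead.HNOut.D0
import Cfsg.Agent.Lib.Lead.HNOut.D1
import Cfsg.Agent.Lib.Lead.HNOut.D2
import Cfsg.Agent.Lib.Lead.HNOut.D3
import Cfsg.Agent.Lib.Lead.HNOut.D4
import Cfsg.Agent.Lib.Lead.HNOut.D6
import Cfsg.Agent.Lib.Lead.HNOut.D7

/-! # The outer automorphism group of the Harada–Norton group: the maps of the images of the letters under the outer automorphism (generated) -/

set_option autoImplicit false
set_option maxRecDepth 100000

namespace Cfsg.Agent.HNOut

open Cfsg.Agent.PF Cfsg.Agent.Lib.Helper6 Cfsg.Agent.Lib.Helper6.TC Cfsg.Agent.Lib.Helper6.NatArr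
open Cfsg.Agent.PL (Acts evalF)

/-- the map of the image of the letter 0 under the outer automorphism -/
noncomputable def p0 : ℕ → ℕ := fun q => f1 (q)

/-- the map of the image of the letter 1 under the outer automorphism -/
noncomputable def p1 : ℕ → ℕ := fun q => f0 (q)

/-- the map of the image of the letter 2 under the outer automorphism -/
noncomputable def p2 : ℕ → ℕ := fun q => f3 (q)

/-- the map of the image of the letter 3 under the outer automorphism -/
noncomputable def p3 : ℕ → ℕ := fun q => f2 (q)

/-- the map of the image of the letter 4 under the outer automorphism -/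
noncomputable def p4 : ℕ → ℕ := fun q => f0 (f0 (f4 (q)))

/-- the map of the image of the letter 5 under the outer automorphism -/
noncomputable def p5 : ℕ → ℕ := fun q => f0 (f0 (f4 (q)))

/-- the map of the image of the letter 6 under the outer automorphism -/
noncomputable def p6 : ℕ → ℕ := fun q => f7 (f7 (q))

/-- the map of the image of the letter 7 under the outer automorphism -/
noncomputable def p7 : ℕ → ℕ := fun q => f6 (f6 (q))


end Cfsg.Agent.HNOut
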