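import Cfsg.Agent.Lib.Lead.HNOut.D0
import Cfsg.Agent.Lib.Lead.HNOut.D1
import Cfsg.Agent.Lib.Lead.HNOut.D2
import Cfsg.Agent.Lib.Lead.HNOut.D3
import Cfsg.Agent.Lib.Lead.HNOut.D4
import Cfsg.Agent.Lib.Lead.HNOut.D6
import Cfsg.Agent.Lib.Lead.HNOut.D7
import Cfsg.Agent.Lib.Lead.HNOut.DP

/-! # The outer automorphism group of the Harada–Norton group: the map of the image of `x` under the outer automorphism (generated) -/

set_option autoImplicit false
set_option maxRecDepth 100000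

namespace Cfsg.Agent.HNOut

open Cfsg.Agent.PF Cfsg.Agent.Lib.Helper6 Cfsg.Agent.Lib.Helper6.TC Cfsg.Agent.Lib.Helper6.NatArr
open Cfsg.Agent.PL (Acts evalF)

/-- the map of the image of `x` under the outer automorphism -/
noncomputable def fsx : ℕ → ℕ := fun q => f7 (f7 (f2 (f1 (f7 (f7 (f0 (f0 (f4 (f6 (f6 (f0 (f3 (f1 (f1 (f3 (f1 (f6 (f6 (q)))))))))))))))))))

theorem eqsx : ∀ q < 1539000, fsx q = wordF [p6, p3, p0, p6, p5, p7, p1, p2, p0, p0, p2, p0, p7] q := fun _ _ => rfl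

end Cfsg.Agent.HNOut
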