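import Cfsg.Agent.Lib.Lead.HNOut.LevB
import Cfsg.Agent.Lib.Lead.HNOut.Kills

/-! # The outer automorphism group of the Harada–Norton group: the candidates for the images of `w`, a part (generated) -/

set_option autoImplicit false
set_option maxRecDepth 100000

namespace Cfsg.Agent.HNOut

open Cfsg.Agent.PF Cfsg.Agent.Lib.Helper6 Cfsg.Agent.Lib.Helper6.TC Cfsg.Agent.Lib.Helper6.NatArr
open Cfsg.Agent.PL (Acts evalF)

theorem chk_kill_25 : allR 16650 666 (fun q => killF 1539000 12 f8 f9 f10 [0, 1] LB0 LsB kills 5 q) = true := by decide +kernel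

theorem chk_kill_26 : allR 17316 666 (fun q => killF 1539000 12 f8 f9 f10 [0, 1] LB0 LsB kills 5 q) = true := by decide +kernel

theorem chk_kill_27 : allR 17982 666 (fun q => killF 1539000 12 f8 f9 f10 [0, 1] LB0 LsB kills 5 q) = true := by decide +kernel

theorem chk_kill_28 : allR 18648 666 (fun q => killF 1539000 12 f8 f9 f10 [0, 1] LB0 LsB kills 5 q) = true := by decide +kernel

theorem chk_kill_29 : allR 19314 666 (fun q => killF 1539000 12 f8 f9 f10 [0, 1] LB0 LsB kills 5 q) = true := by decide +kernel

theorem chk_kill_30 : allR 19980 666 (fun q => killF 1539000 12 f8 f9 f10 [0, 1] LB0 LsB kills 5 q) = true := by decide +kernel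

theorem chk_kill_31 : allR 20646 666 (fun q => killF 1539000 12 f8 f9 f10 [0, 1] LB0 LsB kills 5 q) = true := by decide +kernel

theorem chk_kill_32 : allR 21312 666 (fun q => killF 1539000 12 f8 f9 f10 [0, 1] LB0 LsB kills 5 q) = true := by decide +kernel

theorem chk_kill_33 : allR 21978 666 (fun q => killF 1539000 12 f8 f9 f10 [0, 1] LB0 LsB kills 5 q) = true := by decide +kernel

theorem chk_kill_34 : allR 22644 666 (fun q => killF 1539000 12 f8 f9 f10 [0, 1] LB0 LsB kills 5 q) = true := by decide +kernel

theorem chk_kill_35 : allR 23310 666 (fun q => killF 1539000 12 f8 f9 f10 [0, 1] LB0 LsB kills 5 q) = true := by decide +kernel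

theorem chk_kill_36 : allR 23976 666 (fun q => killF 1539000 12 f8 f9 f10 [0, 1] LB0 LsB kills 5 q) = true := by decide +kernel

theorem chk_kill_37 : allR 24642 666 (fun q => killF 1539000 12 f8 f9 f10 [0, 1] LB0 LsB kills 5 q) = true := by decide +kernel

theorem chk_kill_38 : allR 25308 666 (fun q => killF 1539000 12 f8 f9 f10 [0, 1] LB0 LsB kills 5 q) = true := by decide +kernel

theorem chk_kill_39 : allR 25974 666 (fun q => killF 1539000 12 f8 f9 f10 [0, 1] LB0 LsB kills 5 q) = true := by decide +kernel

theorem chk_kill_40 : allR 26640 666 (fun q => killF 1539000 12 f8 f9 f10 [0, 1] LB0 LsB kills 5 q) = true := by decide +kernel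

theorem chk_kill_41 : allR 27306 666 (fun q => killF 1539000 12 f8 f9 f10 [0, 1] LB0 LsB kills 5 q) = true := by decide +kernel

theorem chk_kill_42 : allR 27972 666 (fun q => killF 1539000 12 f8 f9 f10 [0, 1] LB0 LsB kills 5 q) = true := by decide +kernel

theorem chk_kill_43 : allR 28638 666 (fun q => killF 1539000 12 f8 f9 f10 [0, 1] LB0 LsB kills 5 q) = true := by decide +kernel

theorem chk_kill_44 : allR 29304 666 (fun q => killF 1539000 12 f8 f9 f10 [0, 1] LB0 LsB kills 5 q) = true := by decide +kernel

theorem chk_kill_45 : allR 29970 666 (fun q => killF 1539000 12 f8 f9 f10 [0, 1] LB0 LsB kills 5 q) = true := by decide +kernel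

theorem chk_kill_46 : allR 30636 666 (fun q => killF 1539000 12 f8 f9 f10 [0, 1] LB0 LsB kills 5 q) = true := by decide +kernel

theorem chk_kill_47 : allR 31302 666 (fun q => killF 1539000 12 f8 f9 f10 [0, 1] LB0 LsB kills 5 q) = true := by decide +kernel

theorem chk_kill_48 : allR 31968 666 (fun q => killF 1539000 12 f8 f9 f10 [0, 1] LB0 LsB kills 5 q) = true := by decide +kernel

theorem chk_kill_49 : allR 32634 666 (fun q => killF 1539000 12 f8 f9 f10 [0, 1] LB0 LsB kills 5 q) = true := by decide +kernel


end Cfsg.Agent.HNOut
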