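import Cfsg.Agent.Lib.Lead.HNOut.LevB
import Cfsg.Agent.Lib.Lead.HNOut.Kills

/-! # The outer automorphism group of the Harada–Norton group: the candidates for the images of `w`, a part (generated) -/

set_option autoImplicit false
set_option maxRecDepth 100000

namespace Cfsg.Agent.HNOut

open Cfsg.Agent.PF Cfsg.Agent.Lib.Helper6 Cfsg.Agent.Lib.Helper6.TC Cfsg.Agent.Lib.Helper6.NatArr
open Cfsg.Agent.PL (Acts evalF)

theorem chk_kill_250 : allR 166500 666 (fun q => killF 1539000 12 f8 f9 f10 [0, 1] LB0 LsB kills 5 q) = true := by decide +kernel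

theorem chk_kill_251 : allR 167166 666 (fun q => killF 1539000 12 f8 f9 f10 [0, 1] LB0 LsB kills 5 q) = true := by decide +kernel

theorem chk_kill_252 : allR 167832 666 (fun q => killF 1539000 12 f8 f9 f10 [0, 1] LB0 LsB kills 5 q) = true := by decide +kernel

theorem chk_kill_253 : allR 168498 666 (fun q => killF 1539000 12 f8 f9 f10 [0, 1] LB0 LsB kills 5 q) = true := by decide +kernel

theorem chk_kill_254 : allR 169164 666 (fun q => killF 1539000 12 f8 f9 f10 [0, 1] LB0 LsB kills 5 q) = true := by decide +kernel

theorem chk_kill_255 : allR 169830 666 (fun q => killF 1539000 12 f8 f9 f10 [0, 1] LB0 LsB kills 5 q) = true := by decide +kernel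

theorem chk_kill_256 : allR 170496 666 (fun q => killF 1539000 12 f8 f9 f10 [0, 1] LB0 LsB kills 5 q) = true := by decide +kernel

theorem chk_kill_257 : allR 171162 666 (fun q => killF 1539000 12 f8 f9 f10 [0, 1] LB0 LsB kills 5 q) = true := by decide +kernel

theorem chk_kill_258 : allR 171828 666 (fun q => killF 1539000 12 f8 f9 f10 [0, 1] LB0 LsB kills 5 q) = true := by decide +kernel

theorem chk_kill_259 : allR 172494 666 (fun q => killF 1539000 12 f8 f9 f10 [0, 1] LB0 LsB kills 5 q) = true := by decide +kernel

theorem chk_kill_260 : allR 173160 666 (fun q => killF 1539000 12 f8 f9 f10 [0, 1] LB0 LsB kills 5 q) = true := by decide +kernel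

theorem chk_kill_261 : allR 173826 666 (fun q => killF 1539000 12 f8 f9 f10 [0, 1] LB0 LsB kills 5 q) = true := by decide +kernel

theorem chk_kill_262 : allR 174492 666 (fun q => killF 1539000 12 f8 f9 f10 [0, 1] LB0 LsB kills 5 q) = true := by decide +kernel

theorem chk_kill_263 : allR 175158 666 (fun q => killF 1539000 12 f8 f9 f10 [0, 1] LB0 LsB kills 5 q) = true := by decide +kernel

theorem chk_kill_264 : allR 175824 666 (fun q => killF 1539000 12 f8 f9 f10 [0, 1] LB0 LsB kills 5 q) = true := by decide +kernel

theorem chk_kill_265 : allR 176490 666 (fun q => killF 1539000 12 f8 f9 f10 [0, 1] LB0 LsB kills 5 q) = true := by decide +kernel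

theorem chk_kill_266 : allR 177156 666 (fun q => killF 1539000 12 f8 f9 f10 [0, 1] LB0 LsB kills 5 q) = true := by decide +kernel

theorem chk_kill_267 : allR 177822 666 (fun q => killF 1539000 12 f8 f9 f10 [0, 1] LB0 LsB kills 5 q) = true := by decide +kernel

theorem chk_kill_268 : allR 178488 666 (fun q => killF 1539000 12 f8 f9 f10 [0, 1] LB0 LsB kills 5 q) = true := by decide +kernel

theorem chk_kill_269 : allR 179154 666 (fun q => killF 1539000 12 f8 f9 f10 [0, 1] LB0 LsB kills 5 q) = true := by decide +kernel

theorem chk_kill_270 : allR 179820 666 (fun q => killF 1539000 12 f8 f9 f10 [0, 1] LB0 LsB kills 5 q) = true := by decide +kernel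

theorem chk_kill_271 : allR 180486 666 (fun q => killF 1539000 12 f8 f9 f10 [0, 1] LB0 LsB kills 5 q) = true := by decide +kernel

theorem chk_kill_272 : allR 181152 666 (fun q => killF 1539000 12 f8 f9 f10 [0, 1] LB0 LsB kills 5 q) = true := by decide +kernel

theorem chk_kill_273 : allR 181818 666 (fun q => killF 1539000 12 f8 f9 f10 [0, 1] LB0 LsB kills 5 q) = true := by decide +kernel

theorem chk_kill_274 : allR 182484 666 (fun q => killF 1539000 12 f8 f9 f10 [0, 1] LB0 LsB kills 5 q) = true := by decide +kernel


end Cfsg.Agent.HNOut
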