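import Cfsg.Agent.Lib.Lead.HNOut.LevB
import Cfsg.Agent.Lib.Lead.HNOut.Kills

/-! # The outer automorphism group of the Harada–Norton group: the candidates for the images of `w`, a part (generated) -/

set_option autoImplicit false
set_option maxRecDepth 100000

namespace Cfsg.Agent.HNOut

open Cfsg.Agent.PF Cfsg.Agent.Lib.Helper6 Cfsg.Agent.Lib.Helper6.TC Cfsg.Agent.Lib.Helper6.NatArr
open Cfsg.Agent.PL (Acts evalF)

theorem chk_kill_275 : allR 183150 666 (fun q => killF 1539000 12 f8 f9 f10 [0, 1] LB0 LsB kills 5 q) = true := by decide +kernel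

theorem chk_kill_276 : allR 183816 666 (fun q => killF 1539000 12 f8 f9 f10 [0, 1] LB0 LsB kills 5 q) = true := by decide +kernel

theorem chk_kill_277 : allR 184482 666 (fun q => killF 1539000 12 f8 f9 f10 [0, 1] LB0 LsB kills 5 q) = true := by decide +kernel

theorem chk_kill_278 : allR 185148 666 (fun q => killF 1539000 12 f8 f9 f10 [0, 1] LB0 LsB kills 5 q) = true := by decide +kernel

theorem chk_kill_279 : allR 185814 666 (fun q => killF 1539000 12 f8 f9 f10 [0, 1] LB0 LsB kills 5 q) = true := by decide +kernel

theorem chk_kill_280 : allR 186480 666 (fun q => killF 1539000 12 f8 f9 f10 [0, 1] LB0 LsB kills 5 q) = true := by decide +kernel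

theorem chk_kill_281 : allR 187146 666 (fun q => killF 1539000 12 f8 f9 f10 [0, 1] LB0 LsB kills 5 q) = true := by decide +kernel

theorem chk_kill_282 : allR 187812 666 (fun q => killF 1539000 12 f8 f9 f10 [0, 1] LB0 LsB kills 5 q) = true := by decide +kernel

theorem chk_kill_283 : allR 188478 666 (fun q => killF 1539000 12 f8 f9 f10 [0, 1] LB0 LsB kills 5 q) = true := by decide +kernel

theorem chk_kill_284 : allR 189144 666 (fun q => killF 1539000 12 f8 f9 f10 [0, 1] LB0 LsB kills 5 q) = true := by decide +kernel

theorem chk_kill_285 : allR 189810 666 (fun q => killF 1539000 12 f8 f9 f10 [0, 1] LB0 LsB kills 5 q) = true := by decide +kernel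

theorem chk_kill_286 : allR 190476 666 (fun q => killF 1539000 12 f8 f9 f10 [0, 1] LB0 LsB kills 5 q) = true := by decide +kernel

theorem chk_kill_287 : allR 191142 666 (fun q => killF 1539000 12 f8 f9 f10 [0, 1] LB0 LsB kills 5 q) = true := by decide +kernel

theorem chk_kill_288 : allR 191808 666 (fun q => killF 1539000 12 f8 f9 f10 [0, 1] LB0 LsB kills 5 q) = true := by decide +kernel

theorem chk_kill_289 : allR 192474 666 (fun q => killF 1539000 12 f8 f9 f10 [0, 1] LB0 LsB kills 5 q) = true := by decide +kernel

theorem chk_kill_290 : allR 193140 666 (fun q => killF 1539000 12 f8 f9 f10 [0, 1] LB0 LsB kills 5 q) = true := by decide +kernel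

theorem chk_kill_291 : allR 193806 666 (fun q => killF 1539000 12 f8 f9 f10 [0, 1] LB0 LsB kills 5 q) = true := by decide +kernel

theorem chk_kill_292 : allR 194472 666 (fun q => killF 1539000 12 f8 f9 f10 [0, 1] LB0 LsB kills 5 q) = true := by decide +kernel

theorem chk_kill_293 : allR 195138 666 (fun q => killF 1539000 12 f8 f9 f10 [0, 1] LB0 LsB kills 5 q) = true := by decide +kernel

theorem chk_kill_294 : allR 195804 666 (fun q => killF 1539000 12 f8 f9 f10 [0, 1] LB0 LsB kills 5 q) = true := by decide +kernel

theorem chk_kill_295 : allR 196470 666 (fun q => killF 1539000 12 f8 f9 f10 [0, 1] LB0 LsB kills 5 q) = true := by decide +kernel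

theorem chk_kill_296 : allR 197136 666 (fun q => killF 1539000 12 f8 f9 f10 [0, 1] LB0 LsB kills 5 q) = true := by decide +kernel

theorem chk_kill_297 : allR 197802 666 (fun q => killF 1539000 12 f8 f9 f10 [0, 1] LB0 LsB kills 5 q) = true := by decide +kernel

theorem chk_kill_298 : allR 198468 666 (fun q => killF 1539000 12 f8 f9 f10 [0, 1] LB0 LsB kills 5 q) = true := by decide +kernel

theorem chk_kill_299 : allR 199134 666 (fun q => killF 1539000 12 f8 f9 f10 [0, 1] LB0 LsB kills 5 q) = true := by decide +kernel


end Cfsg.Agent.HNOut
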