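import Cfsg.Agent.Lib.Lead.HNOut.LevB
import Cfsg.Agent.Lib.Lead.HNOut.Kills

/-! # The outer automorphism group of the Harada–Norton group: the candidates for the images of `w`, a part (generated) -/

set_option autoImplicit false
set_option maxRecDepth 100000

namespace Cfsg.Agent.HNOut

open Cfsg.Agent.PF Cfsg.Agent.Lib.Helper6 Cfsg.Agent.Lib.Helper6.TC Cfsg.Agent.Lib.Helper6.NatArr
open Cfsg.Agent.PL (Acts evalF)

theorem chk_kill_300 : allR 199800 666 (fun q => killF 1539000 12 f8 f9 f10 [0, 1] LB0 LsB kills 5 q) = true := by decide +kernel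

theorem chk_kill_301 : allR 200466 666 (fun q => killF 1539000 12 f8 f9 f10 [0, 1] LB0 LsB kills 5 q) = true := by decide +kernel

theorem chk_kill_302 : allR 201132 666 (fun q => killF 1539000 12 f8 f9 f10 [0, 1] LB0 LsB kills 5 q) = true := by decide +kernel

theorem chk_kill_303 : allR 201798 666 (fun q => killF 1539000 12 f8 f9 f10 [0, 1] LB0 LsB kills 5 q) = true := by decide +kernel

theorem chk_kill_304 : allR 202464 666 (fun q => killF 1539000 12 f8 f9 f10 [0, 1] LB0 LsB kills 5 q) = true := by decide +kernel

theorem chk_kill_305 : allR 203130 666 (fun q => killF 1539000 12 f8 f9 f10 [0, 1] LB0 LsB kills 5 q) = true := by decide +kernel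

theorem chk_kill_306 : allR 203796 666 (fun q => killF 1539000 12 f8 f9 f10 [0, 1] LB0 LsB kills 5 q) = true := by decide +kernel

theorem chk_kill_307 : allR 204462 666 (fun q => killF 1539000 12 f8 f9 f10 [0, 1] LB0 LsB kills 5 q) = true := by decide +kernel

theorem chk_kill_308 : allR 205128 666 (fun q => killF 1539000 12 f8 f9 f10 [0, 1] LB0 LsB kills 5 q) = true := by decide +kernel

theorem chk_kill_309 : allR 205794 666 (fun q => killF 1539000 12 f8 f9 f10 [0, 1] LB0 LsB kills 5 q) = true := by decide +kernel

theorem chk_kill_310 : allR 206460 666 (fun q => killF 1539000 12 f8 f9 f10 [0, 1] LB0 LsB kills 5 q) = true := by decide +kernel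

theorem chk_kill_311 : allR 207126 666 (fun q => killF 1539000 12 f8 f9 f10 [0, 1] LB0 LsB kills 5 q) = true := by decide +kernel

theorem chk_kill_312 : allR 207792 666 (fun q => killF 1539000 12 f8 f9 f10 [0, 1] LB0 LsB kills 5 q) = true := by decide +kernel

theorem chk_kill_313 : allR 208458 666 (fun q => killF 1539000 12 f8 f9 f10 [0, 1] LB0 LsB kills 5 q) = true := by decide +kernel

theorem chk_kill_314 : allR 209124 666 (fun q => killF 1539000 12 f8 f9 f10 [0, 1] LB0 LsB kills 5 q) = true := by decide +kernel

theorem chk_kill_315 : allR 209790 666 (fun q => killF 1539000 12 f8 f9 f10 [0, 1] LB0 LsB kills 5 q) = true := by decide +kernel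

theorem chk_kill_316 : allR 210456 666 (fun q => killF 1539000 12 f8 f9 f10 [0, 1] LB0 LsB kills 5 q) = true := by decide +kernel

theorem chk_kill_317 : allR 211122 666 (fun q => killF 1539000 12 f8 f9 f10 [0, 1] LB0 LsB kills 5 q) = true := by decide +kernel

theorem chk_kill_318 : allR 211788 666 (fun q => killF 1539000 12 f8 f9 f10 [0, 1] LB0 LsB kills 5 q) = true := by decide +kernel

theorem chk_kill_319 : allR 212454 666 (fun q => killF 1539000 12 f8 f9 f10 [0, 1] LB0 LsB kills 5 q) = true := by decide +kernel

theorem chk_kill_320 : allR 213120 666 (fun q => killF 1539000 12 f8 f9 f10 [0, 1] LB0 LsB kills 5 q) = true := by decide +kernel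

theorem chk_kill_321 : allR 213786 666 (fun q => killF 1539000 12 f8 f9 f10 [0, 1] LB0 LsB kills 5 q) = true := by decide +kernel

theorem chk_kill_322 : allR 214452 666 (fun q => killF 1539000 12 f8 f9 f10 [0, 1] LB0 LsB kills 5 q) = true := by decide +kernel

theorem chk_kill_323 : allR 215118 666 (fun q => killF 1539000 12 f8 f9 f10 [0, 1] LB0 LsB kills 5 q) = true := by decide +kernel

theorem chk_kill_324 : allR 215784 666 (fun q => killF 1539000 12 f8 f9 f10 [0, 1] LB0 LsB kills 5 q) = true := by decide +kernel


end Cfsg.Agent.HNOut
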