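import Cfsg.Agent.Lib.Lead.HNOut.LevA
import Cfsg.Agent.Lib.Lead.HNOut.DSX

/-! # The outer automorphism group of the Harada–Norton group: the image of `x` is not conjugate to `x`, a part (generated) -/

set_option autoImplicit false
set_option maxRecDepth 100000

namespace Cfsg.Agent.HNOut

open Cfsg.Agent.PF Cfsg.Agent.Lib.Helper6 Cfsg.Agent.Lib.Helper6.TC Cfsg.Agent.Lib.Helper6.NatArr
open Cfsg.Agent.PL (Acts evalF)

theorem chk_ninn_25 : allR 12075 483 (fun q => (fun q => (cand 1539000 12 f8 fsx [0] (LA0 :: LsA) q).isNone) q) = true := by decide +kernel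

theorem chk_ninn_26 : allR 12558 483 (fun q => (fun q => (cand 1539000 12 f8 fsx [0] (LA0 :: LsA) q).isNone) q) = true := by decide +kernel

theorem chk_ninn_27 : allR 13041 483 (fun q => (fun q => (cand 1539000 12 f8 fsx [0] (LA0 :: LsA) q).isNone) q) = true := by decide +kernel

theorem chk_ninn_28 : allR 13524 483 (fun q => (fun q => (cand 1539000 12 f8 fsx [0] (LA0 :: LsA) q).isNone) q) = true := by decide +kernel

theorem chk_ninn_29 : allR 14007 483 (fun q => (fun q => (cand 1539000 12 f8 fsx [0] (LA0 :: LsA) q).isNone) q) = true := by decide +kernel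

theorem chk_ninn_30 : allR 14490 483 (fun q => (fun q => (cand 1539000 12 f8 fsx [0] (LA0 :: LsA) q).isNone) q) = true := by decide +kernel

theorem chk_ninn_31 : allR 14973 483 (fun q => (fun q => (cand 1539000 12 f8 fsx [0] (LA0 :: LsA) q).isNone) q) = true := by decide +kernel

theorem chk_ninn_32 : allR 15456 483 (fun q => (fun q => (cand 1539000 12 f8 fsx [0] (LA0 :: LsA) q).isNone) q) = true := by decide +kernel

theorem chk_ninn_33 : allR 15939 483 (fun q => (fun q => (cand 1539000 12 f8 fsx [0] (LA0 :: LsA) q).isNone) q) = true := by decide +kernel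

theorem chk_ninn_34 : allR 16422 483 (fun q => (fun q => (cand 1539000 12 f8 fsx [0] (LA0 :: LsA) q).isNone) q) = true := by decide +kernel

theorem chk_ninn_35 : allR 16905 483 (fun q => (fun q => (cand 1539000 12 f8 fsx [0] (LA0 :: LsA) q).isNone) q) = true := by decide +kernel

theorem chk_ninn_36 : allR 17388 483 (fun q => (fun q => (cand 1539000 12 f8 fsx [0] (LA0 :: LsA) q).isNone) q) = true := by decide +kernel

theorem chk_ninn_37 : allR 17871 483 (fun q => (fun q => (cand 1539000 12 f8 fsx [0] (LA0 :: LsA) q).isNone) q) = true := by decide +kernel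

theorem chk_ninn_38 : allR 18354 483 (fun q => (fun q => (cand 1539000 12 f8 fsx [0] (LA0 :: LsA) q).isNone) q) = true := by decide +kernel

theorem chk_ninn_39 : allR 18837 483 (fun q => (fun q => (cand 1539000 12 f8 fsx [0] (LA0 :: LsA) q).isNone) q) = true := by decide +kernel

theorem chk_ninn_40 : allR 19320 483 (fun q => (fun q => (cand 1539000 12 f8 fsx [0] (LA0 :: LsA) q).isNone) q) = true := by decide +kernel

theorem chk_ninn_41 : allR 19803 483 (fun q => (fun q => (cand 1539000 12 f8 fsx [0] (LA0 :: LsA) q).isNone) q) = true := by decide +kernel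

theorem chk_ninn_42 : allR 20286 483 (fun q => (fun q => (cand 1539000 12 f8 fsx [0] (LA0 :: LsA) q).isNone) q) = true := by decide +kernel

theorem chk_ninn_43 : allR 20769 483 (fun q => (fun q => (cand 1539000 12 f8 fsx [0] (LA0 :: LsA) q).isNone) q) = true := by decide +kernel

theorem chk_ninn_44 : allR 21252 483 (fun q => (fun q => (cand 1539000 12 f8 fsx [0] (LA0 :: LsA) q).isNone) q) = true := by decide +kernel

theorem chk_ninn_45 : allR 21735 483 (fun q => (fun q => (cand 1539000 12 f8 fsx [0] (LA0 :: LsA) q).isNone) q) = true := by decide +kernel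

theorem chk_ninn_46 : allR 22218 483 (fun q => (fun q => (cand 1539000 12 f8 fsx [0] (LA0 :: LsA) q).isNone) q) = true := by decide +kernel

theorem chk_ninn_47 : allR 22701 483 (fun q => (fun q => (cand 1539000 12 f8 fsx [0] (LA0 :: LsA) q).isNone) q) = true := by decide +kernel

theorem chk_ninn_48 : allR 23184 483 (fun q => (fun q => (cand 1539000 12 f8 fsx [0] (LA0 :: LsA) q).isNone) q) = true := by decide +kernel

theorem chk_ninn_49 : allR 23667 483 (fun q => (fun q => (cand 1539000 12 f8 fsx [0] (LA0 :: LsA) q).isNone) q) = true := by decide +kernel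


end Cfsg.Agent.HNOut
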