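import Cfsg.Agent.Lib.Lead.HNOut.LevA
import Cfsg.Agent.Lib.Lead.HNOut.DSX

/-! # The outer automorphism group of the Harada–Norton group: the image of `x` is not conjugate to `x`, a part (generated) -/

set_option autoImplicit false
set_option maxRecDepth 100000

namespace Cfsg.Agent.HNOut

open Cfsg.Agent.PF Cfsg.Agent.Lib.Helper6 Cfsg.Agent.Lib.Helper6.TC Cfsg.Agent.Lib.Helper6.NatArr
open Cfsg.Agent.PL (Acts evalF)

theorem chk_ninn_250 : allR 120750 483 (fun q => (fun q => (cand 1539000 12 f8 fsx [0] (LA0 :: LsA) q).isNone) q) = true := by decide +kernel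

theorem chk_ninn_251 : allR 121233 483 (fun q => (fun q => (cand 1539000 12 f8 fsx [0] (LA0 :: LsA) q).isNone) q) = true := by decide +kernel

theorem chk_ninn_252 : allR 121716 483 (fun q => (fun q => (cand 1539000 12 f8 fsx [0] (LA0 :: LsA) q).isNone) q) = true := by decide +kernel

theorem chk_ninn_253 : allR 122199 483 (fun q => (fun q => (cand 1539000 12 f8 fsx [0] (LA0 :: LsA) q).isNone) q) = true := by decide +kernel

theorem chk_ninn_254 : allR 122682 483 (fun q => (fun q => (cand 1539000 12 f8 fsx [0] (LA0 :: LsA) q).isNone) q) = true := by decide +kernel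

theorem chk_ninn_255 : allR 123165 483 (fun q => (fun q => (cand 1539000 12 f8 fsx [0] (LA0 :: LsA) q).isNone) q) = true := by decide +kernel

theorem chk_ninn_256 : allR 123648 483 (fun q => (fun q => (cand 1539000 12 f8 fsx [0] (LA0 :: LsA) q).isNone) q) = true := by decide +kernel

theorem chk_ninn_257 : allR 124131 483 (fun q => (fun q => (cand 1539000 12 f8 fsx [0] (LA0 :: LsA) q).isNone) q) = true := by decide +kernel

theorem chk_ninn_258 : allR 124614 483 (fun q => (fun q => (cand 1539000 12 f8 fsx [0] (LA0 :: LsA) q).isNone) q) = true := by decide +kernel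

theorem chk_ninn_259 : allR 125097 483 (fun q => (fun q => (cand 1539000 12 f8 fsx [0] (LA0 :: LsA) q).isNone) q) = true := by decide +kernel

theorem chk_ninn_260 : allR 125580 483 (fun q => (fun q => (cand 1539000 12 f8 fsx [0] (LA0 :: LsA) q).isNone) q) = true := by decide +kernel

theorem chk_ninn_261 : allR 126063 483 (fun q => (fun q => (cand 1539000 12 f8 fsx [0] (LA0 :: LsA) q).isNone) q) = true := by decide +kernel

theorem chk_ninn_262 : allR 126546 483 (fun q => (fun q => (cand 1539000 12 f8 fsx [0] (LA0 :: LsA) q).isNone) q) = true := by decide +kernel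

theorem chk_ninn_263 : allR 127029 483 (fun q => (fun q => (cand 1539000 12 f8 fsx [0] (LA0 :: LsA) q).isNone) q) = true := by decide +kernel

theorem chk_ninn_264 : allR 127512 483 (fun q => (fun q => (cand 1539000 12 f8 fsx [0] (LA0 :: LsA) q).isNone) q) = true := by decide +kernel

theorem chk_ninn_265 : allR 127995 483 (fun q => (fun q => (cand 1539000 12 f8 fsx [0] (LA0 :: LsA) q).isNone) q) = true := by decide +kernel

theorem chk_ninn_266 : allR 128478 483 (fun q => (fun q => (cand 1539000 12 f8 fsx [0] (LA0 :: LsA) q).isNone) q) = true := by decide +kernel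

theorem chk_ninn_267 : allR 128961 483 (fun q => (fun q => (cand 1539000 12 f8 fsx [0] (LA0 :: LsA) q).isNone) q) = true := by decide +kernel

theorem chk_ninn_268 : allR 129444 483 (fun q => (fun q => (cand 1539000 12 f8 fsx [0] (LA0 :: LsA) q).isNone) q) = true := by decide +kernel

theorem chk_ninn_269 : allR 129927 483 (fun q => (fun q => (cand 1539000 12 f8 fsx [0] (LA0 :: LsA) q).isNone) q) = true := by decide +kernel

theorem chk_ninn_270 : allR 130410 483 (fun q => (fun q => (cand 1539000 12 f8 fsx [0] (LA0 :: LsA) q).isNone) q) = true := by decide +kernel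

theorem chk_ninn_271 : allR 130893 483 (fun q => (fun q => (cand 1539000 12 f8 fsx [0] (LA0 :: LsA) q).isNone) q) = true := by decide +kernel

theorem chk_ninn_272 : allR 131376 483 (fun q => (fun q => (cand 1539000 12 f8 fsx [0] (LA0 :: LsA) q).isNone) q) = true := by decide +kernel

theorem chk_ninn_273 : allR 131859 483 (fun q => (fun q => (cand 1539000 12 f8 fsx [0] (LA0 :: LsA) q).isNone) q) = true := by decide +kernel

theorem chk_ninn_274 : allR 132342 483 (fun q => (fun q => (cand 1539000 12 f8 fsx [0] (LA0 :: LsA) q).isNone) q) = true := by decide +kernel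


end Cfsg.Agent.HNOut
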