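import Cfsg.Agent.Lib.Lead.HNOut.LevA
import Cfsg.Agent.Lib.Lead.HNOut.DSX

/-! # The outer automorphism group of the Harada–Norton group: the image of `x` is not conjugate to `x`, a part (generated) -/

set_option autoImplicit false
set_option maxRecDepth 100000

namespace Cfsg.Agent.HNOut

open Cfsg.Agent.PF Cfsg.Agent.Lib.Helper6 Cfsg.Agent.Lib.Helper6.TC Cfsg.Agent.Lib.Helper6.NatArr
open Cfsg.Agent.PL (Acts evalF)

theorem chk_ninn_2500 : allR 1207500 483 (fun q => (fun q => (cand 1539000 12 f8 fsx [0] (LA0 :: LsA) q).isNone) q) = true := by decide +kernel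

theorem chk_ninn_2501 : allR 1207983 483 (fun q => (fun q => (cand 1539000 12 f8 fsx [0] (LA0 :: LsA) q).isNone) q) = true := by decide +kernel

theorem chk_ninn_2502 : allR 1208466 483 (fun q => (fun q => (cand 1539000 12 f8 fsx [0] (LA0 :: LsA) q).isNone) q) = true := by decide +kernel

theorem chk_ninn_2503 : allR 1208949 483 (fun q => (fun q => (cand 1539000 12 f8 fsx [0] (LA0 :: LsA) q).isNone) q) = true := by decide +kernel

theorem chk_ninn_2504 : allR 1209432 483 (fun q => (fun q => (cand 1539000 12 f8 fsx [0] (LA0 :: LsA) q).isNone) q) = true := by decide +kernel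

theorem chk_ninn_2505 : allR 1209915 483 (fun q => (fun q => (cand 1539000 12 f8 fsx [0] (LA0 :: LsA) q).isNone) q) = true := by decide +kernel

theorem chk_ninn_2506 : allR 1210398 483 (fun q => (fun q => (cand 1539000 12 f8 fsx [0] (LA0 :: LsA) q).isNone) q) = true := by decide +kernel

theorem chk_ninn_2507 : allR 1210881 483 (fun q => (fun q => (cand 1539000 12 f8 fsx [0] (LA0 :: LsA) q).isNone) q) = true := by decide +kernel

theorem chk_ninn_2508 : allR 1211364 483 (fun q => (fun q => (cand 1539000 12 f8 fsx [0] (LA0 :: LsA) q).isNone) q) = true := by decide +kernel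

theorem chk_ninn_2509 : allR 1211847 483 (fun q => (fun q => (cand 1539000 12 f8 fsx [0] (LA0 :: LsA) q).isNone) q) = true := by decide +kernel

theorem chk_ninn_2510 : allR 1212330 483 (fun q => (fun q => (cand 1539000 12 f8 fsx [0] (LA0 :: LsA) q).isNone) q) = true := by decide +kernel

theorem chk_ninn_2511 : allR 1212813 483 (fun q => (fun q => (cand 1539000 12 f8 fsx [0] (LA0 :: LsA) q).isNone) q) = true := by decide +kernel

theorem chk_ninn_2512 : allR 1213296 483 (fun q => (fun q => (cand 1539000 12 f8 fsx [0] (LA0 :: LsA) q).isNone) q) = true := by decide +kernel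

theorem chk_ninn_2513 : allR 1213779 483 (fun q => (fun q => (cand 1539000 12 f8 fsx [0] (LA0 :: LsA) q).isNone) q) = true := by decide +kernel

theorem chk_ninn_2514 : allR 1214262 483 (fun q => (fun q => (cand 1539000 12 f8 fsx [0] (LA0 :: LsA) q).isNone) q) = true := by decide +kernel

theorem chk_ninn_2515 : allR 1214745 483 (fun q => (fun q => (cand 1539000 12 f8 fsx [0] (LA0 :: LsA) q).isNone) q) = true := by decide +kernel

theorem chk_ninn_2516 : allR 1215228 483 (fun q => (fun q => (cand 1539000 12 f8 fsx [0] (LA0 :: LsA) q).isNone) q) = true := by decide +kernel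

theorem chk_ninn_2517 : allR 1215711 483 (fun q => (fun q => (cand 1539000 12 f8 fsx [0] (LA0 :: LsA) q).isNone) q) = true := by decide +kernel

theorem chk_ninn_2518 : allR 1216194 483 (fun q => (fun q => (cand 1539000 12 f8 fsx [0] (LA0 :: LsA) q).isNone) q) = true := by decide +kernel

theorem chk_ninn_2519 : allR 1216677 483 (fun q => (fun q => (cand 1539000 12 f8 fsx [0] (LA0 :: LsA) q).isNone) q) = true := by decide +kernel

theorem chk_ninn_2520 : allR 1217160 483 (fun q => (fun q => (cand 1539000 12 f8 fsx [0] (LA0 :: LsA) q).isNone) q) = true := by decide +kernel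

theorem chk_ninn_2521 : allR 1217643 483 (fun q => (fun q => (cand 1539000 12 f8 fsx [0] (LA0 :: LsA) q).isNone) q) = true := by decide +kernel

theorem chk_ninn_2522 : allR 1218126 483 (fun q => (fun q => (cand 1539000 12 f8 fsx [0] (LA0 :: LsA) q).isNone) q) = true := by decide +kernel

theorem chk_ninn_2523 : allR 1218609 483 (fun q => (fun q => (cand 1539000 12 f8 fsx [0] (LA0 :: LsA) q).isNone) q) = true := by decide +kernel

theorem chk_ninn_2524 : allR 1219092 483 (fun q => (fun q => (cand 1539000 12 f8 fsx [0] (LA0 :: LsA) q).isNone) q) = true := by decide +kernel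


end Cfsg.Agent.HNOut
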