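import Cfsg.Agent.Lib.Lead.HNOut.NInnx0
import Cfsg.Agent.Lib.Lead.HNOut.NInnx1
import Cfsg.Agent.Lib.Lead.HNOut.NInnx2
import Cfsg.Agent.Lib.Lead.HNOut.NInnx3
import Cfsg.Agent.Lib.Lead.HNOut.NInnx4
import Cfsg.Agent.Lib.Lead.HNOut.NInnx5
import Cfsg.Agent.Lib.Lead.HNOut.NInnx6
import Cfsg.Agent.Lib.Lead.HNOut.NInnx7
import Cfsg.Agent.Lib.Lead.HNOut.NInnx8
import Cfsg.Agent.Lib.Lead.HNOut.NInnx9
import Cfsg.Agent.Lib.Lead.HNOut.NInnx10
import Cfsg.Agent.Lib.Lead.HNOut.NInnx11
import Cfsg.Agent.Lib.Lead.HNOut.NInnx12
import Cfsg.Agent.Lib.Lead.HNOut.NInnx13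
import Cfsg.Agent.Lib.Lead.HNOut.NInnx14
import Cfsg.Agent.Lib.Lead.HNOut.NInnx15
import Cfsg.Agent.Lib.Lead.HNOut.NInnx16
import Cfsg.Agent.Lib.Lead.HNOut.NInnx17
import Cfsg.Agent.Lib.Lead.HNOut.NInnx18
import Cfsg.Agent.Lib.Lead.HNOut.NInnx19
import Cfsg.Agent.Lib.Lead.HNOut.NInnx20
import Cfsg.Agent.Lib.Lead.HNOut.NInnx21
import Cfsg.Agent.Lib.Lead.HNOut.NInnx22
import Cfsg.Agent.Lib.Lead.HNOut.NInnx23
import Cfsg.Agent.Lib.Lead.HNOut.NInnx24
import Cfsg.Agent.Lib.Lead.HNOut.NInnx25
import Cfsg.Agent.Lib.Lead.HNOut.NInnx26
import Cfsg.Agent.Lib.Lead.HNOut.NInnx27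
import Cfsg.Agent.Lib.Lead.HNOut.NInnx28
import Cfsg.Agent.Lib.Lead.HNOut.NInnx29
import Cfsg.Agent.Lib.Lead.HNOut.NInnx30
import Cfsg.Agent.Lib.Lead.HNOut.NInnx31
import Cfsg.Agent.Lib.Lead.HNOut.NInnx32
import Cfsg.Agent.Lib.Lead.HNOut.NInnx33
import Cfsg.Agent.Lib.Lead.HNOut.NInnx34
import Cfsg.Agent.Lib.Lead.HNOut.NInnx35
import Cfsg.Agent.Lib.Lead.HNOut.NInnx36
import Cfsg.Agent.Lib.Lead.HNOut.NInnx37
import Cfsg.Agent.Lib.Lead.HNOut.NInnx38
import Cfsg.Agent.Lib.Lead.HNOut.NInnx39
import Cfsg.Agent.Lib.Lead.HNOut.NInnx40
import Cfsg.Agent.Lib.Lead.HNOut.NInnx41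
import Cfsg.Agent.Lib.Lead.HNOut.NInnx42
import Cfsg.Agent.Lib.Lead.HNOut.NInnx43
import Cfsg.Agent.Lib.Lead.HNOut.NInnx44
import Cfsg.Agent.Lib.Lead.HNOut.NInnx45
import Cfsg.Agent.Lib.Lead.HNOut.NInnx46
import Cfsg.Agent.Lib.Lead.HNOut.NInnx47
import Cfsg.Agent.Lib.Lead.HNOut.NInnx48
import Cfsg.Agent.Lib.Lead.HNOut.NInnx49
import Cfsg.Agent.Lib.Lead.HNOut.NInnx50
import Cfsg.Agent.Lib.Lead.HNOut.NInnx51
import Cfsg.Agent.Lib.Lead.HNOut.NInnx52
import Cfsg.Agent.Lib.Lead.HNOut.NInnx53
import Cfsg.Agent.Lib.Lead.HNOut.NInnx54
import Cfsg.Agent.Lib.Lead.HNOut.NInnx55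
import Cfsg.Agent.Lib.Lead.HNOut.NInnx56
import Cfsg.Agent.Lib.Lead.HNOut.NInnx57
import Cfsg.Agent.Lib.Lead.HNOut.NInnx58
import Cfsg.Agent.Lib.Lead.HNOut.NInnx59
import Cfsg.Agent.Lib.Lead.HNOut.NInnx60
import Cfsg.Agent.Lib.Lead.HNOut.NInnx61
import Cfsg.Agent.Lib.Lead.HNOut.NInnx62
import Cfsg.Agent.Lib.Lead.HNOut.NInnx63
import Cfsg.Agent.Lib.Lead.HNOut.NInnx64
import Cfsg.Agent.Lib.Lead.HNOut.NInnx65
import Cfsg.Agent.Lib.Lead.HNOut.NInnx66
import Cfsg.Agent.Lib.Lead.HNOut.NInnx67
import Cfsg.Agent.Lib.Lead.HNOut.NInnx68
import Cfsg.Agent.Lib.Lead.HNOut.NInnx69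
import Cfsg.Agent.Lib.Lead.HNOut.NInnx70
import Cfsg.Agent.Lib.Lead.HNOut.NInnx71
import Cfsg.Agent.Lib.Lead.HNOut.NInnx72
import Cfsg.Agent.Lib.Lead.HNOut.NInnx73
import Cfsg.Agent.Lib.Lead.HNOut.NInnx74
import Cfsg.Agent.Lib.Lead.HNOut.NInnx75
import Cfsg.Agent.Lib.Lead.HNOut.NInnx76
import Cfsg.Agent.Lib.Lead.HNOut.NInnx77
import Cfsg.Agent.Lib.Lead.HNOut.NInnx78
import Cfsg.Agent.Lib.Lead.HNOut.NInnx79
import Cfsg.Agent.Lib.Lead.HNOut.NInnx80
import Cfsg.Agent.Lib.Lead.HNOut.NInnx81
import Cfsg.Agent.Lib.Lead.HNOut.NInnx82
import Cfsg.Agent.Lib.Lead.HNOut.NInnx83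
import Cfsg.Agent.Lib.Lead.HNOut.NInnx84
import Cfsg.Agent.Lib.Lead.HNOut.NInnx85
import Cfsg.Agent.Lib.Lead.HNOut.NInnx86
import Cfsg.Agent.Lib.Lead.HNOut.NInnx87
import Cfsg.Agent.Lib.Lead.HNOut.NInnx88
import Cfsg.Agent.Lib.Lead.HNOut.NInnx89
import Cfsg.Agent.Lib.Lead.HNOut.NInnx90
import Cfsg.Agent.Lib.Lead.HNOut.NInnx91
import Cfsg.Agent.Lib.Lead.HNOut.NInnx92
import Cfsg.Agent.Lib.Lead.HNOut.NInnx93
import Cfsg.Agent.Lib.Lead.HNOut.NInnx94
import Cfsg.Agent.Lib.Lead.HNOut.NInnx95
import Cfsg.Agent.Lib.Lead.HNOut.NInnx96
import Cfsg.Agent.Lib.Lead.HNOut.NInnx97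
import Cfsg.Agent.Lib.Lead.HNOut.NInnx98
import Cfsg.Agent.Lib.Lead.HNOut.NInnx99
import Cfsg.Agent.Lib.Lead.HNOut.NInnx100
import Cfsg.Agent.Lib.Lead.HNOut.NInnx101
import Cfsg.Agent.Lib.Lead.HNOut.NInnx102
import Cfsg.Agent.Lib.Lead.HNOut.NInnx103
import Cfsg.Agent.Lib.Lead.HNOut.NInnx104
import Cfsg.Agent.Lib.Lead.HNOut.NInnx105
import Cfsg.Agent.Lib.Lead.HNOut.NInnx106
import Cfsg.Agent.Lib.Lead.HNOut.NInnx107
import Cfsg.Agent.Lib.Lead.HNOut.NInnx108
import Cfsg.Agent.Lib.Lead.HNOut.NInnx109
import Cfsg.Agent.Lib.Lead.HNOut.NInnx110
import Cfsg.Agent.Lib.Lead.HNOut.NInnx111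
import Cfsg.Agent.Lib.Lead.HNOut.NInnx112
import Cfsg.Agent.Lib.Lead.HNOut.NInnx113
import Cfsg.Agent.Lib.Lead.HNOut.NInnx114
import Cfsg.Agent.Lib.Lead.HNOut.NInnx115
import Cfsg.Agent.Lib.Lead.HNOut.NInnx116
import Cfsg.Agent.Lib.Lead.HNOut.NInnx117
import Cfsg.Agent.Lib.Lead.HNOut.NInnx118
import Cfsg.Agent.Lib.Lead.HNOut.NInnx119
import Cfsg.Agent.Lib.Lead.HNOut.NInnx120
import Cfsg.Agent.Lib.Lead.HNOut.NInnx121
import Cfsg.Agent.Lib.Lead.HNOut.NInnx122
import Cfsg.Agent.Lib.Lead.HNOut.NInnx123
import Cfsg.Agent.Lib.Lead.HNOut.NInnx124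
import Cfsg.Agent.Lib.Lead.HNOut.NInnx125
import Cfsg.Agent.Lib.Lead.HNOut.NInnx126
import Cfsg.Agent.Lib.Lead.HNOut.NInnx127

/-! # The outer automorphism group of the Harada–Norton group: the image of `x` is not conjugate to `x` (generated) -/

set_option autoImplicit false
set_option maxRecDepth 100000

namespace Cfsg.Agent.HNOut

open Cfsg.Agent.PF Cfsg.Agent.Lib.Helper6 Cfsg.Agent.Lib.Helper6.TC Cfsg.Agent.Lib.Helper6.NatArr
open Cfsg.Agent.PL (Acts evalF)

theorem chk_ninn_grp0 : ∀ c ∈ ([(0, 483), (483, 483), (966, 483), (1449, 483), (1932, 483), (2415, 483), (2898, 483), (3381, 483), (3864, 483), (4347, 483), (4830, 483), (5313, 483), (5796, 483), (6279, 483), (6762, 483), (7245, 483), (7728, 483), (8211, 483), (8694, 483), (9177, 483), (9660, 483), (10143, 483), (10626, 483), (11109, 483), (11592, 483), (12075, 483), (12558, 483), (13041, 483), (13524, 483), (14007, 483), (14490, 483), (14973, 483), (15456, 483), (15939, 483), (16422, 483), (16905, 483), (17388, 483), (17871, 483), (18354, 483), (18837, 483), (19320, 483), (19803, 483), (20286, 483), (20769, 483), (21252,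 483), (21735, 483), (22218, 483), (22701, 483), (23184, 483), (23667, 483), (24150, 483), (24633, 483), (25116, 483), (25599, 483), (26082, 483), (26565, 483), (27048, 483), (27531, 483), (28014, 483), (28497, 483), (28980, 483), (29463, 483), (29946, 483), (30429, 483), (30912, 483), (31395, 483), (31878, 483), (32361, 483), (32844, 483), (33327, 483), (33810, 483), (34293, 483), (34776, 483), (35259, 483), (35742, 483), (36225, 483), (36708, 483), (37191, 483), (37674, 483), (38157, 483), (38640, 483), (39123, 483), (39606, 483), (40089, 483), (40572, 483), (41055, 483), (41538, 483), (42021, 483), (42504, 483), (42987, 483), (43470, 483), (43953, 483), (44436, 483), (44919, 483), (45402, 483), (45885, 483), (46368, 483), (46851, 483), (47334, 483), (47817, 483), (48300, 483), (48783, 483), (49266, 483), (49749, 483), (50232, 483), (50715, 483), (51198, 483), (51681, 483), (52164, 483), (52647, 483), (53130, 483), (53613, 483), (54096, 483), (54579, 483), (55062, 483), (55545, 483), (56028, 483), (56511, 483), (56994, 483), (57477, 483), (57960, 483), (58443, 483), (58926,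 483), (59409, 483), (59892, 483), (60375, 483), (60858, 483), (61341, 483), (61824, 483), (62307, 483), (62790, 483), (63273, 483), (63756, 483), (64239, 483), (64722, 483), (65205, 483), (65688, 483), (66171, 483), (66654, 483), (67137, 483), (67620, 483), (68103, 483), (68586, 483), (69069, 483), (69552, 483), (70035, 483), (70518, 483), (71001, 483), (71484, 483), (71967, 483)] : List (ℕ × ℕ)), allR c.1 c.2 (fun q => (fun q => (cand 1539000 12 f8 fsx [0] (LA0 :: LsA) q).isNone) q) = true :=
  all_cons chk_ninn_0 (all_cons chk_ninn_1 (all_cons chk_ninn_2 (all_cons chk_ninn_3 (all_cons chk_ninn_4 (all_cons chk_ninn_5 (all_cons chk_ninn_6 (all_cons chk_ninn_7 (all_cons chk_ninn_8 (all_cons chk_ninn_9 (all_cons chk_ninn_10 (all_cons chk_ninn_11 (all_cons chk_ninn_12 (all_cons chk_ninn_13 (all_cons chk_ninn_14 (all_cons chk_ninn_15 (all_cons chk_ninn_16 (all_cons chk_ninn_17 (all_cons chk_ninn_18 (all_cons chk_ninn_19 (all_cons chk_ninn_20 (all_cons chk_ninn_21 (all_cons chk_ninn_22 (all_cons chk_ninn_23 (all_cons chk_ninn_24 (all_cons chk_ninn_25 (all_cons chk_ninn_26 (all_cons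 chk_ninn_27 (all_cons chk_ninn_28 (all_cons chk_ninn_29 (all_cons chk_ninn_30 (all_cons chk_ninn_31 (all_cons chk_ninn_32 (all_cons chk_ninn_33 (all_cons chk_ninn_34 (all_cons chk_ninn_35 (all_cons chk_ninn_36 (all_cons chk_ninn_37 (all_cons chk_ninn_38 (all_cons chk_ninn_39 (all_cons chk_ninn_40 (all_cons chk_ninn_41 (all_cons chk_ninn_42 (all_cons chk_ninn_43 (all_cons chk_ninn_44 (all_cons chk_ninn_45 (all_cons chk_ninn_46 (all_cons chk_ninn_47 (all_cons chk_ninn_48 (all_cons chk_ninn_49 (all_cons chk_ninn_50 (all_cons chk_ninn_51 (all_cons chk_ninn_52 (all_cons chk_ninn_53 (all_cons chk_ninn_54 (all_cons chk_ninn_55 (all_cons chk_ninn_56 (all_cons chk_ninn_57 (all_cons chk_ninn_58 (all_cons chk_ninn_59 (all_cons chk_ninn_60 (all_cons chk_ninn_61 (all_cons chk_ninn_62 (all_cons chk_ninn_63 (all_cons chk_ninn_64 (all_cons chk_ninn_65 (all_cons chk_ninn_66 (all_cons chk_ninn_67 (all_cons chk_ninn_68 (all_cons chk_ninn_69 (all_cons chk_ninn_70 (all_cons chk_ninn_71 (all_cons chk_ninn_72 (all_cons chk_ninn_73 (all_cons chk_ninn_74 (all_cons chk_ninn_75 (all_cons chk_ninn_76 (all_cons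 chk_ninn_77 (all_cons chk_ninn_78 (all_cons chk_ninn_79 (all_cons chk_ninn_80 (all_cons chk_ninn_81 (all_cons chk_ninn_82 (all_cons chk_ninn_83 (all_cons chk_ninn_84 (all_cons chk_ninn_85 (all_cons chk_ninn_86 (all_cons chk_ninn_87 (all_cons chk_ninn_88 (all_cons chk_ninn_89 (all_cons chk_ninn_90 (all_cons chk_ninn_91 (all_cons chk_ninn_92 (all_cons chk_ninn_93 (all_cons chk_ninn_94 (all_cons chk_ninn_95 (all_cons chk_ninn_96 (all_cons chk_ninn_97 (all_cons chk_ninn_98 (all_cons chk_ninn_99 (all_cons chk_ninn_100 (all_cons chk_ninn_101 (all_cons chk_ninn_102 (all_cons chk_ninn_103 (all_cons chk_ninn_104 (all_cons chk_ninn_105 (all_cons chk_ninn_106 (all_cons chk_ninn_107 (all_cons chk_ninn_108 (all_cons chk_ninn_109 (all_cons chk_ninn_110 (all_cons chk_ninn_111 (all_cons chk_ninn_112 (all_cons chk_ninn_113 (all_cons chk_ninn_114 (all_cons chk_ninn_115 (all_cons chk_ninn_116 (all_cons chk_ninn_117 (all_cons chk_ninn_118 (all_cons chk_ninn_119 (all_cons chk_ninn_120 (all_cons chk_ninn_121 (all_cons chk_ninn_122 (all_cons chk_ninn_123 (all_cons chk_ninn_124 (all_cons chk_ninn_125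 (all_cons chk_ninn_126 (all_cons chk_ninn_127 (all_cons chk_ninn_128 (all_cons chk_ninn_129 (all_cons chk_ninn_130 (all_cons chk_ninn_131 (all_cons chk_ninn_132 (all_cons chk_ninn_133 (all_cons chk_ninn_134 (all_cons chk_ninn_135 (all_cons chk_ninn_136 (all_cons chk_ninn_137 (all_cons chk_ninn_138 (all_cons chk_ninn_139 (all_cons chk_ninn_140 (all_cons chk_ninn_141 (all_cons chk_ninn_142 (all_cons chk_ninn_143 (all_cons chk_ninn_144 (all_cons chk_ninn_145 (all_cons chk_ninn_146 (all_cons chk_ninn_147 (all_cons chk_ninn_148 (all_cons chk_ninn_149 (all_nil))))))))))))))))))))))))))))))))))))))))))))))))))))))))))))))))))))))))))))))))))))))))))))))))))))))))))))))))))))))))))))))))))))))))))))))))))))))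

theorem chk_ninn_grp1 : ∀ c ∈ ([(72450, 483), (72933, 483), (73416, 483), (73899, 483), (74382, 483), (74865, 483), (75348, 483), (75831, 483), (76314, 483), (76797, 483), (77280, 483), (77763, 483), (78246, 483), (78729, 483), (79212, 483), (79695, 483), (80178, 483), (80661, 483), (81144, 483), (81627, 483), (82110, 483), (82593, 483), (83076, 483), (83559, 483), (84042, 483), (84525, 483), (85008, 483), (85491, 483), (85974, 483), (86457, 483), (86940, 483), (87423, 483), (87906, 483), (88389, 483), (88872, 483), (89355, 483), (89838, 483), (90321, 483), (90804, 483), (91287, 483), (91770, 483), (92253, 483), (92736, 483), (93219, 483), (93702, 483), (94185, 483), (94668, 483), (95151, 483), (95634, 483), (96117, 483), (96600, 483), (97083, 483), (97566, 483), (98049, 483), (98532, 483), (99015, 483), (99498, 483), (99981, 483), (100464, 483), (100947, 483), (101430, 483), (101913, 483), (102396, 483), (102879, 483), (103362, 483), (103845, 483), (104328, 483), (104811, 483), (105294, 483), (105777, 483), (106260, 483), (106743, 483), (107226, 483), (107709, 483), (108192,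 483), (108675, 483), (109158, 483), (109641, 483), (110124, 483), (110607, 483), (111090, 483), (111573, 483), (112056, 483), (112539, 483), (113022, 483), (113505, 483), (113988, 483), (114471, 483), (114954, 483), (115437, 483), (115920, 483), (116403, 483), (116886, 483), (117369, 483), (117852, 483), (118335, 483), (118818, 483), (119301, 483), (119784, 483), (120267, 483), (120750, 483), (121233, 483), (121716, 483), (122199, 483), (122682, 483), (123165, 483), (123648, 483), (124131, 483), (124614, 483), (125097, 483), (125580, 483), (126063, 483), (126546, 483), (127029, 483), (127512, 483), (127995, 483), (128478, 483), (128961, 483), (129444, 483), (129927, 483), (130410, 483), (130893, 483), (131376, 483), (131859, 483), (132342, 483), (132825, 483), (133308, 483), (133791, 483), (134274, 483), (134757, 483), (135240, 483), (135723, 483), (136206, 483), (136689, 483), (137172, 483), (137655, 483), (138138, 483), (138621, 483), (139104, 483), (139587, 483), (140070, 483), (140553, 483), (141036, 483), (141519, 483), (142002, 483), (142485, 483), (142968, 483), (143451,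 483), (143934, 483), (144417, 483)] : List (ℕ × ℕ)), allR c.1 c.2 (fun q => (fun q => (cand 1539000 12 f8 fsx [0] (LA0 :: LsA) q).isNone) q) = true :=
  all_cons chk_ninn_150 (all_cons chk_ninn_151 (all_cons chk_ninn_152 (all_cons chk_ninn_153 (all_cons chk_ninn_154 (all_cons chk_ninn_155 (all_cons chk_ninn_156 (all_cons chk_ninn_157 (all_cons chk_ninn_158 (all_cons chk_ninn_159 (all_cons chk_ninn_160 (all_cons chk_ninn_161 (all_cons chk_ninn_162 (all_cons chk_ninn_163 (all_cons chk_ninn_164 (all_cons chk_ninn_165 (all_cons chk_ninn_166 (all_cons chk_ninn_167 (all_cons chk_ninn_168 (all_cons chk_ninn_169 (all_cons chk_ninn_170 (all_cons chk_ninn_171 (all_cons chk_ninn_172 (all_cons chk_ninn_173 (all_cons chk_ninn_174 (all_cons chk_ninn_175 (all_cons chk_ninn_176 (all_cons chk_ninn_177 (all_cons chk_ninn_178 (all_cons chk_ninn_179 (all_cons chk_ninn_180 (all_cons chk_ninn_181 (all_cons chk_ninn_182 (all_cons chk_ninn_183 (all_cons chk_ninn_184 (all_cons chk_ninn_185 (all_cons chk_ninn_186 (all_cons chk_ninn_187 (all_cons chk_ninn_188 (all_cons chk_ninn_189 (all_cons chk_ninn_190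 (all_cons chk_ninn_191 (all_cons chk_ninn_192 (all_cons chk_ninn_193 (all_cons chk_ninn_194 (all_cons chk_ninn_195 (all_cons chk_ninn_196 (all_cons chk_ninn_197 (all_cons chk_ninn_198 (all_cons chk_ninn_199 (all_cons chk_ninn_200 (all_cons chk_ninn_201 (all_cons chk_ninn_202 (all_cons chk_ninn_203 (all_cons chk_ninn_204 (all_cons chk_ninn_205 (all_cons chk_ninn_206 (all_cons chk_ninn_207 (all_cons chk_ninn_208 (all_cons chk_ninn_209 (all_cons chk_ninn_210 (all_cons chk_ninn_211 (all_cons chk_ninn_212 (all_cons chk_ninn_213 (all_cons chk_ninn_214 (all_cons chk_ninn_215 (all_cons chk_ninn_216 (all_cons chk_ninn_217 (all_cons chk_ninn_218 (all_cons chk_ninn_219 (all_cons chk_ninn_220 (all_cons chk_ninn_221 (all_cons chk_ninn_222 (all_cons chk_ninn_223 (all_cons chk_ninn_224 (all_cons chk_ninn_225 (all_cons chk_ninn_226 (all_cons chk_ninn_227 (all_cons chk_ninn_228 (all_cons chk_ninn_229 (all_cons chk_ninn_230 (all_cons chk_ninn_231 (all_cons chk_ninn_232 (all_cons chk_ninn_233 (all_cons chk_ninn_234 (all_cons chk_ninn_235 (all_cons chk_ninn_236 (all_cons chk_ninn_237 (all_cons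 chk_ninn_238 (all_cons chk_ninn_239 (all_cons chk_ninn_240 (all_cons chk_ninn_241 (all_cons chk_ninn_242 (all_cons chk_ninn_243 (all_cons chk_ninn_244 (all_cons chk_ninn_245 (all_cons chk_ninn_246 (all_cons chk_ninn_247 (all_cons chk_ninn_248 (all_cons chk_ninn_249 (all_cons chk_ninn_250 (all_cons chk_ninn_251 (all_cons chk_ninn_252 (all_cons chk_ninn_253 (all_cons chk_ninn_254 (all_cons chk_ninn_255 (all_cons chk_ninn_256 (all_cons chk_ninn_257 (all_cons chk_ninn_258 (all_cons chk_ninn_259 (all_cons chk_ninn_260 (all_cons chk_ninn_261 (all_cons chk_ninn_262 (all_cons chk_ninn_263 (all_cons chk_ninn_264 (all_cons chk_ninn_265 (all_cons chk_ninn_266 (all_cons chk_ninn_267 (all_cons chk_ninn_268 (all_cons chk_ninn_269 (all_cons chk_ninn_270 (all_cons chk_ninn_271 (all_cons chk_ninn_272 (all_cons chk_ninn_273 (all_cons chk_ninn_274 (all_cons chk_ninn_275 (all_cons chk_ninn_276 (all_cons chk_ninn_277 (all_cons chk_ninn_278 (all_cons chk_ninn_279 (all_cons chk_ninn_280 (all_cons chk_ninn_281 (all_cons chk_ninn_282 (all_cons chk_ninn_283 (all_cons chk_ninn_284 (all_cons chk_ninn_285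 (all_cons chk_ninn_286 (all_cons chk_ninn_287 (all_cons chk_ninn_288 (all_cons chk_ninn_289 (all_cons chk_ninn_290 (all_cons chk_ninn_291 (all_cons chk_ninn_292 (all_cons chk_ninn_293 (all_cons chk_ninn_294 (all_cons chk_ninn_295 (all_cons chk_ninn_296 (all_cons chk_ninn_297 (all_cons chk_ninn_298 (all_cons chk_ninn_299 (all_nil))))))))))))))))))))))))))))))))))))))))))))))))))))))))))))))))))))))))))))))))))))))))))))))))))))))))))))))))))))))))))))))))))))))))))))))))))))))

theorem chk_ninn_grp2 : ∀ c ∈ ([(144900, 483), (145383, 483), (145866, 483), (146349, 483), (146832, 483), (147315, 483), (147798, 483), (148281, 483), (148764, 483), (149247, 483), (149730, 483), (150213, 483), (150696, 483), (151179, 483), (151662, 483), (152145, 483), (152628, 483), (153111, 483), (153594, 483), (154077, 483), (154560, 483), (155043, 483), (155526, 483), (156009, 483), (156492, 483), (156975, 483), (157458, 483), (157941, 483), (158424, 483), (158907, 483), (159390, 483), (159873, 483), (160356, 483), (160839, 483), (161322, 483), (161805, 483), (162288, 483), (162771, 483), (163254,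 483), (163737, 483), (164220, 483), (164703, 483), (165186, 483), (165669, 483), (166152, 483), (166635, 483), (167118, 483), (167601, 483), (168084, 483), (168567, 483), (169050, 483), (169533, 483), (170016, 483), (170499, 483), (170982, 483), (171465, 483), (171948, 483), (172431, 483), (172914, 483), (173397, 483), (173880, 483), (174363, 483), (174846, 483), (175329, 483), (175812, 483), (176295, 483), (176778, 483), (177261, 483), (177744, 483), (178227, 483), (178710, 483), (179193, 483), (179676, 483), (180159, 483), (180642, 483), (181125, 483), (181608, 483), (182091, 483), (182574, 483), (183057, 483), (183540, 483), (184023, 483), (184506, 483), (184989, 483), (185472, 483), (185955, 483), (186438, 483), (186921, 483), (187404, 483), (187887, 483), (188370, 483), (188853, 483), (189336, 483), (189819, 483), (190302, 483), (190785, 483), (191268, 483), (191751, 483), (192234, 483), (192717, 483), (193200, 483), (193683, 483), (194166, 483), (194649, 483), (195132, 483), (195615, 483), (196098, 483), (196581, 483), (197064, 483), (197547, 483), (198030, 483), (198513,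 483), (198996, 483), (199479, 483), (199962, 483), (200445, 483), (200928, 483), (201411, 483), (201894, 483), (202377, 483), (202860, 483), (203343, 483), (203826, 483), (204309, 483), (204792, 483), (205275, 483), (205758, 483), (206241, 483), (206724, 483), (207207, 483), (207690, 483), (208173, 483), (208656, 483), (209139, 483), (209622, 483), (210105, 483), (210588, 483), (211071, 483), (211554, 483), (212037, 483), (212520, 483), (213003, 483), (213486, 483), (213969, 483), (214452, 483), (214935, 483), (215418, 483), (215901, 483), (216384, 483), (216867, 483)] : List (ℕ × ℕ)), allR c.1 c.2 (fun q => (fun q => (cand 1539000 12 f8 fsx [0] (LA0 :: LsA) q).isNone) q) = true :=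
  all_cons chk_ninn_300 (all_cons chk_ninn_301 (all_cons chk_ninn_302 (all_cons chk_ninn_303 (all_cons chk_ninn_304 (all_cons chk_ninn_305 (all_cons chk_ninn_306 (all_cons chk_ninn_307 (all_cons chk_ninn_308 (all_cons chk_ninn_309 (all_cons chk_ninn_310 (all_cons chk_ninn_311 (all_cons chk_ninn_312 (all_cons chk_ninn_313 (all_cons chk_ninn_314 (all_cons chk_ninn_315 (all_cons chk_ninn_316 (all_cons chk_ninn_317 (all_cons chk_ninn_318 (all_cons chk_ninn_319 (all_cons chk_ninn_320 (all_cons chk_ninn_321 (all_cons chk_ninn_322 (all_cons chk_ninn_323 (all_cons chk_ninn_324 (all_cons chk_ninn_325 (all_cons chk_ninn_326 (all_cons chk_ninn_327 (all_cons chk_ninn_328 (all_cons chk_ninn_329 (all_cons chk_ninn_330 (all_cons chk_ninn_331 (all_cons chk_ninn_332 (all_cons chk_ninn_333 (all_cons chk_ninn_334 (all_cons chk_ninn_335 (all_cons chk_ninn_336 (all_cons chk_ninn_337 (all_cons chk_ninn_338 (all_cons chk_ninn_339 (all_cons chk_ninn_340 (all_cons chk_ninn_341 (all_cons chk_ninn_342 (all_cons chk_ninn_343 (all_cons chk_ninn_344 (all_cons chk_ninn_345 (all_cons chk_ninn_346 (all_cons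 chk_ninn_347 (all_cons chk_ninn_348 (all_cons chk_ninn_349 (all_cons chk_ninn_350 (all_cons chk_ninn_351 (all_cons chk_ninn_352 (all_cons chk_ninn_353 (all_cons chk_ninn_354 (all_cons chk_ninn_355 (all_cons chk_ninn_356 (all_cons chk_ninn_357 (all_cons chk_ninn_358 (all_cons chk_ninn_359 (all_cons chk_ninn_360 (all_cons chk_ninn_361 (all_cons chk_ninn_362 (all_cons chk_ninn_363 (all_cons chk_ninn_364 (all_cons chk_ninn_365 (all_cons chk_ninn_366 (all_cons chk_ninn_367 (all_cons chk_ninn_368 (all_cons chk_ninn_369 (all_cons chk_ninn_370 (all_cons chk_ninn_371 (all_cons chk_ninn_372 (all_cons chk_ninn_373 (all_cons chk_ninn_374 (all_cons chk_ninn_375 (all_cons chk_ninn_376 (all_cons chk_ninn_377 (all_cons chk_ninn_378 (all_cons chk_ninn_379 (all_cons chk_ninn_380 (all_cons chk_ninn_381 (all_cons chk_ninn_382 (all_cons chk_ninn_383 (all_cons chk_ninn_384 (all_cons chk_ninn_385 (all_cons chk_ninn_386 (all_cons chk_ninn_387 (all_cons chk_ninn_388 (all_cons chk_ninn_389 (all_cons chk_ninn_390 (all_cons chk_ninn_391 (all_cons chk_ninn_392 (all_cons chk_ninn_393 (all_cons chk_ninn_394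 (all_cons chk_ninn_395 (all_cons chk_ninn_396 (all_cons chk_ninn_397 (all_cons chk_ninn_398 (all_cons chk_ninn_399 (all_cons chk_ninn_400 (all_cons chk_ninn_401 (all_cons chk_ninn_402 (all_cons chk_ninn_403 (all_cons chk_ninn_404 (all_cons chk_ninn_405 (all_cons chk_ninn_406 (all_cons chk_ninn_407 (all_cons chk_ninn_408 (all_cons chk_ninn_409 (all_cons chk_ninn_410 (all_cons chk_ninn_411 (all_cons chk_ninn_412 (all_cons chk_ninn_413 (all_cons chk_ninn_414 (all_cons chk_ninn_415 (all_cons chk_ninn_416 (all_cons chk_ninn_417 (all_cons chk_ninn_418 (all_cons chk_ninn_419 (all_cons chk_ninn_420 (all_cons chk_ninn_421 (all_cons chk_ninn_422 (all_cons chk_ninn_423 (all_cons chk_ninn_424 (all_cons chk_ninn_425 (all_cons chk_ninn_426 (all_cons chk_ninn_427 (all_cons chk_ninn_428 (all_cons chk_ninn_429 (all_cons chk_ninn_430 (all_cons chk_ninn_431 (all_cons chk_ninn_432 (all_cons chk_ninn_433 (all_cons chk_ninn_434 (all_cons chk_ninn_435 (all_cons chk_ninn_436 (all_cons chk_ninn_437 (all_cons chk_ninn_438 (all_cons chk_ninn_439 (all_cons chk_ninn_440 (all_cons chk_ninn_441 (all_cons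 chk_ninn_442 (all_cons chk_ninn_443 (all_cons chk_ninn_444 (all_cons chk_ninn_445 (all_cons chk_ninn_446 (all_cons chk_ninn_447 (all_cons chk_ninn_448 (all_cons chk_ninn_449 (all_nil))))))))))))))))))))))))))))))))))))))))))))))))))))))))))))))))))))))))))))))))))))))))))))))))))))))))))))))))))))))))))))))))))))))))))))))))))))))

theorem chk_ninn_grp3 : ∀ c ∈ ([(217350, 483), (217833, 483), (218316, 483), (218799, 483), (219282, 483), (219765, 483), (220248, 483), (220731, 483), (221214, 483), (221697, 483), (222180, 483), (222663, 483), (223146, 483), (223629, 483), (224112, 483), (224595, 483), (225078, 483), (225561, 483), (226044, 483), (226527, 483), (227010, 483), (227493, 483), (227976, 483), (228459, 483), (228942, 483), (229425, 483), (229908, 483), (230391, 483), (230874, 483), (231357, 483), (231840, 483), (232323, 483), (232806, 483), (233289, 483), (233772, 483), (234255, 483), (234738, 483), (235221, 483), (235704, 483), (236187, 483), (236670, 483), (237153, 483), (237636, 483), (238119, 483), (238602, 483), (239085, 483), (239568, 483), (240051, 483), (240534,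 483), (241017, 483), (241500, 483), (241983, 483), (242466, 483), (242949, 483), (243432, 483), (243915, 483), (244398, 483), (244881, 483), (245364, 483), (245847, 483), (246330, 483), (246813, 483), (247296, 483), (247779, 483), (248262, 483), (248745, 483), (249228, 483), (249711, 483), (250194, 483), (250677, 483), (251160, 483), (251643, 483), (252126, 483), (252609, 483), (253092, 483), (253575, 483), (254058, 483), (254541, 483), (255024, 483), (255507, 483), (255990, 483), (256473, 483), (256956, 483), (257439, 483), (257922, 483), (258405, 483), (258888, 483), (259371, 483), (259854, 483), (260337, 483), (260820, 483), (261303, 483), (261786, 483), (262269, 483), (262752, 483), (263235, 483), (263718, 483), (264201, 483), (264684, 483), (265167, 483), (265650, 483), (266133, 483), (266616, 483), (267099, 483), (267582, 483), (268065, 483), (268548, 483), (269031, 483), (269514, 483), (269997, 483), (270480, 483), (270963, 483), (271446, 483), (271929, 483), (272412, 483), (272895, 483), (273378, 483), (273861, 483), (274344, 483), (274827, 483), (275310, 483), (275793,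 483), (276276, 483), (276759, 483), (277242, 483), (277725, 483), (278208, 483), (278691, 483), (279174, 483), (279657, 483), (280140, 483), (280623, 483), (281106, 483), (281589, 483), (282072, 483), (282555, 483), (283038, 483), (283521, 483), (284004, 483), (284487, 483), (284970, 483), (285453, 483), (285936, 483), (286419, 483), (286902, 483), (287385, 483), (287868, 483), (288351, 483), (288834, 483), (289317, 483)] : List (ℕ × ℕ)), allR c.1 c.2 (fun q => (fun q => (cand 1539000 12 f8 fsx [0] (LA0 :: LsA) q).isNone) q) = true :=
  all_cons chk_ninn_450 (all_cons chk_ninn_451 (all_cons chk_ninn_452 (all_cons chk_ninn_453 (all_cons chk_ninn_454 (all_cons chk_ninn_455 (all_cons chk_ninn_456 (all_cons chk_ninn_457 (all_cons chk_ninn_458 (all_cons chk_ninn_459 (all_cons chk_ninn_460 (all_cons chk_ninn_461 (all_cons chk_ninn_462 (all_cons chk_ninn_463 (all_cons chk_ninn_464 (all_cons chk_ninn_465 (all_cons chk_ninn_466 (all_cons chk_ninn_467 (all_cons chk_ninn_468 (all_cons chk_ninn_469 (all_cons chk_ninn_470 (all_cons chk_ninn_471 (all_cons chk_ninn_472 (all_cons chk_ninn_473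 (all_cons chk_ninn_474 (all_cons chk_ninn_475 (all_cons chk_ninn_476 (all_cons chk_ninn_477 (all_cons chk_ninn_478 (all_cons chk_ninn_479 (all_cons chk_ninn_480 (all_cons chk_ninn_481 (all_cons chk_ninn_482 (all_cons chk_ninn_483 (all_cons chk_ninn_484 (all_cons chk_ninn_485 (all_cons chk_ninn_486 (all_cons chk_ninn_487 (all_cons chk_ninn_488 (all_cons chk_ninn_489 (all_cons chk_ninn_490 (all_cons chk_ninn_491 (all_cons chk_ninn_492 (all_cons chk_ninn_493 (all_cons chk_ninn_494 (all_cons chk_ninn_495 (all_cons chk_ninn_496 (all_cons chk_ninn_497 (all_cons chk_ninn_498 (all_cons chk_ninn_499 (all_cons chk_ninn_500 (all_cons chk_ninn_501 (all_cons chk_ninn_502 (all_cons chk_ninn_503 (all_cons chk_ninn_504 (all_cons chk_ninn_505 (all_cons chk_ninn_506 (all_cons chk_ninn_507 (all_cons chk_ninn_508 (all_cons chk_ninn_509 (all_cons chk_ninn_510 (all_cons chk_ninn_511 (all_cons chk_ninn_512 (all_cons chk_ninn_513 (all_cons chk_ninn_514 (all_cons chk_ninn_515 (all_cons chk_ninn_516 (all_cons chk_ninn_517 (all_cons chk_ninn_518 (all_cons chk_ninn_519 (all_cons chk_ninn_520 (all_cons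 chk_ninn_521 (all_cons chk_ninn_522 (all_cons chk_ninn_523 (all_cons chk_ninn_524 (all_cons chk_ninn_525 (all_cons chk_ninn_526 (all_cons chk_ninn_527 (all_cons chk_ninn_528 (all_cons chk_ninn_529 (all_cons chk_ninn_530 (all_cons chk_ninn_531 (all_cons chk_ninn_532 (all_cons chk_ninn_533 (all_cons chk_ninn_534 (all_cons chk_ninn_535 (all_cons chk_ninn_536 (all_cons chk_ninn_537 (all_cons chk_ninn_538 (all_cons chk_ninn_539 (all_cons chk_ninn_540 (all_cons chk_ninn_541 (all_cons chk_ninn_542 (all_cons chk_ninn_543 (all_cons chk_ninn_544 (all_cons chk_ninn_545 (all_cons chk_ninn_546 (all_cons chk_ninn_547 (all_cons chk_ninn_548 (all_cons chk_ninn_549 (all_cons chk_ninn_550 (all_cons chk_ninn_551 (all_cons chk_ninn_552 (all_cons chk_ninn_553 (all_cons chk_ninn_554 (all_cons chk_ninn_555 (all_cons chk_ninn_556 (all_cons chk_ninn_557 (all_cons chk_ninn_558 (all_cons chk_ninn_559 (all_cons chk_ninn_560 (all_cons chk_ninn_561 (all_cons chk_ninn_562 (all_cons chk_ninn_563 (all_cons chk_ninn_564 (all_cons chk_ninn_565 (all_cons chk_ninn_566 (all_cons chk_ninn_567 (all_cons chk_ninn_568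 (all_cons chk_ninn_569 (all_cons chk_ninn_570 (all_cons chk_ninn_571 (all_cons chk_ninn_572 (all_cons chk_ninn_573 (all_cons chk_ninn_574 (all_cons chk_ninn_575 (all_cons chk_ninn_576 (all_cons chk_ninn_577 (all_cons chk_ninn_578 (all_cons chk_ninn_579 (all_cons chk_ninn_580 (all_cons chk_ninn_581 (all_cons chk_ninn_582 (all_cons chk_ninn_583 (all_cons chk_ninn_584 (all_cons chk_ninn_585 (all_cons chk_ninn_586 (all_cons chk_ninn_587 (all_cons chk_ninn_588 (all_cons chk_ninn_589 (all_cons chk_ninn_590 (all_cons chk_ninn_591 (all_cons chk_ninn_592 (all_cons chk_ninn_593 (all_cons chk_ninn_594 (all_cons chk_ninn_595 (all_cons chk_ninn_596 (all_cons chk_ninn_597 (all_cons chk_ninn_598 (all_cons chk_ninn_599 (all_nil))))))))))))))))))))))))))))))))))))))))))))))))))))))))))))))))))))))))))))))))))))))))))))))))))))))))))))))))))))))))))))))))))))))))))))))))))))))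

theorem chk_ninn_grp4 : ∀ c ∈ ([(289800, 483), (290283, 483), (290766, 483), (291249, 483), (291732, 483), (292215, 483), (292698, 483), (293181, 483), (293664, 483), (294147, 483), (294630, 483), (295113, 483), (295596, 483), (296079, 483), (296562, 483), (297045, 483), (297528, 483), (298011, 483), (298494, 483), (298977, 483), (299460, 483), (299943, 483), (300426, 483), (300909, 483), (301392, 483), (301875, 483), (302358, 483), (302841, 483), (303324, 483), (303807, 483), (304290, 483), (304773, 483), (305256, 483), (305739, 483), (306222, 483), (306705, 483), (307188, 483), (307671, 483), (308154, 483), (308637, 483), (309120, 483), (309603, 483), (310086, 483), (310569, 483), (311052, 483), (311535, 483), (312018, 483), (312501, 483), (312984, 483), (313467, 483), (313950, 483), (314433, 483), (314916, 483), (315399, 483), (315882, 483), (316365, 483), (316848, 483), (317331, 483), (317814, 483), (318297, 483), (318780, 483), (319263, 483), (319746, 483), (320229, 483), (320712, 483), (321195, 483), (321678, 483), (322161, 483), (322644, 483), (323127, 483), (323610,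 483), (324093, 483), (324576, 483), (325059, 483), (325542, 483), (326025, 483), (326508, 483), (326991, 483), (327474, 483), (327957, 483), (328440, 483), (328923, 483), (329406, 483), (329889, 483), (330372, 483), (330855, 483), (331338, 483), (331821, 483), (332304, 483), (332787, 483), (333270, 483), (333753, 483), (334236, 483), (334719, 483), (335202, 483), (335685, 483), (336168, 483), (336651, 483), (337134, 483), (337617, 483), (338100, 483), (338583, 483), (339066, 483), (339549, 483), (340032, 483), (340515, 483), (340998, 483), (341481, 483), (341964, 483), (342447, 483), (342930, 483), (343413, 483), (343896, 483), (344379, 483), (344862, 483), (345345, 483), (345828, 483), (346311, 483), (346794, 483), (347277, 483), (347760, 483), (348243, 483), (348726, 483), (349209, 483), (349692, 483), (350175, 483), (350658, 483), (351141, 483), (351624, 483), (352107, 483), (352590, 483), (353073, 483), (353556, 483), (354039, 483), (354522, 483), (355005, 483), (355488, 483), (355971, 483), (356454, 483), (356937, 483), (357420, 483), (357903, 483), (358386, 483), (358869,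 483), (359352, 483), (359835, 483), (360318, 483), (360801, 483), (361284, 483), (361767, 483)] : List (ℕ × ℕ)), allR c.1 c.2 (fun q => (fun q => (cand 1539000 12 f8 fsx [0] (LA0 :: LsA) q).isNone) q) = true :=
  all_cons chk_ninn_600 (all_cons chk_ninn_601 (all_cons chk_ninn_602 (all_cons chk_ninn_603 (all_cons chk_ninn_604 (all_cons chk_ninn_605 (all_cons chk_ninn_606 (all_cons chk_ninn_607 (all_cons chk_ninn_608 (all_cons chk_ninn_609 (all_cons chk_ninn_610 (all_cons chk_ninn_611 (all_cons chk_ninn_612 (all_cons chk_ninn_613 (all_cons chk_ninn_614 (all_cons chk_ninn_615 (all_cons chk_ninn_616 (all_cons chk_ninn_617 (all_cons chk_ninn_618 (all_cons chk_ninn_619 (all_cons chk_ninn_620 (all_cons chk_ninn_621 (all_cons chk_ninn_622 (all_cons chk_ninn_623 (all_cons chk_ninn_624 (all_cons chk_ninn_625 (all_cons chk_ninn_626 (all_cons chk_ninn_627 (all_cons chk_ninn_628 (all_cons chk_ninn_629 (all_cons chk_ninn_630 (all_cons chk_ninn_631 (all_cons chk_ninn_632 (all_cons chk_ninn_633 (all_cons chk_ninn_634 (all_cons chk_ninn_635 (all_cons chk_ninn_636 (all_cons chk_ninn_637 (all_cons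 chk_ninn_638 (all_cons chk_ninn_639 (all_cons chk_ninn_640 (all_cons chk_ninn_641 (all_cons chk_ninn_642 (all_cons chk_ninn_643 (all_cons chk_ninn_644 (all_cons chk_ninn_645 (all_cons chk_ninn_646 (all_cons chk_ninn_647 (all_cons chk_ninn_648 (all_cons chk_ninn_649 (all_cons chk_ninn_650 (all_cons chk_ninn_651 (all_cons chk_ninn_652 (all_cons chk_ninn_653 (all_cons chk_ninn_654 (all_cons chk_ninn_655 (all_cons chk_ninn_656 (all_cons chk_ninn_657 (all_cons chk_ninn_658 (all_cons chk_ninn_659 (all_cons chk_ninn_660 (all_cons chk_ninn_661 (all_cons chk_ninn_662 (all_cons chk_ninn_663 (all_cons chk_ninn_664 (all_cons chk_ninn_665 (all_cons chk_ninn_666 (all_cons chk_ninn_667 (all_cons chk_ninn_668 (all_cons chk_ninn_669 (all_cons chk_ninn_670 (all_cons chk_ninn_671 (all_cons chk_ninn_672 (all_cons chk_ninn_673 (all_cons chk_ninn_674 (all_cons chk_ninn_675 (all_cons chk_ninn_676 (all_cons chk_ninn_677 (all_cons chk_ninn_678 (all_cons chk_ninn_679 (all_cons chk_ninn_680 (all_cons chk_ninn_681 (all_cons chk_ninn_682 (all_cons chk_ninn_683 (all_cons chk_ninn_684 (all_cons chk_ninn_685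 (all_cons chk_ninn_686 (all_cons chk_ninn_687 (all_cons chk_ninn_688 (all_cons chk_ninn_689 (all_cons chk_ninn_690 (all_cons chk_ninn_691 (all_cons chk_ninn_692 (all_cons chk_ninn_693 (all_cons chk_ninn_694 (all_cons chk_ninn_695 (all_cons chk_ninn_696 (all_cons chk_ninn_697 (all_cons chk_ninn_698 (all_cons chk_ninn_699 (all_cons chk_ninn_700 (all_cons chk_ninn_701 (all_cons chk_ninn_702 (all_cons chk_ninn_703 (all_cons chk_ninn_704 (all_cons chk_ninn_705 (all_cons chk_ninn_706 (all_cons chk_ninn_707 (all_cons chk_ninn_708 (all_cons chk_ninn_709 (all_cons chk_ninn_710 (all_cons chk_ninn_711 (all_cons chk_ninn_712 (all_cons chk_ninn_713 (all_cons chk_ninn_714 (all_cons chk_ninn_715 (all_cons chk_ninn_716 (all_cons chk_ninn_717 (all_cons chk_ninn_718 (all_cons chk_ninn_719 (all_cons chk_ninn_720 (all_cons chk_ninn_721 (all_cons chk_ninn_722 (all_cons chk_ninn_723 (all_cons chk_ninn_724 (all_cons chk_ninn_725 (all_cons chk_ninn_726 (all_cons chk_ninn_727 (all_cons chk_ninn_728 (all_cons chk_ninn_729 (all_cons chk_ninn_730 (all_cons chk_ninn_731 (all_cons chk_ninn_732 (all_cons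 chk_ninn_733 (all_cons chk_ninn_734 (all_cons chk_ninn_735 (all_cons chk_ninn_736 (all_cons chk_ninn_737 (all_cons chk_ninn_738 (all_cons chk_ninn_739 (all_cons chk_ninn_740 (all_cons chk_ninn_741 (all_cons chk_ninn_742 (all_cons chk_ninn_743 (all_cons chk_ninn_744 (all_cons chk_ninn_745 (all_cons chk_ninn_746 (all_cons chk_ninn_747 (all_cons chk_ninn_748 (all_cons chk_ninn_749 (all_nil))))))))))))))))))))))))))))))))))))))))))))))))))))))))))))))))))))))))))))))))))))))))))))))))))))))))))))))))))))))))))))))))))))))))))))))))))))))

theorem chk_ninn_grp5 : ∀ c ∈ ([(362250, 483), (362733, 483), (363216, 483), (363699, 483), (364182, 483), (364665, 483), (365148, 483), (365631, 483), (366114, 483), (366597, 483), (367080, 483), (367563, 483), (368046, 483), (368529, 483), (369012, 483), (369495, 483), (369978, 483), (370461, 483), (370944, 483), (371427, 483), (371910, 483), (372393, 483), (372876, 483), (373359, 483), (373842, 483), (374325, 483), (374808, 483), (375291, 483), (375774, 483), (376257, 483), (376740, 483), (377223, 483), (377706, 483), (378189, 483), (378672,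 483), (379155, 483), (379638, 483), (380121, 483), (380604, 483), (381087, 483), (381570, 483), (382053, 483), (382536, 483), (383019, 483), (383502, 483), (383985, 483), (384468, 483), (384951, 483), (385434, 483), (385917, 483), (386400, 483), (386883, 483), (387366, 483), (387849, 483), (388332, 483), (388815, 483), (389298, 483), (389781, 483), (390264, 483), (390747, 483), (391230, 483), (391713, 483), (392196, 483), (392679, 483), (393162, 483), (393645, 483), (394128, 483), (394611, 483), (395094, 483), (395577, 483), (396060, 483), (396543, 483), (397026, 483), (397509, 483), (397992, 483), (398475, 483), (398958, 483), (399441, 483), (399924, 483), (400407, 483), (400890, 483), (401373, 483), (401856, 483), (402339, 483), (402822, 483), (403305, 483), (403788, 483), (404271, 483), (404754, 483), (405237, 483), (405720, 483), (406203, 483), (406686, 483), (407169, 483), (407652, 483), (408135, 483), (408618, 483), (409101, 483), (409584, 483), (410067, 483), (410550, 483), (411033, 483), (411516, 483), (411999, 483), (412482, 483), (412965, 483), (413448, 483), (413931,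 483), (414414, 483), (414897, 483), (415380, 483), (415863, 483), (416346, 483), (416829, 483), (417312, 483), (417795, 483), (418278, 483), (418761, 483), (419244, 483), (419727, 483), (420210, 483), (420693, 483), (421176, 483), (421659, 483), (422142, 483), (422625, 483), (423108, 483), (423591, 483), (424074, 483), (424557, 483), (425040, 483), (425523, 483), (426006, 483), (426489, 483), (426972, 483), (427455, 483), (427938, 483), (428421, 483), (428904, 483), (429387, 483), (429870, 483), (430353, 483), (430836, 483), (431319, 483), (431802, 483), (432285, 483), (432768, 483), (433251, 483), (433734, 483), (434217, 483)] : List (ℕ × ℕ)), allR c.1 c.2 (fun q => (fun q => (cand 1539000 12 f8 fsx [0] (LA0 :: LsA) q).isNone) q) = true :=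
  all_cons chk_ninn_750 (all_cons chk_ninn_751 (all_cons chk_ninn_752 (all_cons chk_ninn_753 (all_cons chk_ninn_754 (all_cons chk_ninn_755 (all_cons chk_ninn_756 (all_cons chk_ninn_757 (all_cons chk_ninn_758 (all_cons chk_ninn_759 (all_cons chk_ninn_760 (all_cons chk_ninn_761 (all_cons chk_ninn_762 (all_cons chk_ninn_763 (all_cons chk_ninn_764 (all_cons chk_ninn_765 (all_cons chk_ninn_766 (all_cons chk_ninn_767 (all_cons chk_ninn_768 (all_cons chk_ninn_769 (all_cons chk_ninn_770 (all_cons chk_ninn_771 (all_cons chk_ninn_772 (all_cons chk_ninn_773 (all_cons chk_ninn_774 (all_cons chk_ninn_775 (all_cons chk_ninn_776 (all_cons chk_ninn_777 (all_cons chk_ninn_778 (all_cons chk_ninn_779 (all_cons chk_ninn_780 (all_cons chk_ninn_781 (all_cons chk_ninn_782 (all_cons chk_ninn_783 (all_cons chk_ninn_784 (all_cons chk_ninn_785 (all_cons chk_ninn_786 (all_cons chk_ninn_787 (all_cons chk_ninn_788 (all_cons chk_ninn_789 (all_cons chk_ninn_790 (all_cons chk_ninn_791 (all_cons chk_ninn_792 (all_cons chk_ninn_793 (all_cons chk_ninn_794 (all_cons chk_ninn_795 (all_cons chk_ninn_796 (all_cons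 chk_ninn_797 (all_cons chk_ninn_798 (all_cons chk_ninn_799 (all_cons chk_ninn_800 (all_cons chk_ninn_801 (all_cons chk_ninn_802 (all_cons chk_ninn_803 (all_cons chk_ninn_804 (all_cons chk_ninn_805 (all_cons chk_ninn_806 (all_cons chk_ninn_807 (all_cons chk_ninn_808 (all_cons chk_ninn_809 (all_cons chk_ninn_810 (all_cons chk_ninn_811 (all_cons chk_ninn_812 (all_cons chk_ninn_813 (all_cons chk_ninn_814 (all_cons chk_ninn_815 (all_cons chk_ninn_816 (all_cons chk_ninn_817 (all_cons chk_ninn_818 (all_cons chk_ninn_819 (all_cons chk_ninn_820 (all_cons chk_ninn_821 (all_cons chk_ninn_822 (all_cons chk_ninn_823 (all_cons chk_ninn_824 (all_cons chk_ninn_825 (all_cons chk_ninn_826 (all_cons chk_ninn_827 (all_cons chk_ninn_828 (all_cons chk_ninn_829 (all_cons chk_ninn_830 (all_cons chk_ninn_831 (all_cons chk_ninn_832 (all_cons chk_ninn_833 (all_cons chk_ninn_834 (all_cons chk_ninn_835 (all_cons chk_ninn_836 (all_cons chk_ninn_837 (all_cons chk_ninn_838 (all_cons chk_ninn_839 (all_cons chk_ninn_840 (all_cons chk_ninn_841 (all_cons chk_ninn_842 (all_cons chk_ninn_843 (all_cons chk_ninn_844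 (all_cons chk_ninn_845 (all_cons chk_ninn_846 (all_cons chk_ninn_847 (all_cons chk_ninn_848 (all_cons chk_ninn_849 (all_cons chk_ninn_850 (all_cons chk_ninn_851 (all_cons chk_ninn_852 (all_cons chk_ninn_853 (all_cons chk_ninn_854 (all_cons chk_ninn_855 (all_cons chk_ninn_856 (all_cons chk_ninn_857 (all_cons chk_ninn_858 (all_cons chk_ninn_859 (all_cons chk_ninn_860 (all_cons chk_ninn_861 (all_cons chk_ninn_862 (all_cons chk_ninn_863 (all_cons chk_ninn_864 (all_cons chk_ninn_865 (all_cons chk_ninn_866 (all_cons chk_ninn_867 (all_cons chk_ninn_868 (all_cons chk_ninn_869 (all_cons chk_ninn_870 (all_cons chk_ninn_871 (all_cons chk_ninn_872 (all_cons chk_ninn_873 (all_cons chk_ninn_874 (all_cons chk_ninn_875 (all_cons chk_ninn_876 (all_cons chk_ninn_877 (all_cons chk_ninn_878 (all_cons chk_ninn_879 (all_cons chk_ninn_880 (all_cons chk_ninn_881 (all_cons chk_ninn_882 (all_cons chk_ninn_883 (all_cons chk_ninn_884 (all_cons chk_ninn_885 (all_cons chk_ninn_886 (all_cons chk_ninn_887 (all_cons chk_ninn_888 (all_cons chk_ninn_889 (all_cons chk_ninn_890 (all_cons chk_ninn_891 (all_cons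 chk_ninn_892 (all_cons chk_ninn_893 (all_cons chk_ninn_894 (all_cons chk_ninn_895 (all_cons chk_ninn_896 (all_cons chk_ninn_897 (all_cons chk_ninn_898 (all_cons chk_ninn_899 (all_nil))))))))))))))))))))))))))))))))))))))))))))))))))))))))))))))))))))))))))))))))))))))))))))))))))))))))))))))))))))))))))))))))))))))))))))))))))))))

theorem chk_ninn_grp6 : ∀ c ∈ ([(434700, 483), (435183, 483), (435666, 483), (436149, 483), (436632, 483), (437115, 483), (437598, 483), (438081, 483), (438564, 483), (439047, 483), (439530, 483), (440013, 483), (440496, 483), (440979, 483), (441462, 483), (441945, 483), (442428, 483), (442911, 483), (443394, 483), (443877, 483), (444360, 483), (444843, 483), (445326, 483), (445809, 483), (446292, 483), (446775, 483), (447258, 483), (447741, 483), (448224, 483), (448707, 483), (449190, 483), (449673, 483), (450156, 483), (450639, 483), (451122, 483), (451605, 483), (452088, 483), (452571, 483), (453054, 483), (453537, 483), (454020, 483), (454503, 483), (454986, 483), (455469, 483), (455952, 483), (456435, 483), (456918, 483), (457401, 483), (457884,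 483), (458367, 483), (458850, 483), (459333, 483), (459816, 483), (460299, 483), (460782, 483), (461265, 483), (461748, 483), (462231, 483), (462714, 483), (463197, 483), (463680, 483), (464163, 483), (464646, 483), (465129, 483), (465612, 483), (466095, 483), (466578, 483), (467061, 483), (467544, 483), (468027, 483), (468510, 483), (468993, 483), (469476, 483), (469959, 483), (470442, 483), (470925, 483), (471408, 483), (471891, 483), (472374, 483), (472857, 483), (473340, 483), (473823, 483), (474306, 483), (474789, 483), (475272, 483), (475755, 483), (476238, 483), (476721, 483), (477204, 483), (477687, 483), (478170, 483), (478653, 483), (479136, 483), (479619, 483), (480102, 483), (480585, 483), (481068, 483), (481551, 483), (482034, 483), (482517, 483), (483000, 483), (483483, 483), (483966, 483), (484449, 483), (484932, 483), (485415, 483), (485898, 483), (486381, 483), (486864, 483), (487347, 483), (487830, 483), (488313, 483), (488796, 483), (489279, 483), (489762, 483), (490245, 483), (490728, 483), (491211, 483), (491694, 483), (492177, 483), (492660, 483), (493143,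 483), (493626, 483), (494109, 483), (494592, 483), (495075, 483), (495558, 483), (496041, 483), (496524, 483), (497007, 483), (497490, 483), (497973, 483), (498456, 483), (498939, 483), (499422, 483), (499905, 483), (500388, 483), (500871, 483), (501354, 483), (501837, 483), (502320, 483), (502803, 483), (503286, 483), (503769, 483), (504252, 483), (504735, 483), (505218, 483), (505701, 483), (506184, 483), (506667, 483)] : List (ℕ × ℕ)), allR c.1 c.2 (fun q => (fun q => (cand 1539000 12 f8 fsx [0] (LA0 :: LsA) q).isNone) q) = true :=
  all_cons chk_ninn_900 (all_cons chk_ninn_901 (all_cons chk_ninn_902 (all_cons chk_ninn_903 (all_cons chk_ninn_904 (all_cons chk_ninn_905 (all_cons chk_ninn_906 (all_cons chk_ninn_907 (all_cons chk_ninn_908 (all_cons chk_ninn_909 (all_cons chk_ninn_910 (all_cons chk_ninn_911 (all_cons chk_ninn_912 (all_cons chk_ninn_913 (all_cons chk_ninn_914 (all_cons chk_ninn_915 (all_cons chk_ninn_916 (all_cons chk_ninn_917 (all_cons chk_ninn_918 (all_cons chk_ninn_919 (all_cons chk_ninn_920 (all_cons chk_ninn_921 (all_cons chk_ninn_922 (all_cons chk_ninn_923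 (all_cons chk_ninn_924 (all_cons chk_ninn_925 (all_cons chk_ninn_926 (all_cons chk_ninn_927 (all_cons chk_ninn_928 (all_cons chk_ninn_929 (all_cons chk_ninn_930 (all_cons chk_ninn_931 (all_cons chk_ninn_932 (all_cons chk_ninn_933 (all_cons chk_ninn_934 (all_cons chk_ninn_935 (all_cons chk_ninn_936 (all_cons chk_ninn_937 (all_cons chk_ninn_938 (all_cons chk_ninn_939 (all_cons chk_ninn_940 (all_cons chk_ninn_941 (all_cons chk_ninn_942 (all_cons chk_ninn_943 (all_cons chk_ninn_944 (all_cons chk_ninn_945 (all_cons chk_ninn_946 (all_cons chk_ninn_947 (all_cons chk_ninn_948 (all_cons chk_ninn_949 (all_cons chk_ninn_950 (all_cons chk_ninn_951 (all_cons chk_ninn_952 (all_cons chk_ninn_953 (all_cons chk_ninn_954 (all_cons chk_ninn_955 (all_cons chk_ninn_956 (all_cons chk_ninn_957 (all_cons chk_ninn_958 (all_cons chk_ninn_959 (all_cons chk_ninn_960 (all_cons chk_ninn_961 (all_cons chk_ninn_962 (all_cons chk_ninn_963 (all_cons chk_ninn_964 (all_cons chk_ninn_965 (all_cons chk_ninn_966 (all_cons chk_ninn_967 (all_cons chk_ninn_968 (all_cons chk_ninn_969 (all_cons chk_ninn_970 (all_cons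 chk_ninn_971 (all_cons chk_ninn_972 (all_cons chk_ninn_973 (all_cons chk_ninn_974 (all_cons chk_ninn_975 (all_cons chk_ninn_976 (all_cons chk_ninn_977 (all_cons chk_ninn_978 (all_cons chk_ninn_979 (all_cons chk_ninn_980 (all_cons chk_ninn_981 (all_cons chk_ninn_982 (all_cons chk_ninn_983 (all_cons chk_ninn_984 (all_cons chk_ninn_985 (all_cons chk_ninn_986 (all_cons chk_ninn_987 (all_cons chk_ninn_988 (all_cons chk_ninn_989 (all_cons chk_ninn_990 (all_cons chk_ninn_991 (all_cons chk_ninn_992 (all_cons chk_ninn_993 (all_cons chk_ninn_994 (all_cons chk_ninn_995 (all_cons chk_ninn_996 (all_cons chk_ninn_997 (all_cons chk_ninn_998 (all_cons chk_ninn_999 (all_cons chk_ninn_1000 (all_cons chk_ninn_1001 (all_cons chk_ninn_1002 (all_cons chk_ninn_1003 (all_cons chk_ninn_1004 (all_cons chk_ninn_1005 (all_cons chk_ninn_1006 (all_cons chk_ninn_1007 (all_cons chk_ninn_1008 (all_cons chk_ninn_1009 (all_cons chk_ninn_1010 (all_cons chk_ninn_1011 (all_cons chk_ninn_1012 (all_cons chk_ninn_1013 (all_cons chk_ninn_1014 (all_cons chk_ninn_1015 (all_cons chk_ninn_1016 (all_cons chk_ninn_1017 (all_cons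 chk_ninn_1018 (all_cons chk_ninn_1019 (all_cons chk_ninn_1020 (all_cons chk_ninn_1021 (all_cons chk_ninn_1022 (all_cons chk_ninn_1023 (all_cons chk_ninn_1024 (all_cons chk_ninn_1025 (all_cons chk_ninn_1026 (all_cons chk_ninn_1027 (all_cons chk_ninn_1028 (all_cons chk_ninn_1029 (all_cons chk_ninn_1030 (all_cons chk_ninn_1031 (all_cons chk_ninn_1032 (all_cons chk_ninn_1033 (all_cons chk_ninn_1034 (all_cons chk_ninn_1035 (all_cons chk_ninn_1036 (all_cons chk_ninn_1037 (all_cons chk_ninn_1038 (all_cons chk_ninn_1039 (all_cons chk_ninn_1040 (all_cons chk_ninn_1041 (all_cons chk_ninn_1042 (all_cons chk_ninn_1043 (all_cons chk_ninn_1044 (all_cons chk_ninn_1045 (all_cons chk_ninn_1046 (all_cons chk_ninn_1047 (all_cons chk_ninn_1048 (all_cons chk_ninn_1049 (all_nil))))))))))))))))))))))))))))))))))))))))))))))))))))))))))))))))))))))))))))))))))))))))))))))))))))))))))))))))))))))))))))))))))))))))))))))))))))))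

theorem chk_ninn_grp7 : ∀ c ∈ ([(507150, 483), (507633, 483), (508116, 483), (508599, 483), (509082, 483), (509565, 483), (510048, 483), (510531, 483), (511014, 483), (511497, 483), (511980, 483), (512463, 483), (512946, 483), (513429, 483), (513912, 483), (514395, 483), (514878, 483), (515361, 483), (515844, 483), (516327, 483), (516810, 483), (517293, 483), (517776, 483), (518259, 483), (518742, 483), (519225, 483), (519708, 483), (520191, 483), (520674, 483), (521157, 483), (521640, 483), (522123, 483), (522606, 483), (523089, 483), (523572, 483), (524055, 483), (524538, 483), (525021, 483), (525504, 483), (525987, 483), (526470, 483), (526953, 483), (527436, 483), (527919, 483), (528402, 483), (528885, 483), (529368, 483), (529851, 483), (530334, 483), (530817, 483), (531300, 483), (531783, 483), (532266, 483), (532749, 483), (533232, 483), (533715, 483), (534198, 483), (534681, 483), (535164, 483), (535647, 483), (536130, 483), (536613, 483), (537096, 483), (537579, 483), (538062, 483), (538545, 483), (539028, 483), (539511, 483), (539994, 483), (540477, 483), (540960,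 483), (541443, 483), (541926, 483), (542409, 483), (542892, 483), (543375, 483), (543858, 483), (544341, 483), (544824, 483), (545307, 483), (545790, 483), (546273, 483), (546756, 483), (547239, 483), (547722, 483), (548205, 483), (548688, 483), (549171, 483), (549654, 483), (550137, 483), (550620, 483), (551103, 483), (551586, 483), (552069, 483), (552552, 483), (553035, 483), (553518, 483), (554001, 483), (554484, 483), (554967, 483), (555450, 483), (555933, 483), (556416, 483), (556899, 483), (557382, 483), (557865, 483), (558348, 483), (558831, 483), (559314, 483), (559797, 483), (560280, 483), (560763, 483), (561246, 483), (561729, 483), (562212, 483), (562695, 483), (563178, 483), (563661, 483), (564144, 483), (564627, 483), (565110, 483), (565593, 483), (566076, 483), (566559, 483), (567042, 483), (567525, 483), (568008, 483), (568491, 483), (568974, 483), (569457, 483), (569940, 483), (570423, 483), (570906, 483), (571389, 483), (571872, 483), (572355, 483), (572838, 483), (573321, 483), (573804, 483), (574287, 483), (574770, 483), (575253, 483), (575736, 483), (576219,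 483), (576702, 483), (577185, 483), (577668, 483), (578151, 483), (578634, 483), (579117, 483)] : List (ℕ × ℕ)), allR c.1 c.2 (fun q => (fun q => (cand 1539000 12 f8 fsx [0] (LA0 :: LsA) q).isNone) q) = true :=
  all_cons chk_ninn_1050 (all_cons chk_ninn_1051 (all_cons chk_ninn_1052 (all_cons chk_ninn_1053 (all_cons chk_ninn_1054 (all_cons chk_ninn_1055 (all_cons chk_ninn_1056 (all_cons chk_ninn_1057 (all_cons chk_ninn_1058 (all_cons chk_ninn_1059 (all_cons chk_ninn_1060 (all_cons chk_ninn_1061 (all_cons chk_ninn_1062 (all_cons chk_ninn_1063 (all_cons chk_ninn_1064 (all_cons chk_ninn_1065 (all_cons chk_ninn_1066 (all_cons chk_ninn_1067 (all_cons chk_ninn_1068 (all_cons chk_ninn_1069 (all_cons chk_ninn_1070 (all_cons chk_ninn_1071 (all_cons chk_ninn_1072 (all_cons chk_ninn_1073 (all_cons chk_ninn_1074 (all_cons chk_ninn_1075 (all_cons chk_ninn_1076 (all_cons chk_ninn_1077 (all_cons chk_ninn_1078 (all_cons chk_ninn_1079 (all_cons chk_ninn_1080 (all_cons chk_ninn_1081 (all_cons chk_ninn_1082 (all_cons chk_ninn_1083 (all_cons chk_ninn_1084 (all_cons chk_ninn_1085 (all_cons chk_ninn_1086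 (all_cons chk_ninn_1087 (all_cons chk_ninn_1088 (all_cons chk_ninn_1089 (all_cons chk_ninn_1090 (all_cons chk_ninn_1091 (all_cons chk_ninn_1092 (all_cons chk_ninn_1093 (all_cons chk_ninn_1094 (all_cons chk_ninn_1095 (all_cons chk_ninn_1096 (all_cons chk_ninn_1097 (all_cons chk_ninn_1098 (all_cons chk_ninn_1099 (all_cons chk_ninn_1100 (all_cons chk_ninn_1101 (all_cons chk_ninn_1102 (all_cons chk_ninn_1103 (all_cons chk_ninn_1104 (all_cons chk_ninn_1105 (all_cons chk_ninn_1106 (all_cons chk_ninn_1107 (all_cons chk_ninn_1108 (all_cons chk_ninn_1109 (all_cons chk_ninn_1110 (all_cons chk_ninn_1111 (all_cons chk_ninn_1112 (all_cons chk_ninn_1113 (all_cons chk_ninn_1114 (all_cons chk_ninn_1115 (all_cons chk_ninn_1116 (all_cons chk_ninn_1117 (all_cons chk_ninn_1118 (all_cons chk_ninn_1119 (all_cons chk_ninn_1120 (all_cons chk_ninn_1121 (all_cons chk_ninn_1122 (all_cons chk_ninn_1123 (all_cons chk_ninn_1124 (all_cons chk_ninn_1125 (all_cons chk_ninn_1126 (all_cons chk_ninn_1127 (all_cons chk_ninn_1128 (all_cons chk_ninn_1129 (all_cons chk_ninn_1130 (all_cons chk_ninn_1131 (all_cons chk_ninn_1132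 (all_cons chk_ninn_1133 (all_cons chk_ninn_1134 (all_cons chk_ninn_1135 (all_cons chk_ninn_1136 (all_cons chk_ninn_1137 (all_cons chk_ninn_1138 (all_cons chk_ninn_1139 (all_cons chk_ninn_1140 (all_cons chk_ninn_1141 (all_cons chk_ninn_1142 (all_cons chk_ninn_1143 (all_cons chk_ninn_1144 (all_cons chk_ninn_1145 (all_cons chk_ninn_1146 (all_cons chk_ninn_1147 (all_cons chk_ninn_1148 (all_cons chk_ninn_1149 (all_cons chk_ninn_1150 (all_cons chk_ninn_1151 (all_cons chk_ninn_1152 (all_cons chk_ninn_1153 (all_cons chk_ninn_1154 (all_cons chk_ninn_1155 (all_cons chk_ninn_1156 (all_cons chk_ninn_1157 (all_cons chk_ninn_1158 (all_cons chk_ninn_1159 (all_cons chk_ninn_1160 (all_cons chk_ninn_1161 (all_cons chk_ninn_1162 (all_cons chk_ninn_1163 (all_cons chk_ninn_1164 (all_cons chk_ninn_1165 (all_cons chk_ninn_1166 (all_cons chk_ninn_1167 (all_cons chk_ninn_1168 (all_cons chk_ninn_1169 (all_cons chk_ninn_1170 (all_cons chk_ninn_1171 (all_cons chk_ninn_1172 (all_cons chk_ninn_1173 (all_cons chk_ninn_1174 (all_cons chk_ninn_1175 (all_cons chk_ninn_1176 (all_cons chk_ninn_1177 (all_cons chk_ninn_1178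 (all_cons chk_ninn_1179 (all_cons chk_ninn_1180 (all_cons chk_ninn_1181 (all_cons chk_ninn_1182 (all_cons chk_ninn_1183 (all_cons chk_ninn_1184 (all_cons chk_ninn_1185 (all_cons chk_ninn_1186 (all_cons chk_ninn_1187 (all_cons chk_ninn_1188 (all_cons chk_ninn_1189 (all_cons chk_ninn_1190 (all_cons chk_ninn_1191 (all_cons chk_ninn_1192 (all_cons chk_ninn_1193 (all_cons chk_ninn_1194 (all_cons chk_ninn_1195 (all_cons chk_ninn_1196 (all_cons chk_ninn_1197 (all_cons chk_ninn_1198 (all_cons chk_ninn_1199 (all_nil))))))))))))))))))))))))))))))))))))))))))))))))))))))))))))))))))))))))))))))))))))))))))))))))))))))))))))))))))))))))))))))))))))))))))))))))))))))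

theorem chk_ninn_grp8 : ∀ c ∈ ([(579600, 483), (580083, 483), (580566, 483), (581049, 483), (581532, 483), (582015, 483), (582498, 483), (582981, 483), (583464, 483), (583947, 483), (584430, 483), (584913, 483), (585396, 483), (585879, 483), (586362, 483), (586845, 483), (587328, 483), (587811, 483), (588294, 483), (588777, 483), (589260, 483), (589743, 483), (590226, 483), (590709, 483), (591192, 483), (591675, 483), (592158, 483), (592641, 483), (593124, 483), (593607, 483), (594090, 483), (594573, 483), (595056, 483), (595539, 483), (596022, 483), (596505, 483), (596988, 483), (597471, 483), (597954, 483), (598437, 483), (598920, 483), (599403, 483), (599886, 483), (600369, 483), (600852, 483), (601335, 483), (601818, 483), (602301, 483), (602784, 483), (603267, 483), (603750, 483), (604233, 483), (604716, 483), (605199, 483), (605682, 483), (606165, 483), (606648, 483), (607131, 483), (607614, 483), (608097, 483), (608580, 483), (609063, 483), (609546, 483), (610029, 483), (610512, 483), (610995, 483), (611478, 483), (611961, 483), (612444, 483), (612927, 483), (613410,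 483), (613893, 483), (614376, 483), (614859, 483), (615342, 483), (615825, 483), (616308, 483), (616791, 483), (617274, 483), (617757, 483), (618240, 483), (618723, 483), (619206, 483), (619689, 483), (620172, 483), (620655, 483), (621138, 483), (621621, 483), (622104, 483), (622587, 483), (623070, 483), (623553, 483), (624036, 483), (624519, 483), (625002, 483), (625485, 483), (625968, 483), (626451, 483), (626934, 483), (627417, 483), (627900, 483), (628383, 483), (628866, 483), (629349, 483), (629832, 483), (630315, 483), (630798, 483), (631281, 483), (631764, 483), (632247, 483), (632730, 483), (633213, 483), (633696, 483), (634179, 483), (634662, 483), (635145, 483), (635628, 483), (636111, 483), (636594, 483), (637077, 483), (637560, 483), (638043, 483), (638526, 483), (639009, 483), (639492, 483), (639975, 483), (640458, 483), (640941, 483), (641424, 483), (641907, 483), (642390, 483), (642873, 483), (643356, 483), (643839, 483), (644322, 483), (644805, 483), (645288, 483), (645771, 483), (646254, 483), (646737, 483), (647220, 483), (647703, 483), (648186, 483), (648669,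 483), (649152, 483), (649635, 483), (650118, 483), (650601, 483), (651084, 483), (651567, 483)] : List (ℕ × ℕ)), allR c.1 c.2 (fun q => (fun q => (cand 1539000 12 f8 fsx [0] (LA0 :: LsA) q).isNone) q) = true :=
  all_cons chk_ninn_1200 (all_cons chk_ninn_1201 (all_cons chk_ninn_1202 (all_cons chk_ninn_1203 (all_cons chk_ninn_1204 (all_cons chk_ninn_1205 (all_cons chk_ninn_1206 (all_cons chk_ninn_1207 (all_cons chk_ninn_1208 (all_cons chk_ninn_1209 (all_cons chk_ninn_1210 (all_cons chk_ninn_1211 (all_cons chk_ninn_1212 (all_cons chk_ninn_1213 (all_cons chk_ninn_1214 (all_cons chk_ninn_1215 (all_cons chk_ninn_1216 (all_cons chk_ninn_1217 (all_cons chk_ninn_1218 (all_cons chk_ninn_1219 (all_cons chk_ninn_1220 (all_cons chk_ninn_1221 (all_cons chk_ninn_1222 (all_cons chk_ninn_1223 (all_cons chk_ninn_1224 (all_cons chk_ninn_1225 (all_cons chk_ninn_1226 (all_cons chk_ninn_1227 (all_cons chk_ninn_1228 (all_cons chk_ninn_1229 (all_cons chk_ninn_1230 (all_cons chk_ninn_1231 (all_cons chk_ninn_1232 (all_cons chk_ninn_1233 (all_cons chk_ninn_1234 (all_cons chk_ninn_1235 (all_cons chk_ninn_1236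 (all_cons chk_ninn_1237 (all_cons chk_ninn_1238 (all_cons chk_ninn_1239 (all_cons chk_ninn_1240 (all_cons chk_ninn_1241 (all_cons chk_ninn_1242 (all_cons chk_ninn_1243 (all_cons chk_ninn_1244 (all_cons chk_ninn_1245 (all_cons chk_ninn_1246 (all_cons chk_ninn_1247 (all_cons chk_ninn_1248 (all_cons chk_ninn_1249 (all_cons chk_ninn_1250 (all_cons chk_ninn_1251 (all_cons chk_ninn_1252 (all_cons chk_ninn_1253 (all_cons chk_ninn_1254 (all_cons chk_ninn_1255 (all_cons chk_ninn_1256 (all_cons chk_ninn_1257 (all_cons chk_ninn_1258 (all_cons chk_ninn_1259 (all_cons chk_ninn_1260 (all_cons chk_ninn_1261 (all_cons chk_ninn_1262 (all_cons chk_ninn_1263 (all_cons chk_ninn_1264 (all_cons chk_ninn_1265 (all_cons chk_ninn_1266 (all_cons chk_ninn_1267 (all_cons chk_ninn_1268 (all_cons chk_ninn_1269 (all_cons chk_ninn_1270 (all_cons chk_ninn_1271 (all_cons chk_ninn_1272 (all_cons chk_ninn_1273 (all_cons chk_ninn_1274 (all_cons chk_ninn_1275 (all_cons chk_ninn_1276 (all_cons chk_ninn_1277 (all_cons chk_ninn_1278 (all_cons chk_ninn_1279 (all_cons chk_ninn_1280 (all_cons chk_ninn_1281 (all_cons chk_ninn_1282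 (all_cons chk_ninn_1283 (all_cons chk_ninn_1284 (all_cons chk_ninn_1285 (all_cons chk_ninn_1286 (all_cons chk_ninn_1287 (all_cons chk_ninn_1288 (all_cons chk_ninn_1289 (all_cons chk_ninn_1290 (all_cons chk_ninn_1291 (all_cons chk_ninn_1292 (all_cons chk_ninn_1293 (all_cons chk_ninn_1294 (all_cons chk_ninn_1295 (all_cons chk_ninn_1296 (all_cons chk_ninn_1297 (all_cons chk_ninn_1298 (all_cons chk_ninn_1299 (all_cons chk_ninn_1300 (all_cons chk_ninn_1301 (all_cons chk_ninn_1302 (all_cons chk_ninn_1303 (all_cons chk_ninn_1304 (all_cons chk_ninn_1305 (all_cons chk_ninn_1306 (all_cons chk_ninn_1307 (all_cons chk_ninn_1308 (all_cons chk_ninn_1309 (all_cons chk_ninn_1310 (all_cons chk_ninn_1311 (all_cons chk_ninn_1312 (all_cons chk_ninn_1313 (all_cons chk_ninn_1314 (all_cons chk_ninn_1315 (all_cons chk_ninn_1316 (all_cons chk_ninn_1317 (all_cons chk_ninn_1318 (all_cons chk_ninn_1319 (all_cons chk_ninn_1320 (all_cons chk_ninn_1321 (all_cons chk_ninn_1322 (all_cons chk_ninn_1323 (all_cons chk_ninn_1324 (all_cons chk_ninn_1325 (all_cons chk_ninn_1326 (all_cons chk_ninn_1327 (all_cons chk_ninn_1328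 (all_cons chk_ninn_1329 (all_cons chk_ninn_1330 (all_cons chk_ninn_1331 (all_cons chk_ninn_1332 (all_cons chk_ninn_1333 (all_cons chk_ninn_1334 (all_cons chk_ninn_1335 (all_cons chk_ninn_1336 (all_cons chk_ninn_1337 (all_cons chk_ninn_1338 (all_cons chk_ninn_1339 (all_cons chk_ninn_1340 (all_cons chk_ninn_1341 (all_cons chk_ninn_1342 (all_cons chk_ninn_1343 (all_cons chk_ninn_1344 (all_cons chk_ninn_1345 (all_cons chk_ninn_1346 (all_cons chk_ninn_1347 (all_cons chk_ninn_1348 (all_cons chk_ninn_1349 (all_nil))))))))))))))))))))))))))))))))))))))))))))))))))))))))))))))))))))))))))))))))))))))))))))))))))))))))))))))))))))))))))))))))))))))))))))))))))))))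

theorem chk_ninn_grp9 : ∀ c ∈ ([(652050, 483), (652533, 483), (653016, 483), (653499, 483), (653982, 483), (654465, 483), (654948, 483), (655431, 483), (655914, 483), (656397, 483), (656880, 483), (657363, 483), (657846, 483), (658329, 483), (658812, 483), (659295, 483), (659778, 483), (660261, 483), (660744, 483), (661227, 483), (661710, 483), (662193, 483), (662676, 483), (663159, 483), (663642, 483), (664125, 483), (664608, 483), (665091, 483), (665574, 483), (666057, 483), (666540, 483), (667023, 483), (667506, 483), (667989, 483), (668472, 483), (668955, 483), (669438, 483), (669921, 483), (670404, 483), (670887, 483), (671370, 483), (671853, 483), (672336, 483), (672819, 483), (673302, 483), (673785, 483), (674268, 483), (674751, 483), (675234, 483), (675717, 483), (676200, 483), (676683, 483), (677166, 483), (677649, 483), (678132, 483), (678615, 483), (679098, 483), (679581, 483), (680064, 483), (680547, 483), (681030, 483), (681513, 483), (681996, 483), (682479, 483), (682962, 483), (683445, 483), (683928, 483), (684411, 483), (684894, 483), (685377, 483), (685860,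 483), (686343, 483), (686826, 483), (687309, 483), (687792, 483), (688275, 483), (688758, 483), (689241, 483), (689724, 483), (690207, 483), (690690, 483), (691173, 483), (691656, 483), (692139, 483), (692622, 483), (693105, 483), (693588, 483), (694071, 483), (694554, 483), (695037, 483), (695520, 483), (696003, 483), (696486, 483), (696969, 483), (697452, 483), (697935, 483), (698418, 483), (698901, 483), (699384, 483), (699867, 483), (700350, 483), (700833, 483), (701316, 483), (701799, 483), (702282, 483), (702765, 483), (703248, 483), (703731, 483), (704214, 483), (704697, 483), (705180, 483), (705663, 483), (706146, 483), (706629, 483), (707112, 483), (707595, 483), (708078, 483), (708561, 483), (709044, 483), (709527, 483), (710010, 483), (710493, 483), (710976, 483), (711459, 483), (711942, 483), (712425, 483), (712908, 483), (713391, 483), (713874, 483), (714357, 483), (714840, 483), (715323, 483), (715806, 483), (716289, 483), (716772, 483), (717255, 483), (717738, 483), (718221, 483), (718704, 483), (719187, 483), (719670, 483), (720153, 483), (720636, 483), (721119,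 483), (721602, 483), (722085, 483), (722568, 483), (723051, 483), (723534, 483), (724017, 483)] : List (ℕ × ℕ)), allR c.1 c.2 (fun q => (fun q => (cand 1539000 12 f8 fsx [0] (LA0 :: LsA) q).isNone) q) = true :=
  all_cons chk_ninn_1350 (all_cons chk_ninn_1351 (all_cons chk_ninn_1352 (all_cons chk_ninn_1353 (all_cons chk_ninn_1354 (all_cons chk_ninn_1355 (all_cons chk_ninn_1356 (all_cons chk_ninn_1357 (all_cons chk_ninn_1358 (all_cons chk_ninn_1359 (all_cons chk_ninn_1360 (all_cons chk_ninn_1361 (all_cons chk_ninn_1362 (all_cons chk_ninn_1363 (all_cons chk_ninn_1364 (all_cons chk_ninn_1365 (all_cons chk_ninn_1366 (all_cons chk_ninn_1367 (all_cons chk_ninn_1368 (all_cons chk_ninn_1369 (all_cons chk_ninn_1370 (all_cons chk_ninn_1371 (all_cons chk_ninn_1372 (all_cons chk_ninn_1373 (all_cons chk_ninn_1374 (all_cons chk_ninn_1375 (all_cons chk_ninn_1376 (all_cons chk_ninn_1377 (all_cons chk_ninn_1378 (all_cons chk_ninn_1379 (all_cons chk_ninn_1380 (all_cons chk_ninn_1381 (all_cons chk_ninn_1382 (all_cons chk_ninn_1383 (all_cons chk_ninn_1384 (all_cons chk_ninn_1385 (all_cons chk_ninn_1386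 (all_cons chk_ninn_1387 (all_cons chk_ninn_1388 (all_cons chk_ninn_1389 (all_cons chk_ninn_1390 (all_cons chk_ninn_1391 (all_cons chk_ninn_1392 (all_cons chk_ninn_1393 (all_cons chk_ninn_1394 (all_cons chk_ninn_1395 (all_cons chk_ninn_1396 (all_cons chk_ninn_1397 (all_cons chk_ninn_1398 (all_cons chk_ninn_1399 (all_cons chk_ninn_1400 (all_cons chk_ninn_1401 (all_cons chk_ninn_1402 (all_cons chk_ninn_1403 (all_cons chk_ninn_1404 (all_cons chk_ninn_1405 (all_cons chk_ninn_1406 (all_cons chk_ninn_1407 (all_cons chk_ninn_1408 (all_cons chk_ninn_1409 (all_cons chk_ninn_1410 (all_cons chk_ninn_1411 (all_cons chk_ninn_1412 (all_cons chk_ninn_1413 (all_cons chk_ninn_1414 (all_cons chk_ninn_1415 (all_cons chk_ninn_1416 (all_cons chk_ninn_1417 (all_cons chk_ninn_1418 (all_cons chk_ninn_1419 (all_cons chk_ninn_1420 (all_cons chk_ninn_1421 (all_cons chk_ninn_1422 (all_cons chk_ninn_1423 (all_cons chk_ninn_1424 (all_cons chk_ninn_1425 (all_cons chk_ninn_1426 (all_cons chk_ninn_1427 (all_cons chk_ninn_1428 (all_cons chk_ninn_1429 (all_cons chk_ninn_1430 (all_cons chk_ninn_1431 (all_cons chk_ninn_1432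 (all_cons chk_ninn_1433 (all_cons chk_ninn_1434 (all_cons chk_ninn_1435 (all_cons chk_ninn_1436 (all_cons chk_ninn_1437 (all_cons chk_ninn_1438 (all_cons chk_ninn_1439 (all_cons chk_ninn_1440 (all_cons chk_ninn_1441 (all_cons chk_ninn_1442 (all_cons chk_ninn_1443 (all_cons chk_ninn_1444 (all_cons chk_ninn_1445 (all_cons chk_ninn_1446 (all_cons chk_ninn_1447 (all_cons chk_ninn_1448 (all_cons chk_ninn_1449 (all_cons chk_ninn_1450 (all_cons chk_ninn_1451 (all_cons chk_ninn_1452 (all_cons chk_ninn_1453 (all_cons chk_ninn_1454 (all_cons chk_ninn_1455 (all_cons chk_ninn_1456 (all_cons chk_ninn_1457 (all_cons chk_ninn_1458 (all_cons chk_ninn_1459 (all_cons chk_ninn_1460 (all_cons chk_ninn_1461 (all_cons chk_ninn_1462 (all_cons chk_ninn_1463 (all_cons chk_ninn_1464 (all_cons chk_ninn_1465 (all_cons chk_ninn_1466 (all_cons chk_ninn_1467 (all_cons chk_ninn_1468 (all_cons chk_ninn_1469 (all_cons chk_ninn_1470 (all_cons chk_ninn_1471 (all_cons chk_ninn_1472 (all_cons chk_ninn_1473 (all_cons chk_ninn_1474 (all_cons chk_ninn_1475 (all_cons chk_ninn_1476 (all_cons chk_ninn_1477 (all_cons chk_ninn_1478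 (all_cons chk_ninn_1479 (all_cons chk_ninn_1480 (all_cons chk_ninn_1481 (all_cons chk_ninn_1482 (all_cons chk_ninn_1483 (all_cons chk_ninn_1484 (all_cons chk_ninn_1485 (all_cons chk_ninn_1486 (all_cons chk_ninn_1487 (all_cons chk_ninn_1488 (all_cons chk_ninn_1489 (all_cons chk_ninn_1490 (all_cons chk_ninn_1491 (all_cons chk_ninn_1492 (all_cons chk_ninn_1493 (all_cons chk_ninn_1494 (all_cons chk_ninn_1495 (all_cons chk_ninn_1496 (all_cons chk_ninn_1497 (all_cons chk_ninn_1498 (all_cons chk_ninn_1499 (all_nil))))))))))))))))))))))))))))))))))))))))))))))))))))))))))))))))))))))))))))))))))))))))))))))))))))))))))))))))))))))))))))))))))))))))))))))))))))))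

theorem chk_ninn_grp10 : ∀ c ∈ ([(724500, 483), (724983, 483), (725466, 483), (725949, 483), (726432, 483), (726915, 483), (727398, 483), (727881, 483), (728364, 483), (728847, 483), (729330, 483), (729813, 483), (730296, 483), (730779, 483), (731262, 483), (731745, 483), (732228, 483), (732711, 483), (733194, 483), (733677, 483), (734160, 483), (734643, 483), (735126, 483), (735609, 483), (736092, 483), (736575, 483), (737058, 483), (737541, 483), (738024, 483), (738507, 483), (738990, 483), (739473, 483), (739956, 483), (740439, 483), (740922, 483), (741405, 483), (741888, 483), (742371, 483), (742854, 483), (743337, 483), (743820, 483), (744303, 483), (744786, 483), (745269, 483), (745752, 483), (746235, 483), (746718, 483), (747201, 483), (747684, 483), (748167, 483), (748650, 483), (749133, 483), (749616, 483), (750099, 483), (750582, 483), (751065, 483), (751548, 483), (752031, 483), (752514, 483), (752997, 483), (753480, 483), (753963, 483), (754446, 483), (754929, 483), (755412, 483), (755895, 483), (756378, 483), (756861, 483), (757344, 483), (757827, 483), (758310,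 483), (758793, 483), (759276, 483), (759759, 483), (760242, 483), (760725, 483), (761208, 483), (761691, 483), (762174, 483), (762657, 483), (763140, 483), (763623, 483), (764106, 483), (764589, 483), (765072, 483), (765555, 483), (766038, 483), (766521, 483), (767004, 483), (767487, 483), (767970, 483), (768453, 483), (768936, 483), (769419, 483), (769902, 483), (770385, 483), (770868, 483), (771351, 483), (771834, 483), (772317, 483), (772800, 483), (773283, 483), (773766, 483), (774249, 483), (774732, 483), (775215, 483), (775698, 483), (776181, 483), (776664, 483), (777147, 483), (777630, 483), (778113, 483), (778596, 483), (779079, 483), (779562, 483), (780045, 483), (780528, 483), (781011, 483), (781494, 483), (781977, 483), (782460, 483), (782943, 483), (783426, 483), (783909, 483), (784392, 483), (784875, 483), (785358, 483), (785841, 483), (786324, 483), (786807, 483), (787290, 483), (787773, 483), (788256, 483), (788739, 483), (789222, 483), (789705, 483), (790188, 483), (790671, 483), (791154, 483), (791637, 483), (792120, 483), (792603, 483), (793086, 483), (793569,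 483), (794052, 483), (794535, 483), (795018, 483), (795501, 483), (795984, 483), (796467, 483)] : List (ℕ × ℕ)), allR c.1 c.2 (fun q => (fun q => (cand 1539000 12 f8 fsx [0] (LA0 :: LsA) q).isNone) q) = true :=
  all_cons chk_ninn_1500 (all_cons chk_ninn_1501 (all_cons chk_ninn_1502 (all_cons chk_ninn_1503 (all_cons chk_ninn_1504 (all_cons chk_ninn_1505 (all_cons chk_ninn_1506 (all_cons chk_ninn_1507 (all_cons chk_ninn_1508 (all_cons chk_ninn_1509 (all_cons chk_ninn_1510 (all_cons chk_ninn_1511 (all_cons chk_ninn_1512 (all_cons chk_ninn_1513 (all_cons chk_ninn_1514 (all_cons chk_ninn_1515 (all_cons chk_ninn_1516 (all_cons chk_ninn_1517 (all_cons chk_ninn_1518 (all_cons chk_ninn_1519 (all_cons chk_ninn_1520 (all_cons chk_ninn_1521 (all_cons chk_ninn_1522 (all_cons chk_ninn_1523 (all_cons chk_ninn_1524 (all_cons chk_ninn_1525 (all_cons chk_ninn_1526 (all_cons chk_ninn_1527 (all_cons chk_ninn_1528 (all_cons chk_ninn_1529 (all_cons chk_ninn_1530 (all_cons chk_ninn_1531 (all_cons chk_ninn_1532 (all_cons chk_ninn_1533 (all_cons chk_ninn_1534 (all_cons chk_ninn_1535 (all_cons chk_ninn_1536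 (all_cons chk_ninn_1537 (all_cons chk_ninn_1538 (all_cons chk_ninn_1539 (all_cons chk_ninn_1540 (all_cons chk_ninn_1541 (all_cons chk_ninn_1542 (all_cons chk_ninn_1543 (all_cons chk_ninn_1544 (all_cons chk_ninn_1545 (all_cons chk_ninn_1546 (all_cons chk_ninn_1547 (all_cons chk_ninn_1548 (all_cons chk_ninn_1549 (all_cons chk_ninn_1550 (all_cons chk_ninn_1551 (all_cons chk_ninn_1552 (all_cons chk_ninn_1553 (all_cons chk_ninn_1554 (all_cons chk_ninn_1555 (all_cons chk_ninn_1556 (all_cons chk_ninn_1557 (all_cons chk_ninn_1558 (all_cons chk_ninn_1559 (all_cons chk_ninn_1560 (all_cons chk_ninn_1561 (all_cons chk_ninn_1562 (all_cons chk_ninn_1563 (all_cons chk_ninn_1564 (all_cons chk_ninn_1565 (all_cons chk_ninn_1566 (all_cons chk_ninn_1567 (all_cons chk_ninn_1568 (all_cons chk_ninn_1569 (all_cons chk_ninn_1570 (all_cons chk_ninn_1571 (all_cons chk_ninn_1572 (all_cons chk_ninn_1573 (all_cons chk_ninn_1574 (all_cons chk_ninn_1575 (all_cons chk_ninn_1576 (all_cons chk_ninn_1577 (all_cons chk_ninn_1578 (all_cons chk_ninn_1579 (all_cons chk_ninn_1580 (all_cons chk_ninn_1581 (all_cons chk_ninn_1582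 (all_cons chk_ninn_1583 (all_cons chk_ninn_1584 (all_cons chk_ninn_1585 (all_cons chk_ninn_1586 (all_cons chk_ninn_1587 (all_cons chk_ninn_1588 (all_cons chk_ninn_1589 (all_cons chk_ninn_1590 (all_cons chk_ninn_1591 (all_cons chk_ninn_1592 (all_cons chk_ninn_1593 (all_cons chk_ninn_1594 (all_cons chk_ninn_1595 (all_cons chk_ninn_1596 (all_cons chk_ninn_1597 (all_cons chk_ninn_1598 (all_cons chk_ninn_1599 (all_cons chk_ninn_1600 (all_cons chk_ninn_1601 (all_cons chk_ninn_1602 (all_cons chk_ninn_1603 (all_cons chk_ninn_1604 (all_cons chk_ninn_1605 (all_cons chk_ninn_1606 (all_cons chk_ninn_1607 (all_cons chk_ninn_1608 (all_cons chk_ninn_1609 (all_cons chk_ninn_1610 (all_cons chk_ninn_1611 (all_cons chk_ninn_1612 (all_cons chk_ninn_1613 (all_cons chk_ninn_1614 (all_cons chk_ninn_1615 (all_cons chk_ninn_1616 (all_cons chk_ninn_1617 (all_cons chk_ninn_1618 (all_cons chk_ninn_1619 (all_cons chk_ninn_1620 (all_cons chk_ninn_1621 (all_cons chk_ninn_1622 (all_cons chk_ninn_1623 (all_cons chk_ninn_1624 (all_cons chk_ninn_1625 (all_cons chk_ninn_1626 (all_cons chk_ninn_1627 (all_cons chk_ninn_1628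 (all_cons chk_ninn_1629 (all_cons chk_ninn_1630 (all_cons chk_ninn_1631 (all_cons chk_ninn_1632 (all_cons chk_ninn_1633 (all_cons chk_ninn_1634 (all_cons chk_ninn_1635 (all_cons chk_ninn_1636 (all_cons chk_ninn_1637 (all_cons chk_ninn_1638 (all_cons chk_ninn_1639 (all_cons chk_ninn_1640 (all_cons chk_ninn_1641 (all_cons chk_ninn_1642 (all_cons chk_ninn_1643 (all_cons chk_ninn_1644 (all_cons chk_ninn_1645 (all_cons chk_ninn_1646 (all_cons chk_ninn_1647 (all_cons chk_ninn_1648 (all_cons chk_ninn_1649 (all_nil))))))))))))))))))))))))))))))))))))))))))))))))))))))))))))))))))))))))))))))))))))))))))))))))))))))))))))))))))))))))))))))))))))))))))))))))))))))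

theorem chk_ninn_grp11 : ∀ c ∈ ([(796950, 483), (797433, 483), (797916, 483), (798399, 483), (798882, 483), (799365, 483), (799848, 483), (800331, 483), (800814, 483), (801297, 483), (801780, 483), (802263, 483), (802746, 483), (803229, 483), (803712, 483), (804195, 483), (804678, 483), (805161, 483), (805644, 483), (806127, 483), (806610, 483), (807093, 483), (807576, 483), (808059, 483), (808542, 483), (809025, 483), (809508, 483), (809991, 483), (810474, 483), (810957, 483), (811440, 483), (811923, 483), (812406, 483), (812889, 483), (813372, 483), (813855, 483), (814338, 483), (814821, 483), (815304, 483), (815787, 483), (816270, 483), (816753, 483), (817236, 483), (817719, 483), (818202, 483), (818685, 483), (819168, 483), (819651, 483), (820134, 483), (820617, 483), (821100, 483), (821583, 483), (822066, 483), (822549, 483), (823032, 483), (823515, 483), (823998, 483), (824481, 483), (824964, 483), (825447, 483), (825930, 483), (826413, 483), (826896, 483), (827379, 483), (827862, 483), (828345, 483), (828828, 483), (829311, 483), (829794, 483), (830277, 483), (830760,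 483), (831243, 483), (831726, 483), (832209, 483), (832692, 483), (833175, 483), (833658, 483), (834141, 483), (834624, 483), (835107, 483), (835590, 483), (836073, 483), (836556, 483), (837039, 483), (837522, 483), (838005, 483), (838488, 483), (838971, 483), (839454, 483), (839937, 483), (840420, 483), (840903, 483), (841386, 483), (841869, 483), (842352, 483), (842835, 483), (843318, 483), (843801, 483), (844284, 483), (844767, 483), (845250, 483), (845733, 483), (846216, 483), (846699, 483), (847182, 483), (847665, 483), (848148, 483), (848631, 483), (849114, 483), (849597, 483), (850080, 483), (850563, 483), (851046, 483), (851529, 483), (852012, 483), (852495, 483), (852978, 483), (853461, 483), (853944, 483), (854427, 483), (854910, 483), (855393, 483), (855876, 483), (856359, 483), (856842, 483), (857325, 483), (857808, 483), (858291, 483), (858774, 483), (859257, 483), (859740, 483), (860223, 483), (860706, 483), (861189, 483), (861672, 483), (862155, 483), (862638, 483), (863121, 483), (863604, 483), (864087, 483), (864570, 483), (865053, 483), (865536, 483), (866019,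 483), (866502, 483), (866985, 483), (867468, 483), (867951, 483), (868434, 483), (868917, 483)] : List (ℕ × ℕ)), allR c.1 c.2 (fun q => (fun q => (cand 1539000 12 f8 fsx [0] (LA0 :: LsA) q).isNone) q) = true :=
  all_cons chk_ninn_1650 (all_cons chk_ninn_1651 (all_cons chk_ninn_1652 (all_cons chk_ninn_1653 (all_cons chk_ninn_1654 (all_cons chk_ninn_1655 (all_cons chk_ninn_1656 (all_cons chk_ninn_1657 (all_cons chk_ninn_1658 (all_cons chk_ninn_1659 (all_cons chk_ninn_1660 (all_cons chk_ninn_1661 (all_cons chk_ninn_1662 (all_cons chk_ninn_1663 (all_cons chk_ninn_1664 (all_cons chk_ninn_1665 (all_cons chk_ninn_1666 (all_cons chk_ninn_1667 (all_cons chk_ninn_1668 (all_cons chk_ninn_1669 (all_cons chk_ninn_1670 (all_cons chk_ninn_1671 (all_cons chk_ninn_1672 (all_cons chk_ninn_1673 (all_cons chk_ninn_1674 (all_cons chk_ninn_1675 (all_cons chk_ninn_1676 (all_cons chk_ninn_1677 (all_cons chk_ninn_1678 (all_cons chk_ninn_1679 (all_cons chk_ninn_1680 (all_cons chk_ninn_1681 (all_cons chk_ninn_1682 (all_cons chk_ninn_1683 (all_cons chk_ninn_1684 (all_cons chk_ninn_1685 (all_cons chk_ninn_1686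 (all_cons chk_ninn_1687 (all_cons chk_ninn_1688 (all_cons chk_ninn_1689 (all_cons chk_ninn_1690 (all_cons chk_ninn_1691 (all_cons chk_ninn_1692 (all_cons chk_ninn_1693 (all_cons chk_ninn_1694 (all_cons chk_ninn_1695 (all_cons chk_ninn_1696 (all_cons chk_ninn_1697 (all_cons chk_ninn_1698 (all_cons chk_ninn_1699 (all_cons chk_ninn_1700 (all_cons chk_ninn_1701 (all_cons chk_ninn_1702 (all_cons chk_ninn_1703 (all_cons chk_ninn_1704 (all_cons chk_ninn_1705 (all_cons chk_ninn_1706 (all_cons chk_ninn_1707 (all_cons chk_ninn_1708 (all_cons chk_ninn_1709 (all_cons chk_ninn_1710 (all_cons chk_ninn_1711 (all_cons chk_ninn_1712 (all_cons chk_ninn_1713 (all_cons chk_ninn_1714 (all_cons chk_ninn_1715 (all_cons chk_ninn_1716 (all_cons chk_ninn_1717 (all_cons chk_ninn_1718 (all_cons chk_ninn_1719 (all_cons chk_ninn_1720 (all_cons chk_ninn_1721 (all_cons chk_ninn_1722 (all_cons chk_ninn_1723 (all_cons chk_ninn_1724 (all_cons chk_ninn_1725 (all_cons chk_ninn_1726 (all_cons chk_ninn_1727 (all_cons chk_ninn_1728 (all_cons chk_ninn_1729 (all_cons chk_ninn_1730 (all_cons chk_ninn_1731 (all_cons chk_ninn_1732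 (all_cons chk_ninn_1733 (all_cons chk_ninn_1734 (all_cons chk_ninn_1735 (all_cons chk_ninn_1736 (all_cons chk_ninn_1737 (all_cons chk_ninn_1738 (all_cons chk_ninn_1739 (all_cons chk_ninn_1740 (all_cons chk_ninn_1741 (all_cons chk_ninn_1742 (all_cons chk_ninn_1743 (all_cons chk_ninn_1744 (all_cons chk_ninn_1745 (all_cons chk_ninn_1746 (all_cons chk_ninn_1747 (all_cons chk_ninn_1748 (all_cons chk_ninn_1749 (all_cons chk_ninn_1750 (all_cons chk_ninn_1751 (all_cons chk_ninn_1752 (all_cons chk_ninn_1753 (all_cons chk_ninn_1754 (all_cons chk_ninn_1755 (all_cons chk_ninn_1756 (all_cons chk_ninn_1757 (all_cons chk_ninn_1758 (all_cons chk_ninn_1759 (all_cons chk_ninn_1760 (all_cons chk_ninn_1761 (all_cons chk_ninn_1762 (all_cons chk_ninn_1763 (all_cons chk_ninn_1764 (all_cons chk_ninn_1765 (all_cons chk_ninn_1766 (all_cons chk_ninn_1767 (all_cons chk_ninn_1768 (all_cons chk_ninn_1769 (all_cons chk_ninn_1770 (all_cons chk_ninn_1771 (all_cons chk_ninn_1772 (all_cons chk_ninn_1773 (all_cons chk_ninn_1774 (all_cons chk_ninn_1775 (all_cons chk_ninn_1776 (all_cons chk_ninn_1777 (all_cons chk_ninn_1778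 (all_cons chk_ninn_1779 (all_cons chk_ninn_1780 (all_cons chk_ninn_1781 (all_cons chk_ninn_1782 (all_cons chk_ninn_1783 (all_cons chk_ninn_1784 (all_cons chk_ninn_1785 (all_cons chk_ninn_1786 (all_cons chk_ninn_1787 (all_cons chk_ninn_1788 (all_cons chk_ninn_1789 (all_cons chk_ninn_1790 (all_cons chk_ninn_1791 (all_cons chk_ninn_1792 (all_cons chk_ninn_1793 (all_cons chk_ninn_1794 (all_cons chk_ninn_1795 (all_cons chk_ninn_1796 (all_cons chk_ninn_1797 (all_cons chk_ninn_1798 (all_cons chk_ninn_1799 (all_nil))))))))))))))))))))))))))))))))))))))))))))))))))))))))))))))))))))))))))))))))))))))))))))))))))))))))))))))))))))))))))))))))))))))))))))))))))))))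

theorem chk_ninn_grp12 : ∀ c ∈ ([(869400, 483), (869883, 483), (870366, 483), (870849, 483), (871332, 483), (871815, 483), (872298, 483), (872781, 483), (873264, 483), (873747, 483), (874230, 483), (874713, 483), (875196, 483), (875679, 483), (876162, 483), (876645, 483), (877128, 483), (877611, 483), (878094, 483), (878577, 483), (879060, 483), (879543, 483), (880026, 483), (880509, 483), (880992, 483), (881475, 483), (881958, 483), (882441, 483), (882924, 483), (883407, 483), (883890, 483), (884373, 483), (884856, 483), (885339, 483), (885822, 483), (886305, 483), (886788, 483), (887271, 483), (887754, 483), (888237, 483), (888720, 483), (889203, 483), (889686, 483), (890169, 483), (890652, 483), (891135, 483), (891618, 483), (892101, 483), (892584, 483), (893067, 483), (893550, 483), (894033, 483), (894516, 483), (894999, 483), (895482, 483), (895965, 483), (896448, 483), (896931, 483), (897414, 483), (897897, 483), (898380, 483), (898863, 483), (899346, 483), (899829, 483), (900312, 483), (900795, 483), (901278, 483), (901761, 483), (902244, 483), (902727, 483), (903210,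 483), (903693, 483), (904176, 483), (904659, 483), (905142, 483), (905625, 483), (906108, 483), (906591, 483), (907074, 483), (907557, 483), (908040, 483), (908523, 483), (909006, 483), (909489, 483), (909972, 483), (910455, 483), (910938, 483), (911421, 483), (911904, 483), (912387, 483), (912870, 483), (913353, 483), (913836, 483), (914319, 483), (914802, 483), (915285, 483), (915768, 483), (916251, 483), (916734, 483), (917217, 483), (917700, 483), (918183, 483), (918666, 483), (919149, 483), (919632, 483), (920115, 483), (920598, 483), (921081, 483), (921564, 483), (922047, 483), (922530, 483), (923013, 483), (923496, 483), (923979, 483), (924462, 483), (924945, 483), (925428, 483), (925911, 483), (926394, 483), (926877, 483), (927360, 483), (927843, 483), (928326, 483), (928809, 483), (929292, 483), (929775, 483), (930258, 483), (930741, 483), (931224, 483), (931707, 483), (932190, 483), (932673, 483), (933156, 483), (933639, 483), (934122, 483), (934605, 483), (935088, 483), (935571, 483), (936054, 483), (936537, 483), (937020, 483), (937503, 483), (937986, 483), (938469,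 483), (938952, 483), (939435, 483), (939918, 483), (940401, 483), (940884, 483), (941367, 483)] : List (ℕ × ℕ)), allR c.1 c.2 (fun q => (fun q => (cand 1539000 12 f8 fsx [0] (LA0 :: LsA) q).isNone) q) = true :=
  all_cons chk_ninn_1800 (all_cons chk_ninn_1801 (all_cons chk_ninn_1802 (all_cons chk_ninn_1803 (all_cons chk_ninn_1804 (all_cons chk_ninn_1805 (all_cons chk_ninn_1806 (all_cons chk_ninn_1807 (all_cons chk_ninn_1808 (all_cons chk_ninn_1809 (all_cons chk_ninn_1810 (all_cons chk_ninn_1811 (all_cons chk_ninn_1812 (all_cons chk_ninn_1813 (all_cons chk_ninn_1814 (all_cons chk_ninn_1815 (all_cons chk_ninn_1816 (all_cons chk_ninn_1817 (all_cons chk_ninn_1818 (all_cons chk_ninn_1819 (all_cons chk_ninn_1820 (all_cons chk_ninn_1821 (all_cons chk_ninn_1822 (all_cons chk_ninn_1823 (all_cons chk_ninn_1824 (all_cons chk_ninn_1825 (all_cons chk_ninn_1826 (all_cons chk_ninn_1827 (all_cons chk_ninn_1828 (all_cons chk_ninn_1829 (all_cons chk_ninn_1830 (all_cons chk_ninn_1831 (all_cons chk_ninn_1832 (all_cons chk_ninn_1833 (all_cons chk_ninn_1834 (all_cons chk_ninn_1835 (all_cons chk_ninn_1836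 (all_cons chk_ninn_1837 (all_cons chk_ninn_1838 (all_cons chk_ninn_1839 (all_cons chk_ninn_1840 (all_cons chk_ninn_1841 (all_cons chk_ninn_1842 (all_cons chk_ninn_1843 (all_cons chk_ninn_1844 (all_cons chk_ninn_1845 (all_cons chk_ninn_1846 (all_cons chk_ninn_1847 (all_cons chk_ninn_1848 (all_cons chk_ninn_1849 (all_cons chk_ninn_1850 (all_cons chk_ninn_1851 (all_cons chk_ninn_1852 (all_cons chk_ninn_1853 (all_cons chk_ninn_1854 (all_cons chk_ninn_1855 (all_cons chk_ninn_1856 (all_cons chk_ninn_1857 (all_cons chk_ninn_1858 (all_cons chk_ninn_1859 (all_cons chk_ninn_1860 (all_cons chk_ninn_1861 (all_cons chk_ninn_1862 (all_cons chk_ninn_1863 (all_cons chk_ninn_1864 (all_cons chk_ninn_1865 (all_cons chk_ninn_1866 (all_cons chk_ninn_1867 (all_cons chk_ninn_1868 (all_cons chk_ninn_1869 (all_cons chk_ninn_1870 (all_cons chk_ninn_1871 (all_cons chk_ninn_1872 (all_cons chk_ninn_1873 (all_cons chk_ninn_1874 (all_cons chk_ninn_1875 (all_cons chk_ninn_1876 (all_cons chk_ninn_1877 (all_cons chk_ninn_1878 (all_cons chk_ninn_1879 (all_cons chk_ninn_1880 (all_cons chk_ninn_1881 (all_cons chk_ninn_1882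 (all_cons chk_ninn_1883 (all_cons chk_ninn_1884 (all_cons chk_ninn_1885 (all_cons chk_ninn_1886 (all_cons chk_ninn_1887 (all_cons chk_ninn_1888 (all_cons chk_ninn_1889 (all_cons chk_ninn_1890 (all_cons chk_ninn_1891 (all_cons chk_ninn_1892 (all_cons chk_ninn_1893 (all_cons chk_ninn_1894 (all_cons chk_ninn_1895 (all_cons chk_ninn_1896 (all_cons chk_ninn_1897 (all_cons chk_ninn_1898 (all_cons chk_ninn_1899 (all_cons chk_ninn_1900 (all_cons chk_ninn_1901 (all_cons chk_ninn_1902 (all_cons chk_ninn_1903 (all_cons chk_ninn_1904 (all_cons chk_ninn_1905 (all_cons chk_ninn_1906 (all_cons chk_ninn_1907 (all_cons chk_ninn_1908 (all_cons chk_ninn_1909 (all_cons chk_ninn_1910 (all_cons chk_ninn_1911 (all_cons chk_ninn_1912 (all_cons chk_ninn_1913 (all_cons chk_ninn_1914 (all_cons chk_ninn_1915 (all_cons chk_ninn_1916 (all_cons chk_ninn_1917 (all_cons chk_ninn_1918 (all_cons chk_ninn_1919 (all_cons chk_ninn_1920 (all_cons chk_ninn_1921 (all_cons chk_ninn_1922 (all_cons chk_ninn_1923 (all_cons chk_ninn_1924 (all_cons chk_ninn_1925 (all_cons chk_ninn_1926 (all_cons chk_ninn_1927 (all_cons chk_ninn_1928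 (all_cons chk_ninn_1929 (all_cons chk_ninn_1930 (all_cons chk_ninn_1931 (all_cons chk_ninn_1932 (all_cons chk_ninn_1933 (all_cons chk_ninn_1934 (all_cons chk_ninn_1935 (all_cons chk_ninn_1936 (all_cons chk_ninn_1937 (all_cons chk_ninn_1938 (all_cons chk_ninn_1939 (all_cons chk_ninn_1940 (all_cons chk_ninn_1941 (all_cons chk_ninn_1942 (all_cons chk_ninn_1943 (all_cons chk_ninn_1944 (all_cons chk_ninn_1945 (all_cons chk_ninn_1946 (all_cons chk_ninn_1947 (all_cons chk_ninn_1948 (all_cons chk_ninn_1949 (all_nil))))))))))))))))))))))))))))))))))))))))))))))))))))))))))))))))))))))))))))))))))))))))))))))))))))))))))))))))))))))))))))))))))))))))))))))))))))))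

theorem chk_ninn_grp13 : ∀ c ∈ ([(941850, 483), (942333, 483), (942816, 483), (943299, 483), (943782, 483), (944265, 483), (944748, 483), (945231, 483), (945714, 483), (946197, 483), (946680, 483), (947163, 483), (947646, 483), (948129, 483), (948612, 483), (949095, 483), (949578, 483), (950061, 483), (950544, 483), (951027, 483), (951510, 483), (951993, 483), (952476, 483), (952959, 483), (953442, 483), (953925, 483), (954408, 483), (954891, 483), (955374, 483), (955857, 483), (956340, 483), (956823, 483), (957306, 483), (957789, 483), (958272, 483), (958755, 483), (959238, 483), (959721, 483), (960204, 483), (960687, 483), (961170, 483), (961653, 483), (962136, 483), (962619, 483), (963102, 483), (963585, 483), (964068, 483), (964551, 483), (965034, 483), (965517, 483), (966000, 483), (966483, 483), (966966, 483), (967449, 483), (967932, 483), (968415, 483), (968898, 483), (969381, 483), (969864, 483), (970347, 483), (970830, 483), (971313, 483), (971796, 483), (972279, 483), (972762, 483), (973245, 483), (973728, 483), (974211, 483), (974694, 483), (975177, 483), (975660,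 483), (976143, 483), (976626, 483), (977109, 483), (977592, 483), (978075, 483), (978558, 483), (979041, 483), (979524, 483), (980007, 483), (980490, 483), (980973, 483), (981456, 483), (981939, 483), (982422, 483), (982905, 483), (983388, 483), (983871, 483), (984354, 483), (984837, 483), (985320, 483), (985803, 483), (986286, 483), (986769, 483), (987252, 483), (987735, 483), (988218, 483), (988701, 483), (989184, 483), (989667, 483), (990150, 483), (990633, 483), (991116, 483), (991599, 483), (992082, 483), (992565, 483), (993048, 483), (993531, 483), (994014, 483), (994497, 483), (994980, 483), (995463, 483), (995946, 483), (996429, 483), (996912, 483), (997395, 483), (997878, 483), (998361, 483), (998844, 483), (999327, 483), (999810, 483), (1000293, 483), (1000776, 483), (1001259, 483), (1001742, 483), (1002225, 483), (1002708, 483), (1003191, 483), (1003674, 483), (1004157, 483), (1004640, 483), (1005123, 483), (1005606, 483), (1006089, 483), (1006572, 483), (1007055, 483), (1007538, 483), (1008021, 483), (1008504, 483), (1008987, 483), (1009470, 483), (1009953, 483),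 (1010436, 483), (1010919, 483), (1011402, 483), (1011885, 483), (1012368, 483), (1012851, 483), (1013334, 483), (1013817, 483)] : List (ℕ × ℕ)), allR c.1 c.2 (fun q => (fun q => (cand 1539000 12 f8 fsx [0] (LA0 :: LsA) q).isNone) q) = true :=
  all_cons chk_ninn_1950 (all_cons chk_ninn_1951 (all_cons chk_ninn_1952 (all_cons chk_ninn_1953 (all_cons chk_ninn_1954 (all_cons chk_ninn_1955 (all_cons chk_ninn_1956 (all_cons chk_ninn_1957 (all_cons chk_ninn_1958 (all_cons chk_ninn_1959 (all_cons chk_ninn_1960 (all_cons chk_ninn_1961 (all_cons chk_ninn_1962 (all_cons chk_ninn_1963 (all_cons chk_ninn_1964 (all_cons chk_ninn_1965 (all_cons chk_ninn_1966 (all_cons chk_ninn_1967 (all_cons chk_ninn_1968 (all_cons chk_ninn_1969 (all_cons chk_ninn_1970 (all_cons chk_ninn_1971 (all_cons chk_ninn_1972 (all_cons chk_ninn_1973 (all_cons chk_ninn_1974 (all_cons chk_ninn_1975 (all_cons chk_ninn_1976 (all_cons chk_ninn_1977 (all_cons chk_ninn_1978 (all_cons chk_ninn_1979 (all_cons chk_ninn_1980 (all_cons chk_ninn_1981 (all_cons chk_ninn_1982 (all_cons chk_ninn_1983 (all_cons chk_ninn_1984 (all_cons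 chk_ninn_1985 (all_cons chk_ninn_1986 (all_cons chk_ninn_1987 (all_cons chk_ninn_1988 (all_cons chk_ninn_1989 (all_cons chk_ninn_1990 (all_cons chk_ninn_1991 (all_cons chk_ninn_1992 (all_cons chk_ninn_1993 (all_cons chk_ninn_1994 (all_cons chk_ninn_1995 (all_cons chk_ninn_1996 (all_cons chk_ninn_1997 (all_cons chk_ninn_1998 (all_cons chk_ninn_1999 (all_cons chk_ninn_2000 (all_cons chk_ninn_2001 (all_cons chk_ninn_2002 (all_cons chk_ninn_2003 (all_cons chk_ninn_2004 (all_cons chk_ninn_2005 (all_cons chk_ninn_2006 (all_cons chk_ninn_2007 (all_cons chk_ninn_2008 (all_cons chk_ninn_2009 (all_cons chk_ninn_2010 (all_cons chk_ninn_2011 (all_cons chk_ninn_2012 (all_cons chk_ninn_2013 (all_cons chk_ninn_2014 (all_cons chk_ninn_2015 (all_cons chk_ninn_2016 (all_cons chk_ninn_2017 (all_cons chk_ninn_2018 (all_cons chk_ninn_2019 (all_cons chk_ninn_2020 (all_cons chk_ninn_2021 (all_cons chk_ninn_2022 (all_cons chk_ninn_2023 (all_cons chk_ninn_2024 (all_cons chk_ninn_2025 (all_cons chk_ninn_2026 (all_cons chk_ninn_2027 (all_cons chk_ninn_2028 (all_cons chk_ninn_2029 (all_cons chk_ninn_2030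 (all_cons chk_ninn_2031 (all_cons chk_ninn_2032 (all_cons chk_ninn_2033 (all_cons chk_ninn_2034 (all_cons chk_ninn_2035 (all_cons chk_ninn_2036 (all_cons chk_ninn_2037 (all_cons chk_ninn_2038 (all_cons chk_ninn_2039 (all_cons chk_ninn_2040 (all_cons chk_ninn_2041 (all_cons chk_ninn_2042 (all_cons chk_ninn_2043 (all_cons chk_ninn_2044 (all_cons chk_ninn_2045 (all_cons chk_ninn_2046 (all_cons chk_ninn_2047 (all_cons chk_ninn_2048 (all_cons chk_ninn_2049 (all_cons chk_ninn_2050 (all_cons chk_ninn_2051 (all_cons chk_ninn_2052 (all_cons chk_ninn_2053 (all_cons chk_ninn_2054 (all_cons chk_ninn_2055 (all_cons chk_ninn_2056 (all_cons chk_ninn_2057 (all_cons chk_ninn_2058 (all_cons chk_ninn_2059 (all_cons chk_ninn_2060 (all_cons chk_ninn_2061 (all_cons chk_ninn_2062 (all_cons chk_ninn_2063 (all_cons chk_ninn_2064 (all_cons chk_ninn_2065 (all_cons chk_ninn_2066 (all_cons chk_ninn_2067 (all_cons chk_ninn_2068 (all_cons chk_ninn_2069 (all_cons chk_ninn_2070 (all_cons chk_ninn_2071 (all_cons chk_ninn_2072 (all_cons chk_ninn_2073 (all_cons chk_ninn_2074 (all_cons chk_ninn_2075 (all_cons chk_ninn_2076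 (all_cons chk_ninn_2077 (all_cons chk_ninn_2078 (all_cons chk_ninn_2079 (all_cons chk_ninn_2080 (all_cons chk_ninn_2081 (all_cons chk_ninn_2082 (all_cons chk_ninn_2083 (all_cons chk_ninn_2084 (all_cons chk_ninn_2085 (all_cons chk_ninn_2086 (all_cons chk_ninn_2087 (all_cons chk_ninn_2088 (all_cons chk_ninn_2089 (all_cons chk_ninn_2090 (all_cons chk_ninn_2091 (all_cons chk_ninn_2092 (all_cons chk_ninn_2093 (all_cons chk_ninn_2094 (all_cons chk_ninn_2095 (all_cons chk_ninn_2096 (all_cons chk_ninn_2097 (all_cons chk_ninn_2098 (all_cons chk_ninn_2099 (all_nil))))))))))))))))))))))))))))))))))))))))))))))))))))))))))))))))))))))))))))))))))))))))))))))))))))))))))))))))))))))))))))))))))))))))))))))))))))))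

theorem chk_ninn_grp14 : ∀ c ∈ ([(1014300, 483), (1014783, 483), (1015266, 483), (1015749, 483), (1016232, 483), (1016715, 483), (1017198, 483), (1017681, 483), (1018164, 483), (1018647, 483), (1019130, 483), (1019613, 483), (1020096, 483), (1020579, 483), (1021062, 483), (1021545, 483), (1022028, 483), (1022511, 483), (1022994, 483), (1023477, 483), (1023960, 483), (1024443, 483), (1024926, 483), (1025409, 483), (1025892, 483), (1026375, 483), (1026858, 483), (1027341, 483), (1027824, 483), (1028307, 483), (1028790, 483), (1029273, 483), (1029756, 483), (1030239, 483), (1030722, 483), (1031205, 483), (1031688, 483), (1032171, 483), (1032654, 483), (1033137, 483), (1033620, 483), (1034103, 483), (1034586, 483), (1035069, 483), (1035552, 483), (1036035, 483), (1036518, 483), (1037001, 483), (1037484, 483), (1037967, 483), (1038450, 483), (1038933, 483), (1039416, 483), (1039899, 483), (1040382, 483), (1040865, 483), (1041348, 483), (1041831, 483), (1042314, 483), (1042797, 483), (1043280, 483), (1043763, 483), (1044246, 483), (1044729, 483), (1045212, 483), (1045695, 483), (1046178,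 483), (1046661, 483), (1047144, 483), (1047627, 483), (1048110, 483), (1048593, 483), (1049076, 483), (1049559, 483), (1050042, 483), (1050525, 483), (1051008, 483), (1051491, 483), (1051974, 483), (1052457, 483), (1052940, 483), (1053423, 483), (1053906, 483), (1054389, 483), (1054872, 483), (1055355, 483), (1055838, 483), (1056321, 483), (1056804, 483), (1057287, 483), (1057770, 483), (1058253, 483), (1058736, 483), (1059219, 483), (1059702, 483), (1060185, 483), (1060668, 483), (1061151, 483), (1061634, 483), (1062117, 483), (1062600, 483), (1063083, 483), (1063566, 483), (1064049, 483), (1064532, 483), (1065015, 483), (1065498, 483), (1065981, 483), (1066464, 483), (1066947, 483), (1067430, 483), (1067913, 483), (1068396, 483), (1068879, 483), (1069362, 483), (1069845, 483), (1070328, 483), (1070811, 483), (1071294, 483), (1071777, 483), (1072260, 483), (1072743, 483), (1073226, 483), (1073709, 483), (1074192, 483), (1074675, 483), (1075158, 483), (1075641, 483), (1076124, 483), (1076607, 483), (1077090, 483), (1077573, 483), (1078056, 483), (1078539, 483), (1079022, 483),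 (1079505, 483), (1079988, 483), (1080471, 483), (1080954, 483), (1081437, 483), (1081920, 483), (1082403, 483), (1082886, 483), (1083369, 483), (1083852, 483), (1084335, 483), (1084818, 483), (1085301, 483), (1085784, 483), (1086267, 483)] : List (ℕ × ℕ)), allR c.1 c.2 (fun q => (fun q => (cand 1539000 12 f8 fsx [0] (LA0 :: LsA) q).isNone) q) = true :=
  all_cons chk_ninn_2100 (all_cons chk_ninn_2101 (all_cons chk_ninn_2102 (all_cons chk_ninn_2103 (all_cons chk_ninn_2104 (all_cons chk_ninn_2105 (all_cons chk_ninn_2106 (all_cons chk_ninn_2107 (all_cons chk_ninn_2108 (all_cons chk_ninn_2109 (all_cons chk_ninn_2110 (all_cons chk_ninn_2111 (all_cons chk_ninn_2112 (all_cons chk_ninn_2113 (all_cons chk_ninn_2114 (all_cons chk_ninn_2115 (all_cons chk_ninn_2116 (all_cons chk_ninn_2117 (all_cons chk_ninn_2118 (all_cons chk_ninn_2119 (all_cons chk_ninn_2120 (all_cons chk_ninn_2121 (all_cons chk_ninn_2122 (all_cons chk_ninn_2123 (all_cons chk_ninn_2124 (all_cons chk_ninn_2125 (all_cons chk_ninn_2126 (all_cons chk_ninn_2127 (all_cons chk_ninn_2128 (all_cons chk_ninn_2129 (all_cons chk_ninn_2130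 (all_cons chk_ninn_2131 (all_cons chk_ninn_2132 (all_cons chk_ninn_2133 (all_cons chk_ninn_2134 (all_cons chk_ninn_2135 (all_cons chk_ninn_2136 (all_cons chk_ninn_2137 (all_cons chk_ninn_2138 (all_cons chk_ninn_2139 (all_cons chk_ninn_2140 (all_cons chk_ninn_2141 (all_cons chk_ninn_2142 (all_cons chk_ninn_2143 (all_cons chk_ninn_2144 (all_cons chk_ninn_2145 (all_cons chk_ninn_2146 (all_cons chk_ninn_2147 (all_cons chk_ninn_2148 (all_cons chk_ninn_2149 (all_cons chk_ninn_2150 (all_cons chk_ninn_2151 (all_cons chk_ninn_2152 (all_cons chk_ninn_2153 (all_cons chk_ninn_2154 (all_cons chk_ninn_2155 (all_cons chk_ninn_2156 (all_cons chk_ninn_2157 (all_cons chk_ninn_2158 (all_cons chk_ninn_2159 (all_cons chk_ninn_2160 (all_cons chk_ninn_2161 (all_cons chk_ninn_2162 (all_cons chk_ninn_2163 (all_cons chk_ninn_2164 (all_cons chk_ninn_2165 (all_cons chk_ninn_2166 (all_cons chk_ninn_2167 (all_cons chk_ninn_2168 (all_cons chk_ninn_2169 (all_cons chk_ninn_2170 (all_cons chk_ninn_2171 (all_cons chk_ninn_2172 (all_cons chk_ninn_2173 (all_cons chk_ninn_2174 (all_cons chk_ninn_2175 (all_cons chk_ninn_2176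 (all_cons chk_ninn_2177 (all_cons chk_ninn_2178 (all_cons chk_ninn_2179 (all_cons chk_ninn_2180 (all_cons chk_ninn_2181 (all_cons chk_ninn_2182 (all_cons chk_ninn_2183 (all_cons chk_ninn_2184 (all_cons chk_ninn_2185 (all_cons chk_ninn_2186 (all_cons chk_ninn_2187 (all_cons chk_ninn_2188 (all_cons chk_ninn_2189 (all_cons chk_ninn_2190 (all_cons chk_ninn_2191 (all_cons chk_ninn_2192 (all_cons chk_ninn_2193 (all_cons chk_ninn_2194 (all_cons chk_ninn_2195 (all_cons chk_ninn_2196 (all_cons chk_ninn_2197 (all_cons chk_ninn_2198 (all_cons chk_ninn_2199 (all_cons chk_ninn_2200 (all_cons chk_ninn_2201 (all_cons chk_ninn_2202 (all_cons chk_ninn_2203 (all_cons chk_ninn_2204 (all_cons chk_ninn_2205 (all_cons chk_ninn_2206 (all_cons chk_ninn_2207 (all_cons chk_ninn_2208 (all_cons chk_ninn_2209 (all_cons chk_ninn_2210 (all_cons chk_ninn_2211 (all_cons chk_ninn_2212 (all_cons chk_ninn_2213 (all_cons chk_ninn_2214 (all_cons chk_ninn_2215 (all_cons chk_ninn_2216 (all_cons chk_ninn_2217 (all_cons chk_ninn_2218 (all_cons chk_ninn_2219 (all_cons chk_ninn_2220 (all_cons chk_ninn_2221 (all_cons chk_ninn_2222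 (all_cons chk_ninn_2223 (all_cons chk_ninn_2224 (all_cons chk_ninn_2225 (all_cons chk_ninn_2226 (all_cons chk_ninn_2227 (all_cons chk_ninn_2228 (all_cons chk_ninn_2229 (all_cons chk_ninn_2230 (all_cons chk_ninn_2231 (all_cons chk_ninn_2232 (all_cons chk_ninn_2233 (all_cons chk_ninn_2234 (all_cons chk_ninn_2235 (all_cons chk_ninn_2236 (all_cons chk_ninn_2237 (all_cons chk_ninn_2238 (all_cons chk_ninn_2239 (all_cons chk_ninn_2240 (all_cons chk_ninn_2241 (all_cons chk_ninn_2242 (all_cons chk_ninn_2243 (all_cons chk_ninn_2244 (all_cons chk_ninn_2245 (all_cons chk_ninn_2246 (all_cons chk_ninn_2247 (all_cons chk_ninn_2248 (all_cons chk_ninn_2249 (all_nil))))))))))))))))))))))))))))))))))))))))))))))))))))))))))))))))))))))))))))))))))))))))))))))))))))))))))))))))))))))))))))))))))))))))))))))))))))))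

theorem chk_ninn_grp15 : ∀ c ∈ ([(1086750, 483), (1087233, 483), (1087716, 483), (1088199, 483), (1088682, 483), (1089165, 483), (1089648, 483), (1090131, 483), (1090614, 483), (1091097, 483), (1091580, 483), (1092063, 483), (1092546, 483), (1093029, 483), (1093512, 483), (1093995, 483), (1094478, 483), (1094961, 483), (1095444, 483), (1095927, 483), (1096410, 483), (1096893, 483), (1097376, 483), (1097859, 483), (1098342, 483), (1098825, 483), (1099308, 483), (1099791, 483), (1100274, 483), (1100757, 483), (1101240, 483), (1101723, 483), (1102206, 483), (1102689, 483), (1103172, 483), (1103655, 483), (1104138, 483), (1104621, 483), (1105104, 483), (1105587, 483), (1106070, 483), (1106553, 483), (1107036, 483), (1107519, 483), (1108002, 483), (1108485, 483), (1108968, 483), (1109451, 483), (1109934, 483), (1110417, 483), (1110900, 483), (1111383, 483), (1111866, 483), (1112349, 483), (1112832, 483), (1113315, 483), (1113798, 483), (1114281, 483), (1114764, 483), (1115247, 483), (1115730, 483), (1116213, 483), (1116696, 483), (1117179, 483), (1117662, 483), (1118145, 483), (1118628,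 483), (1119111, 483), (1119594, 483), (1120077, 483), (1120560, 483), (1121043, 483), (1121526, 483), (1122009, 483), (1122492, 483), (1122975, 483), (1123458, 483), (1123941, 483), (1124424, 483), (1124907, 483), (1125390, 483), (1125873, 483), (1126356, 483), (1126839, 483), (1127322, 483), (1127805, 483), (1128288, 483), (1128771, 483), (1129254, 483), (1129737, 483), (1130220, 483), (1130703, 483), (1131186, 483), (1131669, 483), (1132152, 483), (1132635, 483), (1133118, 483), (1133601, 483), (1134084, 483), (1134567, 483), (1135050, 483), (1135533, 483), (1136016, 483), (1136499, 483), (1136982, 483), (1137465, 483), (1137948, 483), (1138431, 483), (1138914, 483), (1139397, 483), (1139880, 483), (1140363, 483), (1140846, 483), (1141329, 483), (1141812, 483), (1142295, 483), (1142778, 483), (1143261, 483), (1143744, 483), (1144227, 483), (1144710, 483), (1145193, 483), (1145676, 483), (1146159, 483), (1146642, 483), (1147125, 483), (1147608, 483), (1148091, 483), (1148574, 483), (1149057, 483), (1149540, 483), (1150023, 483), (1150506, 483), (1150989, 483), (1151472, 483),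 (1151955, 483), (1152438, 483), (1152921, 483), (1153404, 483), (1153887, 483), (1154370, 483), (1154853, 483), (1155336, 483), (1155819, 483), (1156302, 483), (1156785, 483), (1157268, 483), (1157751, 483), (1158234, 483), (1158717, 483)] : List (ℕ × ℕ)), allR c.1 c.2 (fun q => (fun q => (cand 1539000 12 f8 fsx [0] (LA0 :: LsA) q).isNone) q) = true :=
  all_cons chk_ninn_2250 (all_cons chk_ninn_2251 (all_cons chk_ninn_2252 (all_cons chk_ninn_2253 (all_cons chk_ninn_2254 (all_cons chk_ninn_2255 (all_cons chk_ninn_2256 (all_cons chk_ninn_2257 (all_cons chk_ninn_2258 (all_cons chk_ninn_2259 (all_cons chk_ninn_2260 (all_cons chk_ninn_2261 (all_cons chk_ninn_2262 (all_cons chk_ninn_2263 (all_cons chk_ninn_2264 (all_cons chk_ninn_2265 (all_cons chk_ninn_2266 (all_cons chk_ninn_2267 (all_cons chk_ninn_2268 (all_cons chk_ninn_2269 (all_cons chk_ninn_2270 (all_cons chk_ninn_2271 (all_cons chk_ninn_2272 (all_cons chk_ninn_2273 (all_cons chk_ninn_2274 (all_cons chk_ninn_2275 (all_cons chk_ninn_2276 (all_cons chk_ninn_2277 (all_cons chk_ninn_2278 (all_cons chk_ninn_2279 (all_cons chk_ninn_2280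 (all_cons chk_ninn_2281 (all_cons chk_ninn_2282 (all_cons chk_ninn_2283 (all_cons chk_ninn_2284 (all_cons chk_ninn_2285 (all_cons chk_ninn_2286 (all_cons chk_ninn_2287 (all_cons chk_ninn_2288 (all_cons chk_ninn_2289 (all_cons chk_ninn_2290 (all_cons chk_ninn_2291 (all_cons chk_ninn_2292 (all_cons chk_ninn_2293 (all_cons chk_ninn_2294 (all_cons chk_ninn_2295 (all_cons chk_ninn_2296 (all_cons chk_ninn_2297 (all_cons chk_ninn_2298 (all_cons chk_ninn_2299 (all_cons chk_ninn_2300 (all_cons chk_ninn_2301 (all_cons chk_ninn_2302 (all_cons chk_ninn_2303 (all_cons chk_ninn_2304 (all_cons chk_ninn_2305 (all_cons chk_ninn_2306 (all_cons chk_ninn_2307 (all_cons chk_ninn_2308 (all_cons chk_ninn_2309 (all_cons chk_ninn_2310 (all_cons chk_ninn_2311 (all_cons chk_ninn_2312 (all_cons chk_ninn_2313 (all_cons chk_ninn_2314 (all_cons chk_ninn_2315 (all_cons chk_ninn_2316 (all_cons chk_ninn_2317 (all_cons chk_ninn_2318 (all_cons chk_ninn_2319 (all_cons chk_ninn_2320 (all_cons chk_ninn_2321 (all_cons chk_ninn_2322 (all_cons chk_ninn_2323 (all_cons chk_ninn_2324 (all_cons chk_ninn_2325 (all_cons chk_ninn_2326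 (all_cons chk_ninn_2327 (all_cons chk_ninn_2328 (all_cons chk_ninn_2329 (all_cons chk_ninn_2330 (all_cons chk_ninn_2331 (all_cons chk_ninn_2332 (all_cons chk_ninn_2333 (all_cons chk_ninn_2334 (all_cons chk_ninn_2335 (all_cons chk_ninn_2336 (all_cons chk_ninn_2337 (all_cons chk_ninn_2338 (all_cons chk_ninn_2339 (all_cons chk_ninn_2340 (all_cons chk_ninn_2341 (all_cons chk_ninn_2342 (all_cons chk_ninn_2343 (all_cons chk_ninn_2344 (all_cons chk_ninn_2345 (all_cons chk_ninn_2346 (all_cons chk_ninn_2347 (all_cons chk_ninn_2348 (all_cons chk_ninn_2349 (all_cons chk_ninn_2350 (all_cons chk_ninn_2351 (all_cons chk_ninn_2352 (all_cons chk_ninn_2353 (all_cons chk_ninn_2354 (all_cons chk_ninn_2355 (all_cons chk_ninn_2356 (all_cons chk_ninn_2357 (all_cons chk_ninn_2358 (all_cons chk_ninn_2359 (all_cons chk_ninn_2360 (all_cons chk_ninn_2361 (all_cons chk_ninn_2362 (all_cons chk_ninn_2363 (all_cons chk_ninn_2364 (all_cons chk_ninn_2365 (all_cons chk_ninn_2366 (all_cons chk_ninn_2367 (all_cons chk_ninn_2368 (all_cons chk_ninn_2369 (all_cons chk_ninn_2370 (all_cons chk_ninn_2371 (all_cons chk_ninn_2372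 (all_cons chk_ninn_2373 (all_cons chk_ninn_2374 (all_cons chk_ninn_2375 (all_cons chk_ninn_2376 (all_cons chk_ninn_2377 (all_cons chk_ninn_2378 (all_cons chk_ninn_2379 (all_cons chk_ninn_2380 (all_cons chk_ninn_2381 (all_cons chk_ninn_2382 (all_cons chk_ninn_2383 (all_cons chk_ninn_2384 (all_cons chk_ninn_2385 (all_cons chk_ninn_2386 (all_cons chk_ninn_2387 (all_cons chk_ninn_2388 (all_cons chk_ninn_2389 (all_cons chk_ninn_2390 (all_cons chk_ninn_2391 (all_cons chk_ninn_2392 (all_cons chk_ninn_2393 (all_cons chk_ninn_2394 (all_cons chk_ninn_2395 (all_cons chk_ninn_2396 (all_cons chk_ninn_2397 (all_cons chk_ninn_2398 (all_cons chk_ninn_2399 (all_nil))))))))))))))))))))))))))))))))))))))))))))))))))))))))))))))))))))))))))))))))))))))))))))))))))))))))))))))))))))))))))))))))))))))))))))))))))))))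

theorem chk_ninn_grp16 : ∀ c ∈ ([(1159200, 483), (1159683, 483), (1160166, 483), (1160649, 483), (1161132, 483), (1161615, 483), (1162098, 483), (1162581, 483), (1163064, 483), (1163547, 483), (1164030, 483), (1164513, 483), (1164996, 483), (1165479, 483), (1165962, 483), (1166445, 483), (1166928, 483), (1167411, 483), (1167894, 483), (1168377, 483), (1168860, 483), (1169343, 483), (1169826, 483), (1170309, 483), (1170792, 483), (1171275, 483), (1171758, 483), (1172241, 483), (1172724, 483), (1173207, 483), (1173690, 483), (1174173, 483), (1174656, 483), (1175139, 483), (1175622, 483), (1176105, 483), (1176588, 483), (1177071, 483), (1177554, 483), (1178037, 483), (1178520, 483), (1179003, 483), (1179486, 483), (1179969, 483), (1180452, 483), (1180935, 483), (1181418, 483), (1181901, 483), (1182384, 483), (1182867, 483), (1183350, 483), (1183833, 483), (1184316, 483), (1184799, 483), (1185282, 483), (1185765, 483), (1186248, 483), (1186731, 483), (1187214, 483), (1187697, 483), (1188180, 483), (1188663, 483), (1189146, 483), (1189629, 483), (1190112, 483), (1190595, 483), (1191078,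 483), (1191561, 483), (1192044, 483), (1192527, 483), (1193010, 483), (1193493, 483), (1193976, 483), (1194459, 483), (1194942, 483), (1195425, 483), (1195908, 483), (1196391, 483), (1196874, 483), (1197357, 483), (1197840, 483), (1198323, 483), (1198806, 483), (1199289, 483), (1199772, 483), (1200255, 483), (1200738, 483), (1201221, 483), (1201704, 483), (1202187, 483), (1202670, 483), (1203153, 483), (1203636, 483), (1204119, 483), (1204602, 483), (1205085, 483), (1205568, 483), (1206051, 483), (1206534, 483), (1207017, 483), (1207500, 483), (1207983, 483), (1208466, 483), (1208949, 483), (1209432, 483), (1209915, 483), (1210398, 483), (1210881, 483), (1211364, 483), (1211847, 483), (1212330, 483), (1212813, 483), (1213296, 483), (1213779, 483), (1214262, 483), (1214745, 483), (1215228, 483), (1215711, 483), (1216194, 483), (1216677, 483), (1217160, 483), (1217643, 483), (1218126, 483), (1218609, 483), (1219092, 483), (1219575, 483), (1220058, 483), (1220541, 483), (1221024, 483), (1221507, 483), (1221990, 483), (1222473, 483), (1222956, 483), (1223439, 483), (1223922, 483),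 (1224405, 483), (1224888, 483), (1225371, 483), (1225854, 483), (1226337, 483), (1226820, 483), (1227303, 483), (1227786, 483), (1228269, 483), (1228752, 483), (1229235, 483), (1229718, 483), (1230201, 483), (1230684, 483), (1231167, 483)] : List (ℕ × ℕ)), allR c.1 c.2 (fun q => (fun q => (cand 1539000 12 f8 fsx [0] (LA0 :: LsA) q).isNone) q) = true :=
  all_cons chk_ninn_2400 (all_cons chk_ninn_2401 (all_cons chk_ninn_2402 (all_cons chk_ninn_2403 (all_cons chk_ninn_2404 (all_cons chk_ninn_2405 (all_cons chk_ninn_2406 (all_cons chk_ninn_2407 (all_cons chk_ninn_2408 (all_cons chk_ninn_2409 (all_cons chk_ninn_2410 (all_cons chk_ninn_2411 (all_cons chk_ninn_2412 (all_cons chk_ninn_2413 (all_cons chk_ninn_2414 (all_cons chk_ninn_2415 (all_cons chk_ninn_2416 (all_cons chk_ninn_2417 (all_cons chk_ninn_2418 (all_cons chk_ninn_2419 (all_cons chk_ninn_2420 (all_cons chk_ninn_2421 (all_cons chk_ninn_2422 (all_cons chk_ninn_2423 (all_cons chk_ninn_2424 (all_cons chk_ninn_2425 (all_cons chk_ninn_2426 (all_cons chk_ninn_2427 (all_cons chk_ninn_2428 (all_cons chk_ninn_2429 (all_cons chk_ninn_2430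 (all_cons chk_ninn_2431 (all_cons chk_ninn_2432 (all_cons chk_ninn_2433 (all_cons chk_ninn_2434 (all_cons chk_ninn_2435 (all_cons chk_ninn_2436 (all_cons chk_ninn_2437 (all_cons chk_ninn_2438 (all_cons chk_ninn_2439 (all_cons chk_ninn_2440 (all_cons chk_ninn_2441 (all_cons chk_ninn_2442 (all_cons chk_ninn_2443 (all_cons chk_ninn_2444 (all_cons chk_ninn_2445 (all_cons chk_ninn_2446 (all_cons chk_ninn_2447 (all_cons chk_ninn_2448 (all_cons chk_ninn_2449 (all_cons chk_ninn_2450 (all_cons chk_ninn_2451 (all_cons chk_ninn_2452 (all_cons chk_ninn_2453 (all_cons chk_ninn_2454 (all_cons chk_ninn_2455 (all_cons chk_ninn_2456 (all_cons chk_ninn_2457 (all_cons chk_ninn_2458 (all_cons chk_ninn_2459 (all_cons chk_ninn_2460 (all_cons chk_ninn_2461 (all_cons chk_ninn_2462 (all_cons chk_ninn_2463 (all_cons chk_ninn_2464 (all_cons chk_ninn_2465 (all_cons chk_ninn_2466 (all_cons chk_ninn_2467 (all_cons chk_ninn_2468 (all_cons chk_ninn_2469 (all_cons chk_ninn_2470 (all_cons chk_ninn_2471 (all_cons chk_ninn_2472 (all_cons chk_ninn_2473 (all_cons chk_ninn_2474 (all_cons chk_ninn_2475 (all_cons chk_ninn_2476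 (all_cons chk_ninn_2477 (all_cons chk_ninn_2478 (all_cons chk_ninn_2479 (all_cons chk_ninn_2480 (all_cons chk_ninn_2481 (all_cons chk_ninn_2482 (all_cons chk_ninn_2483 (all_cons chk_ninn_2484 (all_cons chk_ninn_2485 (all_cons chk_ninn_2486 (all_cons chk_ninn_2487 (all_cons chk_ninn_2488 (all_cons chk_ninn_2489 (all_cons chk_ninn_2490 (all_cons chk_ninn_2491 (all_cons chk_ninn_2492 (all_cons chk_ninn_2493 (all_cons chk_ninn_2494 (all_cons chk_ninn_2495 (all_cons chk_ninn_2496 (all_cons chk_ninn_2497 (all_cons chk_ninn_2498 (all_cons chk_ninn_2499 (all_cons chk_ninn_2500 (all_cons chk_ninn_2501 (all_cons chk_ninn_2502 (all_cons chk_ninn_2503 (all_cons chk_ninn_2504 (all_cons chk_ninn_2505 (all_cons chk_ninn_2506 (all_cons chk_ninn_2507 (all_cons chk_ninn_2508 (all_cons chk_ninn_2509 (all_cons chk_ninn_2510 (all_cons chk_ninn_2511 (all_cons chk_ninn_2512 (all_cons chk_ninn_2513 (all_cons chk_ninn_2514 (all_cons chk_ninn_2515 (all_cons chk_ninn_2516 (all_cons chk_ninn_2517 (all_cons chk_ninn_2518 (all_cons chk_ninn_2519 (all_cons chk_ninn_2520 (all_cons chk_ninn_2521 (all_cons chk_ninn_2522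 (all_cons chk_ninn_2523 (all_cons chk_ninn_2524 (all_cons chk_ninn_2525 (all_cons chk_ninn_2526 (all_cons chk_ninn_2527 (all_cons chk_ninn_2528 (all_cons chk_ninn_2529 (all_cons chk_ninn_2530 (all_cons chk_ninn_2531 (all_cons chk_ninn_2532 (all_cons chk_ninn_2533 (all_cons chk_ninn_2534 (all_cons chk_ninn_2535 (all_cons chk_ninn_2536 (all_cons chk_ninn_2537 (all_cons chk_ninn_2538 (all_cons chk_ninn_2539 (all_cons chk_ninn_2540 (all_cons chk_ninn_2541 (all_cons chk_ninn_2542 (all_cons chk_ninn_2543 (all_cons chk_ninn_2544 (all_cons chk_ninn_2545 (all_cons chk_ninn_2546 (all_cons chk_ninn_2547 (all_cons chk_ninn_2548 (all_cons chk_ninn_2549 (all_nil))))))))))))))))))))))))))))))))))))))))))))))))))))))))))))))))))))))))))))))))))))))))))))))))))))))))))))))))))))))))))))))))))))))))))))))))))))))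

theorem chk_ninn_grp17 : ∀ c ∈ ([(1231650, 483), (1232133, 483), (1232616, 483), (1233099, 483), (1233582, 483), (1234065, 483), (1234548, 483), (1235031, 483), (1235514, 483), (1235997, 483), (1236480, 483), (1236963, 483), (1237446, 483), (1237929, 483), (1238412, 483), (1238895, 483), (1239378, 483), (1239861, 483), (1240344, 483), (1240827, 483), (1241310, 483), (1241793, 483), (1242276, 483), (1242759, 483), (1243242, 483), (1243725, 483), (1244208, 483), (1244691, 483), (1245174, 483), (1245657, 483), (1246140, 483), (1246623, 483), (1247106, 483), (1247589, 483), (1248072, 483), (1248555, 483), (1249038, 483), (1249521, 483), (1250004, 483), (1250487, 483), (1250970, 483), (1251453, 483), (1251936, 483), (1252419, 483), (1252902, 483), (1253385, 483), (1253868, 483), (1254351, 483), (1254834, 483), (1255317, 483), (1255800, 483), (1256283, 483), (1256766, 483), (1257249, 483), (1257732, 483), (1258215, 483), (1258698, 483), (1259181, 483), (1259664, 483), (1260147, 483), (1260630, 483), (1261113, 483), (1261596, 483), (1262079, 483), (1262562, 483), (1263045, 483), (1263528,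 483), (1264011, 483), (1264494, 483), (1264977, 483), (1265460, 483), (1265943, 483), (1266426, 483), (1266909, 483), (1267392, 483), (1267875, 483), (1268358, 483), (1268841, 483), (1269324, 483), (1269807, 483), (1270290, 483), (1270773, 483), (1271256, 483), (1271739, 483), (1272222, 483), (1272705, 483), (1273188, 483), (1273671, 483), (1274154, 483), (1274637, 483), (1275120, 483), (1275603, 483), (1276086, 483), (1276569, 483), (1277052, 483), (1277535, 483), (1278018, 483), (1278501, 483), (1278984, 483), (1279467, 483), (1279950, 483), (1280433, 483), (1280916, 483), (1281399, 483), (1281882, 483), (1282365, 483), (1282848, 483), (1283331, 483), (1283814, 483), (1284297, 483), (1284780, 483), (1285263, 483), (1285746, 483), (1286229, 483), (1286712, 483), (1287195, 483), (1287678, 483), (1288161, 483), (1288644, 483), (1289127, 483), (1289610, 483), (1290093, 483), (1290576, 483), (1291059, 483), (1291542, 483), (1292025, 483), (1292508, 483), (1292991, 483), (1293474, 483), (1293957, 483), (1294440, 483), (1294923, 483), (1295406, 483), (1295889, 483), (1296372, 483),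 (1296855, 483), (1297338, 483), (1297821, 483), (1298304, 483), (1298787, 483), (1299270, 483), (1299753, 483), (1300236, 483), (1300719, 483), (1301202, 483), (1301685, 483), (1302168, 483), (1302651, 483), (1303134, 483), (1303617, 483)] : List (ℕ × ℕ)), allR c.1 c.2 (fun q => (fun q => (cand 1539000 12 f8 fsx [0] (LA0 :: LsA) q).isNone) q) = true :=
  all_cons chk_ninn_2550 (all_cons chk_ninn_2551 (all_cons chk_ninn_2552 (all_cons chk_ninn_2553 (all_cons chk_ninn_2554 (all_cons chk_ninn_2555 (all_cons chk_ninn_2556 (all_cons chk_ninn_2557 (all_cons chk_ninn_2558 (all_cons chk_ninn_2559 (all_cons chk_ninn_2560 (all_cons chk_ninn_2561 (all_cons chk_ninn_2562 (all_cons chk_ninn_2563 (all_cons chk_ninn_2564 (all_cons chk_ninn_2565 (all_cons chk_ninn_2566 (all_cons chk_ninn_2567 (all_cons chk_ninn_2568 (all_cons chk_ninn_2569 (all_cons chk_ninn_2570 (all_cons chk_ninn_2571 (all_cons chk_ninn_2572 (all_cons chk_ninn_2573 (all_cons chk_ninn_2574 (all_cons chk_ninn_2575 (all_cons chk_ninn_2576 (all_cons chk_ninn_2577 (all_cons chk_ninn_2578 (all_cons chk_ninn_2579 (all_cons chk_ninn_2580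 (all_cons chk_ninn_2581 (all_cons chk_ninn_2582 (all_cons chk_ninn_2583 (all_cons chk_ninn_2584 (all_cons chk_ninn_2585 (all_cons chk_ninn_2586 (all_cons chk_ninn_2587 (all_cons chk_ninn_2588 (all_cons chk_ninn_2589 (all_cons chk_ninn_2590 (all_cons chk_ninn_2591 (all_cons chk_ninn_2592 (all_cons chk_ninn_2593 (all_cons chk_ninn_2594 (all_cons chk_ninn_2595 (all_cons chk_ninn_2596 (all_cons chk_ninn_2597 (all_cons chk_ninn_2598 (all_cons chk_ninn_2599 (all_cons chk_ninn_2600 (all_cons chk_ninn_2601 (all_cons chk_ninn_2602 (all_cons chk_ninn_2603 (all_cons chk_ninn_2604 (all_cons chk_ninn_2605 (all_cons chk_ninn_2606 (all_cons chk_ninn_2607 (all_cons chk_ninn_2608 (all_cons chk_ninn_2609 (all_cons chk_ninn_2610 (all_cons chk_ninn_2611 (all_cons chk_ninn_2612 (all_cons chk_ninn_2613 (all_cons chk_ninn_2614 (all_cons chk_ninn_2615 (all_cons chk_ninn_2616 (all_cons chk_ninn_2617 (all_cons chk_ninn_2618 (all_cons chk_ninn_2619 (all_cons chk_ninn_2620 (all_cons chk_ninn_2621 (all_cons chk_ninn_2622 (all_cons chk_ninn_2623 (all_cons chk_ninn_2624 (all_cons chk_ninn_2625 (all_cons chk_ninn_2626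 (all_cons chk_ninn_2627 (all_cons chk_ninn_2628 (all_cons chk_ninn_2629 (all_cons chk_ninn_2630 (all_cons chk_ninn_2631 (all_cons chk_ninn_2632 (all_cons chk_ninn_2633 (all_cons chk_ninn_2634 (all_cons chk_ninn_2635 (all_cons chk_ninn_2636 (all_cons chk_ninn_2637 (all_cons chk_ninn_2638 (all_cons chk_ninn_2639 (all_cons chk_ninn_2640 (all_cons chk_ninn_2641 (all_cons chk_ninn_2642 (all_cons chk_ninn_2643 (all_cons chk_ninn_2644 (all_cons chk_ninn_2645 (all_cons chk_ninn_2646 (all_cons chk_ninn_2647 (all_cons chk_ninn_2648 (all_cons chk_ninn_2649 (all_cons chk_ninn_2650 (all_cons chk_ninn_2651 (all_cons chk_ninn_2652 (all_cons chk_ninn_2653 (all_cons chk_ninn_2654 (all_cons chk_ninn_2655 (all_cons chk_ninn_2656 (all_cons chk_ninn_2657 (all_cons chk_ninn_2658 (all_cons chk_ninn_2659 (all_cons chk_ninn_2660 (all_cons chk_ninn_2661 (all_cons chk_ninn_2662 (all_cons chk_ninn_2663 (all_cons chk_ninn_2664 (all_cons chk_ninn_2665 (all_cons chk_ninn_2666 (all_cons chk_ninn_2667 (all_cons chk_ninn_2668 (all_cons chk_ninn_2669 (all_cons chk_ninn_2670 (all_cons chk_ninn_2671 (all_cons chk_ninn_2672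 (all_cons chk_ninn_2673 (all_cons chk_ninn_2674 (all_cons chk_ninn_2675 (all_cons chk_ninn_2676 (all_cons chk_ninn_2677 (all_cons chk_ninn_2678 (all_cons chk_ninn_2679 (all_cons chk_ninn_2680 (all_cons chk_ninn_2681 (all_cons chk_ninn_2682 (all_cons chk_ninn_2683 (all_cons chk_ninn_2684 (all_cons chk_ninn_2685 (all_cons chk_ninn_2686 (all_cons chk_ninn_2687 (all_cons chk_ninn_2688 (all_cons chk_ninn_2689 (all_cons chk_ninn_2690 (all_cons chk_ninn_2691 (all_cons chk_ninn_2692 (all_cons chk_ninn_2693 (all_cons chk_ninn_2694 (all_cons chk_ninn_2695 (all_cons chk_ninn_2696 (all_cons chk_ninn_2697 (all_cons chk_ninn_2698 (all_cons chk_ninn_2699 (all_nil))))))))))))))))))))))))))))))))))))))))))))))))))))))))))))))))))))))))))))))))))))))))))))))))))))))))))))))))))))))))))))))))))))))))))))))))))))))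

theorem chk_ninn_grp18 : ∀ c ∈ ([(1304100, 483), (1304583, 483), (1305066, 483), (1305549, 483), (1306032, 483), (1306515, 483), (1306998, 483), (1307481, 483), (1307964, 483), (1308447, 483), (1308930, 483), (1309413, 483), (1309896, 483), (1310379, 483), (1310862, 483), (1311345, 483), (1311828, 483), (1312311, 483), (1312794, 483), (1313277, 483), (1313760, 483), (1314243, 483), (1314726, 483), (1315209, 483), (1315692, 483), (1316175, 483), (1316658, 483), (1317141, 483), (1317624, 483), (1318107, 483), (1318590, 483), (1319073, 483), (1319556, 483), (1320039, 483), (1320522, 483), (1321005, 483), (1321488, 483), (1321971, 483), (1322454, 483), (1322937, 483), (1323420, 483), (1323903, 483), (1324386, 483), (1324869, 483), (1325352, 483), (1325835, 483), (1326318, 483), (1326801, 483), (1327284, 483), (1327767, 483), (1328250, 483), (1328733, 483), (1329216, 483), (1329699, 483), (1330182, 483), (1330665, 483), (1331148, 483), (1331631, 483), (1332114, 483), (1332597, 483), (1333080, 483), (1333563, 483), (1334046, 483), (1334529, 483), (1335012, 483), (1335495, 483), (1335978,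 483), (1336461, 483), (1336944, 483), (1337427, 483), (1337910, 483), (1338393, 483), (1338876, 483), (1339359, 483), (1339842, 483), (1340325, 483), (1340808, 483), (1341291, 483), (1341774, 483), (1342257, 483), (1342740, 483), (1343223, 483), (1343706, 483), (1344189, 483), (1344672, 483), (1345155, 483), (1345638, 483), (1346121, 483), (1346604, 483), (1347087, 483), (1347570, 483), (1348053, 483), (1348536, 483), (1349019, 483), (1349502, 483), (1349985, 483), (1350468, 483), (1350951, 483), (1351434, 483), (1351917, 483), (1352400, 483), (1352883, 483), (1353366, 483), (1353849, 483), (1354332, 483), (1354815, 483), (1355298, 483), (1355781, 483), (1356264, 483), (1356747, 483), (1357230, 483), (1357713, 483), (1358196, 483), (1358679, 483), (1359162, 483), (1359645, 483), (1360128, 483), (1360611, 483), (1361094, 483), (1361577, 483), (1362060, 483), (1362543, 483), (1363026, 483), (1363509, 483), (1363992, 483), (1364475, 483), (1364958, 483), (1365441, 483), (1365924, 483), (1366407, 483), (1366890, 483), (1367373, 483), (1367856, 483), (1368339, 483), (1368822, 483),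 (1369305, 483), (1369788, 483), (1370271, 483), (1370754, 483), (1371237, 483), (1371720, 483), (1372203, 483), (1372686, 483), (1373169, 483), (1373652, 483), (1374135, 483), (1374618, 483), (1375101, 483), (1375584, 483), (1376067, 483)] : List (ℕ × ℕ)), allR c.1 c.2 (fun q => (fun q => (cand 1539000 12 f8 fsx [0] (LA0 :: LsA) q).isNone) q) = true :=
  all_cons chk_ninn_2700 (all_cons chk_ninn_2701 (all_cons chk_ninn_2702 (all_cons chk_ninn_2703 (all_cons chk_ninn_2704 (all_cons chk_ninn_2705 (all_cons chk_ninn_2706 (all_cons chk_ninn_2707 (all_cons chk_ninn_2708 (all_cons chk_ninn_2709 (all_cons chk_ninn_2710 (all_cons chk_ninn_2711 (all_cons chk_ninn_2712 (all_cons chk_ninn_2713 (all_cons chk_ninn_2714 (all_cons chk_ninn_2715 (all_cons chk_ninn_2716 (all_cons chk_ninn_2717 (all_cons chk_ninn_2718 (all_cons chk_ninn_2719 (all_cons chk_ninn_2720 (all_cons chk_ninn_2721 (all_cons chk_ninn_2722 (all_cons chk_ninn_2723 (all_cons chk_ninn_2724 (all_cons chk_ninn_2725 (all_cons chk_ninn_2726 (all_cons chk_ninn_2727 (all_cons chk_ninn_2728 (all_cons chk_ninn_2729 (all_cons chk_ninn_2730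 (all_cons chk_ninn_2731 (all_cons chk_ninn_2732 (all_cons chk_ninn_2733 (all_cons chk_ninn_2734 (all_cons chk_ninn_2735 (all_cons chk_ninn_2736 (all_cons chk_ninn_2737 (all_cons chk_ninn_2738 (all_cons chk_ninn_2739 (all_cons chk_ninn_2740 (all_cons chk_ninn_2741 (all_cons chk_ninn_2742 (all_cons chk_ninn_2743 (all_cons chk_ninn_2744 (all_cons chk_ninn_2745 (all_cons chk_ninn_2746 (all_cons chk_ninn_2747 (all_cons chk_ninn_2748 (all_cons chk_ninn_2749 (all_cons chk_ninn_2750 (all_cons chk_ninn_2751 (all_cons chk_ninn_2752 (all_cons chk_ninn_2753 (all_cons chk_ninn_2754 (all_cons chk_ninn_2755 (all_cons chk_ninn_2756 (all_cons chk_ninn_2757 (all_cons chk_ninn_2758 (all_cons chk_ninn_2759 (all_cons chk_ninn_2760 (all_cons chk_ninn_2761 (all_cons chk_ninn_2762 (all_cons chk_ninn_2763 (all_cons chk_ninn_2764 (all_cons chk_ninn_2765 (all_cons chk_ninn_2766 (all_cons chk_ninn_2767 (all_cons chk_ninn_2768 (all_cons chk_ninn_2769 (all_cons chk_ninn_2770 (all_cons chk_ninn_2771 (all_cons chk_ninn_2772 (all_cons chk_ninn_2773 (all_cons chk_ninn_2774 (all_cons chk_ninn_2775 (all_cons chk_ninn_2776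 (all_cons chk_ninn_2777 (all_cons chk_ninn_2778 (all_cons chk_ninn_2779 (all_cons chk_ninn_2780 (all_cons chk_ninn_2781 (all_cons chk_ninn_2782 (all_cons chk_ninn_2783 (all_cons chk_ninn_2784 (all_cons chk_ninn_2785 (all_cons chk_ninn_2786 (all_cons chk_ninn_2787 (all_cons chk_ninn_2788 (all_cons chk_ninn_2789 (all_cons chk_ninn_2790 (all_cons chk_ninn_2791 (all_cons chk_ninn_2792 (all_cons chk_ninn_2793 (all_cons chk_ninn_2794 (all_cons chk_ninn_2795 (all_cons chk_ninn_2796 (all_cons chk_ninn_2797 (all_cons chk_ninn_2798 (all_cons chk_ninn_2799 (all_cons chk_ninn_2800 (all_cons chk_ninn_2801 (all_cons chk_ninn_2802 (all_cons chk_ninn_2803 (all_cons chk_ninn_2804 (all_cons chk_ninn_2805 (all_cons chk_ninn_2806 (all_cons chk_ninn_2807 (all_cons chk_ninn_2808 (all_cons chk_ninn_2809 (all_cons chk_ninn_2810 (all_cons chk_ninn_2811 (all_cons chk_ninn_2812 (all_cons chk_ninn_2813 (all_cons chk_ninn_2814 (all_cons chk_ninn_2815 (all_cons chk_ninn_2816 (all_cons chk_ninn_2817 (all_cons chk_ninn_2818 (all_cons chk_ninn_2819 (all_cons chk_ninn_2820 (all_cons chk_ninn_2821 (all_cons chk_ninn_2822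 (all_cons chk_ninn_2823 (all_cons chk_ninn_2824 (all_cons chk_ninn_2825 (all_cons chk_ninn_2826 (all_cons chk_ninn_2827 (all_cons chk_ninn_2828 (all_cons chk_ninn_2829 (all_cons chk_ninn_2830 (all_cons chk_ninn_2831 (all_cons chk_ninn_2832 (all_cons chk_ninn_2833 (all_cons chk_ninn_2834 (all_cons chk_ninn_2835 (all_cons chk_ninn_2836 (all_cons chk_ninn_2837 (all_cons chk_ninn_2838 (all_cons chk_ninn_2839 (all_cons chk_ninn_2840 (all_cons chk_ninn_2841 (all_cons chk_ninn_2842 (all_cons chk_ninn_2843 (all_cons chk_ninn_2844 (all_cons chk_ninn_2845 (all_cons chk_ninn_2846 (all_cons chk_ninn_2847 (all_cons chk_ninn_2848 (all_cons chk_ninn_2849 (all_nil))))))))))))))))))))))))))))))))))))))))))))))))))))))))))))))))))))))))))))))))))))))))))))))))))))))))))))))))))))))))))))))))))))))))))))))))))))))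

theorem chk_ninn_grp19 : ∀ c ∈ ([(1376550, 483), (1377033, 483), (1377516, 483), (1377999, 483), (1378482, 483), (1378965, 483), (1379448, 483), (1379931, 483), (1380414, 483), (1380897, 483), (1381380, 483), (1381863, 483), (1382346, 483), (1382829, 483), (1383312, 483), (1383795, 483), (1384278, 483), (1384761, 483), (1385244, 483), (1385727, 483), (1386210, 483), (1386693, 483), (1387176, 483), (1387659, 483), (1388142, 483), (1388625, 483), (1389108, 483), (1389591, 483), (1390074, 483), (1390557, 483), (1391040, 483), (1391523, 483), (1392006, 483), (1392489, 483), (1392972, 483), (1393455, 483), (1393938, 483), (1394421, 483), (1394904, 483), (1395387, 483), (1395870, 483), (1396353, 483), (1396836, 483), (1397319, 483), (1397802, 483), (1398285, 483), (1398768, 483), (1399251, 483), (1399734, 483), (1400217, 483), (1400700, 483), (1401183, 483), (1401666, 483), (1402149, 483), (1402632, 483), (1403115, 483), (1403598, 483), (1404081, 483), (1404564, 483), (1405047, 483), (1405530, 483), (1406013, 483), (1406496, 483), (1406979, 483), (1407462, 483), (1407945, 483), (1408428,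 483), (1408911, 483), (1409394, 483), (1409877, 483), (1410360, 483), (1410843, 483), (1411326, 483), (1411809, 483), (1412292, 483), (1412775, 483), (1413258, 483), (1413741, 483), (1414224, 483), (1414707, 483), (1415190, 483), (1415673, 483), (1416156, 483), (1416639, 483), (1417122, 483), (1417605, 483), (1418088, 483), (1418571, 483), (1419054, 483), (1419537, 483), (1420020, 483), (1420503, 483), (1420986, 483), (1421469, 483), (1421952, 483), (1422435, 483), (1422918, 483), (1423401, 483), (1423884, 483), (1424367, 483), (1424850, 483), (1425333, 483), (1425816, 483), (1426299, 483), (1426782, 483), (1427265, 483), (1427748, 483), (1428231, 483), (1428714, 483), (1429197, 483), (1429680, 483), (1430163, 483), (1430646, 483), (1431129, 483), (1431612, 483), (1432095, 483), (1432578, 483), (1433061, 483), (1433544, 483), (1434027, 483), (1434510, 483), (1434993, 483), (1435476, 483), (1435959, 483), (1436442, 483), (1436925, 483), (1437408, 483), (1437891, 483), (1438374, 483), (1438857, 483), (1439340, 483), (1439823, 483), (1440306, 483), (1440789, 483), (1441272, 483),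 (1441755, 483), (1442238, 483), (1442721, 483), (1443204, 483), (1443687, 483), (1444170, 483), (1444653, 483), (1445136, 483), (1445619, 483), (1446102, 483), (1446585, 483), (1447068, 483), (1447551, 483), (1448034, 483), (1448517, 483)] : List (ℕ × ℕ)), allR c.1 c.2 (fun q => (fun q => (cand 1539000 12 f8 fsx [0] (LA0 :: LsA) q).isNone) q) = true :=
  all_cons chk_ninn_2850 (all_cons chk_ninn_2851 (all_cons chk_ninn_2852 (all_cons chk_ninn_2853 (all_cons chk_ninn_2854 (all_cons chk_ninn_2855 (all_cons chk_ninn_2856 (all_cons chk_ninn_2857 (all_cons chk_ninn_2858 (all_cons chk_ninn_2859 (all_cons chk_ninn_2860 (all_cons chk_ninn_2861 (all_cons chk_ninn_2862 (all_cons chk_ninn_2863 (all_cons chk_ninn_2864 (all_cons chk_ninn_2865 (all_cons chk_ninn_2866 (all_cons chk_ninn_2867 (all_cons chk_ninn_2868 (all_cons chk_ninn_2869 (all_cons chk_ninn_2870 (all_cons chk_ninn_2871 (all_cons chk_ninn_2872 (all_cons chk_ninn_2873 (all_cons chk_ninn_2874 (all_cons chk_ninn_2875 (all_cons chk_ninn_2876 (all_cons chk_ninn_2877 (all_cons chk_ninn_2878 (all_cons chk_ninn_2879 (all_cons chk_ninn_2880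 (all_cons chk_ninn_2881 (all_cons chk_ninn_2882 (all_cons chk_ninn_2883 (all_cons chk_ninn_2884 (all_cons chk_ninn_2885 (all_cons chk_ninn_2886 (all_cons chk_ninn_2887 (all_cons chk_ninn_2888 (all_cons chk_ninn_2889 (all_cons chk_ninn_2890 (all_cons chk_ninn_2891 (all_cons chk_ninn_2892 (all_cons chk_ninn_2893 (all_cons chk_ninn_2894 (all_cons chk_ninn_2895 (all_cons chk_ninn_2896 (all_cons chk_ninn_2897 (all_cons chk_ninn_2898 (all_cons chk_ninn_2899 (all_cons chk_ninn_2900 (all_cons chk_ninn_2901 (all_cons chk_ninn_2902 (all_cons chk_ninn_2903 (all_cons chk_ninn_2904 (all_cons chk_ninn_2905 (all_cons chk_ninn_2906 (all_cons chk_ninn_2907 (all_cons chk_ninn_2908 (all_cons chk_ninn_2909 (all_cons chk_ninn_2910 (all_cons chk_ninn_2911 (all_cons chk_ninn_2912 (all_cons chk_ninn_2913 (all_cons chk_ninn_2914 (all_cons chk_ninn_2915 (all_cons chk_ninn_2916 (all_cons chk_ninn_2917 (all_cons chk_ninn_2918 (all_cons chk_ninn_2919 (all_cons chk_ninn_2920 (all_cons chk_ninn_2921 (all_cons chk_ninn_2922 (all_cons chk_ninn_2923 (all_cons chk_ninn_2924 (all_cons chk_ninn_2925 (all_cons chk_ninn_2926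 (all_cons chk_ninn_2927 (all_cons chk_ninn_2928 (all_cons chk_ninn_2929 (all_cons chk_ninn_2930 (all_cons chk_ninn_2931 (all_cons chk_ninn_2932 (all_cons chk_ninn_2933 (all_cons chk_ninn_2934 (all_cons chk_ninn_2935 (all_cons chk_ninn_2936 (all_cons chk_ninn_2937 (all_cons chk_ninn_2938 (all_cons chk_ninn_2939 (all_cons chk_ninn_2940 (all_cons chk_ninn_2941 (all_cons chk_ninn_2942 (all_cons chk_ninn_2943 (all_cons chk_ninn_2944 (all_cons chk_ninn_2945 (all_cons chk_ninn_2946 (all_cons chk_ninn_2947 (all_cons chk_ninn_2948 (all_cons chk_ninn_2949 (all_cons chk_ninn_2950 (all_cons chk_ninn_2951 (all_cons chk_ninn_2952 (all_cons chk_ninn_2953 (all_cons chk_ninn_2954 (all_cons chk_ninn_2955 (all_cons chk_ninn_2956 (all_cons chk_ninn_2957 (all_cons chk_ninn_2958 (all_cons chk_ninn_2959 (all_cons chk_ninn_2960 (all_cons chk_ninn_2961 (all_cons chk_ninn_2962 (all_cons chk_ninn_2963 (all_cons chk_ninn_2964 (all_cons chk_ninn_2965 (all_cons chk_ninn_2966 (all_cons chk_ninn_2967 (all_cons chk_ninn_2968 (all_cons chk_ninn_2969 (all_cons chk_ninn_2970 (all_cons chk_ninn_2971 (all_cons chk_ninn_2972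 (all_cons chk_ninn_2973 (all_cons chk_ninn_2974 (all_cons chk_ninn_2975 (all_cons chk_ninn_2976 (all_cons chk_ninn_2977 (all_cons chk_ninn_2978 (all_cons chk_ninn_2979 (all_cons chk_ninn_2980 (all_cons chk_ninn_2981 (all_cons chk_ninn_2982 (all_cons chk_ninn_2983 (all_cons chk_ninn_2984 (all_cons chk_ninn_2985 (all_cons chk_ninn_2986 (all_cons chk_ninn_2987 (all_cons chk_ninn_2988 (all_cons chk_ninn_2989 (all_cons chk_ninn_2990 (all_cons chk_ninn_2991 (all_cons chk_ninn_2992 (all_cons chk_ninn_2993 (all_cons chk_ninn_2994 (all_cons chk_ninn_2995 (all_cons chk_ninn_2996 (all_cons chk_ninn_2997 (all_cons chk_ninn_2998 (all_cons chk_ninn_2999 (all_nil))))))))))))))))))))))))))))))))))))))))))))))))))))))))))))))))))))))))))))))))))))))))))))))))))))))))))))))))))))))))))))))))))))))))))))))))))))))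

theorem chk_ninn_grp20 : ∀ c ∈ ([(1449000, 483), (1449483, 483), (1449966, 483), (1450449, 483), (1450932, 483), (1451415, 483), (1451898, 483), (1452381, 483), (1452864, 483), (1453347, 483), (1453830, 483), (1454313, 483), (1454796, 483), (1455279, 483), (1455762, 483), (1456245, 483), (1456728, 483), (1457211, 483), (1457694, 483), (1458177, 483), (1458660, 483), (1459143, 483), (1459626, 483), (1460109, 483), (1460592, 483), (1461075, 483), (1461558, 483), (1462041, 483), (1462524, 483), (1463007, 483), (1463490, 483), (1463973, 483), (1464456, 483), (1464939, 483), (1465422, 483), (1465905, 483), (1466388, 483), (1466871, 483), (1467354, 483), (1467837, 483), (1468320, 483), (1468803, 483), (1469286, 483), (1469769, 483), (1470252, 483), (1470735, 483), (1471218, 483), (1471701, 483), (1472184, 483), (1472667, 483), (1473150, 483), (1473633, 483), (1474116, 483), (1474599, 483), (1475082, 483), (1475565, 483), (1476048, 483), (1476531, 483), (1477014, 483), (1477497, 483), (1477980, 483), (1478463, 483), (1478946, 483), (1479429, 483), (1479912, 483), (1480395, 483), (1480878,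 483), (1481361, 483), (1481844, 483), (1482327, 483), (1482810, 483), (1483293, 483), (1483776, 483), (1484259, 483), (1484742, 483), (1485225, 483), (1485708, 483), (1486191, 483), (1486674, 483), (1487157, 483), (1487640, 483), (1488123, 483), (1488606, 483), (1489089, 483), (1489572, 483), (1490055, 483), (1490538, 483), (1491021, 483), (1491504, 483), (1491987, 483), (1492470, 483), (1492953, 483), (1493436, 483), (1493919, 483), (1494402, 483), (1494885, 483), (1495368, 483), (1495851, 483), (1496334, 483), (1496817, 483), (1497300, 483), (1497783, 483), (1498266, 483), (1498749, 483), (1499232, 483), (1499715, 483), (1500198, 483), (1500681, 483), (1501164, 483), (1501647, 483), (1502130, 483), (1502613, 483), (1503096, 483), (1503579, 483), (1504062, 483), (1504545, 483), (1505028, 483), (1505511, 483), (1505994, 483), (1506477, 483), (1506960, 483), (1507443, 483), (1507926, 483), (1508409, 483), (1508892, 483), (1509375, 483), (1509858, 483), (1510341, 483), (1510824, 483), (1511307, 483), (1511790, 483), (1512273, 483), (1512756, 483), (1513239, 483), (1513722, 483),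 (1514205, 483), (1514688, 483), (1515171, 483), (1515654, 483), (1516137, 483), (1516620, 483), (1517103, 483), (1517586, 483), (1518069, 483), (1518552, 483), (1519035, 483), (1519518, 483), (1520001, 483), (1520484, 483), (1520967, 483)] : List (ℕ × ℕ)), allR c.1 c.2 (fun q => (fun q => (cand 1539000 12 f8 fsx [0] (LA0 :: LsA) q).isNone) q) = true :=
  all_cons chk_ninn_3000 (all_cons chk_ninn_3001 (all_cons chk_ninn_3002 (all_cons chk_ninn_3003 (all_cons chk_ninn_3004 (all_cons chk_ninn_3005 (all_cons chk_ninn_3006 (all_cons chk_ninn_3007 (all_cons chk_ninn_3008 (all_cons chk_ninn_3009 (all_cons chk_ninn_3010 (all_cons chk_ninn_3011 (all_cons chk_ninn_3012 (all_cons chk_ninn_3013 (all_cons chk_ninn_3014 (all_cons chk_ninn_3015 (all_cons chk_ninn_3016 (all_cons chk_ninn_3017 (all_cons chk_ninn_3018 (all_cons chk_ninn_3019 (all_cons chk_ninn_3020 (all_cons chk_ninn_3021 (all_cons chk_ninn_3022 (all_cons chk_ninn_3023 (all_cons chk_ninn_3024 (all_cons chk_ninn_3025 (all_cons chk_ninn_3026 (all_cons chk_ninn_3027 (all_cons chk_ninn_3028 (all_cons chk_ninn_3029 (all_cons chk_ninn_3030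 (all_cons chk_ninn_3031 (all_cons chk_ninn_3032 (all_cons chk_ninn_3033 (all_cons chk_ninn_3034 (all_cons chk_ninn_3035 (all_cons chk_ninn_3036 (all_cons chk_ninn_3037 (all_cons chk_ninn_3038 (all_cons chk_ninn_3039 (all_cons chk_ninn_3040 (all_cons chk_ninn_3041 (all_cons chk_ninn_3042 (all_cons chk_ninn_3043 (all_cons chk_ninn_3044 (all_cons chk_ninn_3045 (all_cons chk_ninn_3046 (all_cons chk_ninn_3047 (all_cons chk_ninn_3048 (all_cons chk_ninn_3049 (all_cons chk_ninn_3050 (all_cons chk_ninn_3051 (all_cons chk_ninn_3052 (all_cons chk_ninn_3053 (all_cons chk_ninn_3054 (all_cons chk_ninn_3055 (all_cons chk_ninn_3056 (all_cons chk_ninn_3057 (all_cons chk_ninn_3058 (all_cons chk_ninn_3059 (all_cons chk_ninn_3060 (all_cons chk_ninn_3061 (all_cons chk_ninn_3062 (all_cons chk_ninn_3063 (all_cons chk_ninn_3064 (all_cons chk_ninn_3065 (all_cons chk_ninn_3066 (all_cons chk_ninn_3067 (all_cons chk_ninn_3068 (all_cons chk_ninn_3069 (all_cons chk_ninn_3070 (all_cons chk_ninn_3071 (all_cons chk_ninn_3072 (all_cons chk_ninn_3073 (all_cons chk_ninn_3074 (all_cons chk_ninn_3075 (all_cons chk_ninn_3076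 (all_cons chk_ninn_3077 (all_cons chk_ninn_3078 (all_cons chk_ninn_3079 (all_cons chk_ninn_3080 (all_cons chk_ninn_3081 (all_cons chk_ninn_3082 (all_cons chk_ninn_3083 (all_cons chk_ninn_3084 (all_cons chk_ninn_3085 (all_cons chk_ninn_3086 (all_cons chk_ninn_3087 (all_cons chk_ninn_3088 (all_cons chk_ninn_3089 (all_cons chk_ninn_3090 (all_cons chk_ninn_3091 (all_cons chk_ninn_3092 (all_cons chk_ninn_3093 (all_cons chk_ninn_3094 (all_cons chk_ninn_3095 (all_cons chk_ninn_3096 (all_cons chk_ninn_3097 (all_cons chk_ninn_3098 (all_cons chk_ninn_3099 (all_cons chk_ninn_3100 (all_cons chk_ninn_3101 (all_cons chk_ninn_3102 (all_cons chk_ninn_3103 (all_cons chk_ninn_3104 (all_cons chk_ninn_3105 (all_cons chk_ninn_3106 (all_cons chk_ninn_3107 (all_cons chk_ninn_3108 (all_cons chk_ninn_3109 (all_cons chk_ninn_3110 (all_cons chk_ninn_3111 (all_cons chk_ninn_3112 (all_cons chk_ninn_3113 (all_cons chk_ninn_3114 (all_cons chk_ninn_3115 (all_cons chk_ninn_3116 (all_cons chk_ninn_3117 (all_cons chk_ninn_3118 (all_cons chk_ninn_3119 (all_cons chk_ninn_3120 (all_cons chk_ninn_3121 (all_cons chk_ninn_3122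 (all_cons chk_ninn_3123 (all_cons chk_ninn_3124 (all_cons chk_ninn_3125 (all_cons chk_ninn_3126 (all_cons chk_ninn_3127 (all_cons chk_ninn_3128 (all_cons chk_ninn_3129 (all_cons chk_ninn_3130 (all_cons chk_ninn_3131 (all_cons chk_ninn_3132 (all_cons chk_ninn_3133 (all_cons chk_ninn_3134 (all_cons chk_ninn_3135 (all_cons chk_ninn_3136 (all_cons chk_ninn_3137 (all_cons chk_ninn_3138 (all_cons chk_ninn_3139 (all_cons chk_ninn_3140 (all_cons chk_ninn_3141 (all_cons chk_ninn_3142 (all_cons chk_ninn_3143 (all_cons chk_ninn_3144 (all_cons chk_ninn_3145 (all_cons chk_ninn_3146 (all_cons chk_ninn_3147 (all_cons chk_ninn_3148 (all_cons chk_ninn_3149 (all_nil))))))))))))))))))))))))))))))))))))))))))))))))))))))))))))))))))))))))))))))))))))))))))))))))))))))))))))))))))))))))))))))))))))))))))))))))))))))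

theorem chk_ninn_grp21 : ∀ c ∈ ([(1521450, 483), (1521933, 483), (1522416, 483), (1522899, 483), (1523382, 483), (1523865, 483), (1524348, 483), (1524831, 483), (1525314, 483), (1525797, 483), (1526280, 483), (1526763, 483), (1527246, 483), (1527729, 483), (1528212, 483), (1528695, 483), (1529178, 483), (1529661, 483), (1530144, 483), (1530627, 483), (1531110, 483), (1531593, 483), (1532076, 483), (1532559, 483), (1533042, 483), (1533525, 483), (1534008, 483), (1534491, 483), (1534974, 483), (1535457, 483), (1535940, 483), (1536423, 483), (1536906, 483), (1537389, 483), (1537872, 483), (1538355, 483), (1538838, 162)] : List (ℕ × ℕ)), allR c.1 c.2 (fun q => (fun q => (cand 1539000 12 f8 fsx [0] (LA0 :: LsA) q).isNone) q) = true :=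
  all_cons chk_ninn_3150 (all_cons chk_ninn_3151 (all_cons chk_ninn_3152 (all_cons chk_ninn_3153 (all_cons chk_ninn_3154 (all_cons chk_ninn_3155 (all_cons chk_ninn_3156 (all_cons chk_ninn_3157 (all_cons chk_ninn_3158 (all_cons chk_ninn_3159 (all_cons chk_ninn_3160 (all_cons chk_ninn_3161 (all_cons chk_ninn_3162 (all_cons chk_ninn_3163 (all_cons chk_ninn_3164 (all_cons chk_ninn_3165 (all_cons chk_ninn_3166 (all_cons chk_ninn_3167 (all_cons chk_ninn_3168 (all_cons chk_ninn_3169 (all_cons chk_ninn_3170 (all_cons chk_ninn_3171 (all_cons chk_ninn_3172 (all_cons chk_ninn_3173 (all_cons chk_ninn_3174 (all_cons chk_ninn_3175 (all_cons chk_ninn_3176 (all_cons chk_ninn_3177 (all_cons chk_ninn_3178 (all_cons chk_ninn_3179 (all_cons chk_ninn_3180 (all_cons chk_ninn_3181 (all_cons chk_ninn_3182 (all_cons chk_ninn_3183 (all_cons chk_ninn_3184 (all_cons chk_ninn_3185 (all_cons chk_ninn_3186 (all_nil)))))))))))))))))))))))))))))))))))))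

/-- no element conjugates `x` to its image -/
theorem chk_ninn : ∀ q < 1539000, (fun q => (cand 1539000 12 f8 fsx [0] (LA0 :: LsA) q).isNone) q = true :=
  forall_lt_of_chunks (f := fun q => (fun q => (cand 1539000 12 f8 fsx [0] (LA0 :: LsA) q).isNone) q) ([(0, 483), (483, 483), (966, 483), (1449, 483), (1932, 483), (2415, 483), (2898, 483), (3381, 483), (3864, 483), (4347, 483), (4830, 483), (5313, 483), (5796, 483), (6279, 483), (6762, 483), (7245, 483), (7728, 483), (8211, 483), (8694, 483), (9177, 483), (9660, 483), (10143, 483), (10626, 483), (11109, 483), (11592, 483), (12075, 483), (12558, 483), (13041, 483), (13524, 483), (14007, 483), (14490, 483), (14973, 483), (15456, 483), (15939, 483), (16422, 483), (16905, 483), (17388, 483), (17871, 483), (18354, 483), (18837, 483), (19320, 483), (19803, 483), (20286, 483), (20769, 483), (21252, 483), (21735, 483), (22218, 483), (22701, 483), (23184, 483), (23667, 483), (24150, 483), (24633, 483), (25116, 483), (25599, 483), (26082, 483), (26565, 483), (27048, 483), (27531, 483), (28014, 483), (28497, 483), (28980, 483), (29463,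 483), (29946, 483), (30429, 483), (30912, 483), (31395, 483), (31878, 483), (32361, 483), (32844, 483), (33327, 483), (33810, 483), (34293, 483), (34776, 483), (35259, 483), (35742, 483), (36225, 483), (36708, 483), (37191, 483), (37674, 483), (38157, 483), (38640, 483), (39123, 483), (39606, 483), (40089, 483), (40572, 483), (41055, 483), (41538, 483), (42021, 483), (42504, 483), (42987, 483), (43470, 483), (43953, 483), (44436, 483), (44919, 483), (45402, 483), (45885, 483), (46368, 483), (46851, 483), (47334, 483), (47817, 483), (48300, 483), (48783, 483), (49266, 483), (49749, 483), (50232, 483), (50715, 483), (51198, 483), (51681, 483), (52164, 483), (52647, 483), (53130, 483), (53613, 483), (54096, 483), (54579, 483), (55062, 483), (55545, 483), (56028, 483), (56511, 483), (56994, 483), (57477, 483), (57960, 483), (58443, 483), (58926, 483), (59409, 483), (59892, 483), (60375, 483), (60858, 483), (61341, 483), (61824, 483), (62307, 483), (62790, 483), (63273, 483), (63756, 483), (64239, 483), (64722, 483), (65205, 483), (65688, 483), (66171, 483), (66654, 483), (67137,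 483), (67620, 483), (68103, 483), (68586, 483), (69069, 483), (69552, 483), (70035, 483), (70518, 483), (71001, 483), (71484, 483), (71967, 483)] ++ [(72450, 483), (72933, 483), (73416, 483), (73899, 483), (74382, 483), (74865, 483), (75348, 483), (75831, 483), (76314, 483), (76797, 483), (77280, 483), (77763, 483), (78246, 483), (78729, 483), (79212, 483), (79695, 483), (80178, 483), (80661, 483), (81144, 483), (81627, 483), (82110, 483), (82593, 483), (83076, 483), (83559, 483), (84042, 483), (84525, 483), (85008, 483), (85491, 483), (85974, 483), (86457, 483), (86940, 483), (87423, 483), (87906, 483), (88389, 483), (88872, 483), (89355, 483), (89838, 483), (90321, 483), (90804, 483), (91287, 483), (91770, 483), (92253, 483), (92736, 483), (93219, 483), (93702, 483), (94185, 483), (94668, 483), (95151, 483), (95634, 483), (96117, 483), (96600, 483), (97083, 483), (97566, 483), (98049, 483), (98532, 483), (99015, 483), (99498, 483), (99981, 483), (100464, 483), (100947, 483), (101430, 483), (101913, 483), (102396, 483), (102879, 483), (103362, 483), (103845, 483), (104328,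 483), (104811, 483), (105294, 483), (105777, 483), (106260, 483), (106743, 483), (107226, 483), (107709, 483), (108192, 483), (108675, 483), (109158, 483), (109641, 483), (110124, 483), (110607, 483), (111090, 483), (111573, 483), (112056, 483), (112539, 483), (113022, 483), (113505, 483), (113988, 483), (114471, 483), (114954, 483), (115437, 483), (115920, 483), (116403, 483), (116886, 483), (117369, 483), (117852, 483), (118335, 483), (118818, 483), (119301, 483), (119784, 483), (120267, 483), (120750, 483), (121233, 483), (121716, 483), (122199, 483), (122682, 483), (123165, 483), (123648, 483), (124131, 483), (124614, 483), (125097, 483), (125580, 483), (126063, 483), (126546, 483), (127029, 483), (127512, 483), (127995, 483), (128478, 483), (128961, 483), (129444, 483), (129927, 483), (130410, 483), (130893, 483), (131376, 483), (131859, 483), (132342, 483), (132825, 483), (133308, 483), (133791, 483), (134274, 483), (134757, 483), (135240, 483), (135723, 483), (136206, 483), (136689, 483), (137172, 483), (137655, 483), (138138, 483), (138621, 483), (139104, 483), (139587,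 483), (140070, 483), (140553, 483), (141036, 483), (141519, 483), (142002, 483), (142485, 483), (142968, 483), (143451, 483), (143934, 483), (144417, 483)] ++ [(144900, 483), (145383, 483), (145866, 483), (146349, 483), (146832, 483), (147315, 483), (147798, 483), (148281, 483), (148764, 483), (149247, 483), (149730, 483), (150213, 483), (150696, 483), (151179, 483), (151662, 483), (152145, 483), (152628, 483), (153111, 483), (153594, 483), (154077, 483), (154560, 483), (155043, 483), (155526, 483), (156009, 483), (156492, 483), (156975, 483), (157458, 483), (157941, 483), (158424, 483), (158907, 483), (159390, 483), (159873, 483), (160356, 483), (160839, 483), (161322, 483), (161805, 483), (162288, 483), (162771, 483), (163254, 483), (163737, 483), (164220, 483), (164703, 483), (165186, 483), (165669, 483), (166152, 483), (166635, 483), (167118, 483), (167601, 483), (168084, 483), (168567, 483), (169050, 483), (169533, 483), (170016, 483), (170499, 483), (170982, 483), (171465, 483), (171948, 483), (172431, 483), (172914, 483), (173397, 483), (173880, 483), (174363, 483), (174846,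 483), (175329, 483), (175812, 483), (176295, 483), (176778, 483), (177261, 483), (177744, 483), (178227, 483), (178710, 483), (179193, 483), (179676, 483), (180159, 483), (180642, 483), (181125, 483), (181608, 483), (182091, 483), (182574, 483), (183057, 483), (183540, 483), (184023, 483), (184506, 483), (184989, 483), (185472, 483), (185955, 483), (186438, 483), (186921, 483), (187404, 483), (187887, 483), (188370, 483), (188853, 483), (189336, 483), (189819, 483), (190302, 483), (190785, 483), (191268, 483), (191751, 483), (192234, 483), (192717, 483), (193200, 483), (193683, 483), (194166, 483), (194649, 483), (195132, 483), (195615, 483), (196098, 483), (196581, 483), (197064, 483), (197547, 483), (198030, 483), (198513, 483), (198996, 483), (199479, 483), (199962, 483), (200445, 483), (200928, 483), (201411, 483), (201894, 483), (202377, 483), (202860, 483), (203343, 483), (203826, 483), (204309, 483), (204792, 483), (205275, 483), (205758, 483), (206241, 483), (206724, 483), (207207, 483), (207690, 483), (208173, 483), (208656, 483), (209139, 483), (209622, 483), (210105,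 483), (210588, 483), (211071, 483), (211554, 483), (212037, 483), (212520, 483), (213003, 483), (213486, 483), (213969, 483), (214452, 483), (214935, 483), (215418, 483), (215901, 483), (216384, 483), (216867, 483)] ++ [(217350, 483), (217833, 483), (218316, 483), (218799, 483), (219282, 483), (219765, 483), (220248, 483), (220731, 483), (221214, 483), (221697, 483), (222180, 483), (222663, 483), (223146, 483), (223629, 483), (224112, 483), (224595, 483), (225078, 483), (225561, 483), (226044, 483), (226527, 483), (227010, 483), (227493, 483), (227976, 483), (228459, 483), (228942, 483), (229425, 483), (229908, 483), (230391, 483), (230874, 483), (231357, 483), (231840, 483), (232323, 483), (232806, 483), (233289, 483), (233772, 483), (234255, 483), (234738, 483), (235221, 483), (235704, 483), (236187, 483), (236670, 483), (237153, 483), (237636, 483), (238119, 483), (238602, 483), (239085, 483), (239568, 483), (240051, 483), (240534, 483), (241017, 483), (241500, 483), (241983, 483), (242466, 483), (242949, 483), (243432, 483), (243915, 483), (244398, 483), (244881, 483), (245364,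 483), (245847, 483), (246330, 483), (246813, 483), (247296, 483), (247779, 483), (248262, 483), (248745, 483), (249228, 483), (249711, 483), (250194, 483), (250677, 483), (251160, 483), (251643, 483), (252126, 483), (252609, 483), (253092, 483), (253575, 483), (254058, 483), (254541, 483), (255024, 483), (255507, 483), (255990, 483), (256473, 483), (256956, 483), (257439, 483), (257922, 483), (258405, 483), (258888, 483), (259371, 483), (259854, 483), (260337, 483), (260820, 483), (261303, 483), (261786, 483), (262269, 483), (262752, 483), (263235, 483), (263718, 483), (264201, 483), (264684, 483), (265167, 483), (265650, 483), (266133, 483), (266616, 483), (267099, 483), (267582, 483), (268065, 483), (268548, 483), (269031, 483), (269514, 483), (269997, 483), (270480, 483), (270963, 483), (271446, 483), (271929, 483), (272412, 483), (272895, 483), (273378, 483), (273861, 483), (274344, 483), (274827, 483), (275310, 483), (275793, 483), (276276, 483), (276759, 483), (277242, 483), (277725, 483), (278208, 483), (278691, 483), (279174, 483), (279657, 483), (280140, 483), (280623,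 483), (281106, 483), (281589, 483), (282072, 483), (282555, 483), (283038, 483), (283521, 483), (284004, 483), (284487, 483), (284970, 483), (285453, 483), (285936, 483), (286419, 483), (286902, 483), (287385, 483), (287868, 483), (288351, 483), (288834, 483), (289317, 483)] ++ [(289800, 483), (290283, 483), (290766, 483), (291249, 483), (291732, 483), (292215, 483), (292698, 483), (293181, 483), (293664, 483), (294147, 483), (294630, 483), (295113, 483), (295596, 483), (296079, 483), (296562, 483), (297045, 483), (297528, 483), (298011, 483), (298494, 483), (298977, 483), (299460, 483), (299943, 483), (300426, 483), (300909, 483), (301392, 483), (301875, 483), (302358, 483), (302841, 483), (303324, 483), (303807, 483), (304290, 483), (304773, 483), (305256, 483), (305739, 483), (306222, 483), (306705, 483), (307188, 483), (307671, 483), (308154, 483), (308637, 483), (309120, 483), (309603, 483), (310086, 483), (310569, 483), (311052, 483), (311535, 483), (312018, 483), (312501, 483), (312984, 483), (313467, 483), (313950, 483), (314433, 483), (314916, 483), (315399, 483), (315882,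 483), (316365, 483), (316848, 483), (317331, 483), (317814, 483), (318297, 483), (318780, 483), (319263, 483), (319746, 483), (320229, 483), (320712, 483), (321195, 483), (321678, 483), (322161, 483), (322644, 483), (323127, 483), (323610, 483), (324093, 483), (324576, 483), (325059, 483), (325542, 483), (326025, 483), (326508, 483), (326991, 483), (327474, 483), (327957, 483), (328440, 483), (328923, 483), (329406, 483), (329889, 483), (330372, 483), (330855, 483), (331338, 483), (331821, 483), (332304, 483), (332787, 483), (333270, 483), (333753, 483), (334236, 483), (334719, 483), (335202, 483), (335685, 483), (336168, 483), (336651, 483), (337134, 483), (337617, 483), (338100, 483), (338583, 483), (339066, 483), (339549, 483), (340032, 483), (340515, 483), (340998, 483), (341481, 483), (341964, 483), (342447, 483), (342930, 483), (343413, 483), (343896, 483), (344379, 483), (344862, 483), (345345, 483), (345828, 483), (346311, 483), (346794, 483), (347277, 483), (347760, 483), (348243, 483), (348726, 483), (349209, 483), (349692, 483), (350175, 483), (350658, 483), (351141,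 483), (351624, 483), (352107, 483), (352590, 483), (353073, 483), (353556, 483), (354039, 483), (354522, 483), (355005, 483), (355488, 483), (355971, 483), (356454, 483), (356937, 483), (357420, 483), (357903, 483), (358386, 483), (358869, 483), (359352, 483), (359835, 483), (360318, 483), (360801, 483), (361284, 483), (361767, 483)] ++ [(362250, 483), (362733, 483), (363216, 483), (363699, 483), (364182, 483), (364665, 483), (365148, 483), (365631, 483), (366114, 483), (366597, 483), (367080, 483), (367563, 483), (368046, 483), (368529, 483), (369012, 483), (369495, 483), (369978, 483), (370461, 483), (370944, 483), (371427, 483), (371910, 483), (372393, 483), (372876, 483), (373359, 483), (373842, 483), (374325, 483), (374808, 483), (375291, 483), (375774, 483), (376257, 483), (376740, 483), (377223, 483), (377706, 483), (378189, 483), (378672, 483), (379155, 483), (379638, 483), (380121, 483), (380604, 483), (381087, 483), (381570, 483), (382053, 483), (382536, 483), (383019, 483), (383502, 483), (383985, 483), (384468, 483), (384951, 483), (385434, 483), (385917, 483), (386400,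 483), (386883, 483), (387366, 483), (387849, 483), (388332, 483), (388815, 483), (389298, 483), (389781, 483), (390264, 483), (390747, 483), (391230, 483), (391713, 483), (392196, 483), (392679, 483), (393162, 483), (393645, 483), (394128, 483), (394611, 483), (395094, 483), (395577, 483), (396060, 483), (396543, 483), (397026, 483), (397509, 483), (397992, 483), (398475, 483), (398958, 483), (399441, 483), (399924, 483), (400407, 483), (400890, 483), (401373, 483), (401856, 483), (402339, 483), (402822, 483), (403305, 483), (403788, 483), (404271, 483), (404754, 483), (405237, 483), (405720, 483), (406203, 483), (406686, 483), (407169, 483), (407652, 483), (408135, 483), (408618, 483), (409101, 483), (409584, 483), (410067, 483), (410550, 483), (411033, 483), (411516, 483), (411999, 483), (412482, 483), (412965, 483), (413448, 483), (413931, 483), (414414, 483), (414897, 483), (415380, 483), (415863, 483), (416346, 483), (416829, 483), (417312, 483), (417795, 483), (418278, 483), (418761, 483), (419244, 483), (419727, 483), (420210, 483), (420693, 483), (421176, 483), (421659,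 483), (422142, 483), (422625, 483), (423108, 483), (423591, 483), (424074, 483), (424557, 483), (425040, 483), (425523, 483), (426006, 483), (426489, 483), (426972, 483), (427455, 483), (427938, 483), (428421, 483), (428904, 483), (429387, 483), (429870, 483), (430353, 483), (430836, 483), (431319, 483), (431802, 483), (432285, 483), (432768, 483), (433251, 483), (433734, 483), (434217, 483)] ++ [(434700, 483), (435183, 483), (435666, 483), (436149, 483), (436632, 483), (437115, 483), (437598, 483), (438081, 483), (438564, 483), (439047, 483), (439530, 483), (440013, 483), (440496, 483), (440979, 483), (441462, 483), (441945, 483), (442428, 483), (442911, 483), (443394, 483), (443877, 483), (444360, 483), (444843, 483), (445326, 483), (445809, 483), (446292, 483), (446775, 483), (447258, 483), (447741, 483), (448224, 483), (448707, 483), (449190, 483), (449673, 483), (450156, 483), (450639, 483), (451122, 483), (451605, 483), (452088, 483), (452571, 483), (453054, 483), (453537, 483), (454020, 483), (454503, 483), (454986, 483), (455469, 483), (455952, 483), (456435, 483), (456918,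 483), (457401, 483), (457884, 483), (458367, 483), (458850, 483), (459333, 483), (459816, 483), (460299, 483), (460782, 483), (461265, 483), (461748, 483), (462231, 483), (462714, 483), (463197, 483), (463680, 483), (464163, 483), (464646, 483), (465129, 483), (465612, 483), (466095, 483), (466578, 483), (467061, 483), (467544, 483), (468027, 483), (468510, 483), (468993, 483), (469476, 483), (469959, 483), (470442, 483), (470925, 483), (471408, 483), (471891, 483), (472374, 483), (472857, 483), (473340, 483), (473823, 483), (474306, 483), (474789, 483), (475272, 483), (475755, 483), (476238, 483), (476721, 483), (477204, 483), (477687, 483), (478170, 483), (478653, 483), (479136, 483), (479619, 483), (480102, 483), (480585, 483), (481068, 483), (481551, 483), (482034, 483), (482517, 483), (483000, 483), (483483, 483), (483966, 483), (484449, 483), (484932, 483), (485415, 483), (485898, 483), (486381, 483), (486864, 483), (487347, 483), (487830, 483), (488313, 483), (488796, 483), (489279, 483), (489762, 483), (490245, 483), (490728, 483), (491211, 483), (491694, 483), (492177,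 483), (492660, 483), (493143, 483), (493626, 483), (494109, 483), (494592, 483), (495075, 483), (495558, 483), (496041, 483), (496524, 483), (497007, 483), (497490, 483), (497973, 483), (498456, 483), (498939, 483), (499422, 483), (499905, 483), (500388, 483), (500871, 483), (501354, 483), (501837, 483), (502320, 483), (502803, 483), (503286, 483), (503769, 483), (504252, 483), (504735, 483), (505218, 483), (505701, 483), (506184, 483), (506667, 483)] ++ [(507150, 483), (507633, 483), (508116, 483), (508599, 483), (509082, 483), (509565, 483), (510048, 483), (510531, 483), (511014, 483), (511497, 483), (511980, 483), (512463, 483), (512946, 483), (513429, 483), (513912, 483), (514395, 483), (514878, 483), (515361, 483), (515844, 483), (516327, 483), (516810, 483), (517293, 483), (517776, 483), (518259, 483), (518742, 483), (519225, 483), (519708, 483), (520191, 483), (520674, 483), (521157, 483), (521640, 483), (522123, 483), (522606, 483), (523089, 483), (523572, 483), (524055, 483), (524538, 483), (525021, 483), (525504, 483), (525987, 483), (526470, 483), (526953, 483), (527436,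 483), (527919, 483), (528402, 483), (528885, 483), (529368, 483), (529851, 483), (530334, 483), (530817, 483), (531300, 483), (531783, 483), (532266, 483), (532749, 483), (533232, 483), (533715, 483), (534198, 483), (534681, 483), (535164, 483), (535647, 483), (536130, 483), (536613, 483), (537096, 483), (537579, 483), (538062, 483), (538545, 483), (539028, 483), (539511, 483), (539994, 483), (540477, 483), (540960, 483), (541443, 483), (541926, 483), (542409, 483), (542892, 483), (543375, 483), (543858, 483), (544341, 483), (544824, 483), (545307, 483), (545790, 483), (546273, 483), (546756, 483), (547239, 483), (547722, 483), (548205, 483), (548688, 483), (549171, 483), (549654, 483), (550137, 483), (550620, 483), (551103, 483), (551586, 483), (552069, 483), (552552, 483), (553035, 483), (553518, 483), (554001, 483), (554484, 483), (554967, 483), (555450, 483), (555933, 483), (556416, 483), (556899, 483), (557382, 483), (557865, 483), (558348, 483), (558831, 483), (559314, 483), (559797, 483), (560280, 483), (560763, 483), (561246, 483), (561729, 483), (562212, 483), (562695,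 483), (563178, 483), (563661, 483), (564144, 483), (564627, 483), (565110, 483), (565593, 483), (566076, 483), (566559, 483), (567042, 483), (567525, 483), (568008, 483), (568491, 483), (568974, 483), (569457, 483), (569940, 483), (570423, 483), (570906, 483), (571389, 483), (571872, 483), (572355, 483), (572838, 483), (573321, 483), (573804, 483), (574287, 483), (574770, 483), (575253, 483), (575736, 483), (576219, 483), (576702, 483), (577185, 483), (577668, 483), (578151, 483), (578634, 483), (579117, 483)] ++ [(579600, 483), (580083, 483), (580566, 483), (581049, 483), (581532, 483), (582015, 483), (582498, 483), (582981, 483), (583464, 483), (583947, 483), (584430, 483), (584913, 483), (585396, 483), (585879, 483), (586362, 483), (586845, 483), (587328, 483), (587811, 483), (588294, 483), (588777, 483), (589260, 483), (589743, 483), (590226, 483), (590709, 483), (591192, 483), (591675, 483), (592158, 483), (592641, 483), (593124, 483), (593607, 483), (594090, 483), (594573, 483), (595056, 483), (595539, 483), (596022, 483), (596505, 483), (596988, 483), (597471, 483), (597954,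 483), (598437, 483), (598920, 483), (599403, 483), (599886, 483), (600369, 483), (600852, 483), (601335, 483), (601818, 483), (602301, 483), (602784, 483), (603267, 483), (603750, 483), (604233, 483), (604716, 483), (605199, 483), (605682, 483), (606165, 483), (606648, 483), (607131, 483), (607614, 483), (608097, 483), (608580, 483), (609063, 483), (609546, 483), (610029, 483), (610512, 483), (610995, 483), (611478, 483), (611961, 483), (612444, 483), (612927, 483), (613410, 483), (613893, 483), (614376, 483), (614859, 483), (615342, 483), (615825, 483), (616308, 483), (616791, 483), (617274, 483), (617757, 483), (618240, 483), (618723, 483), (619206, 483), (619689, 483), (620172, 483), (620655, 483), (621138, 483), (621621, 483), (622104, 483), (622587, 483), (623070, 483), (623553, 483), (624036, 483), (624519, 483), (625002, 483), (625485, 483), (625968, 483), (626451, 483), (626934, 483), (627417, 483), (627900, 483), (628383, 483), (628866, 483), (629349, 483), (629832, 483), (630315, 483), (630798, 483), (631281, 483), (631764, 483), (632247, 483), (632730, 483), (633213,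 483), (633696, 483), (634179, 483), (634662, 483), (635145, 483), (635628, 483), (636111, 483), (636594, 483), (637077, 483), (637560, 483), (638043, 483), (638526, 483), (639009, 483), (639492, 483), (639975, 483), (640458, 483), (640941, 483), (641424, 483), (641907, 483), (642390, 483), (642873, 483), (643356, 483), (643839, 483), (644322, 483), (644805, 483), (645288, 483), (645771, 483), (646254, 483), (646737, 483), (647220, 483), (647703, 483), (648186, 483), (648669, 483), (649152, 483), (649635, 483), (650118, 483), (650601, 483), (651084, 483), (651567, 483)] ++ [(652050, 483), (652533, 483), (653016, 483), (653499, 483), (653982, 483), (654465, 483), (654948, 483), (655431, 483), (655914, 483), (656397, 483), (656880, 483), (657363, 483), (657846, 483), (658329, 483), (658812, 483), (659295, 483), (659778, 483), (660261, 483), (660744, 483), (661227, 483), (661710, 483), (662193, 483), (662676, 483), (663159, 483), (663642, 483), (664125, 483), (664608, 483), (665091, 483), (665574, 483), (666057, 483), (666540, 483), (667023, 483), (667506, 483), (667989, 483), (668472,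 483), (668955, 483), (669438, 483), (669921, 483), (670404, 483), (670887, 483), (671370, 483), (671853, 483), (672336, 483), (672819, 483), (673302, 483), (673785, 483), (674268, 483), (674751, 483), (675234, 483), (675717, 483), (676200, 483), (676683, 483), (677166, 483), (677649, 483), (678132, 483), (678615, 483), (679098, 483), (679581, 483), (680064, 483), (680547, 483), (681030, 483), (681513, 483), (681996, 483), (682479, 483), (682962, 483), (683445, 483), (683928, 483), (684411, 483), (684894, 483), (685377, 483), (685860, 483), (686343, 483), (686826, 483), (687309, 483), (687792, 483), (688275, 483), (688758, 483), (689241, 483), (689724, 483), (690207, 483), (690690, 483), (691173, 483), (691656, 483), (692139, 483), (692622, 483), (693105, 483), (693588, 483), (694071, 483), (694554, 483), (695037, 483), (695520, 483), (696003, 483), (696486, 483), (696969, 483), (697452, 483), (697935, 483), (698418, 483), (698901, 483), (699384, 483), (699867, 483), (700350, 483), (700833, 483), (701316, 483), (701799, 483), (702282, 483), (702765, 483), (703248, 483), (703731,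 483), (704214, 483), (704697, 483), (705180, 483), (705663, 483), (706146, 483), (706629, 483), (707112, 483), (707595, 483), (708078, 483), (708561, 483), (709044, 483), (709527, 483), (710010, 483), (710493, 483), (710976, 483), (711459, 483), (711942, 483), (712425, 483), (712908, 483), (713391, 483), (713874, 483), (714357, 483), (714840, 483), (715323, 483), (715806, 483), (716289, 483), (716772, 483), (717255, 483), (717738, 483), (718221, 483), (718704, 483), (719187, 483), (719670, 483), (720153, 483), (720636, 483), (721119, 483), (721602, 483), (722085, 483), (722568, 483), (723051, 483), (723534, 483), (724017, 483)] ++ [(724500, 483), (724983, 483), (725466, 483), (725949, 483), (726432, 483), (726915, 483), (727398, 483), (727881, 483), (728364, 483), (728847, 483), (729330, 483), (729813, 483), (730296, 483), (730779, 483), (731262, 483), (731745, 483), (732228, 483), (732711, 483), (733194, 483), (733677, 483), (734160, 483), (734643, 483), (735126, 483), (735609, 483), (736092, 483), (736575, 483), (737058, 483), (737541, 483), (738024, 483), (738507, 483), (738990,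 483), (739473, 483), (739956, 483), (740439, 483), (740922, 483), (741405, 483), (741888, 483), (742371, 483), (742854, 483), (743337, 483), (743820, 483), (744303, 483), (744786, 483), (745269, 483), (745752, 483), (746235, 483), (746718, 483), (747201, 483), (747684, 483), (748167, 483), (748650, 483), (749133, 483), (749616, 483), (750099, 483), (750582, 483), (751065, 483), (751548, 483), (752031, 483), (752514, 483), (752997, 483), (753480, 483), (753963, 483), (754446, 483), (754929, 483), (755412, 483), (755895, 483), (756378, 483), (756861, 483), (757344, 483), (757827, 483), (758310, 483), (758793, 483), (759276, 483), (759759, 483), (760242, 483), (760725, 483), (761208, 483), (761691, 483), (762174, 483), (762657, 483), (763140, 483), (763623, 483), (764106, 483), (764589, 483), (765072, 483), (765555, 483), (766038, 483), (766521, 483), (767004, 483), (767487, 483), (767970, 483), (768453, 483), (768936, 483), (769419, 483), (769902, 483), (770385, 483), (770868, 483), (771351, 483), (771834, 483), (772317, 483), (772800, 483), (773283, 483), (773766, 483), (774249,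 483), (774732, 483), (775215, 483), (775698, 483), (776181, 483), (776664, 483), (777147, 483), (777630, 483), (778113, 483), (778596, 483), (779079, 483), (779562, 483), (780045, 483), (780528, 483), (781011, 483), (781494, 483), (781977, 483), (782460, 483), (782943, 483), (783426, 483), (783909, 483), (784392, 483), (784875, 483), (785358, 483), (785841, 483), (786324, 483), (786807, 483), (787290, 483), (787773, 483), (788256, 483), (788739, 483), (789222, 483), (789705, 483), (790188, 483), (790671, 483), (791154, 483), (791637, 483), (792120, 483), (792603, 483), (793086, 483), (793569, 483), (794052, 483), (794535, 483), (795018, 483), (795501, 483), (795984, 483), (796467, 483)] ++ [(796950, 483), (797433, 483), (797916, 483), (798399, 483), (798882, 483), (799365, 483), (799848, 483), (800331, 483), (800814, 483), (801297, 483), (801780, 483), (802263, 483), (802746, 483), (803229, 483), (803712, 483), (804195, 483), (804678, 483), (805161, 483), (805644, 483), (806127, 483), (806610, 483), (807093, 483), (807576, 483), (808059, 483), (808542, 483), (809025, 483), (809508,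 483), (809991, 483), (810474, 483), (810957, 483), (811440, 483), (811923, 483), (812406, 483), (812889, 483), (813372, 483), (813855, 483), (814338, 483), (814821, 483), (815304, 483), (815787, 483), (816270, 483), (816753, 483), (817236, 483), (817719, 483), (818202, 483), (818685, 483), (819168, 483), (819651, 483), (820134, 483), (820617, 483), (821100, 483), (821583, 483), (822066, 483), (822549, 483), (823032, 483), (823515, 483), (823998, 483), (824481, 483), (824964, 483), (825447, 483), (825930, 483), (826413, 483), (826896, 483), (827379, 483), (827862, 483), (828345, 483), (828828, 483), (829311, 483), (829794, 483), (830277, 483), (830760, 483), (831243, 483), (831726, 483), (832209, 483), (832692, 483), (833175, 483), (833658, 483), (834141, 483), (834624, 483), (835107, 483), (835590, 483), (836073, 483), (836556, 483), (837039, 483), (837522, 483), (838005, 483), (838488, 483), (838971, 483), (839454, 483), (839937, 483), (840420, 483), (840903, 483), (841386, 483), (841869, 483), (842352, 483), (842835, 483), (843318, 483), (843801, 483), (844284, 483), (844767,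 483), (845250, 483), (845733, 483), (846216, 483), (846699, 483), (847182, 483), (847665, 483), (848148, 483), (848631, 483), (849114, 483), (849597, 483), (850080, 483), (850563, 483), (851046, 483), (851529, 483), (852012, 483), (852495, 483), (852978, 483), (853461, 483), (853944, 483), (854427, 483), (854910, 483), (855393, 483), (855876, 483), (856359, 483), (856842, 483), (857325, 483), (857808, 483), (858291, 483), (858774, 483), (859257, 483), (859740, 483), (860223, 483), (860706, 483), (861189, 483), (861672, 483), (862155, 483), (862638, 483), (863121, 483), (863604, 483), (864087, 483), (864570, 483), (865053, 483), (865536, 483), (866019, 483), (866502, 483), (866985, 483), (867468, 483), (867951, 483), (868434, 483), (868917, 483)] ++ [(869400, 483), (869883, 483), (870366, 483), (870849, 483), (871332, 483), (871815, 483), (872298, 483), (872781, 483), (873264, 483), (873747, 483), (874230, 483), (874713, 483), (875196, 483), (875679, 483), (876162, 483), (876645, 483), (877128, 483), (877611, 483), (878094, 483), (878577, 483), (879060, 483), (879543, 483), (880026,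 483), (880509, 483), (880992, 483), (881475, 483), (881958, 483), (882441, 483), (882924, 483), (883407, 483), (883890, 483), (884373, 483), (884856, 483), (885339, 483), (885822, 483), (886305, 483), (886788, 483), (887271, 483), (887754, 483), (888237, 483), (888720, 483), (889203, 483), (889686, 483), (890169, 483), (890652, 483), (891135, 483), (891618, 483), (892101, 483), (892584, 483), (893067, 483), (893550, 483), (894033, 483), (894516, 483), (894999, 483), (895482, 483), (895965, 483), (896448, 483), (896931, 483), (897414, 483), (897897, 483), (898380, 483), (898863, 483), (899346, 483), (899829, 483), (900312, 483), (900795, 483), (901278, 483), (901761, 483), (902244, 483), (902727, 483), (903210, 483), (903693, 483), (904176, 483), (904659, 483), (905142, 483), (905625, 483), (906108, 483), (906591, 483), (907074, 483), (907557, 483), (908040, 483), (908523, 483), (909006, 483), (909489, 483), (909972, 483), (910455, 483), (910938, 483), (911421, 483), (911904, 483), (912387, 483), (912870, 483), (913353, 483), (913836, 483), (914319, 483), (914802, 483), (915285,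 483), (915768, 483), (916251, 483), (916734, 483), (917217, 483), (917700, 483), (918183, 483), (918666, 483), (919149, 483), (919632, 483), (920115, 483), (920598, 483), (921081, 483), (921564, 483), (922047, 483), (922530, 483), (923013, 483), (923496, 483), (923979, 483), (924462, 483), (924945, 483), (925428, 483), (925911, 483), (926394, 483), (926877, 483), (927360, 483), (927843, 483), (928326, 483), (928809, 483), (929292, 483), (929775, 483), (930258, 483), (930741, 483), (931224, 483), (931707, 483), (932190, 483), (932673, 483), (933156, 483), (933639, 483), (934122, 483), (934605, 483), (935088, 483), (935571, 483), (936054, 483), (936537, 483), (937020, 483), (937503, 483), (937986, 483), (938469, 483), (938952, 483), (939435, 483), (939918, 483), (940401, 483), (940884, 483), (941367, 483)] ++ [(941850, 483), (942333, 483), (942816, 483), (943299, 483), (943782, 483), (944265, 483), (944748, 483), (945231, 483), (945714, 483), (946197, 483), (946680, 483), (947163, 483), (947646, 483), (948129, 483), (948612, 483), (949095, 483), (949578, 483), (950061, 483), (950544,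 483), (951027, 483), (951510, 483), (951993, 483), (952476, 483), (952959, 483), (953442, 483), (953925, 483), (954408, 483), (954891, 483), (955374, 483), (955857, 483), (956340, 483), (956823, 483), (957306, 483), (957789, 483), (958272, 483), (958755, 483), (959238, 483), (959721, 483), (960204, 483), (960687, 483), (961170, 483), (961653, 483), (962136, 483), (962619, 483), (963102, 483), (963585, 483), (964068, 483), (964551, 483), (965034, 483), (965517, 483), (966000, 483), (966483, 483), (966966, 483), (967449, 483), (967932, 483), (968415, 483), (968898, 483), (969381, 483), (969864, 483), (970347, 483), (970830, 483), (971313, 483), (971796, 483), (972279, 483), (972762, 483), (973245, 483), (973728, 483), (974211, 483), (974694, 483), (975177, 483), (975660, 483), (976143, 483), (976626, 483), (977109, 483), (977592, 483), (978075, 483), (978558, 483), (979041, 483), (979524, 483), (980007, 483), (980490, 483), (980973, 483), (981456, 483), (981939, 483), (982422, 483), (982905, 483), (983388, 483), (983871, 483), (984354, 483), (984837, 483), (985320, 483), (985803,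 483), (986286, 483), (986769, 483), (987252, 483), (987735, 483), (988218, 483), (988701, 483), (989184, 483), (989667, 483), (990150, 483), (990633, 483), (991116, 483), (991599, 483), (992082, 483), (992565, 483), (993048, 483), (993531, 483), (994014, 483), (994497, 483), (994980, 483), (995463, 483), (995946, 483), (996429, 483), (996912, 483), (997395, 483), (997878, 483), (998361, 483), (998844, 483), (999327, 483), (999810, 483), (1000293, 483), (1000776, 483), (1001259, 483), (1001742, 483), (1002225, 483), (1002708, 483), (1003191, 483), (1003674, 483), (1004157, 483), (1004640, 483), (1005123, 483), (1005606, 483), (1006089, 483), (1006572, 483), (1007055, 483), (1007538, 483), (1008021, 483), (1008504, 483), (1008987, 483), (1009470, 483), (1009953, 483), (1010436, 483), (1010919, 483), (1011402, 483), (1011885, 483), (1012368, 483), (1012851, 483), (1013334, 483), (1013817, 483)] ++ [(1014300, 483), (1014783, 483), (1015266, 483), (1015749, 483), (1016232, 483), (1016715, 483), (1017198, 483), (1017681, 483), (1018164, 483), (1018647, 483), (1019130, 483), (1019613,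 483), (1020096, 483), (1020579, 483), (1021062, 483), (1021545, 483), (1022028, 483), (1022511, 483), (1022994, 483), (1023477, 483), (1023960, 483), (1024443, 483), (1024926, 483), (1025409, 483), (1025892, 483), (1026375, 483), (1026858, 483), (1027341, 483), (1027824, 483), (1028307, 483), (1028790, 483), (1029273, 483), (1029756, 483), (1030239, 483), (1030722, 483), (1031205, 483), (1031688, 483), (1032171, 483), (1032654, 483), (1033137, 483), (1033620, 483), (1034103, 483), (1034586, 483), (1035069, 483), (1035552, 483), (1036035, 483), (1036518, 483), (1037001, 483), (1037484, 483), (1037967, 483), (1038450, 483), (1038933, 483), (1039416, 483), (1039899, 483), (1040382, 483), (1040865, 483), (1041348, 483), (1041831, 483), (1042314, 483), (1042797, 483), (1043280, 483), (1043763, 483), (1044246, 483), (1044729, 483), (1045212, 483), (1045695, 483), (1046178, 483), (1046661, 483), (1047144, 483), (1047627, 483), (1048110, 483), (1048593, 483), (1049076, 483), (1049559, 483), (1050042, 483), (1050525, 483), (1051008, 483), (1051491, 483), (1051974, 483), (1052457, 483),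 (1052940, 483), (1053423, 483), (1053906, 483), (1054389, 483), (1054872, 483), (1055355, 483), (1055838, 483), (1056321, 483), (1056804, 483), (1057287, 483), (1057770, 483), (1058253, 483), (1058736, 483), (1059219, 483), (1059702, 483), (1060185, 483), (1060668, 483), (1061151, 483), (1061634, 483), (1062117, 483), (1062600, 483), (1063083, 483), (1063566, 483), (1064049, 483), (1064532, 483), (1065015, 483), (1065498, 483), (1065981, 483), (1066464, 483), (1066947, 483), (1067430, 483), (1067913, 483), (1068396, 483), (1068879, 483), (1069362, 483), (1069845, 483), (1070328, 483), (1070811, 483), (1071294, 483), (1071777, 483), (1072260, 483), (1072743, 483), (1073226, 483), (1073709, 483), (1074192, 483), (1074675, 483), (1075158, 483), (1075641, 483), (1076124, 483), (1076607, 483), (1077090, 483), (1077573, 483), (1078056, 483), (1078539, 483), (1079022, 483), (1079505, 483), (1079988, 483), (1080471, 483), (1080954, 483), (1081437, 483), (1081920, 483), (1082403, 483), (1082886, 483), (1083369, 483), (1083852, 483), (1084335, 483), (1084818, 483), (1085301, 483), (1085784,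 483), (1086267, 483)] ++ [(1086750, 483), (1087233, 483), (1087716, 483), (1088199, 483), (1088682, 483), (1089165, 483), (1089648, 483), (1090131, 483), (1090614, 483), (1091097, 483), (1091580, 483), (1092063, 483), (1092546, 483), (1093029, 483), (1093512, 483), (1093995, 483), (1094478, 483), (1094961, 483), (1095444, 483), (1095927, 483), (1096410, 483), (1096893, 483), (1097376, 483), (1097859, 483), (1098342, 483), (1098825, 483), (1099308, 483), (1099791, 483), (1100274, 483), (1100757, 483), (1101240, 483), (1101723, 483), (1102206, 483), (1102689, 483), (1103172, 483), (1103655, 483), (1104138, 483), (1104621, 483), (1105104, 483), (1105587, 483), (1106070, 483), (1106553, 483), (1107036, 483), (1107519, 483), (1108002, 483), (1108485, 483), (1108968, 483), (1109451, 483), (1109934, 483), (1110417, 483), (1110900, 483), (1111383, 483), (1111866, 483), (1112349, 483), (1112832, 483), (1113315, 483), (1113798, 483), (1114281, 483), (1114764, 483), (1115247, 483), (1115730, 483), (1116213, 483), (1116696, 483), (1117179, 483), (1117662, 483), (1118145, 483), (1118628,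 483), (1119111, 483), (1119594, 483), (1120077, 483), (1120560, 483), (1121043, 483), (1121526, 483), (1122009, 483), (1122492, 483), (1122975, 483), (1123458, 483), (1123941, 483), (1124424, 483), (1124907, 483), (1125390, 483), (1125873, 483), (1126356, 483), (1126839, 483), (1127322, 483), (1127805, 483), (1128288, 483), (1128771, 483), (1129254, 483), (1129737, 483), (1130220, 483), (1130703, 483), (1131186, 483), (1131669, 483), (1132152, 483), (1132635, 483), (1133118, 483), (1133601, 483), (1134084, 483), (1134567, 483), (1135050, 483), (1135533, 483), (1136016, 483), (1136499, 483), (1136982, 483), (1137465, 483), (1137948, 483), (1138431, 483), (1138914, 483), (1139397, 483), (1139880, 483), (1140363, 483), (1140846, 483), (1141329, 483), (1141812, 483), (1142295, 483), (1142778, 483), (1143261, 483), (1143744, 483), (1144227, 483), (1144710, 483), (1145193, 483), (1145676, 483), (1146159, 483), (1146642, 483), (1147125, 483), (1147608, 483), (1148091, 483), (1148574, 483), (1149057, 483), (1149540, 483), (1150023, 483), (1150506, 483), (1150989, 483), (1151472, 483),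 (1151955, 483), (1152438, 483), (1152921, 483), (1153404, 483), (1153887, 483), (1154370, 483), (1154853, 483), (1155336, 483), (1155819, 483), (1156302, 483), (1156785, 483), (1157268, 483), (1157751, 483), (1158234, 483), (1158717, 483)] ++ [(1159200, 483), (1159683, 483), (1160166, 483), (1160649, 483), (1161132, 483), (1161615, 483), (1162098, 483), (1162581, 483), (1163064, 483), (1163547, 483), (1164030, 483), (1164513, 483), (1164996, 483), (1165479, 483), (1165962, 483), (1166445, 483), (1166928, 483), (1167411, 483), (1167894, 483), (1168377, 483), (1168860, 483), (1169343, 483), (1169826, 483), (1170309, 483), (1170792, 483), (1171275, 483), (1171758, 483), (1172241, 483), (1172724, 483), (1173207, 483), (1173690, 483), (1174173, 483), (1174656, 483), (1175139, 483), (1175622, 483), (1176105, 483), (1176588, 483), (1177071, 483), (1177554, 483), (1178037, 483), (1178520, 483), (1179003, 483), (1179486, 483), (1179969, 483), (1180452, 483), (1180935, 483), (1181418, 483), (1181901, 483), (1182384, 483), (1182867, 483), (1183350, 483), (1183833, 483), (1184316, 483),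 (1184799, 483), (1185282, 483), (1185765, 483), (1186248, 483), (1186731, 483), (1187214, 483), (1187697, 483), (1188180, 483), (1188663, 483), (1189146, 483), (1189629, 483), (1190112, 483), (1190595, 483), (1191078, 483), (1191561, 483), (1192044, 483), (1192527, 483), (1193010, 483), (1193493, 483), (1193976, 483), (1194459, 483), (1194942, 483), (1195425, 483), (1195908, 483), (1196391, 483), (1196874, 483), (1197357, 483), (1197840, 483), (1198323, 483), (1198806, 483), (1199289, 483), (1199772, 483), (1200255, 483), (1200738, 483), (1201221, 483), (1201704, 483), (1202187, 483), (1202670, 483), (1203153, 483), (1203636, 483), (1204119, 483), (1204602, 483), (1205085, 483), (1205568, 483), (1206051, 483), (1206534, 483), (1207017, 483), (1207500, 483), (1207983, 483), (1208466, 483), (1208949, 483), (1209432, 483), (1209915, 483), (1210398, 483), (1210881, 483), (1211364, 483), (1211847, 483), (1212330, 483), (1212813, 483), (1213296, 483), (1213779, 483), (1214262, 483), (1214745, 483), (1215228, 483), (1215711, 483), (1216194, 483), (1216677, 483), (1217160, 483), (1217643,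 483), (1218126, 483), (1218609, 483), (1219092, 483), (1219575, 483), (1220058, 483), (1220541, 483), (1221024, 483), (1221507, 483), (1221990, 483), (1222473, 483), (1222956, 483), (1223439, 483), (1223922, 483), (1224405, 483), (1224888, 483), (1225371, 483), (1225854, 483), (1226337, 483), (1226820, 483), (1227303, 483), (1227786, 483), (1228269, 483), (1228752, 483), (1229235, 483), (1229718, 483), (1230201, 483), (1230684, 483), (1231167, 483)] ++ [(1231650, 483), (1232133, 483), (1232616, 483), (1233099, 483), (1233582, 483), (1234065, 483), (1234548, 483), (1235031, 483), (1235514, 483), (1235997, 483), (1236480, 483), (1236963, 483), (1237446, 483), (1237929, 483), (1238412, 483), (1238895, 483), (1239378, 483), (1239861, 483), (1240344, 483), (1240827, 483), (1241310, 483), (1241793, 483), (1242276, 483), (1242759, 483), (1243242, 483), (1243725, 483), (1244208, 483), (1244691, 483), (1245174, 483), (1245657, 483), (1246140, 483), (1246623, 483), (1247106, 483), (1247589, 483), (1248072, 483), (1248555, 483), (1249038, 483), (1249521, 483), (1250004, 483), (1250487,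 483), (1250970, 483), (1251453, 483), (1251936, 483), (1252419, 483), (1252902, 483), (1253385, 483), (1253868, 483), (1254351, 483), (1254834, 483), (1255317, 483), (1255800, 483), (1256283, 483), (1256766, 483), (1257249, 483), (1257732, 483), (1258215, 483), (1258698, 483), (1259181, 483), (1259664, 483), (1260147, 483), (1260630, 483), (1261113, 483), (1261596, 483), (1262079, 483), (1262562, 483), (1263045, 483), (1263528, 483), (1264011, 483), (1264494, 483), (1264977, 483), (1265460, 483), (1265943, 483), (1266426, 483), (1266909, 483), (1267392, 483), (1267875, 483), (1268358, 483), (1268841, 483), (1269324, 483), (1269807, 483), (1270290, 483), (1270773, 483), (1271256, 483), (1271739, 483), (1272222, 483), (1272705, 483), (1273188, 483), (1273671, 483), (1274154, 483), (1274637, 483), (1275120, 483), (1275603, 483), (1276086, 483), (1276569, 483), (1277052, 483), (1277535, 483), (1278018, 483), (1278501, 483), (1278984, 483), (1279467, 483), (1279950, 483), (1280433, 483), (1280916, 483), (1281399, 483), (1281882, 483), (1282365, 483), (1282848, 483), (1283331, 483),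 (1283814, 483), (1284297, 483), (1284780, 483), (1285263, 483), (1285746, 483), (1286229, 483), (1286712, 483), (1287195, 483), (1287678, 483), (1288161, 483), (1288644, 483), (1289127, 483), (1289610, 483), (1290093, 483), (1290576, 483), (1291059, 483), (1291542, 483), (1292025, 483), (1292508, 483), (1292991, 483), (1293474, 483), (1293957, 483), (1294440, 483), (1294923, 483), (1295406, 483), (1295889, 483), (1296372, 483), (1296855, 483), (1297338, 483), (1297821, 483), (1298304, 483), (1298787, 483), (1299270, 483), (1299753, 483), (1300236, 483), (1300719, 483), (1301202, 483), (1301685, 483), (1302168, 483), (1302651, 483), (1303134, 483), (1303617, 483)] ++ [(1304100, 483), (1304583, 483), (1305066, 483), (1305549, 483), (1306032, 483), (1306515, 483), (1306998, 483), (1307481, 483), (1307964, 483), (1308447, 483), (1308930, 483), (1309413, 483), (1309896, 483), (1310379, 483), (1310862, 483), (1311345, 483), (1311828, 483), (1312311, 483), (1312794, 483), (1313277, 483), (1313760, 483), (1314243, 483), (1314726, 483), (1315209, 483), (1315692, 483), (1316175, 483),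 (1316658, 483), (1317141, 483), (1317624, 483), (1318107, 483), (1318590, 483), (1319073, 483), (1319556, 483), (1320039, 483), (1320522, 483), (1321005, 483), (1321488, 483), (1321971, 483), (1322454, 483), (1322937, 483), (1323420, 483), (1323903, 483), (1324386, 483), (1324869, 483), (1325352, 483), (1325835, 483), (1326318, 483), (1326801, 483), (1327284, 483), (1327767, 483), (1328250, 483), (1328733, 483), (1329216, 483), (1329699, 483), (1330182, 483), (1330665, 483), (1331148, 483), (1331631, 483), (1332114, 483), (1332597, 483), (1333080, 483), (1333563, 483), (1334046, 483), (1334529, 483), (1335012, 483), (1335495, 483), (1335978, 483), (1336461, 483), (1336944, 483), (1337427, 483), (1337910, 483), (1338393, 483), (1338876, 483), (1339359, 483), (1339842, 483), (1340325, 483), (1340808, 483), (1341291, 483), (1341774, 483), (1342257, 483), (1342740, 483), (1343223, 483), (1343706, 483), (1344189, 483), (1344672, 483), (1345155, 483), (1345638, 483), (1346121, 483), (1346604, 483), (1347087, 483), (1347570, 483), (1348053, 483), (1348536, 483), (1349019, 483), (1349502,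 483), (1349985, 483), (1350468, 483), (1350951, 483), (1351434, 483), (1351917, 483), (1352400, 483), (1352883, 483), (1353366, 483), (1353849, 483), (1354332, 483), (1354815, 483), (1355298, 483), (1355781, 483), (1356264, 483), (1356747, 483), (1357230, 483), (1357713, 483), (1358196, 483), (1358679, 483), (1359162, 483), (1359645, 483), (1360128, 483), (1360611, 483), (1361094, 483), (1361577, 483), (1362060, 483), (1362543, 483), (1363026, 483), (1363509, 483), (1363992, 483), (1364475, 483), (1364958, 483), (1365441, 483), (1365924, 483), (1366407, 483), (1366890, 483), (1367373, 483), (1367856, 483), (1368339, 483), (1368822, 483), (1369305, 483), (1369788, 483), (1370271, 483), (1370754, 483), (1371237, 483), (1371720, 483), (1372203, 483), (1372686, 483), (1373169, 483), (1373652, 483), (1374135, 483), (1374618, 483), (1375101, 483), (1375584, 483), (1376067, 483)] ++ [(1376550, 483), (1377033, 483), (1377516, 483), (1377999, 483), (1378482, 483), (1378965, 483), (1379448, 483), (1379931, 483), (1380414, 483), (1380897, 483), (1381380, 483), (1381863, 483), (1382346,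 483), (1382829, 483), (1383312, 483), (1383795, 483), (1384278, 483), (1384761, 483), (1385244, 483), (1385727, 483), (1386210, 483), (1386693, 483), (1387176, 483), (1387659, 483), (1388142, 483), (1388625, 483), (1389108, 483), (1389591, 483), (1390074, 483), (1390557, 483), (1391040, 483), (1391523, 483), (1392006, 483), (1392489, 483), (1392972, 483), (1393455, 483), (1393938, 483), (1394421, 483), (1394904, 483), (1395387, 483), (1395870, 483), (1396353, 483), (1396836, 483), (1397319, 483), (1397802, 483), (1398285, 483), (1398768, 483), (1399251, 483), (1399734, 483), (1400217, 483), (1400700, 483), (1401183, 483), (1401666, 483), (1402149, 483), (1402632, 483), (1403115, 483), (1403598, 483), (1404081, 483), (1404564, 483), (1405047, 483), (1405530, 483), (1406013, 483), (1406496, 483), (1406979, 483), (1407462, 483), (1407945, 483), (1408428, 483), (1408911, 483), (1409394, 483), (1409877, 483), (1410360, 483), (1410843, 483), (1411326, 483), (1411809, 483), (1412292, 483), (1412775, 483), (1413258, 483), (1413741, 483), (1414224, 483), (1414707, 483), (1415190, 483),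 (1415673, 483), (1416156, 483), (1416639, 483), (1417122, 483), (1417605, 483), (1418088, 483), (1418571, 483), (1419054, 483), (1419537, 483), (1420020, 483), (1420503, 483), (1420986, 483), (1421469, 483), (1421952, 483), (1422435, 483), (1422918, 483), (1423401, 483), (1423884, 483), (1424367, 483), (1424850, 483), (1425333, 483), (1425816, 483), (1426299, 483), (1426782, 483), (1427265, 483), (1427748, 483), (1428231, 483), (1428714, 483), (1429197, 483), (1429680, 483), (1430163, 483), (1430646, 483), (1431129, 483), (1431612, 483), (1432095, 483), (1432578, 483), (1433061, 483), (1433544, 483), (1434027, 483), (1434510, 483), (1434993, 483), (1435476, 483), (1435959, 483), (1436442, 483), (1436925, 483), (1437408, 483), (1437891, 483), (1438374, 483), (1438857, 483), (1439340, 483), (1439823, 483), (1440306, 483), (1440789, 483), (1441272, 483), (1441755, 483), (1442238, 483), (1442721, 483), (1443204, 483), (1443687, 483), (1444170, 483), (1444653, 483), (1445136, 483), (1445619, 483), (1446102, 483), (1446585, 483), (1447068, 483), (1447551, 483), (1448034, 483), (1448517,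 483)] ++ [(1449000, 483), (1449483, 483), (1449966, 483), (1450449, 483), (1450932, 483), (1451415, 483), (1451898, 483), (1452381, 483), (1452864, 483), (1453347, 483), (1453830, 483), (1454313, 483), (1454796, 483), (1455279, 483), (1455762, 483), (1456245, 483), (1456728, 483), (1457211, 483), (1457694, 483), (1458177, 483), (1458660, 483), (1459143, 483), (1459626, 483), (1460109, 483), (1460592, 483), (1461075, 483), (1461558, 483), (1462041, 483), (1462524, 483), (1463007, 483), (1463490, 483), (1463973, 483), (1464456, 483), (1464939, 483), (1465422, 483), (1465905, 483), (1466388, 483), (1466871, 483), (1467354, 483), (1467837, 483), (1468320, 483), (1468803, 483), (1469286, 483), (1469769, 483), (1470252, 483), (1470735, 483), (1471218, 483), (1471701, 483), (1472184, 483), (1472667, 483), (1473150, 483), (1473633, 483), (1474116, 483), (1474599, 483), (1475082, 483), (1475565, 483), (1476048, 483), (1476531, 483), (1477014, 483), (1477497, 483), (1477980, 483), (1478463, 483), (1478946, 483), (1479429, 483), (1479912, 483), (1480395, 483), (1480878, 483), (1481361,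 483), (1481844, 483), (1482327, 483), (1482810, 483), (1483293, 483), (1483776, 483), (1484259, 483), (1484742, 483), (1485225, 483), (1485708, 483), (1486191, 483), (1486674, 483), (1487157, 483), (1487640, 483), (1488123, 483), (1488606, 483), (1489089, 483), (1489572, 483), (1490055, 483), (1490538, 483), (1491021, 483), (1491504, 483), (1491987, 483), (1492470, 483), (1492953, 483), (1493436, 483), (1493919, 483), (1494402, 483), (1494885, 483), (1495368, 483), (1495851, 483), (1496334, 483), (1496817, 483), (1497300, 483), (1497783, 483), (1498266, 483), (1498749, 483), (1499232, 483), (1499715, 483), (1500198, 483), (1500681, 483), (1501164, 483), (1501647, 483), (1502130, 483), (1502613, 483), (1503096, 483), (1503579, 483), (1504062, 483), (1504545, 483), (1505028, 483), (1505511, 483), (1505994, 483), (1506477, 483), (1506960, 483), (1507443, 483), (1507926, 483), (1508409, 483), (1508892, 483), (1509375, 483), (1509858, 483), (1510341, 483), (1510824, 483), (1511307, 483), (1511790, 483), (1512273, 483), (1512756, 483), (1513239, 483), (1513722, 483), (1514205, 483),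 (1514688, 483), (1515171, 483), (1515654, 483), (1516137, 483), (1516620, 483), (1517103, 483), (1517586, 483), (1518069, 483), (1518552, 483), (1519035, 483), (1519518, 483), (1520001, 483), (1520484, 483), (1520967, 483)] ++ [(1521450, 483), (1521933, 483), (1522416, 483), (1522899, 483), (1523382, 483), (1523865, 483), (1524348, 483), (1524831, 483), (1525314, 483), (1525797, 483), (1526280, 483), (1526763, 483), (1527246, 483), (1527729, 483), (1528212, 483), (1528695, 483), (1529178, 483), (1529661, 483), (1530144, 483), (1530627, 483), (1531110, 483), (1531593, 483), (1532076, 483), (1532559, 483), (1533042, 483), (1533525, 483), (1534008, 483), (1534491, 483), (1534974, 483), (1535457, 483), (1535940, 483), (1536423, 483), (1536906, 483), (1537389, 483), (1537872, 483), (1538355, 483), (1538838, 162)]) (by decide +kernel) (all_append (all_append (all_append (all_append (all_append (all_append (all_append (all_append (all_append (all_append (all_append (all_append (all_append (all_append (all_append (all_append (all_append (all_append (all_append (all_append (all_append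 (chk_ninn_grp0) chk_ninn_grp1) chk_ninn_grp2) chk_ninn_grp3) chk_ninn_grp4) chk_ninn_grp5) chk_ninn_grp6) chk_ninn_grp7) chk_ninn_grp8) chk_ninn_grp9) chk_ninn_grp10) chk_ninn_grp11) chk_ninn_grp12) chk_ninn_grp13) chk_ninn_grp14) chk_ninn_grp15) chk_ninn_grp16) chk_ninn_grp17) chk_ninn_grp18) chk_ninn_grp19) chk_ninn_grp20) chk_ninn_grp21)

end Cfsg.Agent.HNOut
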