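import Cfsg.Agent.Lib.Lead.HNOut.LevA
import Cfsg.Agent.Lib.Lead.HNOut.DSX

/-! # The outer automorphism group of the Harada–Norton group: the image of `x` is not conjugate to `x`, a part (generated) -/

set_option autoImplicit false
set_option maxRecDepth 100000

namespace Cfsg.Agent.HNOut

open Cfsg.Agent.PF Cfsg.Agent.Lib.Helper6 Cfsg.Agent.Lib.Helper6.TC Cfsg.Agent.Lib.Helper6.NatArr
open Cfsg.Agent.PL (Acts evalF)

theorem chk_ninn_0 : allR 0 483 (fun q => (fun q => (cand 1539000 12 f8 fsx [0] (LA0 :: LsA) q).isNone) q) = true := by decide +kernel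

theorem chk_ninn_1 : allR 483 483 (fun q => (fun q => (cand 1539000 12 f8 fsx [0] (LA0 :: LsA) q).isNone) q) = true := by decide +kernel

theorem chk_ninn_2 : allR 966 483 (fun q => (fun q => (cand 1539000 12 f8 fsx [0] (LA0 :: LsA) q).isNone) q) = true := by decide +kernel

theorem chk_ninn_3 : allR 1449 483 (fun q => (fun q => (cand 1539000 12 f8 fsx [0] (LA0 :: LsA) q).isNone) q) = true := by decide +kernel

theorem chk_ninn_4 : allR 1932 483 (fun q => (fun q => (cand 1539000 12 f8 fsx [0] (LA0 :: LsA) q).isNone) q) = true := by decide +kernel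

theorem chk_ninn_5 : allR 2415 483 (fun q => (fun q => (cand 1539000 12 f8 fsx [0] (LA0 :: LsA) q).isNone) q) = true := by decide +kernel

theorem chk_ninn_6 : allR 2898 483 (fun q => (fun q => (cand 1539000 12 f8 fsx [0] (LA0 :: LsA) q).isNone) q) = true := by decide +kernel

theorem chk_ninn_7 : allR 3381 483 (fun q => (fun q => (cand 1539000 12 f8 fsx [0] (LA0 :: LsA) q).isNone) q) = true := by decide +kernel

theorem chk_ninn_8 : allR 3864 483 (fun q => (fun q => (cand 1539000 12 f8 fsx [0] (LA0 :: LsA) q).isNone) q) = true := by decide +kernel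

theorem chk_ninn_9 : allR 4347 483 (fun q => (fun q => (cand 1539000 12 f8 fsx [0] (LA0 :: LsA) q).isNone) q) = true := by decide +kernel

theorem chk_ninn_10 : allR 4830 483 (fun q => (fun q => (cand 1539000 12 f8 fsx [0] (LA0 :: LsA) q).isNone) q) = true := by decide +kernel

theorem chk_ninn_11 : allR 5313 483 (fun q => (fun q => (cand 1539000 12 f8 fsx [0] (LA0 :: LsA) q).isNone) q) = true := by decide +kernel

theorem chk_ninn_12 : allR 5796 483 (fun q => (fun q => (cand 1539000 12 f8 fsx [0] (LA0 :: LsA) q).isNone) q) = true := by decide +kernel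

theorem chk_ninn_13 : allR 6279 483 (fun q => (fun q => (cand 1539000 12 f8 fsx [0] (LA0 :: LsA) q).isNone) q) = true := by decide +kernel

theorem chk_ninn_14 : allR 6762 483 (fun q => (fun q => (cand 1539000 12 f8 fsx [0] (LA0 :: LsA) q).isNone) q) = true := by decide +kernel

theorem chk_ninn_15 : allR 7245 483 (fun q => (fun q => (cand 1539000 12 f8 fsx [0] (LA0 :: LsA) q).isNone) q) = true := by decide +kernel

theorem chk_ninn_16 : allR 7728 483 (fun q => (fun q => (cand 1539000 12 f8 fsx [0] (LA0 :: LsA) q).isNone) q) = true := by decide +kernel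

theorem chk_ninn_17 : allR 8211 483 (fun q => (fun q => (cand 1539000 12 f8 fsx [0] (LA0 :: LsA) q).isNone) q) = true := by decide +kernel

theorem chk_ninn_18 : allR 8694 483 (fun q => (fun q => (cand 1539000 12 f8 fsx [0] (LA0 :: LsA) q).isNone) q) = true := by decide +kernel

theorem chk_ninn_19 : allR 9177 483 (fun q => (fun q => (cand 1539000 12 f8 fsx [0] (LA0 :: LsA) q).isNone) q) = true := by decide +kernel

theorem chk_ninn_20 : allR 9660 483 (fun q => (fun q => (cand 1539000 12 f8 fsx [0] (LA0 :: LsA) q).isNone) q) = true := by decide +kernel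

theorem chk_ninn_21 : allR 10143 483 (fun q => (fun q => (cand 1539000 12 f8 fsx [0] (LA0 :: LsA) q).isNone) q) = true := by decide +kernel

theorem chk_ninn_22 : allR 10626 483 (fun q => (fun q => (cand 1539000 12 f8 fsx [0] (LA0 :: LsA) q).isNone) q) = true := by decide +kernel

theorem chk_ninn_23 : allR 11109 483 (fun q => (fun q => (cand 1539000 12 f8 fsx [0] (LA0 :: LsA) q).isNone) q) = true := by decide +kernel

theorem chk_ninn_24 : allR 11592 483 (fun q => (fun q => (cand 1539000 12 f8 fsx [0] (LA0 :: LsA) q).isNone) q) = true := by decide +kernel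


end Cfsg.Agent.HNOut
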