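import Cfsg.Agent.Lib.Lead.HNOut.D8
import Cfsg.Agent.Lib.Lead.HNOut.D9
import Cfsg.Agent.Lib.Lead.HNOut.D10

/-! # The outer automorphism group of the Harada–Norton group: the relation number 1, a part (generated) -/

set_option autoImplicit false
set_option maxRecDepth 100000

namespace Cfsg.Agent.HNOut

open Cfsg.Agent.PF Cfsg.Agent.Lib.Helper6 Cfsg.Agent.Lib.Helper6.TC Cfsg.Agent.Lib.Helper6.NatArr
open Cfsg.Agent.PL (Acts evalF)

theorem rel1_75 : allR 1499100 19988 (fun q => Nat.beq ((fun q => f9 (f10 (f9 (f10 (q))))) q) ((fun q => q) q)) = true := by decide +kernel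

theorem rel1_76 : allR 1519088 19912 (fun q => Nat.beq ((fun q => f9 (f10 (f9 (f10 (q))))) q) ((fun q => q) q)) = true := by decide +kernel


end Cfsg.Agent.HNOut
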