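import Cfsg.Agent.Lib.Lead.HNOut.Rel1x0
import Cfsg.Agent.Lib.Lead.HNOut.Rel1x1
import Cfsg.Agent.Lib.Lead.HNOut.Rel1x2
import Cfsg.Agent.Lib.Lead.HNOut.Rel1x3
import Cfsg.Agent.Lib.Lead.HNOut.Kills

/-! # The outer automorphism group of the Harada–Norton group: the relation number 1 (generated) -/

set_option autoImplicit false
set_option maxRecDepth 100000

namespace Cfsg.Agent.HNOut

open Cfsg.Agent.PF Cfsg.Agent.Lib.Helper6 Cfsg.Agent.Lib.Helper6.TC Cfsg.Agent.Lib.Helper6.NatArr
open Cfsg.Agent.PL (Acts evalF)

theorem rel1_grp0 : ∀ c ∈ ([(0, 19988), (19988, 19988), (39976, 19988), (59964, 19988), (79952, 19988), (99940, 19988), (119928, 19988), (139916, 19988), (159904, 19988), (179892, 19988), (199880, 19988), (219868, 19988), (239856, 19988), (259844, 19988), (279832, 19988), (299820, 19988), (319808, 19988), (339796, 19988), (359784, 19988), (379772, 19988), (399760, 19988), (419748, 19988), (439736, 19988), (459724, 19988), (479712, 19988), (499700, 19988), (519688, 19988), (539676, 19988), (559664, 19988), (579652, 19988), (599640, 19988), (619628, 19988), (639616,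 19988), (659604, 19988), (679592, 19988), (699580, 19988), (719568, 19988), (739556, 19988), (759544, 19988), (779532, 19988), (799520, 19988), (819508, 19988), (839496, 19988), (859484, 19988), (879472, 19988), (899460, 19988), (919448, 19988), (939436, 19988), (959424, 19988), (979412, 19988), (999400, 19988), (1019388, 19988), (1039376, 19988), (1059364, 19988), (1079352, 19988), (1099340, 19988), (1119328, 19988), (1139316, 19988), (1159304, 19988), (1179292, 19988), (1199280, 19988), (1219268, 19988), (1239256, 19988), (1259244, 19988), (1279232, 19988), (1299220, 19988), (1319208, 19988), (1339196, 19988), (1359184, 19988), (1379172, 19988), (1399160, 19988), (1419148, 19988), (1439136, 19988), (1459124, 19988), (1479112, 19988), (1499100, 19988), (1519088, 19912)] : List (ℕ × ℕ)), allR c.1 c.2 (fun q => Nat.beq ((fun q => f9 (f10 (f9 (f10 (q))))) q) ((fun q => q) q)) = true :=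
  all_cons rel1_0 (all_cons rel1_1 (all_cons rel1_2 (all_cons rel1_3 (all_cons rel1_4 (all_cons rel1_5 (all_cons rel1_6 (all_cons rel1_7 (all_cons rel1_8 (all_cons rel1_9 (all_cons rel1_10 (all_cons rel1_11 (all_cons rel1_12 (all_cons rel1_13 (all_cons rel1_14 (all_cons rel1_15 (all_cons rel1_16 (all_cons rel1_17 (all_cons rel1_18 (all_cons rel1_19 (all_cons rel1_20 (all_cons rel1_21 (all_cons rel1_22 (all_cons rel1_23 (all_cons rel1_24 (all_cons rel1_25 (all_cons rel1_26 (all_cons rel1_27 (all_cons rel1_28 (all_cons rel1_29 (all_cons rel1_30 (all_cons rel1_31 (all_cons rel1_32 (all_cons rel1_33 (all_cons rel1_34 (all_cons rel1_35 (all_cons rel1_36 (all_cons rel1_37 (all_cons rel1_38 (all_cons rel1_39 (all_cons rel1_40 (all_cons rel1_41 (all_cons rel1_42 (all_cons rel1_43 (all_cons rel1_44 (all_cons rel1_45 (all_cons rel1_46 (all_cons rel1_47 (all_cons rel1_48 (all_cons rel1_49 (all_cons rel1_50 (all_cons rel1_51 (all_cons rel1_52 (all_cons rel1_53 (all_cons rel1_54 (all_cons rel1_55 (all_cons rel1_56 (all_cons rel1_57 (all_cons rel1_58 (all_cons rel1_59 (all_cons rel1_60 (all_cons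 rel1_61 (all_cons rel1_62 (all_cons rel1_63 (all_cons rel1_64 (all_cons rel1_65 (all_cons rel1_66 (all_cons rel1_67 (all_cons rel1_68 (all_cons rel1_69 (all_cons rel1_70 (all_cons rel1_71 (all_cons rel1_72 (all_cons rel1_73 (all_cons rel1_74 (all_cons rel1_75 (all_cons rel1_76 (all_nil)))))))))))))))))))))))))))))))))))))))))))))))))))))))))))))))))))))))))))))

/-- a relation -/
theorem rel1 : ∀ q < 1539000, (evalF f8 f9 f10 [1, 2])^[2] q = (fun q => q) q :=
  eq_of_chunks (f := (fun q => f9 (f10 (f9 (f10 (q)))))) (g := (fun q => q)) ([(0, 19988), (19988, 19988), (39976, 19988), (59964, 19988), (79952, 19988), (99940, 19988), (119928, 19988), (139916, 19988), (159904, 19988), (179892, 19988), (199880, 19988), (219868, 19988), (239856, 19988), (259844, 19988), (279832, 19988), (299820, 19988), (319808, 19988), (339796, 19988), (359784, 19988), (379772, 19988), (399760, 19988), (419748, 19988), (439736, 19988), (459724, 19988), (479712, 19988), (499700, 19988), (519688, 19988), (539676, 19988), (559664, 19988), (579652, 19988), (599640, 19988), (619628, 19988), (639616, 19988),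 (659604, 19988), (679592, 19988), (699580, 19988), (719568, 19988), (739556, 19988), (759544, 19988), (779532, 19988), (799520, 19988), (819508, 19988), (839496, 19988), (859484, 19988), (879472, 19988), (899460, 19988), (919448, 19988), (939436, 19988), (959424, 19988), (979412, 19988), (999400, 19988), (1019388, 19988), (1039376, 19988), (1059364, 19988), (1079352, 19988), (1099340, 19988), (1119328, 19988), (1139316, 19988), (1159304, 19988), (1179292, 19988), (1199280, 19988), (1219268, 19988), (1239256, 19988), (1259244, 19988), (1279232, 19988), (1299220, 19988), (1319208, 19988), (1339196, 19988), (1359184, 19988), (1379172, 19988), (1399160, 19988), (1419148, 19988), (1439136, 19988), (1459124, 19988), (1479112, 19988), (1499100, 19988), (1519088, 19912)]) (by decide +kernel) (rel1_grp0)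

end Cfsg.Agent.HNOut
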