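import Cfsg.Agent.Lib.Lead.HNOut.D8
import Cfsg.Agent.Lib.Lead.HNOut.D9
import Cfsg.Agent.Lib.Lead.HNOut.D10

/-! # The outer automorphism group of the Harada–Norton group: the relation number 2, a part (generated) -/

set_option autoImplicit false
set_option maxRecDepth 100000

namespace Cfsg.Agent.HNOut

open Cfsg.Agent.PF Cfsg.Agent.Lib.Helper6 Cfsg.Agent.Lib.Helper6.TC Cfsg.Agent.Lib.Helper6.NatArr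
open Cfsg.Agent.PL (Acts evalF)

theorem rel2_25 : allR 43100 1724 (fun q => Nat.beq ((fun q => f8 (f8 (f10 (f8 (f8 (f10 (f8 (f8 (f10 (f8 (f8 (f10 (f8 (f8 (f10 (f8 (f8 (f10 (f8 (f8 (f10 (f8 (f8 (f10 (f8 (f8 (f10 (f8 (f8 (f10 (f8 (f8 (f10 (f8 (f8 (f10 (f8 (f8 (f10 (f8 (f8 (f10 (f8 (f8 (f10 (f8 (f8 (f10 (f8 (f8 (f10 (f8 (f8 (f10 (f8 (f8 (f10 (q)))))))))))))))))))))))))))))))))))))))))))))))))))))))))) q) ((fun q => q) q)) = true := by decide +kernel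

theorem rel2_26 : allR 44824 1724 (fun q => Nat.beq ((fun q => f8 (f8 (f10 (f8 (f8 (f10 (f8 (f8 (f10 (f8 (f8 (f10 (f8 (f8 (f10 (f8 (f8 (f10 (f8 (f8 (f10 (f8 (f8 (f10 (f8 (f8 (f10 (f8 (f8 (f10 (f8 (f8 (f10 (f8 (f8 (f10 (f8 (f8 (f10 (f8 (f8 (f10 (f8 (f8 (f10 (f8 (f8 (f10 (f8 (f8 (f10 (f8 (f8 (f10 (f8 (f8 (f10 (q)))))))))))))))))))))))))))))))))))))))))))))))))))))))))) q) ((fun q => q) q)) = true := by decide +kernel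

theorem rel2_27 : allR 46548 1724 (fun q => Nat.beq ((fun q => f8 (f8 (f10 (f8 (f8 (f10 (f8 (f8 (f10 (f8 (f8 (f10 (f8 (f8 (f10 (f8 (f8 (f10 (f8 (f8 (f10 (f8 (f8 (f10 (f8 (f8 (f10 (f8 (f8 (f10 (f8 (f8 (f10 (f8 (f8 (f10 (f8 (f8 (f10 (f8 (f8 (f10 (f8 (f8 (f10 (f8 (f8 (f10 (f8 (f8 (f10 (f8 (f8 (f10 (f8 (f8 (f10 (q)))))))))))))))))))))))))))))))))))))))))))))))))))))))))) q) ((fun q => q) q)) = true := by decide +kernel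

theorem rel2_28 : allR 48272 1724 (fun q => Nat.beq ((fun q => f8 (f8 (f10 (f8 (f8 (f10 (f8 (f8 (f10 (f8 (f8 (f10 (f8 (f8 (f10 (f8 (f8 (f10 (f8 (f8 (f10 (f8 (f8 (f10 (f8 (f8 (f10 (f8 (f8 (f10 (f8 (f8 (f10 (f8 (f8 (f10 (f8 (f8 (f10 (f8 (f8 (f10 (f8 (f8 (f10 (f8 (f8 (f10 (f8 (f8 (f10 (f8 (f8 (f10 (f8 (f8 (f10 (q)))))))))))))))))))))))))))))))))))))))))))))))))))))))))) q) ((fun q => q) q)) = true := by decide +kernel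

theorem rel2_29 : allR 49996 1724 (fun q => Nat.beq ((fun q => f8 (f8 (f10 (f8 (f8 (f10 (f8 (f8 (f10 (f8 (f8 (f10 (f8 (f8 (f10 (f8 (f8 (f10 (f8 (f8 (f10 (f8 (f8 (f10 (f8 (f8 (f10 (f8 (f8 (f10 (f8 (f8 (f10 (f8 (f8 (f10 (f8 (f8 (f10 (f8 (f8 (f10 (f8 (f8 (f10 (f8 (f8 (f10 (f8 (f8 (f10 (f8 (f8 (f10 (f8 (f8 (f10 (q)))))))))))))))))))))))))))))))))))))))))))))))))))))))))) q) ((fun q => q) q)) = true := by decide +kernel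

theorem rel2_30 : allR 51720 1724 (fun q => Nat.beq ((fun q => f8 (f8 (f10 (f8 (f8 (f10 (f8 (f8 (f10 (f8 (f8 (f10 (f8 (f8 (f10 (f8 (f8 (f10 (f8 (f8 (f10 (f8 (f8 (f10 (f8 (f8 (f10 (f8 (f8 (f10 (f8 (f8 (f10 (f8 (f8 (f10 (f8 (f8 (f10 (f8 (f8 (f10 (f8 (f8 (f10 (f8 (f8 (f10 (f8 (f8 (f10 (f8 (f8 (f10 (f8 (f8 (f10 (q)))))))))))))))))))))))))))))))))))))))))))))))))))))))))) q) ((fun q => q) q)) = true := by decide +kernel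

theorem rel2_31 : allR 53444 1724 (fun q => Nat.beq ((fun q => f8 (f8 (f10 (f8 (f8 (f10 (f8 (f8 (f10 (f8 (f8 (f10 (f8 (f8 (f10 (f8 (f8 (f10 (f8 (f8 (f10 (f8 (f8 (f10 (f8 (f8 (f10 (f8 (f8 (f10 (f8 (f8 (f10 (f8 (f8 (f10 (f8 (f8 (f10 (f8 (f8 (f10 (f8 (f8 (f10 (f8 (f8 (f10 (f8 (f8 (f10 (f8 (f8 (f10 (f8 (f8 (f10 (q)))))))))))))))))))))))))))))))))))))))))))))))))))))))))) q) ((fun q => q) q)) = true := by decide +kernel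

theorem rel2_32 : allR 55168 1724 (fun q => Nat.beq ((fun q => f8 (f8 (f10 (f8 (f8 (f10 (f8 (f8 (f10 (f8 (f8 (f10 (f8 (f8 (f10 (f8 (f8 (f10 (f8 (f8 (f10 (f8 (f8 (f10 (f8 (f8 (f10 (f8 (f8 (f10 (f8 (f8 (f10 (f8 (f8 (f10 (f8 (f8 (f10 (f8 (f8 (f10 (f8 (f8 (f10 (f8 (f8 (f10 (f8 (f8 (f10 (f8 (f8 (f10 (f8 (f8 (f10 (q)))))))))))))))))))))))))))))))))))))))))))))))))))))))))) q) ((fun q => q) q)) = true := by decide +kernel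

theorem rel2_33 : allR 56892 1724 (fun q => Nat.beq ((fun q => f8 (f8 (f10 (f8 (f8 (f10 (f8 (f8 (f10 (f8 (f8 (f10 (f8 (f8 (f10 (f8 (f8 (f10 (f8 (f8 (f10 (f8 (f8 (f10 (f8 (f8 (f10 (f8 (f8 (f10 (f8 (f8 (f10 (f8 (f8 (f10 (f8 (f8 (f10 (f8 (f8 (f10 (f8 (f8 (f10 (f8 (f8 (f10 (f8 (f8 (f10 (f8 (f8 (f10 (f8 (f8 (f10 (q)))))))))))))))))))))))))))))))))))))))))))))))))))))))))) q) ((fun q => q) q)) = true := by decide +kernel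

theorem rel2_34 : allR 58616 1724 (fun q => Nat.beq ((fun q => f8 (f8 (f10 (f8 (f8 (f10 (f8 (f8 (f10 (f8 (f8 (f10 (f8 (f8 (f10 (f8 (f8 (f10 (f8 (f8 (f10 (f8 (f8 (f10 (f8 (f8 (f10 (f8 (f8 (f10 (f8 (f8 (f10 (f8 (f8 (f10 (f8 (f8 (f10 (f8 (f8 (f10 (f8 (f8 (f10 (f8 (f8 (f10 (f8 (f8 (f10 (f8 (f8 (f10 (f8 (f8 (f10 (q)))))))))))))))))))))))))))))))))))))))))))))))))))))))))) q) ((fun q => q) q)) = true := by decide +kernel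

theorem rel2_35 : allR 60340 1724 (fun q => Nat.beq ((fun q => f8 (f8 (f10 (f8 (f8 (f10 (f8 (f8 (f10 (f8 (f8 (f10 (f8 (f8 (f10 (f8 (f8 (f10 (f8 (f8 (f10 (f8 (f8 (f10 (f8 (f8 (f10 (f8 (f8 (f10 (f8 (f8 (f10 (f8 (f8 (f10 (f8 (f8 (f10 (f8 (f8 (f10 (f8 (f8 (f10 (f8 (f8 (f10 (f8 (f8 (f10 (f8 (f8 (f10 (f8 (f8 (f10 (q)))))))))))))))))))))))))))))))))))))))))))))))))))))))))) q) ((fun q => q) q)) = true := by decide +kernel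

theorem rel2_36 : allR 62064 1724 (fun q => Nat.beq ((fun q => f8 (f8 (f10 (f8 (f8 (f10 (f8 (f8 (f10 (f8 (f8 (f10 (f8 (f8 (f10 (f8 (f8 (f10 (f8 (f8 (f10 (f8 (f8 (f10 (f8 (f8 (f10 (f8 (f8 (f10 (f8 (f8 (f10 (f8 (f8 (f10 (f8 (f8 (f10 (f8 (f8 (f10 (f8 (f8 (f10 (f8 (f8 (f10 (f8 (f8 (f10 (f8 (f8 (f10 (f8 (f8 (f10 (q)))))))))))))))))))))))))))))))))))))))))))))))))))))))))) q) ((fun q => q) q)) = true := by decide +kernel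

theorem rel2_37 : allR 63788 1724 (fun q => Nat.beq ((fun q => f8 (f8 (f10 (f8 (f8 (f10 (f8 (f8 (f10 (f8 (f8 (f10 (f8 (f8 (f10 (f8 (f8 (f10 (f8 (f8 (f10 (f8 (f8 (f10 (f8 (f8 (f10 (f8 (f8 (f10 (f8 (f8 (f10 (f8 (f8 (f10 (f8 (f8 (f10 (f8 (f8 (f10 (f8 (f8 (f10 (f8 (f8 (f10 (f8 (f8 (f10 (f8 (f8 (f10 (f8 (f8 (f10 (q)))))))))))))))))))))))))))))))))))))))))))))))))))))))))) q) ((fun q => q) q)) = true := by decide +kernel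

theorem rel2_38 : allR 65512 1724 (fun q => Nat.beq ((fun q => f8 (f8 (f10 (f8 (f8 (f10 (f8 (f8 (f10 (f8 (f8 (f10 (f8 (f8 (f10 (f8 (f8 (f10 (f8 (f8 (f10 (f8 (f8 (f10 (f8 (f8 (f10 (f8 (f8 (f10 (f8 (f8 (f10 (f8 (f8 (f10 (f8 (f8 (f10 (f8 (f8 (f10 (f8 (f8 (f10 (f8 (f8 (f10 (f8 (f8 (f10 (f8 (f8 (f10 (f8 (f8 (f10 (q)))))))))))))))))))))))))))))))))))))))))))))))))))))))))) q) ((fun q => q) q)) = true := by decide +kernel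

theorem rel2_39 : allR 67236 1724 (fun q => Nat.beq ((fun q => f8 (f8 (f10 (f8 (f8 (f10 (f8 (f8 (f10 (f8 (f8 (f10 (f8 (f8 (f10 (f8 (f8 (f10 (f8 (f8 (f10 (f8 (f8 (f10 (f8 (f8 (f10 (f8 (f8 (f10 (f8 (f8 (f10 (f8 (f8 (f10 (f8 (f8 (f10 (f8 (f8 (f10 (f8 (f8 (f10 (f8 (f8 (f10 (f8 (f8 (f10 (f8 (f8 (f10 (f8 (f8 (f10 (q)))))))))))))))))))))))))))))))))))))))))))))))))))))))))) q) ((fun q => q) q)) = true := by decide +kernel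

theorem rel2_40 : allR 68960 1724 (fun q => Nat.beq ((fun q => f8 (f8 (f10 (f8 (f8 (f10 (f8 (f8 (f10 (f8 (f8 (f10 (f8 (f8 (f10 (f8 (f8 (f10 (f8 (f8 (f10 (f8 (f8 (f10 (f8 (f8 (f10 (f8 (f8 (f10 (f8 (f8 (f10 (f8 (f8 (f10 (f8 (f8 (f10 (f8 (f8 (f10 (f8 (f8 (f10 (f8 (f8 (f10 (f8 (f8 (f10 (f8 (f8 (f10 (f8 (f8 (f10 (q)))))))))))))))))))))))))))))))))))))))))))))))))))))))))) q) ((fun q => q) q)) = true := by decide +kernel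

theorem rel2_41 : allR 70684 1724 (fun q => Nat.beq ((fun q => f8 (f8 (f10 (f8 (f8 (f10 (f8 (f8 (f10 (f8 (f8 (f10 (f8 (f8 (f10 (f8 (f8 (f10 (f8 (f8 (f10 (f8 (f8 (f10 (f8 (f8 (f10 (f8 (f8 (f10 (f8 (f8 (f10 (f8 (f8 (f10 (f8 (f8 (f10 (f8 (f8 (f10 (f8 (f8 (f10 (f8 (f8 (f10 (f8 (f8 (f10 (f8 (f8 (f10 (f8 (f8 (f10 (q)))))))))))))))))))))))))))))))))))))))))))))))))))))))))) q) ((fun q => q) q)) = true := by decide +kernel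

theorem rel2_42 : allR 72408 1724 (fun q => Nat.beq ((fun q => f8 (f8 (f10 (f8 (f8 (f10 (f8 (f8 (f10 (f8 (f8 (f10 (f8 (f8 (f10 (f8 (f8 (f10 (f8 (f8 (f10 (f8 (f8 (f10 (f8 (f8 (f10 (f8 (f8 (f10 (f8 (f8 (f10 (f8 (f8 (f10 (f8 (f8 (f10 (f8 (f8 (f10 (f8 (f8 (f10 (f8 (f8 (f10 (f8 (f8 (f10 (f8 (f8 (f10 (f8 (f8 (f10 (q)))))))))))))))))))))))))))))))))))))))))))))))))))))))))) q) ((fun q => q) q)) = true := by decide +kernel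

theorem rel2_43 : allR 74132 1724 (fun q => Nat.beq ((fun q => f8 (f8 (f10 (f8 (f8 (f10 (f8 (f8 (f10 (f8 (f8 (f10 (f8 (f8 (f10 (f8 (f8 (f10 (f8 (f8 (f10 (f8 (f8 (f10 (f8 (f8 (f10 (f8 (f8 (f10 (f8 (f8 (f10 (f8 (f8 (f10 (f8 (f8 (f10 (f8 (f8 (f10 (f8 (f8 (f10 (f8 (f8 (f10 (f8 (f8 (f10 (f8 (f8 (f10 (f8 (f8 (f10 (q)))))))))))))))))))))))))))))))))))))))))))))))))))))))))) q) ((fun q => q) q)) = true := by decide +kernel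

theorem rel2_44 : allR 75856 1724 (fun q => Nat.beq ((fun q => f8 (f8 (f10 (f8 (f8 (f10 (f8 (f8 (f10 (f8 (f8 (f10 (f8 (f8 (f10 (f8 (f8 (f10 (f8 (f8 (f10 (f8 (f8 (f10 (f8 (f8 (f10 (f8 (f8 (f10 (f8 (f8 (f10 (f8 (f8 (f10 (f8 (f8 (f10 (f8 (f8 (f10 (f8 (f8 (f10 (f8 (f8 (f10 (f8 (f8 (f10 (f8 (f8 (f10 (f8 (f8 (f10 (q)))))))))))))))))))))))))))))))))))))))))))))))))))))))))) q) ((fun q => q) q)) = true := by decide +kernel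

theorem rel2_45 : allR 77580 1724 (fun q => Nat.beq ((fun q => f8 (f8 (f10 (f8 (f8 (f10 (f8 (f8 (f10 (f8 (f8 (f10 (f8 (f8 (f10 (f8 (f8 (f10 (f8 (f8 (f10 (f8 (f8 (f10 (f8 (f8 (f10 (f8 (f8 (f10 (f8 (f8 (f10 (f8 (f8 (f10 (f8 (f8 (f10 (f8 (f8 (f10 (f8 (f8 (f10 (f8 (f8 (f10 (f8 (f8 (f10 (f8 (f8 (f10 (f8 (f8 (f10 (q)))))))))))))))))))))))))))))))))))))))))))))))))))))))))) q) ((fun q => q) q)) = true := by decide +kernel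

theorem rel2_46 : allR 79304 1724 (fun q => Nat.beq ((fun q => f8 (f8 (f10 (f8 (f8 (f10 (f8 (f8 (f10 (f8 (f8 (f10 (f8 (f8 (f10 (f8 (f8 (f10 (f8 (f8 (f10 (f8 (f8 (f10 (f8 (f8 (f10 (f8 (f8 (f10 (f8 (f8 (f10 (f8 (f8 (f10 (f8 (f8 (f10 (f8 (f8 (f10 (f8 (f8 (f10 (f8 (f8 (f10 (f8 (f8 (f10 (f8 (f8 (f10 (f8 (f8 (f10 (q)))))))))))))))))))))))))))))))))))))))))))))))))))))))))) q) ((fun q => q) q)) = true := by decide +kernel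

theorem rel2_47 : allR 81028 1724 (fun q => Nat.beq ((fun q => f8 (f8 (f10 (f8 (f8 (f10 (f8 (f8 (f10 (f8 (f8 (f10 (f8 (f8 (f10 (f8 (f8 (f10 (f8 (f8 (f10 (f8 (f8 (f10 (f8 (f8 (f10 (f8 (f8 (f10 (f8 (f8 (f10 (f8 (f8 (f10 (f8 (f8 (f10 (f8 (f8 (f10 (f8 (f8 (f10 (f8 (f8 (f10 (f8 (f8 (f10 (f8 (f8 (f10 (f8 (f8 (f10 (q)))))))))))))))))))))))))))))))))))))))))))))))))))))))))) q) ((fun q => q) q)) = true := by decide +kernel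

theorem rel2_48 : allR 82752 1724 (fun q => Nat.beq ((fun q => f8 (f8 (f10 (f8 (f8 (f10 (f8 (f8 (f10 (f8 (f8 (f10 (f8 (f8 (f10 (f8 (f8 (f10 (f8 (f8 (f10 (f8 (f8 (f10 (f8 (f8 (f10 (f8 (f8 (f10 (f8 (f8 (f10 (f8 (f8 (f10 (f8 (f8 (f10 (f8 (f8 (f10 (f8 (f8 (f10 (f8 (f8 (f10 (f8 (f8 (f10 (f8 (f8 (f10 (f8 (f8 (f10 (q)))))))))))))))))))))))))))))))))))))))))))))))))))))))))) q) ((fun q => q) q)) = true := by decide +kernel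

theorem rel2_49 : allR 84476 1724 (fun q => Nat.beq ((fun q => f8 (f8 (f10 (f8 (f8 (f10 (f8 (f8 (f10 (f8 (f8 (f10 (f8 (f8 (f10 (f8 (f8 (f10 (f8 (f8 (f10 (f8 (f8 (f10 (f8 (f8 (f10 (f8 (f8 (f10 (f8 (f8 (f10 (f8 (f8 (f10 (f8 (f8 (f10 (f8 (f8 (f10 (f8 (f8 (f10 (f8 (f8 (f10 (f8 (f8 (f10 (f8 (f8 (f10 (f8 (f8 (f10 (q)))))))))))))))))))))))))))))))))))))))))))))))))))))))))) q) ((fun q => q) q)) = true := by decide +kernel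


end Cfsg.Agent.HNOut
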