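import Cfsg.Agent.Lib.Lead.HNOut.D8
import Cfsg.Agent.Lib.Lead.HNOut.D9
import Cfsg.Agent.Lib.Lead.HNOut.D10

/-! # The outer automorphism group of the Harada–Norton group: the relation number 2, a part (generated) -/

set_option autoImplicit false
set_option maxRecDepth 100000

namespace Cfsg.Agent.HNOut

open Cfsg.Agent.PF Cfsg.Agent.Lib.Helper6 Cfsg.Agent.Lib.Helper6.TC Cfsg.Agent.Lib.Helper6.NatArr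
open Cfsg.Agent.PL (Acts evalF)

theorem rel2_250 : allR 431000 1724 (fun q => Nat.beq ((fun q => f8 (f8 (f10 (f8 (f8 (f10 (f8 (f8 (f10 (f8 (f8 (f10 (f8 (f8 (f10 (f8 (f8 (f10 (f8 (f8 (f10 (f8 (f8 (f10 (f8 (f8 (f10 (f8 (f8 (f10 (f8 (f8 (f10 (f8 (f8 (f10 (f8 (f8 (f10 (f8 (f8 (f10 (f8 (f8 (f10 (f8 (f8 (f10 (f8 (f8 (f10 (f8 (f8 (f10 (f8 (f8 (f10 (q)))))))))))))))))))))))))))))))))))))))))))))))))))))))))) q) ((fun q => q) q)) = true := by decide +kernel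

theorem rel2_251 : allR 432724 1724 (fun q => Nat.beq ((fun q => f8 (f8 (f10 (f8 (f8 (f10 (f8 (f8 (f10 (f8 (f8 (f10 (f8 (f8 (f10 (f8 (f8 (f10 (f8 (f8 (f10 (f8 (f8 (f10 (f8 (f8 (f10 (f8 (f8 (f10 (f8 (f8 (f10 (f8 (f8 (f10 (f8 (f8 (f10 (f8 (f8 (f10 (f8 (f8 (f10 (f8 (f8 (f10 (f8 (f8 (f10 (f8 (f8 (f10 (f8 (f8 (f10 (q)))))))))))))))))))))))))))))))))))))))))))))))))))))))))) q) ((fun q => q) q)) = true := by decide +kernel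

theorem rel2_252 : allR 434448 1724 (fun q => Nat.beq ((fun q => f8 (f8 (f10 (f8 (f8 (f10 (f8 (f8 (f10 (f8 (f8 (f10 (f8 (f8 (f10 (f8 (f8 (f10 (f8 (f8 (f10 (f8 (f8 (f10 (f8 (f8 (f10 (f8 (f8 (f10 (f8 (f8 (f10 (f8 (f8 (f10 (f8 (f8 (f10 (f8 (f8 (f10 (f8 (f8 (f10 (f8 (f8 (f10 (f8 (f8 (f10 (f8 (f8 (f10 (f8 (f8 (f10 (q)))))))))))))))))))))))))))))))))))))))))))))))))))))))))) q) ((fun q => q) q)) = true := by decide +kernel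

theorem rel2_253 : allR 436172 1724 (fun q => Nat.beq ((fun q => f8 (f8 (f10 (f8 (f8 (f10 (f8 (f8 (f10 (f8 (f8 (f10 (f8 (f8 (f10 (f8 (f8 (f10 (f8 (f8 (f10 (f8 (f8 (f10 (f8 (f8 (f10 (f8 (f8 (f10 (f8 (f8 (f10 (f8 (f8 (f10 (f8 (f8 (f10 (f8 (f8 (f10 (f8 (f8 (f10 (f8 (f8 (f10 (f8 (f8 (f10 (f8 (f8 (f10 (f8 (f8 (f10 (q)))))))))))))))))))))))))))))))))))))))))))))))))))))))))) q) ((fun q => q) q)) = true := by decide +kernel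

theorem rel2_254 : allR 437896 1724 (fun q => Nat.beq ((fun q => f8 (f8 (f10 (f8 (f8 (f10 (f8 (f8 (f10 (f8 (f8 (f10 (f8 (f8 (f10 (f8 (f8 (f10 (f8 (f8 (f10 (f8 (f8 (f10 (f8 (f8 (f10 (f8 (f8 (f10 (f8 (f8 (f10 (f8 (f8 (f10 (f8 (f8 (f10 (f8 (f8 (f10 (f8 (f8 (f10 (f8 (f8 (f10 (f8 (f8 (f10 (f8 (f8 (f10 (f8 (f8 (f10 (q)))))))))))))))))))))))))))))))))))))))))))))))))))))))))) q) ((fun q => q) q)) = true := by decide +kernel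

theorem rel2_255 : allR 439620 1724 (fun q => Nat.beq ((fun q => f8 (f8 (f10 (f8 (f8 (f10 (f8 (f8 (f10 (f8 (f8 (f10 (f8 (f8 (f10 (f8 (f8 (f10 (f8 (f8 (f10 (f8 (f8 (f10 (f8 (f8 (f10 (f8 (f8 (f10 (f8 (f8 (f10 (f8 (f8 (f10 (f8 (f8 (f10 (f8 (f8 (f10 (f8 (f8 (f10 (f8 (f8 (f10 (f8 (f8 (f10 (f8 (f8 (f10 (f8 (f8 (f10 (q)))))))))))))))))))))))))))))))))))))))))))))))))))))))))) q) ((fun q => q) q)) = true := by decide +kernel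

theorem rel2_256 : allR 441344 1724 (fun q => Nat.beq ((fun q => f8 (f8 (f10 (f8 (f8 (f10 (f8 (f8 (f10 (f8 (f8 (f10 (f8 (f8 (f10 (f8 (f8 (f10 (f8 (f8 (f10 (f8 (f8 (f10 (f8 (f8 (f10 (f8 (f8 (f10 (f8 (f8 (f10 (f8 (f8 (f10 (f8 (f8 (f10 (f8 (f8 (f10 (f8 (f8 (f10 (f8 (f8 (f10 (f8 (f8 (f10 (f8 (f8 (f10 (f8 (f8 (f10 (q)))))))))))))))))))))))))))))))))))))))))))))))))))))))))) q) ((fun q => q) q)) = true := by decide +kernel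

theorem rel2_257 : allR 443068 1724 (fun q => Nat.beq ((fun q => f8 (f8 (f10 (f8 (f8 (f10 (f8 (f8 (f10 (f8 (f8 (f10 (f8 (f8 (f10 (f8 (f8 (f10 (f8 (f8 (f10 (f8 (f8 (f10 (f8 (f8 (f10 (f8 (f8 (f10 (f8 (f8 (f10 (f8 (f8 (f10 (f8 (f8 (f10 (f8 (f8 (f10 (f8 (f8 (f10 (f8 (f8 (f10 (f8 (f8 (f10 (f8 (f8 (f10 (f8 (f8 (f10 (q)))))))))))))))))))))))))))))))))))))))))))))))))))))))))) q) ((fun q => q) q)) = true := by decide +kernel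

theorem rel2_258 : allR 444792 1724 (fun q => Nat.beq ((fun q => f8 (f8 (f10 (f8 (f8 (f10 (f8 (f8 (f10 (f8 (f8 (f10 (f8 (f8 (f10 (f8 (f8 (f10 (f8 (f8 (f10 (f8 (f8 (f10 (f8 (f8 (f10 (f8 (f8 (f10 (f8 (f8 (f10 (f8 (f8 (f10 (f8 (f8 (f10 (f8 (f8 (f10 (f8 (f8 (f10 (f8 (f8 (f10 (f8 (f8 (f10 (f8 (f8 (f10 (f8 (f8 (f10 (q)))))))))))))))))))))))))))))))))))))))))))))))))))))))))) q) ((fun q => q) q)) = true := by decide +kernel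

theorem rel2_259 : allR 446516 1724 (fun q => Nat.beq ((fun q => f8 (f8 (f10 (f8 (f8 (f10 (f8 (f8 (f10 (f8 (f8 (f10 (f8 (f8 (f10 (f8 (f8 (f10 (f8 (f8 (f10 (f8 (f8 (f10 (f8 (f8 (f10 (f8 (f8 (f10 (f8 (f8 (f10 (f8 (f8 (f10 (f8 (f8 (f10 (f8 (f8 (f10 (f8 (f8 (f10 (f8 (f8 (f10 (f8 (f8 (f10 (f8 (f8 (f10 (f8 (f8 (f10 (q)))))))))))))))))))))))))))))))))))))))))))))))))))))))))) q) ((fun q => q) q)) = true := by decide +kernel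

theorem rel2_260 : allR 448240 1724 (fun q => Nat.beq ((fun q => f8 (f8 (f10 (f8 (f8 (f10 (f8 (f8 (f10 (f8 (f8 (f10 (f8 (f8 (f10 (f8 (f8 (f10 (f8 (f8 (f10 (f8 (f8 (f10 (f8 (f8 (f10 (f8 (f8 (f10 (f8 (f8 (f10 (f8 (f8 (f10 (f8 (f8 (f10 (f8 (f8 (f10 (f8 (f8 (f10 (f8 (f8 (f10 (f8 (f8 (f10 (f8 (f8 (f10 (f8 (f8 (f10 (q)))))))))))))))))))))))))))))))))))))))))))))))))))))))))) q) ((fun q => q) q)) = true := by decide +kernel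

theorem rel2_261 : allR 449964 1724 (fun q => Nat.beq ((fun q => f8 (f8 (f10 (f8 (f8 (f10 (f8 (f8 (f10 (f8 (f8 (f10 (f8 (f8 (f10 (f8 (f8 (f10 (f8 (f8 (f10 (f8 (f8 (f10 (f8 (f8 (f10 (f8 (f8 (f10 (f8 (f8 (f10 (f8 (f8 (f10 (f8 (f8 (f10 (f8 (f8 (f10 (f8 (f8 (f10 (f8 (f8 (f10 (f8 (f8 (f10 (f8 (f8 (f10 (f8 (f8 (f10 (q)))))))))))))))))))))))))))))))))))))))))))))))))))))))))) q) ((fun q => q) q)) = true := by decide +kernel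

theorem rel2_262 : allR 451688 1724 (fun q => Nat.beq ((fun q => f8 (f8 (f10 (f8 (f8 (f10 (f8 (f8 (f10 (f8 (f8 (f10 (f8 (f8 (f10 (f8 (f8 (f10 (f8 (f8 (f10 (f8 (f8 (f10 (f8 (f8 (f10 (f8 (f8 (f10 (f8 (f8 (f10 (f8 (f8 (f10 (f8 (f8 (f10 (f8 (f8 (f10 (f8 (f8 (f10 (f8 (f8 (f10 (f8 (f8 (f10 (f8 (f8 (f10 (f8 (f8 (f10 (q)))))))))))))))))))))))))))))))))))))))))))))))))))))))))) q) ((fun q => q) q)) = true := by decide +kernel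

theorem rel2_263 : allR 453412 1724 (fun q => Nat.beq ((fun q => f8 (f8 (f10 (f8 (f8 (f10 (f8 (f8 (f10 (f8 (f8 (f10 (f8 (f8 (f10 (f8 (f8 (f10 (f8 (f8 (f10 (f8 (f8 (f10 (f8 (f8 (f10 (f8 (f8 (f10 (f8 (f8 (f10 (f8 (f8 (f10 (f8 (f8 (f10 (f8 (f8 (f10 (f8 (f8 (f10 (f8 (f8 (f10 (f8 (f8 (f10 (f8 (f8 (f10 (f8 (f8 (f10 (q)))))))))))))))))))))))))))))))))))))))))))))))))))))))))) q) ((fun q => q) q)) = true := by decide +kernel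

theorem rel2_264 : allR 455136 1724 (fun q => Nat.beq ((fun q => f8 (f8 (f10 (f8 (f8 (f10 (f8 (f8 (f10 (f8 (f8 (f10 (f8 (f8 (f10 (f8 (f8 (f10 (f8 (f8 (f10 (f8 (f8 (f10 (f8 (f8 (f10 (f8 (f8 (f10 (f8 (f8 (f10 (f8 (f8 (f10 (f8 (f8 (f10 (f8 (f8 (f10 (f8 (f8 (f10 (f8 (f8 (f10 (f8 (f8 (f10 (f8 (f8 (f10 (f8 (f8 (f10 (q)))))))))))))))))))))))))))))))))))))))))))))))))))))))))) q) ((fun q => q) q)) = true := by decide +kernel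

theorem rel2_265 : allR 456860 1724 (fun q => Nat.beq ((fun q => f8 (f8 (f10 (f8 (f8 (f10 (f8 (f8 (f10 (f8 (f8 (f10 (f8 (f8 (f10 (f8 (f8 (f10 (f8 (f8 (f10 (f8 (f8 (f10 (f8 (f8 (f10 (f8 (f8 (f10 (f8 (f8 (f10 (f8 (f8 (f10 (f8 (f8 (f10 (f8 (f8 (f10 (f8 (f8 (f10 (f8 (f8 (f10 (f8 (f8 (f10 (f8 (f8 (f10 (f8 (f8 (f10 (q)))))))))))))))))))))))))))))))))))))))))))))))))))))))))) q) ((fun q => q) q)) = true := by decide +kernel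

theorem rel2_266 : allR 458584 1724 (fun q => Nat.beq ((fun q => f8 (f8 (f10 (f8 (f8 (f10 (f8 (f8 (f10 (f8 (f8 (f10 (f8 (f8 (f10 (f8 (f8 (f10 (f8 (f8 (f10 (f8 (f8 (f10 (f8 (f8 (f10 (f8 (f8 (f10 (f8 (f8 (f10 (f8 (f8 (f10 (f8 (f8 (f10 (f8 (f8 (f10 (f8 (f8 (f10 (f8 (f8 (f10 (f8 (f8 (f10 (f8 (f8 (f10 (f8 (f8 (f10 (q)))))))))))))))))))))))))))))))))))))))))))))))))))))))))) q) ((fun q => q) q)) = true := by decide +kernel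

theorem rel2_267 : allR 460308 1724 (fun q => Nat.beq ((fun q => f8 (f8 (f10 (f8 (f8 (f10 (f8 (f8 (f10 (f8 (f8 (f10 (f8 (f8 (f10 (f8 (f8 (f10 (f8 (f8 (f10 (f8 (f8 (f10 (f8 (f8 (f10 (f8 (f8 (f10 (f8 (f8 (f10 (f8 (f8 (f10 (f8 (f8 (f10 (f8 (f8 (f10 (f8 (f8 (f10 (f8 (f8 (f10 (f8 (f8 (f10 (f8 (f8 (f10 (f8 (f8 (f10 (q)))))))))))))))))))))))))))))))))))))))))))))))))))))))))) q) ((fun q => q) q)) = true := by decide +kernel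

theorem rel2_268 : allR 462032 1724 (fun q => Nat.beq ((fun q => f8 (f8 (f10 (f8 (f8 (f10 (f8 (f8 (f10 (f8 (f8 (f10 (f8 (f8 (f10 (f8 (f8 (f10 (f8 (f8 (f10 (f8 (f8 (f10 (f8 (f8 (f10 (f8 (f8 (f10 (f8 (f8 (f10 (f8 (f8 (f10 (f8 (f8 (f10 (f8 (f8 (f10 (f8 (f8 (f10 (f8 (f8 (f10 (f8 (f8 (f10 (f8 (f8 (f10 (f8 (f8 (f10 (q)))))))))))))))))))))))))))))))))))))))))))))))))))))))))) q) ((fun q => q) q)) = true := by decide +kernel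

theorem rel2_269 : allR 463756 1724 (fun q => Nat.beq ((fun q => f8 (f8 (f10 (f8 (f8 (f10 (f8 (f8 (f10 (f8 (f8 (f10 (f8 (f8 (f10 (f8 (f8 (f10 (f8 (f8 (f10 (f8 (f8 (f10 (f8 (f8 (f10 (f8 (f8 (f10 (f8 (f8 (f10 (f8 (f8 (f10 (f8 (f8 (f10 (f8 (f8 (f10 (f8 (f8 (f10 (f8 (f8 (f10 (f8 (f8 (f10 (f8 (f8 (f10 (f8 (f8 (f10 (q)))))))))))))))))))))))))))))))))))))))))))))))))))))))))) q) ((fun q => q) q)) = true := by decide +kernel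

theorem rel2_270 : allR 465480 1724 (fun q => Nat.beq ((fun q => f8 (f8 (f10 (f8 (f8 (f10 (f8 (f8 (f10 (f8 (f8 (f10 (f8 (f8 (f10 (f8 (f8 (f10 (f8 (f8 (f10 (f8 (f8 (f10 (f8 (f8 (f10 (f8 (f8 (f10 (f8 (f8 (f10 (f8 (f8 (f10 (f8 (f8 (f10 (f8 (f8 (f10 (f8 (f8 (f10 (f8 (f8 (f10 (f8 (f8 (f10 (f8 (f8 (f10 (f8 (f8 (f10 (q)))))))))))))))))))))))))))))))))))))))))))))))))))))))))) q) ((fun q => q) q)) = true := by decide +kernel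

theorem rel2_271 : allR 467204 1724 (fun q => Nat.beq ((fun q => f8 (f8 (f10 (f8 (f8 (f10 (f8 (f8 (f10 (f8 (f8 (f10 (f8 (f8 (f10 (f8 (f8 (f10 (f8 (f8 (f10 (f8 (f8 (f10 (f8 (f8 (f10 (f8 (f8 (f10 (f8 (f8 (f10 (f8 (f8 (f10 (f8 (f8 (f10 (f8 (f8 (f10 (f8 (f8 (f10 (f8 (f8 (f10 (f8 (f8 (f10 (f8 (f8 (f10 (f8 (f8 (f10 (q)))))))))))))))))))))))))))))))))))))))))))))))))))))))))) q) ((fun q => q) q)) = true := by decide +kernel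

theorem rel2_272 : allR 468928 1724 (fun q => Nat.beq ((fun q => f8 (f8 (f10 (f8 (f8 (f10 (f8 (f8 (f10 (f8 (f8 (f10 (f8 (f8 (f10 (f8 (f8 (f10 (f8 (f8 (f10 (f8 (f8 (f10 (f8 (f8 (f10 (f8 (f8 (f10 (f8 (f8 (f10 (f8 (f8 (f10 (f8 (f8 (f10 (f8 (f8 (f10 (f8 (f8 (f10 (f8 (f8 (f10 (f8 (f8 (f10 (f8 (f8 (f10 (f8 (f8 (f10 (q)))))))))))))))))))))))))))))))))))))))))))))))))))))))))) q) ((fun q => q) q)) = true := by decide +kernel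

theorem rel2_273 : allR 470652 1724 (fun q => Nat.beq ((fun q => f8 (f8 (f10 (f8 (f8 (f10 (f8 (f8 (f10 (f8 (f8 (f10 (f8 (f8 (f10 (f8 (f8 (f10 (f8 (f8 (f10 (f8 (f8 (f10 (f8 (f8 (f10 (f8 (f8 (f10 (f8 (f8 (f10 (f8 (f8 (f10 (f8 (f8 (f10 (f8 (f8 (f10 (f8 (f8 (f10 (f8 (f8 (f10 (f8 (f8 (f10 (f8 (f8 (f10 (f8 (f8 (f10 (q)))))))))))))))))))))))))))))))))))))))))))))))))))))))))) q) ((fun q => q) q)) = true := by decide +kernel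

theorem rel2_274 : allR 472376 1724 (fun q => Nat.beq ((fun q => f8 (f8 (f10 (f8 (f8 (f10 (f8 (f8 (f10 (f8 (f8 (f10 (f8 (f8 (f10 (f8 (f8 (f10 (f8 (f8 (f10 (f8 (f8 (f10 (f8 (f8 (f10 (f8 (f8 (f10 (f8 (f8 (f10 (f8 (f8 (f10 (f8 (f8 (f10 (f8 (f8 (f10 (f8 (f8 (f10 (f8 (f8 (f10 (f8 (f8 (f10 (f8 (f8 (f10 (f8 (f8 (f10 (q)))))))))))))))))))))))))))))))))))))))))))))))))))))))))) q) ((fun q => q) q)) = true := by decide +kernel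


end Cfsg.Agent.HNOut
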