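import Cfsg.Agent.Lib.Lead.HNOut.D8
import Cfsg.Agent.Lib.Lead.HNOut.D9
import Cfsg.Agent.Lib.Lead.HNOut.D10

/-! # The outer automorphism group of the Harada–Norton group: the relation number 2, a part (generated) -/

set_option autoImplicit false
set_option maxRecDepth 100000

namespace Cfsg.Agent.HNOut

open Cfsg.Agent.PF Cfsg.Agent.Lib.Helper6 Cfsg.Agent.Lib.Helper6.TC Cfsg.Agent.Lib.Helper6.NatArr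
open Cfsg.Agent.PL (Acts evalF)

theorem rel2_275 : allR 474100 1724 (fun q => Nat.beq ((fun q => f8 (f8 (f10 (f8 (f8 (f10 (f8 (f8 (f10 (f8 (f8 (f10 (f8 (f8 (f10 (f8 (f8 (f10 (f8 (f8 (f10 (f8 (f8 (f10 (f8 (f8 (f10 (f8 (f8 (f10 (f8 (f8 (f10 (f8 (f8 (f10 (f8 (f8 (f10 (f8 (f8 (f10 (f8 (f8 (f10 (f8 (f8 (f10 (f8 (f8 (f10 (f8 (f8 (f10 (f8 (f8 (f10 (q)))))))))))))))))))))))))))))))))))))))))))))))))))))))))) q) ((fun q => q) q)) = true := by decide +kernel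

theorem rel2_276 : allR 475824 1724 (fun q => Nat.beq ((fun q => f8 (f8 (f10 (f8 (f8 (f10 (f8 (f8 (f10 (f8 (f8 (f10 (f8 (f8 (f10 (f8 (f8 (f10 (f8 (f8 (f10 (f8 (f8 (f10 (f8 (f8 (f10 (f8 (f8 (f10 (f8 (f8 (f10 (f8 (f8 (f10 (f8 (f8 (f10 (f8 (f8 (f10 (f8 (f8 (f10 (f8 (f8 (f10 (f8 (f8 (f10 (f8 (f8 (f10 (f8 (f8 (f10 (q)))))))))))))))))))))))))))))))))))))))))))))))))))))))))) q) ((fun q => q) q)) = true := by decide +kernel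

theorem rel2_277 : allR 477548 1724 (fun q => Nat.beq ((fun q => f8 (f8 (f10 (f8 (f8 (f10 (f8 (f8 (f10 (f8 (f8 (f10 (f8 (f8 (f10 (f8 (f8 (f10 (f8 (f8 (f10 (f8 (f8 (f10 (f8 (f8 (f10 (f8 (f8 (f10 (f8 (f8 (f10 (f8 (f8 (f10 (f8 (f8 (f10 (f8 (f8 (f10 (f8 (f8 (f10 (f8 (f8 (f10 (f8 (f8 (f10 (f8 (f8 (f10 (f8 (f8 (f10 (q)))))))))))))))))))))))))))))))))))))))))))))))))))))))))) q) ((fun q => q) q)) = true := by decide +kernel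

theorem rel2_278 : allR 479272 1724 (fun q => Nat.beq ((fun q => f8 (f8 (f10 (f8 (f8 (f10 (f8 (f8 (f10 (f8 (f8 (f10 (f8 (f8 (f10 (f8 (f8 (f10 (f8 (f8 (f10 (f8 (f8 (f10 (f8 (f8 (f10 (f8 (f8 (f10 (f8 (f8 (f10 (f8 (f8 (f10 (f8 (f8 (f10 (f8 (f8 (f10 (f8 (f8 (f10 (f8 (f8 (f10 (f8 (f8 (f10 (f8 (f8 (f10 (f8 (f8 (f10 (q)))))))))))))))))))))))))))))))))))))))))))))))))))))))))) q) ((fun q => q) q)) = true := by decide +kernel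

theorem rel2_279 : allR 480996 1724 (fun q => Nat.beq ((fun q => f8 (f8 (f10 (f8 (f8 (f10 (f8 (f8 (f10 (f8 (f8 (f10 (f8 (f8 (f10 (f8 (f8 (f10 (f8 (f8 (f10 (f8 (f8 (f10 (f8 (f8 (f10 (f8 (f8 (f10 (f8 (f8 (f10 (f8 (f8 (f10 (f8 (f8 (f10 (f8 (f8 (f10 (f8 (f8 (f10 (f8 (f8 (f10 (f8 (f8 (f10 (f8 (f8 (f10 (f8 (f8 (f10 (q)))))))))))))))))))))))))))))))))))))))))))))))))))))))))) q) ((fun q => q) q)) = true := by decide +kernel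

theorem rel2_280 : allR 482720 1724 (fun q => Nat.beq ((fun q => f8 (f8 (f10 (f8 (f8 (f10 (f8 (f8 (f10 (f8 (f8 (f10 (f8 (f8 (f10 (f8 (f8 (f10 (f8 (f8 (f10 (f8 (f8 (f10 (f8 (f8 (f10 (f8 (f8 (f10 (f8 (f8 (f10 (f8 (f8 (f10 (f8 (f8 (f10 (f8 (f8 (f10 (f8 (f8 (f10 (f8 (f8 (f10 (f8 (f8 (f10 (f8 (f8 (f10 (f8 (f8 (f10 (q)))))))))))))))))))))))))))))))))))))))))))))))))))))))))) q) ((fun q => q) q)) = true := by decide +kernel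

theorem rel2_281 : allR 484444 1724 (fun q => Nat.beq ((fun q => f8 (f8 (f10 (f8 (f8 (f10 (f8 (f8 (f10 (f8 (f8 (f10 (f8 (f8 (f10 (f8 (f8 (f10 (f8 (f8 (f10 (f8 (f8 (f10 (f8 (f8 (f10 (f8 (f8 (f10 (f8 (f8 (f10 (f8 (f8 (f10 (f8 (f8 (f10 (f8 (f8 (f10 (f8 (f8 (f10 (f8 (f8 (f10 (f8 (f8 (f10 (f8 (f8 (f10 (f8 (f8 (f10 (q)))))))))))))))))))))))))))))))))))))))))))))))))))))))))) q) ((fun q => q) q)) = true := by decide +kernel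

theorem rel2_282 : allR 486168 1724 (fun q => Nat.beq ((fun q => f8 (f8 (f10 (f8 (f8 (f10 (f8 (f8 (f10 (f8 (f8 (f10 (f8 (f8 (f10 (f8 (f8 (f10 (f8 (f8 (f10 (f8 (f8 (f10 (f8 (f8 (f10 (f8 (f8 (f10 (f8 (f8 (f10 (f8 (f8 (f10 (f8 (f8 (f10 (f8 (f8 (f10 (f8 (f8 (f10 (f8 (f8 (f10 (f8 (f8 (f10 (f8 (f8 (f10 (f8 (f8 (f10 (q)))))))))))))))))))))))))))))))))))))))))))))))))))))))))) q) ((fun q => q) q)) = true := by decide +kernel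

theorem rel2_283 : allR 487892 1724 (fun q => Nat.beq ((fun q => f8 (f8 (f10 (f8 (f8 (f10 (f8 (f8 (f10 (f8 (f8 (f10 (f8 (f8 (f10 (f8 (f8 (f10 (f8 (f8 (f10 (f8 (f8 (f10 (f8 (f8 (f10 (f8 (f8 (f10 (f8 (f8 (f10 (f8 (f8 (f10 (f8 (f8 (f10 (f8 (f8 (f10 (f8 (f8 (f10 (f8 (f8 (f10 (f8 (f8 (f10 (f8 (f8 (f10 (f8 (f8 (f10 (q)))))))))))))))))))))))))))))))))))))))))))))))))))))))))) q) ((fun q => q) q)) = true := by decide +kernel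

theorem rel2_284 : allR 489616 1724 (fun q => Nat.beq ((fun q => f8 (f8 (f10 (f8 (f8 (f10 (f8 (f8 (f10 (f8 (f8 (f10 (f8 (f8 (f10 (f8 (f8 (f10 (f8 (f8 (f10 (f8 (f8 (f10 (f8 (f8 (f10 (f8 (f8 (f10 (f8 (f8 (f10 (f8 (f8 (f10 (f8 (f8 (f10 (f8 (f8 (f10 (f8 (f8 (f10 (f8 (f8 (f10 (f8 (f8 (f10 (f8 (f8 (f10 (f8 (f8 (f10 (q)))))))))))))))))))))))))))))))))))))))))))))))))))))))))) q) ((fun q => q) q)) = true := by decide +kernel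

theorem rel2_285 : allR 491340 1724 (fun q => Nat.beq ((fun q => f8 (f8 (f10 (f8 (f8 (f10 (f8 (f8 (f10 (f8 (f8 (f10 (f8 (f8 (f10 (f8 (f8 (f10 (f8 (f8 (f10 (f8 (f8 (f10 (f8 (f8 (f10 (f8 (f8 (f10 (f8 (f8 (f10 (f8 (f8 (f10 (f8 (f8 (f10 (f8 (f8 (f10 (f8 (f8 (f10 (f8 (f8 (f10 (f8 (f8 (f10 (f8 (f8 (f10 (f8 (f8 (f10 (q)))))))))))))))))))))))))))))))))))))))))))))))))))))))))) q) ((fun q => q) q)) = true := by decide +kernel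

theorem rel2_286 : allR 493064 1724 (fun q => Nat.beq ((fun q => f8 (f8 (f10 (f8 (f8 (f10 (f8 (f8 (f10 (f8 (f8 (f10 (f8 (f8 (f10 (f8 (f8 (f10 (f8 (f8 (f10 (f8 (f8 (f10 (f8 (f8 (f10 (f8 (f8 (f10 (f8 (f8 (f10 (f8 (f8 (f10 (f8 (f8 (f10 (f8 (f8 (f10 (f8 (f8 (f10 (f8 (f8 (f10 (f8 (f8 (f10 (f8 (f8 (f10 (f8 (f8 (f10 (q)))))))))))))))))))))))))))))))))))))))))))))))))))))))))) q) ((fun q => q) q)) = true := by decide +kernel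

theorem rel2_287 : allR 494788 1724 (fun q => Nat.beq ((fun q => f8 (f8 (f10 (f8 (f8 (f10 (f8 (f8 (f10 (f8 (f8 (f10 (f8 (f8 (f10 (f8 (f8 (f10 (f8 (f8 (f10 (f8 (f8 (f10 (f8 (f8 (f10 (f8 (f8 (f10 (f8 (f8 (f10 (f8 (f8 (f10 (f8 (f8 (f10 (f8 (f8 (f10 (f8 (f8 (f10 (f8 (f8 (f10 (f8 (f8 (f10 (f8 (f8 (f10 (f8 (f8 (f10 (q)))))))))))))))))))))))))))))))))))))))))))))))))))))))))) q) ((fun q => q) q)) = true := by decide +kernel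

theorem rel2_288 : allR 496512 1724 (fun q => Nat.beq ((fun q => f8 (f8 (f10 (f8 (f8 (f10 (f8 (f8 (f10 (f8 (f8 (f10 (f8 (f8 (f10 (f8 (f8 (f10 (f8 (f8 (f10 (f8 (f8 (f10 (f8 (f8 (f10 (f8 (f8 (f10 (f8 (f8 (f10 (f8 (f8 (f10 (f8 (f8 (f10 (f8 (f8 (f10 (f8 (f8 (f10 (f8 (f8 (f10 (f8 (f8 (f10 (f8 (f8 (f10 (f8 (f8 (f10 (q)))))))))))))))))))))))))))))))))))))))))))))))))))))))))) q) ((fun q => q) q)) = true := by decide +kernel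

theorem rel2_289 : allR 498236 1724 (fun q => Nat.beq ((fun q => f8 (f8 (f10 (f8 (f8 (f10 (f8 (f8 (f10 (f8 (f8 (f10 (f8 (f8 (f10 (f8 (f8 (f10 (f8 (f8 (f10 (f8 (f8 (f10 (f8 (f8 (f10 (f8 (f8 (f10 (f8 (f8 (f10 (f8 (f8 (f10 (f8 (f8 (f10 (f8 (f8 (f10 (f8 (f8 (f10 (f8 (f8 (f10 (f8 (f8 (f10 (f8 (f8 (f10 (f8 (f8 (f10 (q)))))))))))))))))))))))))))))))))))))))))))))))))))))))))) q) ((fun q => q) q)) = true := by decide +kernel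

theorem rel2_290 : allR 499960 1724 (fun q => Nat.beq ((fun q => f8 (f8 (f10 (f8 (f8 (f10 (f8 (f8 (f10 (f8 (f8 (f10 (f8 (f8 (f10 (f8 (f8 (f10 (f8 (f8 (f10 (f8 (f8 (f10 (f8 (f8 (f10 (f8 (f8 (f10 (f8 (f8 (f10 (f8 (f8 (f10 (f8 (f8 (f10 (f8 (f8 (f10 (f8 (f8 (f10 (f8 (f8 (f10 (f8 (f8 (f10 (f8 (f8 (f10 (f8 (f8 (f10 (q)))))))))))))))))))))))))))))))))))))))))))))))))))))))))) q) ((fun q => q) q)) = true := by decide +kernel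

theorem rel2_291 : allR 501684 1724 (fun q => Nat.beq ((fun q => f8 (f8 (f10 (f8 (f8 (f10 (f8 (f8 (f10 (f8 (f8 (f10 (f8 (f8 (f10 (f8 (f8 (f10 (f8 (f8 (f10 (f8 (f8 (f10 (f8 (f8 (f10 (f8 (f8 (f10 (f8 (f8 (f10 (f8 (f8 (f10 (f8 (f8 (f10 (f8 (f8 (f10 (f8 (f8 (f10 (f8 (f8 (f10 (f8 (f8 (f10 (f8 (f8 (f10 (f8 (f8 (f10 (q)))))))))))))))))))))))))))))))))))))))))))))))))))))))))) q) ((fun q => q) q)) = true := by decide +kernel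

theorem rel2_292 : allR 503408 1724 (fun q => Nat.beq ((fun q => f8 (f8 (f10 (f8 (f8 (f10 (f8 (f8 (f10 (f8 (f8 (f10 (f8 (f8 (f10 (f8 (f8 (f10 (f8 (f8 (f10 (f8 (f8 (f10 (f8 (f8 (f10 (f8 (f8 (f10 (f8 (f8 (f10 (f8 (f8 (f10 (f8 (f8 (f10 (f8 (f8 (f10 (f8 (f8 (f10 (f8 (f8 (f10 (f8 (f8 (f10 (f8 (f8 (f10 (f8 (f8 (f10 (q)))))))))))))))))))))))))))))))))))))))))))))))))))))))))) q) ((fun q => q) q)) = true := by decide +kernel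

theorem rel2_293 : allR 505132 1724 (fun q => Nat.beq ((fun q => f8 (f8 (f10 (f8 (f8 (f10 (f8 (f8 (f10 (f8 (f8 (f10 (f8 (f8 (f10 (f8 (f8 (f10 (f8 (f8 (f10 (f8 (f8 (f10 (f8 (f8 (f10 (f8 (f8 (f10 (f8 (f8 (f10 (f8 (f8 (f10 (f8 (f8 (f10 (f8 (f8 (f10 (f8 (f8 (f10 (f8 (f8 (f10 (f8 (f8 (f10 (f8 (f8 (f10 (f8 (f8 (f10 (q)))))))))))))))))))))))))))))))))))))))))))))))))))))))))) q) ((fun q => q) q)) = true := by decide +kernel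

theorem rel2_294 : allR 506856 1724 (fun q => Nat.beq ((fun q => f8 (f8 (f10 (f8 (f8 (f10 (f8 (f8 (f10 (f8 (f8 (f10 (f8 (f8 (f10 (f8 (f8 (f10 (f8 (f8 (f10 (f8 (f8 (f10 (f8 (f8 (f10 (f8 (f8 (f10 (f8 (f8 (f10 (f8 (f8 (f10 (f8 (f8 (f10 (f8 (f8 (f10 (f8 (f8 (f10 (f8 (f8 (f10 (f8 (f8 (f10 (f8 (f8 (f10 (f8 (f8 (f10 (q)))))))))))))))))))))))))))))))))))))))))))))))))))))))))) q) ((fun q => q) q)) = true := by decide +kernel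

theorem rel2_295 : allR 508580 1724 (fun q => Nat.beq ((fun q => f8 (f8 (f10 (f8 (f8 (f10 (f8 (f8 (f10 (f8 (f8 (f10 (f8 (f8 (f10 (f8 (f8 (f10 (f8 (f8 (f10 (f8 (f8 (f10 (f8 (f8 (f10 (f8 (f8 (f10 (f8 (f8 (f10 (f8 (f8 (f10 (f8 (f8 (f10 (f8 (f8 (f10 (f8 (f8 (f10 (f8 (f8 (f10 (f8 (f8 (f10 (f8 (f8 (f10 (f8 (f8 (f10 (q)))))))))))))))))))))))))))))))))))))))))))))))))))))))))) q) ((fun q => q) q)) = true := by decide +kernel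

theorem rel2_296 : allR 510304 1724 (fun q => Nat.beq ((fun q => f8 (f8 (f10 (f8 (f8 (f10 (f8 (f8 (f10 (f8 (f8 (f10 (f8 (f8 (f10 (f8 (f8 (f10 (f8 (f8 (f10 (f8 (f8 (f10 (f8 (f8 (f10 (f8 (f8 (f10 (f8 (f8 (f10 (f8 (f8 (f10 (f8 (f8 (f10 (f8 (f8 (f10 (f8 (f8 (f10 (f8 (f8 (f10 (f8 (f8 (f10 (f8 (f8 (f10 (f8 (f8 (f10 (q)))))))))))))))))))))))))))))))))))))))))))))))))))))))))) q) ((fun q => q) q)) = true := by decide +kernel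

theorem rel2_297 : allR 512028 1724 (fun q => Nat.beq ((fun q => f8 (f8 (f10 (f8 (f8 (f10 (f8 (f8 (f10 (f8 (f8 (f10 (f8 (f8 (f10 (f8 (f8 (f10 (f8 (f8 (f10 (f8 (f8 (f10 (f8 (f8 (f10 (f8 (f8 (f10 (f8 (f8 (f10 (f8 (f8 (f10 (f8 (f8 (f10 (f8 (f8 (f10 (f8 (f8 (f10 (f8 (f8 (f10 (f8 (f8 (f10 (f8 (f8 (f10 (f8 (f8 (f10 (q)))))))))))))))))))))))))))))))))))))))))))))))))))))))))) q) ((fun q => q) q)) = true := by decide +kernel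

theorem rel2_298 : allR 513752 1724 (fun q => Nat.beq ((fun q => f8 (f8 (f10 (f8 (f8 (f10 (f8 (f8 (f10 (f8 (f8 (f10 (f8 (f8 (f10 (f8 (f8 (f10 (f8 (f8 (f10 (f8 (f8 (f10 (f8 (f8 (f10 (f8 (f8 (f10 (f8 (f8 (f10 (f8 (f8 (f10 (f8 (f8 (f10 (f8 (f8 (f10 (f8 (f8 (f10 (f8 (f8 (f10 (f8 (f8 (f10 (f8 (f8 (f10 (f8 (f8 (f10 (q)))))))))))))))))))))))))))))))))))))))))))))))))))))))))) q) ((fun q => q) q)) = true := by decide +kernel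

theorem rel2_299 : allR 515476 1724 (fun q => Nat.beq ((fun q => f8 (f8 (f10 (f8 (f8 (f10 (f8 (f8 (f10 (f8 (f8 (f10 (f8 (f8 (f10 (f8 (f8 (f10 (f8 (f8 (f10 (f8 (f8 (f10 (f8 (f8 (f10 (f8 (f8 (f10 (f8 (f8 (f10 (f8 (f8 (f10 (f8 (f8 (f10 (f8 (f8 (f10 (f8 (f8 (f10 (f8 (f8 (f10 (f8 (f8 (f10 (f8 (f8 (f10 (f8 (f8 (f10 (q)))))))))))))))))))))))))))))))))))))))))))))))))))))))))) q) ((fun q => q) q)) = true := by decide +kernel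


end Cfsg.Agent.HNOut
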