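import Cfsg.Agent.Lib.Lead.HNOut.Rel2x0
import Cfsg.Agent.Lib.Lead.HNOut.Rel2x1
import Cfsg.Agent.Lib.Lead.HNOut.Rel2x2
import Cfsg.Agent.Lib.Lead.HNOut.Rel2x3
import Cfsg.Agent.Lib.Lead.HNOut.Rel2x4
import Cfsg.Agent.Lib.Lead.HNOut.Rel2x5
import Cfsg.Agent.Lib.Lead.HNOut.Rel2x6
import Cfsg.Agent.Lib.Lead.HNOut.Rel2x7
import Cfsg.Agent.Lib.Lead.HNOut.Rel2x8
import Cfsg.Agent.Lib.Lead.HNOut.Rel2x9
import Cfsg.Agent.Lib.Lead.HNOut.Rel2x10
import Cfsg.Agent.Lib.Lead.HNOut.Rel2x11
import Cfsg.Agent.Lib.Lead.HNOut.Rel2x12
import Cfsg.Agent.Lib.Lead.HNOut.Rel2x13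
import Cfsg.Agent.Lib.Lead.HNOut.Rel2x14
import Cfsg.Agent.Lib.Lead.HNOut.Rel2x15
import Cfsg.Agent.Lib.Lead.HNOut.Rel2x16
import Cfsg.Agent.Lib.Lead.HNOut.Rel2x17
import Cfsg.Agent.Lib.Lead.HNOut.Rel2x18
import Cfsg.Agent.Lib.Lead.HNOut.Rel2x19
import Cfsg.Agent.Lib.Lead.HNOut.Rel2x20
import Cfsg.Agent.Lib.Lead.HNOut.Rel2x21
import Cfsg.Agent.Lib.Lead.HNOut.Rel2x22
import Cfsg.Agent.Lib.Lead.HNOut.Rel2x23
import Cfsg.Agent.Lib.Lead.HNOut.Rel2x24
import Cfsg.Agent.Lib.Lead.HNOut.Rel2x25
import Cfsg.Agent.Lib.Lead.HNOut.Rel2x26
import Cfsg.Agent.Lib.Lead.HNOut.Rel2x27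
import Cfsg.Agent.Lib.Lead.HNOut.Rel2x28
import Cfsg.Agent.Lib.Lead.HNOut.Rel2x29
import Cfsg.Agent.Lib.Lead.HNOut.Rel2x30
import Cfsg.Agent.Lib.Lead.HNOut.Rel2x31
import Cfsg.Agent.Lib.Lead.HNOut.Rel2x32
import Cfsg.Agent.Lib.Lead.HNOut.Rel2x33
import Cfsg.Agent.Lib.Lead.HNOut.Rel2x34
import Cfsg.Agent.Lib.Lead.HNOut.Rel2x35
import Cfsg.Agent.Lib.Lead.HNOut.Kills

/-! # The outer automorphism group of the Harada–Norton group: the relation number 2 (generated) -/

set_option autoImplicit false
set_option maxRecDepth 100000

namespace Cfsg.Agent.HNOut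

open Cfsg.Agent.PF Cfsg.Agent.Lib.Helper6 Cfsg.Agent.Lib.Helper6.TC Cfsg.Agent.Lib.Helper6.NatArr
open Cfsg.Agent.PL (Acts evalF)

theorem rel2_grp0 : ∀ c ∈ ([(0, 1724), (1724, 1724), (3448, 1724), (5172, 1724), (6896, 1724), (8620, 1724), (10344, 1724), (12068, 1724), (13792, 1724), (15516, 1724), (17240, 1724), (18964, 1724), (20688, 1724), (22412, 1724), (24136, 1724), (25860, 1724), (27584, 1724), (29308, 1724), (31032, 1724), (32756, 1724), (34480, 1724), (36204, 1724), (37928, 1724), (39652, 1724), (41376, 1724), (43100, 1724), (44824, 1724), (46548, 1724), (48272, 1724), (49996, 1724), (51720, 1724), (53444, 1724), (55168, 1724), (56892, 1724), (58616, 1724), (60340, 1724), (62064, 1724), (63788, 1724), (65512, 1724), (67236, 1724), (68960, 1724), (70684, 1724), (72408, 1724), (74132, 1724), (75856, 1724), (77580, 1724), (79304, 1724), (81028, 1724), (82752, 1724), (84476, 1724), (86200, 1724), (87924, 1724), (89648, 1724), (91372, 1724), (93096, 1724), (94820, 1724), (96544, 1724), (98268, 1724), (99992, 1724), (101716, 1724), (103440, 1724), (105164,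 1724), (106888, 1724), (108612, 1724), (110336, 1724), (112060, 1724), (113784, 1724), (115508, 1724), (117232, 1724), (118956, 1724), (120680, 1724), (122404, 1724), (124128, 1724), (125852, 1724), (127576, 1724), (129300, 1724), (131024, 1724), (132748, 1724), (134472, 1724), (136196, 1724), (137920, 1724), (139644, 1724), (141368, 1724), (143092, 1724), (144816, 1724), (146540, 1724), (148264, 1724), (149988, 1724), (151712, 1724), (153436, 1724), (155160, 1724), (156884, 1724), (158608, 1724), (160332, 1724), (162056, 1724), (163780, 1724), (165504, 1724), (167228, 1724), (168952, 1724), (170676, 1724), (172400, 1724), (174124, 1724), (175848, 1724), (177572, 1724), (179296, 1724), (181020, 1724), (182744, 1724), (184468, 1724), (186192, 1724), (187916, 1724), (189640, 1724), (191364, 1724), (193088, 1724), (194812, 1724), (196536, 1724), (198260, 1724), (199984, 1724), (201708, 1724), (203432, 1724), (205156, 1724), (206880, 1724), (208604, 1724), (210328, 1724), (212052, 1724), (213776, 1724), (215500, 1724), (217224, 1724), (218948, 1724), (220672,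 1724), (222396, 1724), (224120, 1724), (225844, 1724), (227568, 1724), (229292, 1724), (231016, 1724), (232740, 1724), (234464, 1724), (236188, 1724), (237912, 1724), (239636, 1724), (241360, 1724), (243084, 1724), (244808, 1724), (246532, 1724), (248256, 1724), (249980, 1724), (251704, 1724), (253428, 1724), (255152, 1724), (256876, 1724)] : List (ℕ × ℕ)), allR c.1 c.2 (fun q => Nat.beq ((fun q => f8 (f8 (f10 (f8 (f8 (f10 (f8 (f8 (f10 (f8 (f8 (f10 (f8 (f8 (f10 (f8 (f8 (f10 (f8 (f8 (f10 (f8 (f8 (f10 (f8 (f8 (f10 (f8 (f8 (f10 (f8 (f8 (f10 (f8 (f8 (f10 (f8 (f8 (f10 (f8 (f8 (f10 (f8 (f8 (f10 (f8 (f8 (f10 (f8 (f8 (f10 (f8 (f8 (f10 (f8 (f8 (f10 (q)))))))))))))))))))))))))))))))))))))))))))))))))))))))))) q) ((fun q => q) q)) = true :=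
  all_cons rel2_0 (all_cons rel2_1 (all_cons rel2_2 (all_cons rel2_3 (all_cons rel2_4 (all_cons rel2_5 (all_cons rel2_6 (all_cons rel2_7 (all_cons rel2_8 (all_cons rel2_9 (all_cons rel2_10 (all_cons rel2_11 (all_cons rel2_12 (all_cons rel2_13 (all_cons rel2_14 (all_cons rel2_15 (all_cons rel2_16 (all_cons rel2_17 (all_cons rel2_18 (all_cons rel2_19 (all_cons rel2_20 (all_cons rel2_21 (all_cons rel2_22 (all_cons rel2_23 (all_cons rel2_24 (all_cons rel2_25 (all_cons rel2_26 (all_cons rel2_27 (all_cons rel2_28 (all_cons rel2_29 (all_cons rel2_30 (all_cons rel2_31 (all_cons rel2_32 (all_cons rel2_33 (all_cons rel2_34 (all_cons rel2_35 (all_cons rel2_36 (all_cons rel2_37 (all_cons rel2_38 (all_cons rel2_39 (all_cons rel2_40 (all_cons rel2_41 (all_cons rel2_42 (all_cons rel2_43 (all_cons rel2_44 (all_cons rel2_45 (all_cons rel2_46 (all_cons rel2_47 (all_cons rel2_48 (all_cons rel2_49 (all_cons rel2_50 (all_cons rel2_51 (all_cons rel2_52 (all_cons rel2_53 (all_cons rel2_54 (all_cons rel2_55 (all_cons rel2_56 (all_cons rel2_57 (all_cons rel2_58 (all_cons rel2_59 (all_cons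 rel2_60 (all_cons rel2_61 (all_cons rel2_62 (all_cons rel2_63 (all_cons rel2_64 (all_cons rel2_65 (all_cons rel2_66 (all_cons rel2_67 (all_cons rel2_68 (all_cons rel2_69 (all_cons rel2_70 (all_cons rel2_71 (all_cons rel2_72 (all_cons rel2_73 (all_cons rel2_74 (all_cons rel2_75 (all_cons rel2_76 (all_cons rel2_77 (all_cons rel2_78 (all_cons rel2_79 (all_cons rel2_80 (all_cons rel2_81 (all_cons rel2_82 (all_cons rel2_83 (all_cons rel2_84 (all_cons rel2_85 (all_cons rel2_86 (all_cons rel2_87 (all_cons rel2_88 (all_cons rel2_89 (all_cons rel2_90 (all_cons rel2_91 (all_cons rel2_92 (all_cons rel2_93 (all_cons rel2_94 (all_cons rel2_95 (all_cons rel2_96 (all_cons rel2_97 (all_cons rel2_98 (all_cons rel2_99 (all_cons rel2_100 (all_cons rel2_101 (all_cons rel2_102 (all_cons rel2_103 (all_cons rel2_104 (all_cons rel2_105 (all_cons rel2_106 (all_cons rel2_107 (all_cons rel2_108 (all_cons rel2_109 (all_cons rel2_110 (all_cons rel2_111 (all_cons rel2_112 (all_cons rel2_113 (all_cons rel2_114 (all_cons rel2_115 (all_cons rel2_116 (all_cons rel2_117 (all_cons rel2_118 (all_cons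 rel2_119 (all_cons rel2_120 (all_cons rel2_121 (all_cons rel2_122 (all_cons rel2_123 (all_cons rel2_124 (all_cons rel2_125 (all_cons rel2_126 (all_cons rel2_127 (all_cons rel2_128 (all_cons rel2_129 (all_cons rel2_130 (all_cons rel2_131 (all_cons rel2_132 (all_cons rel2_133 (all_cons rel2_134 (all_cons rel2_135 (all_cons rel2_136 (all_cons rel2_137 (all_cons rel2_138 (all_cons rel2_139 (all_cons rel2_140 (all_cons rel2_141 (all_cons rel2_142 (all_cons rel2_143 (all_cons rel2_144 (all_cons rel2_145 (all_cons rel2_146 (all_cons rel2_147 (all_cons rel2_148 (all_cons rel2_149 (all_nil))))))))))))))))))))))))))))))))))))))))))))))))))))))))))))))))))))))))))))))))))))))))))))))))))))))))))))))))))))))))))))))))))))))))))))))))))))))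

theorem rel2_grp1 : ∀ c ∈ ([(258600, 1724), (260324, 1724), (262048, 1724), (263772, 1724), (265496, 1724), (267220, 1724), (268944, 1724), (270668, 1724), (272392, 1724), (274116, 1724), (275840, 1724), (277564, 1724), (279288, 1724), (281012, 1724), (282736, 1724), (284460, 1724), (286184, 1724), (287908, 1724), (289632, 1724), (291356, 1724), (293080, 1724), (294804, 1724), (296528, 1724), (298252, 1724), (299976, 1724), (301700, 1724), (303424, 1724), (305148, 1724), (306872, 1724), (308596, 1724), (310320, 1724), (312044, 1724), (313768, 1724), (315492, 1724), (317216, 1724), (318940, 1724), (320664, 1724), (322388, 1724), (324112, 1724), (325836, 1724), (327560, 1724), (329284, 1724), (331008, 1724), (332732, 1724), (334456, 1724), (336180, 1724), (337904, 1724), (339628, 1724), (341352, 1724), (343076, 1724), (344800, 1724), (346524, 1724), (348248, 1724), (349972, 1724), (351696, 1724), (353420, 1724), (355144, 1724), (356868, 1724), (358592, 1724), (360316, 1724), (362040, 1724), (363764, 1724), (365488, 1724), (367212, 1724), (368936, 1724), (370660,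 1724), (372384, 1724), (374108, 1724), (375832, 1724), (377556, 1724), (379280, 1724), (381004, 1724), (382728, 1724), (384452, 1724), (386176, 1724), (387900, 1724), (389624, 1724), (391348, 1724), (393072, 1724), (394796, 1724), (396520, 1724), (398244, 1724), (399968, 1724), (401692, 1724), (403416, 1724), (405140, 1724), (406864, 1724), (408588, 1724), (410312, 1724), (412036, 1724), (413760, 1724), (415484, 1724), (417208, 1724), (418932, 1724), (420656, 1724), (422380, 1724), (424104, 1724), (425828, 1724), (427552, 1724), (429276, 1724), (431000, 1724), (432724, 1724), (434448, 1724), (436172, 1724), (437896, 1724), (439620, 1724), (441344, 1724), (443068, 1724), (444792, 1724), (446516, 1724), (448240, 1724), (449964, 1724), (451688, 1724), (453412, 1724), (455136, 1724), (456860, 1724), (458584, 1724), (460308, 1724), (462032, 1724), (463756, 1724), (465480, 1724), (467204, 1724), (468928, 1724), (470652, 1724), (472376, 1724), (474100, 1724), (475824, 1724), (477548, 1724), (479272, 1724), (480996, 1724), (482720, 1724), (484444, 1724), (486168,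 1724), (487892, 1724), (489616, 1724), (491340, 1724), (493064, 1724), (494788, 1724), (496512, 1724), (498236, 1724), (499960, 1724), (501684, 1724), (503408, 1724), (505132, 1724), (506856, 1724), (508580, 1724), (510304, 1724), (512028, 1724), (513752, 1724), (515476, 1724)] : List (ℕ × ℕ)), allR c.1 c.2 (fun q => Nat.beq ((fun q => f8 (f8 (f10 (f8 (f8 (f10 (f8 (f8 (f10 (f8 (f8 (f10 (f8 (f8 (f10 (f8 (f8 (f10 (f8 (f8 (f10 (f8 (f8 (f10 (f8 (f8 (f10 (f8 (f8 (f10 (f8 (f8 (f10 (f8 (f8 (f10 (f8 (f8 (f10 (f8 (f8 (f10 (f8 (f8 (f10 (f8 (f8 (f10 (f8 (f8 (f10 (f8 (f8 (f10 (f8 (f8 (f10 (q)))))))))))))))))))))))))))))))))))))))))))))))))))))))))) q) ((fun q => q) q)) = true :=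
  all_cons rel2_150 (all_cons rel2_151 (all_cons rel2_152 (all_cons rel2_153 (all_cons rel2_154 (all_cons rel2_155 (all_cons rel2_156 (all_cons rel2_157 (all_cons rel2_158 (all_cons rel2_159 (all_cons rel2_160 (all_cons rel2_161 (all_cons rel2_162 (all_cons rel2_163 (all_cons rel2_164 (all_cons rel2_165 (all_cons rel2_166 (all_cons rel2_167 (all_cons rel2_168 (all_cons rel2_169 (all_cons rel2_170 (all_cons rel2_171 (all_cons rel2_172 (all_cons rel2_173 (all_cons rel2_174 (all_cons rel2_175 (all_cons rel2_176 (all_cons rel2_177 (all_cons rel2_178 (all_cons rel2_179 (all_cons rel2_180 (all_cons rel2_181 (all_cons rel2_182 (all_cons rel2_183 (all_cons rel2_184 (all_cons rel2_185 (all_cons rel2_186 (all_cons rel2_187 (all_cons rel2_188 (all_cons rel2_189 (all_cons rel2_190 (all_cons rel2_191 (all_cons rel2_192 (all_cons rel2_193 (all_cons rel2_194 (all_cons rel2_195 (all_cons rel2_196 (all_cons rel2_197 (all_cons rel2_198 (all_cons rel2_199 (all_cons rel2_200 (all_cons rel2_201 (all_cons rel2_202 (all_cons rel2_203 (all_cons rel2_204 (all_cons rel2_205 (all_cons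 rel2_206 (all_cons rel2_207 (all_cons rel2_208 (all_cons rel2_209 (all_cons rel2_210 (all_cons rel2_211 (all_cons rel2_212 (all_cons rel2_213 (all_cons rel2_214 (all_cons rel2_215 (all_cons rel2_216 (all_cons rel2_217 (all_cons rel2_218 (all_cons rel2_219 (all_cons rel2_220 (all_cons rel2_221 (all_cons rel2_222 (all_cons rel2_223 (all_cons rel2_224 (all_cons rel2_225 (all_cons rel2_226 (all_cons rel2_227 (all_cons rel2_228 (all_cons rel2_229 (all_cons rel2_230 (all_cons rel2_231 (all_cons rel2_232 (all_cons rel2_233 (all_cons rel2_234 (all_cons rel2_235 (all_cons rel2_236 (all_cons rel2_237 (all_cons rel2_238 (all_cons rel2_239 (all_cons rel2_240 (all_cons rel2_241 (all_cons rel2_242 (all_cons rel2_243 (all_cons rel2_244 (all_cons rel2_245 (all_cons rel2_246 (all_cons rel2_247 (all_cons rel2_248 (all_cons rel2_249 (all_cons rel2_250 (all_cons rel2_251 (all_cons rel2_252 (all_cons rel2_253 (all_cons rel2_254 (all_cons rel2_255 (all_cons rel2_256 (all_cons rel2_257 (all_cons rel2_258 (all_cons rel2_259 (all_cons rel2_260 (all_cons rel2_261 (all_cons rel2_262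 (all_cons rel2_263 (all_cons rel2_264 (all_cons rel2_265 (all_cons rel2_266 (all_cons rel2_267 (all_cons rel2_268 (all_cons rel2_269 (all_cons rel2_270 (all_cons rel2_271 (all_cons rel2_272 (all_cons rel2_273 (all_cons rel2_274 (all_cons rel2_275 (all_cons rel2_276 (all_cons rel2_277 (all_cons rel2_278 (all_cons rel2_279 (all_cons rel2_280 (all_cons rel2_281 (all_cons rel2_282 (all_cons rel2_283 (all_cons rel2_284 (all_cons rel2_285 (all_cons rel2_286 (all_cons rel2_287 (all_cons rel2_288 (all_cons rel2_289 (all_cons rel2_290 (all_cons rel2_291 (all_cons rel2_292 (all_cons rel2_293 (all_cons rel2_294 (all_cons rel2_295 (all_cons rel2_296 (all_cons rel2_297 (all_cons rel2_298 (all_cons rel2_299 (all_nil))))))))))))))))))))))))))))))))))))))))))))))))))))))))))))))))))))))))))))))))))))))))))))))))))))))))))))))))))))))))))))))))))))))))))))))))))))))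

theorem rel2_grp2 : ∀ c ∈ ([(517200, 1724), (518924, 1724), (520648, 1724), (522372, 1724), (524096, 1724), (525820, 1724), (527544, 1724), (529268, 1724), (530992, 1724), (532716, 1724), (534440, 1724), (536164, 1724), (537888, 1724), (539612, 1724), (541336, 1724), (543060, 1724), (544784, 1724), (546508, 1724), (548232, 1724), (549956, 1724), (551680, 1724), (553404, 1724), (555128, 1724), (556852, 1724), (558576, 1724), (560300, 1724), (562024, 1724), (563748, 1724), (565472, 1724), (567196, 1724), (568920, 1724), (570644, 1724), (572368, 1724), (574092, 1724), (575816, 1724), (577540, 1724), (579264, 1724), (580988, 1724), (582712, 1724), (584436, 1724), (586160, 1724), (587884, 1724), (589608, 1724), (591332, 1724), (593056, 1724), (594780, 1724), (596504, 1724), (598228, 1724), (599952, 1724), (601676, 1724), (603400, 1724), (605124, 1724), (606848, 1724), (608572, 1724), (610296, 1724), (612020, 1724), (613744, 1724), (615468, 1724), (617192, 1724), (618916, 1724), (620640, 1724), (622364, 1724), (624088, 1724), (625812, 1724), (627536, 1724), (629260,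 1724), (630984, 1724), (632708, 1724), (634432, 1724), (636156, 1724), (637880, 1724), (639604, 1724), (641328, 1724), (643052, 1724), (644776, 1724), (646500, 1724), (648224, 1724), (649948, 1724), (651672, 1724), (653396, 1724), (655120, 1724), (656844, 1724), (658568, 1724), (660292, 1724), (662016, 1724), (663740, 1724), (665464, 1724), (667188, 1724), (668912, 1724), (670636, 1724), (672360, 1724), (674084, 1724), (675808, 1724), (677532, 1724), (679256, 1724), (680980, 1724), (682704, 1724), (684428, 1724), (686152, 1724), (687876, 1724), (689600, 1724), (691324, 1724), (693048, 1724), (694772, 1724), (696496, 1724), (698220, 1724), (699944, 1724), (701668, 1724), (703392, 1724), (705116, 1724), (706840, 1724), (708564, 1724), (710288, 1724), (712012, 1724), (713736, 1724), (715460, 1724), (717184, 1724), (718908, 1724), (720632, 1724), (722356, 1724), (724080, 1724), (725804, 1724), (727528, 1724), (729252, 1724), (730976, 1724), (732700, 1724), (734424, 1724), (736148, 1724), (737872, 1724), (739596, 1724), (741320, 1724), (743044, 1724), (744768,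 1724), (746492, 1724), (748216, 1724), (749940, 1724), (751664, 1724), (753388, 1724), (755112, 1724), (756836, 1724), (758560, 1724), (760284, 1724), (762008, 1724), (763732, 1724), (765456, 1724), (767180, 1724), (768904, 1724), (770628, 1724), (772352, 1724), (774076, 1724)] : List (ℕ × ℕ)), allR c.1 c.2 (fun q => Nat.beq ((fun q => f8 (f8 (f10 (f8 (f8 (f10 (f8 (f8 (f10 (f8 (f8 (f10 (f8 (f8 (f10 (f8 (f8 (f10 (f8 (f8 (f10 (f8 (f8 (f10 (f8 (f8 (f10 (f8 (f8 (f10 (f8 (f8 (f10 (f8 (f8 (f10 (f8 (f8 (f10 (f8 (f8 (f10 (f8 (f8 (f10 (f8 (f8 (f10 (f8 (f8 (f10 (f8 (f8 (f10 (f8 (f8 (f10 (q)))))))))))))))))))))))))))))))))))))))))))))))))))))))))) q) ((fun q => q) q)) = true :=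
  all_cons rel2_300 (all_cons rel2_301 (all_cons rel2_302 (all_cons rel2_303 (all_cons rel2_304 (all_cons rel2_305 (all_cons rel2_306 (all_cons rel2_307 (all_cons rel2_308 (all_cons rel2_309 (all_cons rel2_310 (all_cons rel2_311 (all_cons rel2_312 (all_cons rel2_313 (all_cons rel2_314 (all_cons rel2_315 (all_cons rel2_316 (all_cons rel2_317 (all_cons rel2_318 (all_cons rel2_319 (all_cons rel2_320 (all_cons rel2_321 (all_cons rel2_322 (all_cons rel2_323 (all_cons rel2_324 (all_cons rel2_325 (all_cons rel2_326 (all_cons rel2_327 (all_cons rel2_328 (all_cons rel2_329 (all_cons rel2_330 (all_cons rel2_331 (all_cons rel2_332 (all_cons rel2_333 (all_cons rel2_334 (all_cons rel2_335 (all_cons rel2_336 (all_cons rel2_337 (all_cons rel2_338 (all_cons rel2_339 (all_cons rel2_340 (all_cons rel2_341 (all_cons rel2_342 (all_cons rel2_343 (all_cons rel2_344 (all_cons rel2_345 (all_cons rel2_346 (all_cons rel2_347 (all_cons rel2_348 (all_cons rel2_349 (all_cons rel2_350 (all_cons rel2_351 (all_cons rel2_352 (all_cons rel2_353 (all_cons rel2_354 (all_cons rel2_355 (all_cons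 rel2_356 (all_cons rel2_357 (all_cons rel2_358 (all_cons rel2_359 (all_cons rel2_360 (all_cons rel2_361 (all_cons rel2_362 (all_cons rel2_363 (all_cons rel2_364 (all_cons rel2_365 (all_cons rel2_366 (all_cons rel2_367 (all_cons rel2_368 (all_cons rel2_369 (all_cons rel2_370 (all_cons rel2_371 (all_cons rel2_372 (all_cons rel2_373 (all_cons rel2_374 (all_cons rel2_375 (all_cons rel2_376 (all_cons rel2_377 (all_cons rel2_378 (all_cons rel2_379 (all_cons rel2_380 (all_cons rel2_381 (all_cons rel2_382 (all_cons rel2_383 (all_cons rel2_384 (all_cons rel2_385 (all_cons rel2_386 (all_cons rel2_387 (all_cons rel2_388 (all_cons rel2_389 (all_cons rel2_390 (all_cons rel2_391 (all_cons rel2_392 (all_cons rel2_393 (all_cons rel2_394 (all_cons rel2_395 (all_cons rel2_396 (all_cons rel2_397 (all_cons rel2_398 (all_cons rel2_399 (all_cons rel2_400 (all_cons rel2_401 (all_cons rel2_402 (all_cons rel2_403 (all_cons rel2_404 (all_cons rel2_405 (all_cons rel2_406 (all_cons rel2_407 (all_cons rel2_408 (all_cons rel2_409 (all_cons rel2_410 (all_cons rel2_411 (all_cons rel2_412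 (all_cons rel2_413 (all_cons rel2_414 (all_cons rel2_415 (all_cons rel2_416 (all_cons rel2_417 (all_cons rel2_418 (all_cons rel2_419 (all_cons rel2_420 (all_cons rel2_421 (all_cons rel2_422 (all_cons rel2_423 (all_cons rel2_424 (all_cons rel2_425 (all_cons rel2_426 (all_cons rel2_427 (all_cons rel2_428 (all_cons rel2_429 (all_cons rel2_430 (all_cons rel2_431 (all_cons rel2_432 (all_cons rel2_433 (all_cons rel2_434 (all_cons rel2_435 (all_cons rel2_436 (all_cons rel2_437 (all_cons rel2_438 (all_cons rel2_439 (all_cons rel2_440 (all_cons rel2_441 (all_cons rel2_442 (all_cons rel2_443 (all_cons rel2_444 (all_cons rel2_445 (all_cons rel2_446 (all_cons rel2_447 (all_cons rel2_448 (all_cons rel2_449 (all_nil))))))))))))))))))))))))))))))))))))))))))))))))))))))))))))))))))))))))))))))))))))))))))))))))))))))))))))))))))))))))))))))))))))))))))))))))))))))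

theorem rel2_grp3 : ∀ c ∈ ([(775800, 1724), (777524, 1724), (779248, 1724), (780972, 1724), (782696, 1724), (784420, 1724), (786144, 1724), (787868, 1724), (789592, 1724), (791316, 1724), (793040, 1724), (794764, 1724), (796488, 1724), (798212, 1724), (799936, 1724), (801660, 1724), (803384, 1724), (805108, 1724), (806832, 1724), (808556, 1724), (810280, 1724), (812004, 1724), (813728, 1724), (815452, 1724), (817176, 1724), (818900, 1724), (820624, 1724), (822348, 1724), (824072, 1724), (825796, 1724), (827520, 1724), (829244, 1724), (830968, 1724), (832692, 1724), (834416, 1724), (836140, 1724), (837864, 1724), (839588, 1724), (841312, 1724), (843036, 1724), (844760, 1724), (846484, 1724), (848208, 1724), (849932, 1724), (851656, 1724), (853380, 1724), (855104, 1724), (856828, 1724), (858552, 1724), (860276, 1724), (862000, 1724), (863724, 1724), (865448, 1724), (867172, 1724), (868896, 1724), (870620, 1724), (872344, 1724), (874068, 1724), (875792, 1724), (877516, 1724), (879240, 1724), (880964, 1724), (882688, 1724), (884412, 1724), (886136, 1724), (887860,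 1724), (889584, 1724), (891308, 1724), (893032, 1724), (894756, 1724), (896480, 1724), (898204, 1724), (899928, 1724), (901652, 1724), (903376, 1724), (905100, 1724), (906824, 1724), (908548, 1724), (910272, 1724), (911996, 1724), (913720, 1724), (915444, 1724), (917168, 1724), (918892, 1724), (920616, 1724), (922340, 1724), (924064, 1724), (925788, 1724), (927512, 1724), (929236, 1724), (930960, 1724), (932684, 1724), (934408, 1724), (936132, 1724), (937856, 1724), (939580, 1724), (941304, 1724), (943028, 1724), (944752, 1724), (946476, 1724), (948200, 1724), (949924, 1724), (951648, 1724), (953372, 1724), (955096, 1724), (956820, 1724), (958544, 1724), (960268, 1724), (961992, 1724), (963716, 1724), (965440, 1724), (967164, 1724), (968888, 1724), (970612, 1724), (972336, 1724), (974060, 1724), (975784, 1724), (977508, 1724), (979232, 1724), (980956, 1724), (982680, 1724), (984404, 1724), (986128, 1724), (987852, 1724), (989576, 1724), (991300, 1724), (993024, 1724), (994748, 1724), (996472, 1724), (998196, 1724), (999920, 1724), (1001644, 1724), (1003368,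 1724), (1005092, 1724), (1006816, 1724), (1008540, 1724), (1010264, 1724), (1011988, 1724), (1013712, 1724), (1015436, 1724), (1017160, 1724), (1018884, 1724), (1020608, 1724), (1022332, 1724), (1024056, 1724), (1025780, 1724), (1027504, 1724), (1029228, 1724), (1030952, 1724), (1032676, 1724)] : List (ℕ × ℕ)), allR c.1 c.2 (fun q => Nat.beq ((fun q => f8 (f8 (f10 (f8 (f8 (f10 (f8 (f8 (f10 (f8 (f8 (f10 (f8 (f8 (f10 (f8 (f8 (f10 (f8 (f8 (f10 (f8 (f8 (f10 (f8 (f8 (f10 (f8 (f8 (f10 (f8 (f8 (f10 (f8 (f8 (f10 (f8 (f8 (f10 (f8 (f8 (f10 (f8 (f8 (f10 (f8 (f8 (f10 (f8 (f8 (f10 (f8 (f8 (f10 (f8 (f8 (f10 (q)))))))))))))))))))))))))))))))))))))))))))))))))))))))))) q) ((fun q => q) q)) = true :=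
  all_cons rel2_450 (all_cons rel2_451 (all_cons rel2_452 (all_cons rel2_453 (all_cons rel2_454 (all_cons rel2_455 (all_cons rel2_456 (all_cons rel2_457 (all_cons rel2_458 (all_cons rel2_459 (all_cons rel2_460 (all_cons rel2_461 (all_cons rel2_462 (all_cons rel2_463 (all_cons rel2_464 (all_cons rel2_465 (all_cons rel2_466 (all_cons rel2_467 (all_cons rel2_468 (all_cons rel2_469 (all_cons rel2_470 (all_cons rel2_471 (all_cons rel2_472 (all_cons rel2_473 (all_cons rel2_474 (all_cons rel2_475 (all_cons rel2_476 (all_cons rel2_477 (all_cons rel2_478 (all_cons rel2_479 (all_cons rel2_480 (all_cons rel2_481 (all_cons rel2_482 (all_cons rel2_483 (all_cons rel2_484 (all_cons rel2_485 (all_cons rel2_486 (all_cons rel2_487 (all_cons rel2_488 (all_cons rel2_489 (all_cons rel2_490 (all_cons rel2_491 (all_cons rel2_492 (all_cons rel2_493 (all_cons rel2_494 (all_cons rel2_495 (all_cons rel2_496 (all_cons rel2_497 (all_cons rel2_498 (all_cons rel2_499 (all_cons rel2_500 (all_cons rel2_501 (all_cons rel2_502 (all_cons rel2_503 (all_cons rel2_504 (all_cons rel2_505 (all_cons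 rel2_506 (all_cons rel2_507 (all_cons rel2_508 (all_cons rel2_509 (all_cons rel2_510 (all_cons rel2_511 (all_cons rel2_512 (all_cons rel2_513 (all_cons rel2_514 (all_cons rel2_515 (all_cons rel2_516 (all_cons rel2_517 (all_cons rel2_518 (all_cons rel2_519 (all_cons rel2_520 (all_cons rel2_521 (all_cons rel2_522 (all_cons rel2_523 (all_cons rel2_524 (all_cons rel2_525 (all_cons rel2_526 (all_cons rel2_527 (all_cons rel2_528 (all_cons rel2_529 (all_cons rel2_530 (all_cons rel2_531 (all_cons rel2_532 (all_cons rel2_533 (all_cons rel2_534 (all_cons rel2_535 (all_cons rel2_536 (all_cons rel2_537 (all_cons rel2_538 (all_cons rel2_539 (all_cons rel2_540 (all_cons rel2_541 (all_cons rel2_542 (all_cons rel2_543 (all_cons rel2_544 (all_cons rel2_545 (all_cons rel2_546 (all_cons rel2_547 (all_cons rel2_548 (all_cons rel2_549 (all_cons rel2_550 (all_cons rel2_551 (all_cons rel2_552 (all_cons rel2_553 (all_cons rel2_554 (all_cons rel2_555 (all_cons rel2_556 (all_cons rel2_557 (all_cons rel2_558 (all_cons rel2_559 (all_cons rel2_560 (all_cons rel2_561 (all_cons rel2_562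 (all_cons rel2_563 (all_cons rel2_564 (all_cons rel2_565 (all_cons rel2_566 (all_cons rel2_567 (all_cons rel2_568 (all_cons rel2_569 (all_cons rel2_570 (all_cons rel2_571 (all_cons rel2_572 (all_cons rel2_573 (all_cons rel2_574 (all_cons rel2_575 (all_cons rel2_576 (all_cons rel2_577 (all_cons rel2_578 (all_cons rel2_579 (all_cons rel2_580 (all_cons rel2_581 (all_cons rel2_582 (all_cons rel2_583 (all_cons rel2_584 (all_cons rel2_585 (all_cons rel2_586 (all_cons rel2_587 (all_cons rel2_588 (all_cons rel2_589 (all_cons rel2_590 (all_cons rel2_591 (all_cons rel2_592 (all_cons rel2_593 (all_cons rel2_594 (all_cons rel2_595 (all_cons rel2_596 (all_cons rel2_597 (all_cons rel2_598 (all_cons rel2_599 (all_nil))))))))))))))))))))))))))))))))))))))))))))))))))))))))))))))))))))))))))))))))))))))))))))))))))))))))))))))))))))))))))))))))))))))))))))))))))))))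

theorem rel2_grp4 : ∀ c ∈ ([(1034400, 1724), (1036124, 1724), (1037848, 1724), (1039572, 1724), (1041296, 1724), (1043020, 1724), (1044744, 1724), (1046468, 1724), (1048192, 1724), (1049916, 1724), (1051640, 1724), (1053364, 1724), (1055088, 1724), (1056812, 1724), (1058536, 1724), (1060260, 1724), (1061984, 1724), (1063708, 1724), (1065432, 1724), (1067156, 1724), (1068880, 1724), (1070604, 1724), (1072328, 1724), (1074052, 1724), (1075776, 1724), (1077500, 1724), (1079224, 1724), (1080948, 1724), (1082672, 1724), (1084396, 1724), (1086120, 1724), (1087844, 1724), (1089568, 1724), (1091292, 1724), (1093016, 1724), (1094740, 1724), (1096464, 1724), (1098188, 1724), (1099912, 1724), (1101636, 1724), (1103360, 1724), (1105084, 1724), (1106808, 1724), (1108532, 1724), (1110256, 1724), (1111980, 1724), (1113704, 1724), (1115428, 1724), (1117152, 1724), (1118876, 1724), (1120600, 1724), (1122324, 1724), (1124048, 1724), (1125772, 1724), (1127496, 1724), (1129220, 1724), (1130944, 1724), (1132668, 1724), (1134392, 1724), (1136116, 1724), (1137840, 1724), (1139564,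 1724), (1141288, 1724), (1143012, 1724), (1144736, 1724), (1146460, 1724), (1148184, 1724), (1149908, 1724), (1151632, 1724), (1153356, 1724), (1155080, 1724), (1156804, 1724), (1158528, 1724), (1160252, 1724), (1161976, 1724), (1163700, 1724), (1165424, 1724), (1167148, 1724), (1168872, 1724), (1170596, 1724), (1172320, 1724), (1174044, 1724), (1175768, 1724), (1177492, 1724), (1179216, 1724), (1180940, 1724), (1182664, 1724), (1184388, 1724), (1186112, 1724), (1187836, 1724), (1189560, 1724), (1191284, 1724), (1193008, 1724), (1194732, 1724), (1196456, 1724), (1198180, 1724), (1199904, 1724), (1201628, 1724), (1203352, 1724), (1205076, 1724), (1206800, 1724), (1208524, 1724), (1210248, 1724), (1211972, 1724), (1213696, 1724), (1215420, 1724), (1217144, 1724), (1218868, 1724), (1220592, 1724), (1222316, 1724), (1224040, 1724), (1225764, 1724), (1227488, 1724), (1229212, 1724), (1230936, 1724), (1232660, 1724), (1234384, 1724), (1236108, 1724), (1237832, 1724), (1239556, 1724), (1241280, 1724), (1243004, 1724), (1244728, 1724), (1246452, 1724), (1248176, 1724),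 (1249900, 1724), (1251624, 1724), (1253348, 1724), (1255072, 1724), (1256796, 1724), (1258520, 1724), (1260244, 1724), (1261968, 1724), (1263692, 1724), (1265416, 1724), (1267140, 1724), (1268864, 1724), (1270588, 1724), (1272312, 1724), (1274036, 1724), (1275760, 1724), (1277484, 1724), (1279208, 1724), (1280932, 1724), (1282656, 1724), (1284380, 1724), (1286104, 1724), (1287828, 1724), (1289552, 1724), (1291276, 1724)] : List (ℕ × ℕ)), allR c.1 c.2 (fun q => Nat.beq ((fun q => f8 (f8 (f10 (f8 (f8 (f10 (f8 (f8 (f10 (f8 (f8 (f10 (f8 (f8 (f10 (f8 (f8 (f10 (f8 (f8 (f10 (f8 (f8 (f10 (f8 (f8 (f10 (f8 (f8 (f10 (f8 (f8 (f10 (f8 (f8 (f10 (f8 (f8 (f10 (f8 (f8 (f10 (f8 (f8 (f10 (f8 (f8 (f10 (f8 (f8 (f10 (f8 (f8 (f10 (f8 (f8 (f10 (q)))))))))))))))))))))))))))))))))))))))))))))))))))))))))) q) ((fun q => q) q)) = true :=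
  all_cons rel2_600 (all_cons rel2_601 (all_cons rel2_602 (all_cons rel2_603 (all_cons rel2_604 (all_cons rel2_605 (all_cons rel2_606 (all_cons rel2_607 (all_cons rel2_608 (all_cons rel2_609 (all_cons rel2_610 (all_cons rel2_611 (all_cons rel2_612 (all_cons rel2_613 (all_cons rel2_614 (all_cons rel2_615 (all_cons rel2_616 (all_cons rel2_617 (all_cons rel2_618 (all_cons rel2_619 (all_cons rel2_620 (all_cons rel2_621 (all_cons rel2_622 (all_cons rel2_623 (all_cons rel2_624 (all_cons rel2_625 (all_cons rel2_626 (all_cons rel2_627 (all_cons rel2_628 (all_cons rel2_629 (all_cons rel2_630 (all_cons rel2_631 (all_cons rel2_632 (all_cons rel2_633 (all_cons rel2_634 (all_cons rel2_635 (all_cons rel2_636 (all_cons rel2_637 (all_cons rel2_638 (all_cons rel2_639 (all_cons rel2_640 (all_cons rel2_641 (all_cons rel2_642 (all_cons rel2_643 (all_cons rel2_644 (all_cons rel2_645 (all_cons rel2_646 (all_cons rel2_647 (all_cons rel2_648 (all_cons rel2_649 (all_cons rel2_650 (all_cons rel2_651 (all_cons rel2_652 (all_cons rel2_653 (all_cons rel2_654 (all_cons rel2_655 (all_cons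 rel2_656 (all_cons rel2_657 (all_cons rel2_658 (all_cons rel2_659 (all_cons rel2_660 (all_cons rel2_661 (all_cons rel2_662 (all_cons rel2_663 (all_cons rel2_664 (all_cons rel2_665 (all_cons rel2_666 (all_cons rel2_667 (all_cons rel2_668 (all_cons rel2_669 (all_cons rel2_670 (all_cons rel2_671 (all_cons rel2_672 (all_cons rel2_673 (all_cons rel2_674 (all_cons rel2_675 (all_cons rel2_676 (all_cons rel2_677 (all_cons rel2_678 (all_cons rel2_679 (all_cons rel2_680 (all_cons rel2_681 (all_cons rel2_682 (all_cons rel2_683 (all_cons rel2_684 (all_cons rel2_685 (all_cons rel2_686 (all_cons rel2_687 (all_cons rel2_688 (all_cons rel2_689 (all_cons rel2_690 (all_cons rel2_691 (all_cons rel2_692 (all_cons rel2_693 (all_cons rel2_694 (all_cons rel2_695 (all_cons rel2_696 (all_cons rel2_697 (all_cons rel2_698 (all_cons rel2_699 (all_cons rel2_700 (all_cons rel2_701 (all_cons rel2_702 (all_cons rel2_703 (all_cons rel2_704 (all_cons rel2_705 (all_cons rel2_706 (all_cons rel2_707 (all_cons rel2_708 (all_cons rel2_709 (all_cons rel2_710 (all_cons rel2_711 (all_cons rel2_712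 (all_cons rel2_713 (all_cons rel2_714 (all_cons rel2_715 (all_cons rel2_716 (all_cons rel2_717 (all_cons rel2_718 (all_cons rel2_719 (all_cons rel2_720 (all_cons rel2_721 (all_cons rel2_722 (all_cons rel2_723 (all_cons rel2_724 (all_cons rel2_725 (all_cons rel2_726 (all_cons rel2_727 (all_cons rel2_728 (all_cons rel2_729 (all_cons rel2_730 (all_cons rel2_731 (all_cons rel2_732 (all_cons rel2_733 (all_cons rel2_734 (all_cons rel2_735 (all_cons rel2_736 (all_cons rel2_737 (all_cons rel2_738 (all_cons rel2_739 (all_cons rel2_740 (all_cons rel2_741 (all_cons rel2_742 (all_cons rel2_743 (all_cons rel2_744 (all_cons rel2_745 (all_cons rel2_746 (all_cons rel2_747 (all_cons rel2_748 (all_cons rel2_749 (all_nil))))))))))))))))))))))))))))))))))))))))))))))))))))))))))))))))))))))))))))))))))))))))))))))))))))))))))))))))))))))))))))))))))))))))))))))))))))))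

theorem rel2_grp5 : ∀ c ∈ ([(1293000, 1724), (1294724, 1724), (1296448, 1724), (1298172, 1724), (1299896, 1724), (1301620, 1724), (1303344, 1724), (1305068, 1724), (1306792, 1724), (1308516, 1724), (1310240, 1724), (1311964, 1724), (1313688, 1724), (1315412, 1724), (1317136, 1724), (1318860, 1724), (1320584, 1724), (1322308, 1724), (1324032, 1724), (1325756, 1724), (1327480, 1724), (1329204, 1724), (1330928, 1724), (1332652, 1724), (1334376, 1724), (1336100, 1724), (1337824, 1724), (1339548, 1724), (1341272, 1724), (1342996, 1724), (1344720, 1724), (1346444, 1724), (1348168, 1724), (1349892, 1724), (1351616, 1724), (1353340, 1724), (1355064, 1724), (1356788, 1724), (1358512, 1724), (1360236, 1724), (1361960, 1724), (1363684, 1724), (1365408, 1724), (1367132, 1724), (1368856, 1724), (1370580, 1724), (1372304, 1724), (1374028, 1724), (1375752, 1724), (1377476, 1724), (1379200, 1724), (1380924, 1724), (1382648, 1724), (1384372, 1724), (1386096, 1724), (1387820, 1724), (1389544, 1724), (1391268, 1724), (1392992, 1724), (1394716, 1724), (1396440, 1724), (1398164,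 1724), (1399888, 1724), (1401612, 1724), (1403336, 1724), (1405060, 1724), (1406784, 1724), (1408508, 1724), (1410232, 1724), (1411956, 1724), (1413680, 1724), (1415404, 1724), (1417128, 1724), (1418852, 1724), (1420576, 1724), (1422300, 1724), (1424024, 1724), (1425748, 1724), (1427472, 1724), (1429196, 1724), (1430920, 1724), (1432644, 1724), (1434368, 1724), (1436092, 1724), (1437816, 1724), (1439540, 1724), (1441264, 1724), (1442988, 1724), (1444712, 1724), (1446436, 1724), (1448160, 1724), (1449884, 1724), (1451608, 1724), (1453332, 1724), (1455056, 1724), (1456780, 1724), (1458504, 1724), (1460228, 1724), (1461952, 1724), (1463676, 1724), (1465400, 1724), (1467124, 1724), (1468848, 1724), (1470572, 1724), (1472296, 1724), (1474020, 1724), (1475744, 1724), (1477468, 1724), (1479192, 1724), (1480916, 1724), (1482640, 1724), (1484364, 1724), (1486088, 1724), (1487812, 1724), (1489536, 1724), (1491260, 1724), (1492984, 1724), (1494708, 1724), (1496432, 1724), (1498156, 1724), (1499880, 1724), (1501604, 1724), (1503328, 1724), (1505052, 1724), (1506776, 1724),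 (1508500, 1724), (1510224, 1724), (1511948, 1724), (1513672, 1724), (1515396, 1724), (1517120, 1724), (1518844, 1724), (1520568, 1724), (1522292, 1724), (1524016, 1724), (1525740, 1724), (1527464, 1724), (1529188, 1724), (1530912, 1724), (1532636, 1724), (1534360, 1724), (1536084, 1724), (1537808, 1192)] : List (ℕ × ℕ)), allR c.1 c.2 (fun q => Nat.beq ((fun q => f8 (f8 (f10 (f8 (f8 (f10 (f8 (f8 (f10 (f8 (f8 (f10 (f8 (f8 (f10 (f8 (f8 (f10 (f8 (f8 (f10 (f8 (f8 (f10 (f8 (f8 (f10 (f8 (f8 (f10 (f8 (f8 (f10 (f8 (f8 (f10 (f8 (f8 (f10 (f8 (f8 (f10 (f8 (f8 (f10 (f8 (f8 (f10 (f8 (f8 (f10 (f8 (f8 (f10 (f8 (f8 (f10 (q)))))))))))))))))))))))))))))))))))))))))))))))))))))))))) q) ((fun q => q) q)) = true :=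
  all_cons rel2_750 (all_cons rel2_751 (all_cons rel2_752 (all_cons rel2_753 (all_cons rel2_754 (all_cons rel2_755 (all_cons rel2_756 (all_cons rel2_757 (all_cons rel2_758 (all_cons rel2_759 (all_cons rel2_760 (all_cons rel2_761 (all_cons rel2_762 (all_cons rel2_763 (all_cons rel2_764 (all_cons rel2_765 (all_cons rel2_766 (all_cons rel2_767 (all_cons rel2_768 (all_cons rel2_769 (all_cons rel2_770 (all_cons rel2_771 (all_cons rel2_772 (all_cons rel2_773 (all_cons rel2_774 (all_cons rel2_775 (all_cons rel2_776 (all_cons rel2_777 (all_cons rel2_778 (all_cons rel2_779 (all_cons rel2_780 (all_cons rel2_781 (all_cons rel2_782 (all_cons rel2_783 (all_cons rel2_784 (all_cons rel2_785 (all_cons rel2_786 (all_cons rel2_787 (all_cons rel2_788 (all_cons rel2_789 (all_cons rel2_790 (all_cons rel2_791 (all_cons rel2_792 (all_cons rel2_793 (all_cons rel2_794 (all_cons rel2_795 (all_cons rel2_796 (all_cons rel2_797 (all_cons rel2_798 (all_cons rel2_799 (all_cons rel2_800 (all_cons rel2_801 (all_cons rel2_802 (all_cons rel2_803 (all_cons rel2_804 (all_cons rel2_805 (all_cons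 rel2_806 (all_cons rel2_807 (all_cons rel2_808 (all_cons rel2_809 (all_cons rel2_810 (all_cons rel2_811 (all_cons rel2_812 (all_cons rel2_813 (all_cons rel2_814 (all_cons rel2_815 (all_cons rel2_816 (all_cons rel2_817 (all_cons rel2_818 (all_cons rel2_819 (all_cons rel2_820 (all_cons rel2_821 (all_cons rel2_822 (all_cons rel2_823 (all_cons rel2_824 (all_cons rel2_825 (all_cons rel2_826 (all_cons rel2_827 (all_cons rel2_828 (all_cons rel2_829 (all_cons rel2_830 (all_cons rel2_831 (all_cons rel2_832 (all_cons rel2_833 (all_cons rel2_834 (all_cons rel2_835 (all_cons rel2_836 (all_cons rel2_837 (all_cons rel2_838 (all_cons rel2_839 (all_cons rel2_840 (all_cons rel2_841 (all_cons rel2_842 (all_cons rel2_843 (all_cons rel2_844 (all_cons rel2_845 (all_cons rel2_846 (all_cons rel2_847 (all_cons rel2_848 (all_cons rel2_849 (all_cons rel2_850 (all_cons rel2_851 (all_cons rel2_852 (all_cons rel2_853 (all_cons rel2_854 (all_cons rel2_855 (all_cons rel2_856 (all_cons rel2_857 (all_cons rel2_858 (all_cons rel2_859 (all_cons rel2_860 (all_cons rel2_861 (all_cons rel2_862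 (all_cons rel2_863 (all_cons rel2_864 (all_cons rel2_865 (all_cons rel2_866 (all_cons rel2_867 (all_cons rel2_868 (all_cons rel2_869 (all_cons rel2_870 (all_cons rel2_871 (all_cons rel2_872 (all_cons rel2_873 (all_cons rel2_874 (all_cons rel2_875 (all_cons rel2_876 (all_cons rel2_877 (all_cons rel2_878 (all_cons rel2_879 (all_cons rel2_880 (all_cons rel2_881 (all_cons rel2_882 (all_cons rel2_883 (all_cons rel2_884 (all_cons rel2_885 (all_cons rel2_886 (all_cons rel2_887 (all_cons rel2_888 (all_cons rel2_889 (all_cons rel2_890 (all_cons rel2_891 (all_cons rel2_892 (all_nil)))))))))))))))))))))))))))))))))))))))))))))))))))))))))))))))))))))))))))))))))))))))))))))))))))))))))))))))))))))))))))))))))))))))))))))))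

/-- a relation -/
theorem rel2 : ∀ q < 1539000, (evalF f8 f9 f10 [0, 0, 2])^[19] q = (fun q => q) q :=
  eq_of_chunks (f := (fun q => f8 (f8 (f10 (f8 (f8 (f10 (f8 (f8 (f10 (f8 (f8 (f10 (f8 (f8 (f10 (f8 (f8 (f10 (f8 (f8 (f10 (f8 (f8 (f10 (f8 (f8 (f10 (f8 (f8 (f10 (f8 (f8 (f10 (f8 (f8 (f10 (f8 (f8 (f10 (f8 (f8 (f10 (f8 (f8 (f10 (f8 (f8 (f10 (f8 (f8 (f10 (f8 (f8 (f10 (f8 (f8 (f10 (q))))))))))))))))))))))))))))))))))))))))))))))))))))))))))) (g := (fun q => q)) ([(0, 1724), (1724, 1724), (3448, 1724), (5172, 1724), (6896, 1724), (8620, 1724), (10344, 1724), (12068, 1724), (13792, 1724), (15516, 1724), (17240, 1724), (18964, 1724), (20688, 1724), (22412, 1724), (24136, 1724), (25860, 1724), (27584, 1724), (29308, 1724), (31032, 1724), (32756, 1724), (34480, 1724), (36204, 1724), (37928, 1724), (39652, 1724), (41376, 1724), (43100, 1724), (44824, 1724), (46548, 1724), (48272, 1724), (49996, 1724), (51720, 1724), (53444, 1724), (55168, 1724), (56892, 1724), (58616, 1724), (60340, 1724), (62064, 1724), (63788, 1724), (65512, 1724), (67236, 1724), (68960, 1724), (70684,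 1724), (72408, 1724), (74132, 1724), (75856, 1724), (77580, 1724), (79304, 1724), (81028, 1724), (82752, 1724), (84476, 1724), (86200, 1724), (87924, 1724), (89648, 1724), (91372, 1724), (93096, 1724), (94820, 1724), (96544, 1724), (98268, 1724), (99992, 1724), (101716, 1724), (103440, 1724), (105164, 1724), (106888, 1724), (108612, 1724), (110336, 1724), (112060, 1724), (113784, 1724), (115508, 1724), (117232, 1724), (118956, 1724), (120680, 1724), (122404, 1724), (124128, 1724), (125852, 1724), (127576, 1724), (129300, 1724), (131024, 1724), (132748, 1724), (134472, 1724), (136196, 1724), (137920, 1724), (139644, 1724), (141368, 1724), (143092, 1724), (144816, 1724), (146540, 1724), (148264, 1724), (149988, 1724), (151712, 1724), (153436, 1724), (155160, 1724), (156884, 1724), (158608, 1724), (160332, 1724), (162056, 1724), (163780, 1724), (165504, 1724), (167228, 1724), (168952, 1724), (170676, 1724), (172400, 1724), (174124, 1724), (175848, 1724), (177572, 1724), (179296, 1724), (181020, 1724), (182744, 1724), (184468, 1724), (186192, 1724), (187916, 1724),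 (189640, 1724), (191364, 1724), (193088, 1724), (194812, 1724), (196536, 1724), (198260, 1724), (199984, 1724), (201708, 1724), (203432, 1724), (205156, 1724), (206880, 1724), (208604, 1724), (210328, 1724), (212052, 1724), (213776, 1724), (215500, 1724), (217224, 1724), (218948, 1724), (220672, 1724), (222396, 1724), (224120, 1724), (225844, 1724), (227568, 1724), (229292, 1724), (231016, 1724), (232740, 1724), (234464, 1724), (236188, 1724), (237912, 1724), (239636, 1724), (241360, 1724), (243084, 1724), (244808, 1724), (246532, 1724), (248256, 1724), (249980, 1724), (251704, 1724), (253428, 1724), (255152, 1724), (256876, 1724)] ++ [(258600, 1724), (260324, 1724), (262048, 1724), (263772, 1724), (265496, 1724), (267220, 1724), (268944, 1724), (270668, 1724), (272392, 1724), (274116, 1724), (275840, 1724), (277564, 1724), (279288, 1724), (281012, 1724), (282736, 1724), (284460, 1724), (286184, 1724), (287908, 1724), (289632, 1724), (291356, 1724), (293080, 1724), (294804, 1724), (296528, 1724), (298252, 1724), (299976, 1724), (301700, 1724), (303424, 1724),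 (305148, 1724), (306872, 1724), (308596, 1724), (310320, 1724), (312044, 1724), (313768, 1724), (315492, 1724), (317216, 1724), (318940, 1724), (320664, 1724), (322388, 1724), (324112, 1724), (325836, 1724), (327560, 1724), (329284, 1724), (331008, 1724), (332732, 1724), (334456, 1724), (336180, 1724), (337904, 1724), (339628, 1724), (341352, 1724), (343076, 1724), (344800, 1724), (346524, 1724), (348248, 1724), (349972, 1724), (351696, 1724), (353420, 1724), (355144, 1724), (356868, 1724), (358592, 1724), (360316, 1724), (362040, 1724), (363764, 1724), (365488, 1724), (367212, 1724), (368936, 1724), (370660, 1724), (372384, 1724), (374108, 1724), (375832, 1724), (377556, 1724), (379280, 1724), (381004, 1724), (382728, 1724), (384452, 1724), (386176, 1724), (387900, 1724), (389624, 1724), (391348, 1724), (393072, 1724), (394796, 1724), (396520, 1724), (398244, 1724), (399968, 1724), (401692, 1724), (403416, 1724), (405140, 1724), (406864, 1724), (408588, 1724), (410312, 1724), (412036, 1724), (413760, 1724), (415484, 1724), (417208, 1724), (418932, 1724),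 (420656, 1724), (422380, 1724), (424104, 1724), (425828, 1724), (427552, 1724), (429276, 1724), (431000, 1724), (432724, 1724), (434448, 1724), (436172, 1724), (437896, 1724), (439620, 1724), (441344, 1724), (443068, 1724), (444792, 1724), (446516, 1724), (448240, 1724), (449964, 1724), (451688, 1724), (453412, 1724), (455136, 1724), (456860, 1724), (458584, 1724), (460308, 1724), (462032, 1724), (463756, 1724), (465480, 1724), (467204, 1724), (468928, 1724), (470652, 1724), (472376, 1724), (474100, 1724), (475824, 1724), (477548, 1724), (479272, 1724), (480996, 1724), (482720, 1724), (484444, 1724), (486168, 1724), (487892, 1724), (489616, 1724), (491340, 1724), (493064, 1724), (494788, 1724), (496512, 1724), (498236, 1724), (499960, 1724), (501684, 1724), (503408, 1724), (505132, 1724), (506856, 1724), (508580, 1724), (510304, 1724), (512028, 1724), (513752, 1724), (515476, 1724)] ++ [(517200, 1724), (518924, 1724), (520648, 1724), (522372, 1724), (524096, 1724), (525820, 1724), (527544, 1724), (529268, 1724), (530992, 1724), (532716, 1724), (534440, 1724),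 (536164, 1724), (537888, 1724), (539612, 1724), (541336, 1724), (543060, 1724), (544784, 1724), (546508, 1724), (548232, 1724), (549956, 1724), (551680, 1724), (553404, 1724), (555128, 1724), (556852, 1724), (558576, 1724), (560300, 1724), (562024, 1724), (563748, 1724), (565472, 1724), (567196, 1724), (568920, 1724), (570644, 1724), (572368, 1724), (574092, 1724), (575816, 1724), (577540, 1724), (579264, 1724), (580988, 1724), (582712, 1724), (584436, 1724), (586160, 1724), (587884, 1724), (589608, 1724), (591332, 1724), (593056, 1724), (594780, 1724), (596504, 1724), (598228, 1724), (599952, 1724), (601676, 1724), (603400, 1724), (605124, 1724), (606848, 1724), (608572, 1724), (610296, 1724), (612020, 1724), (613744, 1724), (615468, 1724), (617192, 1724), (618916, 1724), (620640, 1724), (622364, 1724), (624088, 1724), (625812, 1724), (627536, 1724), (629260, 1724), (630984, 1724), (632708, 1724), (634432, 1724), (636156, 1724), (637880, 1724), (639604, 1724), (641328, 1724), (643052, 1724), (644776, 1724), (646500, 1724), (648224, 1724), (649948, 1724),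 (651672, 1724), (653396, 1724), (655120, 1724), (656844, 1724), (658568, 1724), (660292, 1724), (662016, 1724), (663740, 1724), (665464, 1724), (667188, 1724), (668912, 1724), (670636, 1724), (672360, 1724), (674084, 1724), (675808, 1724), (677532, 1724), (679256, 1724), (680980, 1724), (682704, 1724), (684428, 1724), (686152, 1724), (687876, 1724), (689600, 1724), (691324, 1724), (693048, 1724), (694772, 1724), (696496, 1724), (698220, 1724), (699944, 1724), (701668, 1724), (703392, 1724), (705116, 1724), (706840, 1724), (708564, 1724), (710288, 1724), (712012, 1724), (713736, 1724), (715460, 1724), (717184, 1724), (718908, 1724), (720632, 1724), (722356, 1724), (724080, 1724), (725804, 1724), (727528, 1724), (729252, 1724), (730976, 1724), (732700, 1724), (734424, 1724), (736148, 1724), (737872, 1724), (739596, 1724), (741320, 1724), (743044, 1724), (744768, 1724), (746492, 1724), (748216, 1724), (749940, 1724), (751664, 1724), (753388, 1724), (755112, 1724), (756836, 1724), (758560, 1724), (760284, 1724), (762008, 1724), (763732, 1724), (765456, 1724),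 (767180, 1724), (768904, 1724), (770628, 1724), (772352, 1724), (774076, 1724)] ++ [(775800, 1724), (777524, 1724), (779248, 1724), (780972, 1724), (782696, 1724), (784420, 1724), (786144, 1724), (787868, 1724), (789592, 1724), (791316, 1724), (793040, 1724), (794764, 1724), (796488, 1724), (798212, 1724), (799936, 1724), (801660, 1724), (803384, 1724), (805108, 1724), (806832, 1724), (808556, 1724), (810280, 1724), (812004, 1724), (813728, 1724), (815452, 1724), (817176, 1724), (818900, 1724), (820624, 1724), (822348, 1724), (824072, 1724), (825796, 1724), (827520, 1724), (829244, 1724), (830968, 1724), (832692, 1724), (834416, 1724), (836140, 1724), (837864, 1724), (839588, 1724), (841312, 1724), (843036, 1724), (844760, 1724), (846484, 1724), (848208, 1724), (849932, 1724), (851656, 1724), (853380, 1724), (855104, 1724), (856828, 1724), (858552, 1724), (860276, 1724), (862000, 1724), (863724, 1724), (865448, 1724), (867172, 1724), (868896, 1724), (870620, 1724), (872344, 1724), (874068, 1724), (875792, 1724), (877516, 1724), (879240, 1724), (880964, 1724),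 (882688, 1724), (884412, 1724), (886136, 1724), (887860, 1724), (889584, 1724), (891308, 1724), (893032, 1724), (894756, 1724), (896480, 1724), (898204, 1724), (899928, 1724), (901652, 1724), (903376, 1724), (905100, 1724), (906824, 1724), (908548, 1724), (910272, 1724), (911996, 1724), (913720, 1724), (915444, 1724), (917168, 1724), (918892, 1724), (920616, 1724), (922340, 1724), (924064, 1724), (925788, 1724), (927512, 1724), (929236, 1724), (930960, 1724), (932684, 1724), (934408, 1724), (936132, 1724), (937856, 1724), (939580, 1724), (941304, 1724), (943028, 1724), (944752, 1724), (946476, 1724), (948200, 1724), (949924, 1724), (951648, 1724), (953372, 1724), (955096, 1724), (956820, 1724), (958544, 1724), (960268, 1724), (961992, 1724), (963716, 1724), (965440, 1724), (967164, 1724), (968888, 1724), (970612, 1724), (972336, 1724), (974060, 1724), (975784, 1724), (977508, 1724), (979232, 1724), (980956, 1724), (982680, 1724), (984404, 1724), (986128, 1724), (987852, 1724), (989576, 1724), (991300, 1724), (993024, 1724), (994748, 1724), (996472, 1724),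 (998196, 1724), (999920, 1724), (1001644, 1724), (1003368, 1724), (1005092, 1724), (1006816, 1724), (1008540, 1724), (1010264, 1724), (1011988, 1724), (1013712, 1724), (1015436, 1724), (1017160, 1724), (1018884, 1724), (1020608, 1724), (1022332, 1724), (1024056, 1724), (1025780, 1724), (1027504, 1724), (1029228, 1724), (1030952, 1724), (1032676, 1724)] ++ [(1034400, 1724), (1036124, 1724), (1037848, 1724), (1039572, 1724), (1041296, 1724), (1043020, 1724), (1044744, 1724), (1046468, 1724), (1048192, 1724), (1049916, 1724), (1051640, 1724), (1053364, 1724), (1055088, 1724), (1056812, 1724), (1058536, 1724), (1060260, 1724), (1061984, 1724), (1063708, 1724), (1065432, 1724), (1067156, 1724), (1068880, 1724), (1070604, 1724), (1072328, 1724), (1074052, 1724), (1075776, 1724), (1077500, 1724), (1079224, 1724), (1080948, 1724), (1082672, 1724), (1084396, 1724), (1086120, 1724), (1087844, 1724), (1089568, 1724), (1091292, 1724), (1093016, 1724), (1094740, 1724), (1096464, 1724), (1098188, 1724), (1099912, 1724), (1101636, 1724), (1103360, 1724), (1105084, 1724),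 (1106808, 1724), (1108532, 1724), (1110256, 1724), (1111980, 1724), (1113704, 1724), (1115428, 1724), (1117152, 1724), (1118876, 1724), (1120600, 1724), (1122324, 1724), (1124048, 1724), (1125772, 1724), (1127496, 1724), (1129220, 1724), (1130944, 1724), (1132668, 1724), (1134392, 1724), (1136116, 1724), (1137840, 1724), (1139564, 1724), (1141288, 1724), (1143012, 1724), (1144736, 1724), (1146460, 1724), (1148184, 1724), (1149908, 1724), (1151632, 1724), (1153356, 1724), (1155080, 1724), (1156804, 1724), (1158528, 1724), (1160252, 1724), (1161976, 1724), (1163700, 1724), (1165424, 1724), (1167148, 1724), (1168872, 1724), (1170596, 1724), (1172320, 1724), (1174044, 1724), (1175768, 1724), (1177492, 1724), (1179216, 1724), (1180940, 1724), (1182664, 1724), (1184388, 1724), (1186112, 1724), (1187836, 1724), (1189560, 1724), (1191284, 1724), (1193008, 1724), (1194732, 1724), (1196456, 1724), (1198180, 1724), (1199904, 1724), (1201628, 1724), (1203352, 1724), (1205076, 1724), (1206800, 1724), (1208524, 1724), (1210248, 1724), (1211972, 1724), (1213696, 1724), (1215420,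 1724), (1217144, 1724), (1218868, 1724), (1220592, 1724), (1222316, 1724), (1224040, 1724), (1225764, 1724), (1227488, 1724), (1229212, 1724), (1230936, 1724), (1232660, 1724), (1234384, 1724), (1236108, 1724), (1237832, 1724), (1239556, 1724), (1241280, 1724), (1243004, 1724), (1244728, 1724), (1246452, 1724), (1248176, 1724), (1249900, 1724), (1251624, 1724), (1253348, 1724), (1255072, 1724), (1256796, 1724), (1258520, 1724), (1260244, 1724), (1261968, 1724), (1263692, 1724), (1265416, 1724), (1267140, 1724), (1268864, 1724), (1270588, 1724), (1272312, 1724), (1274036, 1724), (1275760, 1724), (1277484, 1724), (1279208, 1724), (1280932, 1724), (1282656, 1724), (1284380, 1724), (1286104, 1724), (1287828, 1724), (1289552, 1724), (1291276, 1724)] ++ [(1293000, 1724), (1294724, 1724), (1296448, 1724), (1298172, 1724), (1299896, 1724), (1301620, 1724), (1303344, 1724), (1305068, 1724), (1306792, 1724), (1308516, 1724), (1310240, 1724), (1311964, 1724), (1313688, 1724), (1315412, 1724), (1317136, 1724), (1318860, 1724), (1320584, 1724), (1322308, 1724), (1324032,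 1724), (1325756, 1724), (1327480, 1724), (1329204, 1724), (1330928, 1724), (1332652, 1724), (1334376, 1724), (1336100, 1724), (1337824, 1724), (1339548, 1724), (1341272, 1724), (1342996, 1724), (1344720, 1724), (1346444, 1724), (1348168, 1724), (1349892, 1724), (1351616, 1724), (1353340, 1724), (1355064, 1724), (1356788, 1724), (1358512, 1724), (1360236, 1724), (1361960, 1724), (1363684, 1724), (1365408, 1724), (1367132, 1724), (1368856, 1724), (1370580, 1724), (1372304, 1724), (1374028, 1724), (1375752, 1724), (1377476, 1724), (1379200, 1724), (1380924, 1724), (1382648, 1724), (1384372, 1724), (1386096, 1724), (1387820, 1724), (1389544, 1724), (1391268, 1724), (1392992, 1724), (1394716, 1724), (1396440, 1724), (1398164, 1724), (1399888, 1724), (1401612, 1724), (1403336, 1724), (1405060, 1724), (1406784, 1724), (1408508, 1724), (1410232, 1724), (1411956, 1724), (1413680, 1724), (1415404, 1724), (1417128, 1724), (1418852, 1724), (1420576, 1724), (1422300, 1724), (1424024, 1724), (1425748, 1724), (1427472, 1724), (1429196, 1724), (1430920, 1724), (1432644, 1724),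 (1434368, 1724), (1436092, 1724), (1437816, 1724), (1439540, 1724), (1441264, 1724), (1442988, 1724), (1444712, 1724), (1446436, 1724), (1448160, 1724), (1449884, 1724), (1451608, 1724), (1453332, 1724), (1455056, 1724), (1456780, 1724), (1458504, 1724), (1460228, 1724), (1461952, 1724), (1463676, 1724), (1465400, 1724), (1467124, 1724), (1468848, 1724), (1470572, 1724), (1472296, 1724), (1474020, 1724), (1475744, 1724), (1477468, 1724), (1479192, 1724), (1480916, 1724), (1482640, 1724), (1484364, 1724), (1486088, 1724), (1487812, 1724), (1489536, 1724), (1491260, 1724), (1492984, 1724), (1494708, 1724), (1496432, 1724), (1498156, 1724), (1499880, 1724), (1501604, 1724), (1503328, 1724), (1505052, 1724), (1506776, 1724), (1508500, 1724), (1510224, 1724), (1511948, 1724), (1513672, 1724), (1515396, 1724), (1517120, 1724), (1518844, 1724), (1520568, 1724), (1522292, 1724), (1524016, 1724), (1525740, 1724), (1527464, 1724), (1529188, 1724), (1530912, 1724), (1532636, 1724), (1534360, 1724), (1536084, 1724), (1537808, 1192)]) (by decide +kernel) (all_append (all_append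 (all_append (all_append (all_append (rel2_grp0) rel2_grp1) rel2_grp2) rel2_grp3) rel2_grp4) rel2_grp5)

end Cfsg.Agent.HNOut
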