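import Cfsg.Agent.Lib.Lead.HNOut.D8
import Cfsg.Agent.Lib.Lead.HNOut.D9
import Cfsg.Agent.Lib.Lead.HNOut.D10

/-! # The outer automorphism group of the Harada–Norton group: the relation number 3, a part (generated) -/

set_option autoImplicit false
set_option maxRecDepth 100000

namespace Cfsg.Agent.HNOut

open Cfsg.Agent.PF Cfsg.Agent.Lib.Helper6 Cfsg.Agent.Lib.Helper6.TC Cfsg.Agent.Lib.Helper6.NatArr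
open Cfsg.Agent.PL (Acts evalF)

theorem rel3_25 : allR 37300 1492 (fun q => Nat.beq ((fun q => f8 (f9 (f10 (f8 (f9 (f10 (f8 (f9 (f10 (f8 (f9 (f10 (f8 (f9 (f10 (f8 (f9 (f10 (f8 (f9 (f10 (f8 (f9 (f10 (f8 (f9 (f10 (f8 (f9 (f10 (f8 (f9 (f10 (f8 (f9 (f10 (f8 (f9 (f10 (f8 (f9 (f10 (f8 (f9 (f10 (f8 (f9 (f10 (f8 (f9 (f10 (f8 (f9 (f10 (f8 (f9 (f10 (f8 (f9 (f10 (f8 (f9 (f10 (f8 (f9 (f10 (q))))))))))))))))))))))))))))))))))))))))))))))))))))))))))))))))))) q) ((fun q => q) q)) = true := by decide +kernel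

theorem rel3_26 : allR 38792 1492 (fun q => Nat.beq ((fun q => f8 (f9 (f10 (f8 (f9 (f10 (f8 (f9 (f10 (f8 (f9 (f10 (f8 (f9 (f10 (f8 (f9 (f10 (f8 (f9 (f10 (f8 (f9 (f10 (f8 (f9 (f10 (f8 (f9 (f10 (f8 (f9 (f10 (f8 (f9 (f10 (f8 (f9 (f10 (f8 (f9 (f10 (f8 (f9 (f10 (f8 (f9 (f10 (f8 (f9 (f10 (f8 (f9 (f10 (f8 (f9 (f10 (f8 (f9 (f10 (f8 (f9 (f10 (f8 (f9 (f10 (q))))))))))))))))))))))))))))))))))))))))))))))))))))))))))))))))))) q) ((fun q => q) q)) = true := by decide +kernel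

theorem rel3_27 : allR 40284 1492 (fun q => Nat.beq ((fun q => f8 (f9 (f10 (f8 (f9 (f10 (f8 (f9 (f10 (f8 (f9 (f10 (f8 (f9 (f10 (f8 (f9 (f10 (f8 (f9 (f10 (f8 (f9 (f10 (f8 (f9 (f10 (f8 (f9 (f10 (f8 (f9 (f10 (f8 (f9 (f10 (f8 (f9 (f10 (f8 (f9 (f10 (f8 (f9 (f10 (f8 (f9 (f10 (f8 (f9 (f10 (f8 (f9 (f10 (f8 (f9 (f10 (f8 (f9 (f10 (f8 (f9 (f10 (f8 (f9 (f10 (q))))))))))))))))))))))))))))))))))))))))))))))))))))))))))))))))))) q) ((fun q => q) q)) = true := by decide +kernel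

theorem rel3_28 : allR 41776 1492 (fun q => Nat.beq ((fun q => f8 (f9 (f10 (f8 (f9 (f10 (f8 (f9 (f10 (f8 (f9 (f10 (f8 (f9 (f10 (f8 (f9 (f10 (f8 (f9 (f10 (f8 (f9 (f10 (f8 (f9 (f10 (f8 (f9 (f10 (f8 (f9 (f10 (f8 (f9 (f10 (f8 (f9 (f10 (f8 (f9 (f10 (f8 (f9 (f10 (f8 (f9 (f10 (f8 (f9 (f10 (f8 (f9 (f10 (f8 (f9 (f10 (f8 (f9 (f10 (f8 (f9 (f10 (f8 (f9 (f10 (q))))))))))))))))))))))))))))))))))))))))))))))))))))))))))))))))))) q) ((fun q => q) q)) = true := by decide +kernel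

theorem rel3_29 : allR 43268 1492 (fun q => Nat.beq ((fun q => f8 (f9 (f10 (f8 (f9 (f10 (f8 (f9 (f10 (f8 (f9 (f10 (f8 (f9 (f10 (f8 (f9 (f10 (f8 (f9 (f10 (f8 (f9 (f10 (f8 (f9 (f10 (f8 (f9 (f10 (f8 (f9 (f10 (f8 (f9 (f10 (f8 (f9 (f10 (f8 (f9 (f10 (f8 (f9 (f10 (f8 (f9 (f10 (f8 (f9 (f10 (f8 (f9 (f10 (f8 (f9 (f10 (f8 (f9 (f10 (f8 (f9 (f10 (f8 (f9 (f10 (q))))))))))))))))))))))))))))))))))))))))))))))))))))))))))))))))))) q) ((fun q => q) q)) = true := by decide +kernel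

theorem rel3_30 : allR 44760 1492 (fun q => Nat.beq ((fun q => f8 (f9 (f10 (f8 (f9 (f10 (f8 (f9 (f10 (f8 (f9 (f10 (f8 (f9 (f10 (f8 (f9 (f10 (f8 (f9 (f10 (f8 (f9 (f10 (f8 (f9 (f10 (f8 (f9 (f10 (f8 (f9 (f10 (f8 (f9 (f10 (f8 (f9 (f10 (f8 (f9 (f10 (f8 (f9 (f10 (f8 (f9 (f10 (f8 (f9 (f10 (f8 (f9 (f10 (f8 (f9 (f10 (f8 (f9 (f10 (f8 (f9 (f10 (f8 (f9 (f10 (q))))))))))))))))))))))))))))))))))))))))))))))))))))))))))))))))))) q) ((fun q => q) q)) = true := by decide +kernel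

theorem rel3_31 : allR 46252 1492 (fun q => Nat.beq ((fun q => f8 (f9 (f10 (f8 (f9 (f10 (f8 (f9 (f10 (f8 (f9 (f10 (f8 (f9 (f10 (f8 (f9 (f10 (f8 (f9 (f10 (f8 (f9 (f10 (f8 (f9 (f10 (f8 (f9 (f10 (f8 (f9 (f10 (f8 (f9 (f10 (f8 (f9 (f10 (f8 (f9 (f10 (f8 (f9 (f10 (f8 (f9 (f10 (f8 (f9 (f10 (f8 (f9 (f10 (f8 (f9 (f10 (f8 (f9 (f10 (f8 (f9 (f10 (f8 (f9 (f10 (q))))))))))))))))))))))))))))))))))))))))))))))))))))))))))))))))))) q) ((fun q => q) q)) = true := by decide +kernel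

theorem rel3_32 : allR 47744 1492 (fun q => Nat.beq ((fun q => f8 (f9 (f10 (f8 (f9 (f10 (f8 (f9 (f10 (f8 (f9 (f10 (f8 (f9 (f10 (f8 (f9 (f10 (f8 (f9 (f10 (f8 (f9 (f10 (f8 (f9 (f10 (f8 (f9 (f10 (f8 (f9 (f10 (f8 (f9 (f10 (f8 (f9 (f10 (f8 (f9 (f10 (f8 (f9 (f10 (f8 (f9 (f10 (f8 (f9 (f10 (f8 (f9 (f10 (f8 (f9 (f10 (f8 (f9 (f10 (f8 (f9 (f10 (f8 (f9 (f10 (q))))))))))))))))))))))))))))))))))))))))))))))))))))))))))))))))))) q) ((fun q => q) q)) = true := by decide +kernel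

theorem rel3_33 : allR 49236 1492 (fun q => Nat.beq ((fun q => f8 (f9 (f10 (f8 (f9 (f10 (f8 (f9 (f10 (f8 (f9 (f10 (f8 (f9 (f10 (f8 (f9 (f10 (f8 (f9 (f10 (f8 (f9 (f10 (f8 (f9 (f10 (f8 (f9 (f10 (f8 (f9 (f10 (f8 (f9 (f10 (f8 (f9 (f10 (f8 (f9 (f10 (f8 (f9 (f10 (f8 (f9 (f10 (f8 (f9 (f10 (f8 (f9 (f10 (f8 (f9 (f10 (f8 (f9 (f10 (f8 (f9 (f10 (f8 (f9 (f10 (q))))))))))))))))))))))))))))))))))))))))))))))))))))))))))))))))))) q) ((fun q => q) q)) = true := by decide +kernel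

theorem rel3_34 : allR 50728 1492 (fun q => Nat.beq ((fun q => f8 (f9 (f10 (f8 (f9 (f10 (f8 (f9 (f10 (f8 (f9 (f10 (f8 (f9 (f10 (f8 (f9 (f10 (f8 (f9 (f10 (f8 (f9 (f10 (f8 (f9 (f10 (f8 (f9 (f10 (f8 (f9 (f10 (f8 (f9 (f10 (f8 (f9 (f10 (f8 (f9 (f10 (f8 (f9 (f10 (f8 (f9 (f10 (f8 (f9 (f10 (f8 (f9 (f10 (f8 (f9 (f10 (f8 (f9 (f10 (f8 (f9 (f10 (f8 (f9 (f10 (q))))))))))))))))))))))))))))))))))))))))))))))))))))))))))))))))))) q) ((fun q => q) q)) = true := by decide +kernel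

theorem rel3_35 : allR 52220 1492 (fun q => Nat.beq ((fun q => f8 (f9 (f10 (f8 (f9 (f10 (f8 (f9 (f10 (f8 (f9 (f10 (f8 (f9 (f10 (f8 (f9 (f10 (f8 (f9 (f10 (f8 (f9 (f10 (f8 (f9 (f10 (f8 (f9 (f10 (f8 (f9 (f10 (f8 (f9 (f10 (f8 (f9 (f10 (f8 (f9 (f10 (f8 (f9 (f10 (f8 (f9 (f10 (f8 (f9 (f10 (f8 (f9 (f10 (f8 (f9 (f10 (f8 (f9 (f10 (f8 (f9 (f10 (f8 (f9 (f10 (q))))))))))))))))))))))))))))))))))))))))))))))))))))))))))))))))))) q) ((fun q => q) q)) = true := by decide +kernel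

theorem rel3_36 : allR 53712 1492 (fun q => Nat.beq ((fun q => f8 (f9 (f10 (f8 (f9 (f10 (f8 (f9 (f10 (f8 (f9 (f10 (f8 (f9 (f10 (f8 (f9 (f10 (f8 (f9 (f10 (f8 (f9 (f10 (f8 (f9 (f10 (f8 (f9 (f10 (f8 (f9 (f10 (f8 (f9 (f10 (f8 (f9 (f10 (f8 (f9 (f10 (f8 (f9 (f10 (f8 (f9 (f10 (f8 (f9 (f10 (f8 (f9 (f10 (f8 (f9 (f10 (f8 (f9 (f10 (f8 (f9 (f10 (f8 (f9 (f10 (q))))))))))))))))))))))))))))))))))))))))))))))))))))))))))))))))))) q) ((fun q => q) q)) = true := by decide +kernel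

theorem rel3_37 : allR 55204 1492 (fun q => Nat.beq ((fun q => f8 (f9 (f10 (f8 (f9 (f10 (f8 (f9 (f10 (f8 (f9 (f10 (f8 (f9 (f10 (f8 (f9 (f10 (f8 (f9 (f10 (f8 (f9 (f10 (f8 (f9 (f10 (f8 (f9 (f10 (f8 (f9 (f10 (f8 (f9 (f10 (f8 (f9 (f10 (f8 (f9 (f10 (f8 (f9 (f10 (f8 (f9 (f10 (f8 (f9 (f10 (f8 (f9 (f10 (f8 (f9 (f10 (f8 (f9 (f10 (f8 (f9 (f10 (f8 (f9 (f10 (q))))))))))))))))))))))))))))))))))))))))))))))))))))))))))))))))))) q) ((fun q => q) q)) = true := by decide +kernel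

theorem rel3_38 : allR 56696 1492 (fun q => Nat.beq ((fun q => f8 (f9 (f10 (f8 (f9 (f10 (f8 (f9 (f10 (f8 (f9 (f10 (f8 (f9 (f10 (f8 (f9 (f10 (f8 (f9 (f10 (f8 (f9 (f10 (f8 (f9 (f10 (f8 (f9 (f10 (f8 (f9 (f10 (f8 (f9 (f10 (f8 (f9 (f10 (f8 (f9 (f10 (f8 (f9 (f10 (f8 (f9 (f10 (f8 (f9 (f10 (f8 (f9 (f10 (f8 (f9 (f10 (f8 (f9 (f10 (f8 (f9 (f10 (f8 (f9 (f10 (q))))))))))))))))))))))))))))))))))))))))))))))))))))))))))))))))))) q) ((fun q => q) q)) = true := by decide +kernel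

theorem rel3_39 : allR 58188 1492 (fun q => Nat.beq ((fun q => f8 (f9 (f10 (f8 (f9 (f10 (f8 (f9 (f10 (f8 (f9 (f10 (f8 (f9 (f10 (f8 (f9 (f10 (f8 (f9 (f10 (f8 (f9 (f10 (f8 (f9 (f10 (f8 (f9 (f10 (f8 (f9 (f10 (f8 (f9 (f10 (f8 (f9 (f10 (f8 (f9 (f10 (f8 (f9 (f10 (f8 (f9 (f10 (f8 (f9 (f10 (f8 (f9 (f10 (f8 (f9 (f10 (f8 (f9 (f10 (f8 (f9 (f10 (f8 (f9 (f10 (q))))))))))))))))))))))))))))))))))))))))))))))))))))))))))))))))))) q) ((fun q => q) q)) = true := by decide +kernel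

theorem rel3_40 : allR 59680 1492 (fun q => Nat.beq ((fun q => f8 (f9 (f10 (f8 (f9 (f10 (f8 (f9 (f10 (f8 (f9 (f10 (f8 (f9 (f10 (f8 (f9 (f10 (f8 (f9 (f10 (f8 (f9 (f10 (f8 (f9 (f10 (f8 (f9 (f10 (f8 (f9 (f10 (f8 (f9 (f10 (f8 (f9 (f10 (f8 (f9 (f10 (f8 (f9 (f10 (f8 (f9 (f10 (f8 (f9 (f10 (f8 (f9 (f10 (f8 (f9 (f10 (f8 (f9 (f10 (f8 (f9 (f10 (f8 (f9 (f10 (q))))))))))))))))))))))))))))))))))))))))))))))))))))))))))))))))))) q) ((fun q => q) q)) = true := by decide +kernel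

theorem rel3_41 : allR 61172 1492 (fun q => Nat.beq ((fun q => f8 (f9 (f10 (f8 (f9 (f10 (f8 (f9 (f10 (f8 (f9 (f10 (f8 (f9 (f10 (f8 (f9 (f10 (f8 (f9 (f10 (f8 (f9 (f10 (f8 (f9 (f10 (f8 (f9 (f10 (f8 (f9 (f10 (f8 (f9 (f10 (f8 (f9 (f10 (f8 (f9 (f10 (f8 (f9 (f10 (f8 (f9 (f10 (f8 (f9 (f10 (f8 (f9 (f10 (f8 (f9 (f10 (f8 (f9 (f10 (f8 (f9 (f10 (f8 (f9 (f10 (q))))))))))))))))))))))))))))))))))))))))))))))))))))))))))))))))))) q) ((fun q => q) q)) = true := by decide +kernel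

theorem rel3_42 : allR 62664 1492 (fun q => Nat.beq ((fun q => f8 (f9 (f10 (f8 (f9 (f10 (f8 (f9 (f10 (f8 (f9 (f10 (f8 (f9 (f10 (f8 (f9 (f10 (f8 (f9 (f10 (f8 (f9 (f10 (f8 (f9 (f10 (f8 (f9 (f10 (f8 (f9 (f10 (f8 (f9 (f10 (f8 (f9 (f10 (f8 (f9 (f10 (f8 (f9 (f10 (f8 (f9 (f10 (f8 (f9 (f10 (f8 (f9 (f10 (f8 (f9 (f10 (f8 (f9 (f10 (f8 (f9 (f10 (f8 (f9 (f10 (q))))))))))))))))))))))))))))))))))))))))))))))))))))))))))))))))))) q) ((fun q => q) q)) = true := by decide +kernel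

theorem rel3_43 : allR 64156 1492 (fun q => Nat.beq ((fun q => f8 (f9 (f10 (f8 (f9 (f10 (f8 (f9 (f10 (f8 (f9 (f10 (f8 (f9 (f10 (f8 (f9 (f10 (f8 (f9 (f10 (f8 (f9 (f10 (f8 (f9 (f10 (f8 (f9 (f10 (f8 (f9 (f10 (f8 (f9 (f10 (f8 (f9 (f10 (f8 (f9 (f10 (f8 (f9 (f10 (f8 (f9 (f10 (f8 (f9 (f10 (f8 (f9 (f10 (f8 (f9 (f10 (f8 (f9 (f10 (f8 (f9 (f10 (f8 (f9 (f10 (q))))))))))))))))))))))))))))))))))))))))))))))))))))))))))))))))))) q) ((fun q => q) q)) = true := by decide +kernel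

theorem rel3_44 : allR 65648 1492 (fun q => Nat.beq ((fun q => f8 (f9 (f10 (f8 (f9 (f10 (f8 (f9 (f10 (f8 (f9 (f10 (f8 (f9 (f10 (f8 (f9 (f10 (f8 (f9 (f10 (f8 (f9 (f10 (f8 (f9 (f10 (f8 (f9 (f10 (f8 (f9 (f10 (f8 (f9 (f10 (f8 (f9 (f10 (f8 (f9 (f10 (f8 (f9 (f10 (f8 (f9 (f10 (f8 (f9 (f10 (f8 (f9 (f10 (f8 (f9 (f10 (f8 (f9 (f10 (f8 (f9 (f10 (f8 (f9 (f10 (q))))))))))))))))))))))))))))))))))))))))))))))))))))))))))))))))))) q) ((fun q => q) q)) = true := by decide +kernel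

theorem rel3_45 : allR 67140 1492 (fun q => Nat.beq ((fun q => f8 (f9 (f10 (f8 (f9 (f10 (f8 (f9 (f10 (f8 (f9 (f10 (f8 (f9 (f10 (f8 (f9 (f10 (f8 (f9 (f10 (f8 (f9 (f10 (f8 (f9 (f10 (f8 (f9 (f10 (f8 (f9 (f10 (f8 (f9 (f10 (f8 (f9 (f10 (f8 (f9 (f10 (f8 (f9 (f10 (f8 (f9 (f10 (f8 (f9 (f10 (f8 (f9 (f10 (f8 (f9 (f10 (f8 (f9 (f10 (f8 (f9 (f10 (f8 (f9 (f10 (q))))))))))))))))))))))))))))))))))))))))))))))))))))))))))))))))))) q) ((fun q => q) q)) = true := by decide +kernel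

theorem rel3_46 : allR 68632 1492 (fun q => Nat.beq ((fun q => f8 (f9 (f10 (f8 (f9 (f10 (f8 (f9 (f10 (f8 (f9 (f10 (f8 (f9 (f10 (f8 (f9 (f10 (f8 (f9 (f10 (f8 (f9 (f10 (f8 (f9 (f10 (f8 (f9 (f10 (f8 (f9 (f10 (f8 (f9 (f10 (f8 (f9 (f10 (f8 (f9 (f10 (f8 (f9 (f10 (f8 (f9 (f10 (f8 (f9 (f10 (f8 (f9 (f10 (f8 (f9 (f10 (f8 (f9 (f10 (f8 (f9 (f10 (f8 (f9 (f10 (q))))))))))))))))))))))))))))))))))))))))))))))))))))))))))))))))))) q) ((fun q => q) q)) = true := by decide +kernel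

theorem rel3_47 : allR 70124 1492 (fun q => Nat.beq ((fun q => f8 (f9 (f10 (f8 (f9 (f10 (f8 (f9 (f10 (f8 (f9 (f10 (f8 (f9 (f10 (f8 (f9 (f10 (f8 (f9 (f10 (f8 (f9 (f10 (f8 (f9 (f10 (f8 (f9 (f10 (f8 (f9 (f10 (f8 (f9 (f10 (f8 (f9 (f10 (f8 (f9 (f10 (f8 (f9 (f10 (f8 (f9 (f10 (f8 (f9 (f10 (f8 (f9 (f10 (f8 (f9 (f10 (f8 (f9 (f10 (f8 (f9 (f10 (f8 (f9 (f10 (q))))))))))))))))))))))))))))))))))))))))))))))))))))))))))))))))))) q) ((fun q => q) q)) = true := by decide +kernel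

theorem rel3_48 : allR 71616 1492 (fun q => Nat.beq ((fun q => f8 (f9 (f10 (f8 (f9 (f10 (f8 (f9 (f10 (f8 (f9 (f10 (f8 (f9 (f10 (f8 (f9 (f10 (f8 (f9 (f10 (f8 (f9 (f10 (f8 (f9 (f10 (f8 (f9 (f10 (f8 (f9 (f10 (f8 (f9 (f10 (f8 (f9 (f10 (f8 (f9 (f10 (f8 (f9 (f10 (f8 (f9 (f10 (f8 (f9 (f10 (f8 (f9 (f10 (f8 (f9 (f10 (f8 (f9 (f10 (f8 (f9 (f10 (f8 (f9 (f10 (q))))))))))))))))))))))))))))))))))))))))))))))))))))))))))))))))))) q) ((fun q => q) q)) = true := by decide +kernel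

theorem rel3_49 : allR 73108 1492 (fun q => Nat.beq ((fun q => f8 (f9 (f10 (f8 (f9 (f10 (f8 (f9 (f10 (f8 (f9 (f10 (f8 (f9 (f10 (f8 (f9 (f10 (f8 (f9 (f10 (f8 (f9 (f10 (f8 (f9 (f10 (f8 (f9 (f10 (f8 (f9 (f10 (f8 (f9 (f10 (f8 (f9 (f10 (f8 (f9 (f10 (f8 (f9 (f10 (f8 (f9 (f10 (f8 (f9 (f10 (f8 (f9 (f10 (f8 (f9 (f10 (f8 (f9 (f10 (f8 (f9 (f10 (f8 (f9 (f10 (q))))))))))))))))))))))))))))))))))))))))))))))))))))))))))))))))))) q) ((fun q => q) q)) = true := by decide +kernel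


end Cfsg.Agent.HNOut
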