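import Cfsg.Agent.Lib.Lead.HNOut.D8
import Cfsg.Agent.Lib.Lead.HNOut.D9
import Cfsg.Agent.Lib.Lead.HNOut.D10

/-! # The outer automorphism group of the Harada–Norton group: the relation number 3, a part (generated) -/

set_option autoImplicit false
set_option maxRecDepth 100000

namespace Cfsg.Agent.HNOut

open Cfsg.Agent.PF Cfsg.Agent.Lib.Helper6 Cfsg.Agent.Lib.Helper6.TC Cfsg.Agent.Lib.Helper6.NatArr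
open Cfsg.Agent.PL (Acts evalF)

theorem rel3_250 : allR 373000 1492 (fun q => Nat.beq ((fun q => f8 (f9 (f10 (f8 (f9 (f10 (f8 (f9 (f10 (f8 (f9 (f10 (f8 (f9 (f10 (f8 (f9 (f10 (f8 (f9 (f10 (f8 (f9 (f10 (f8 (f9 (f10 (f8 (f9 (f10 (f8 (f9 (f10 (f8 (f9 (f10 (f8 (f9 (f10 (f8 (f9 (f10 (f8 (f9 (f10 (f8 (f9 (f10 (f8 (f9 (f10 (f8 (f9 (f10 (f8 (f9 (f10 (f8 (f9 (f10 (f8 (f9 (f10 (f8 (f9 (f10 (q))))))))))))))))))))))))))))))))))))))))))))))))))))))))))))))))))) q) ((fun q => q) q)) = true := by decide +kernel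

theorem rel3_251 : allR 374492 1492 (fun q => Nat.beq ((fun q => f8 (f9 (f10 (f8 (f9 (f10 (f8 (f9 (f10 (f8 (f9 (f10 (f8 (f9 (f10 (f8 (f9 (f10 (f8 (f9 (f10 (f8 (f9 (f10 (f8 (f9 (f10 (f8 (f9 (f10 (f8 (f9 (f10 (f8 (f9 (f10 (f8 (f9 (f10 (f8 (f9 (f10 (f8 (f9 (f10 (f8 (f9 (f10 (f8 (f9 (f10 (f8 (f9 (f10 (f8 (f9 (f10 (f8 (f9 (f10 (f8 (f9 (f10 (f8 (f9 (f10 (q))))))))))))))))))))))))))))))))))))))))))))))))))))))))))))))))))) q) ((fun q => q) q)) = true := by decide +kernel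

theorem rel3_252 : allR 375984 1492 (fun q => Nat.beq ((fun q => f8 (f9 (f10 (f8 (f9 (f10 (f8 (f9 (f10 (f8 (f9 (f10 (f8 (f9 (f10 (f8 (f9 (f10 (f8 (f9 (f10 (f8 (f9 (f10 (f8 (f9 (f10 (f8 (f9 (f10 (f8 (f9 (f10 (f8 (f9 (f10 (f8 (f9 (f10 (f8 (f9 (f10 (f8 (f9 (f10 (f8 (f9 (f10 (f8 (f9 (f10 (f8 (f9 (f10 (f8 (f9 (f10 (f8 (f9 (f10 (f8 (f9 (f10 (f8 (f9 (f10 (q))))))))))))))))))))))))))))))))))))))))))))))))))))))))))))))))))) q) ((fun q => q) q)) = true := by decide +kernel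

theorem rel3_253 : allR 377476 1492 (fun q => Nat.beq ((fun q => f8 (f9 (f10 (f8 (f9 (f10 (f8 (f9 (f10 (f8 (f9 (f10 (f8 (f9 (f10 (f8 (f9 (f10 (f8 (f9 (f10 (f8 (f9 (f10 (f8 (f9 (f10 (f8 (f9 (f10 (f8 (f9 (f10 (f8 (f9 (f10 (f8 (f9 (f10 (f8 (f9 (f10 (f8 (f9 (f10 (f8 (f9 (f10 (f8 (f9 (f10 (f8 (f9 (f10 (f8 (f9 (f10 (f8 (f9 (f10 (f8 (f9 (f10 (f8 (f9 (f10 (q))))))))))))))))))))))))))))))))))))))))))))))))))))))))))))))))))) q) ((fun q => q) q)) = true := by decide +kernel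

theorem rel3_254 : allR 378968 1492 (fun q => Nat.beq ((fun q => f8 (f9 (f10 (f8 (f9 (f10 (f8 (f9 (f10 (f8 (f9 (f10 (f8 (f9 (f10 (f8 (f9 (f10 (f8 (f9 (f10 (f8 (f9 (f10 (f8 (f9 (f10 (f8 (f9 (f10 (f8 (f9 (f10 (f8 (f9 (f10 (f8 (f9 (f10 (f8 (f9 (f10 (f8 (f9 (f10 (f8 (f9 (f10 (f8 (f9 (f10 (f8 (f9 (f10 (f8 (f9 (f10 (f8 (f9 (f10 (f8 (f9 (f10 (f8 (f9 (f10 (q))))))))))))))))))))))))))))))))))))))))))))))))))))))))))))))))))) q) ((fun q => q) q)) = true := by decide +kernel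

theorem rel3_255 : allR 380460 1492 (fun q => Nat.beq ((fun q => f8 (f9 (f10 (f8 (f9 (f10 (f8 (f9 (f10 (f8 (f9 (f10 (f8 (f9 (f10 (f8 (f9 (f10 (f8 (f9 (f10 (f8 (f9 (f10 (f8 (f9 (f10 (f8 (f9 (f10 (f8 (f9 (f10 (f8 (f9 (f10 (f8 (f9 (f10 (f8 (f9 (f10 (f8 (f9 (f10 (f8 (f9 (f10 (f8 (f9 (f10 (f8 (f9 (f10 (f8 (f9 (f10 (f8 (f9 (f10 (f8 (f9 (f10 (f8 (f9 (f10 (q))))))))))))))))))))))))))))))))))))))))))))))))))))))))))))))))))) q) ((fun q => q) q)) = true := by decide +kernel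

theorem rel3_256 : allR 381952 1492 (fun q => Nat.beq ((fun q => f8 (f9 (f10 (f8 (f9 (f10 (f8 (f9 (f10 (f8 (f9 (f10 (f8 (f9 (f10 (f8 (f9 (f10 (f8 (f9 (f10 (f8 (f9 (f10 (f8 (f9 (f10 (f8 (f9 (f10 (f8 (f9 (f10 (f8 (f9 (f10 (f8 (f9 (f10 (f8 (f9 (f10 (f8 (f9 (f10 (f8 (f9 (f10 (f8 (f9 (f10 (f8 (f9 (f10 (f8 (f9 (f10 (f8 (f9 (f10 (f8 (f9 (f10 (f8 (f9 (f10 (q))))))))))))))))))))))))))))))))))))))))))))))))))))))))))))))))))) q) ((fun q => q) q)) = true := by decide +kernel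

theorem rel3_257 : allR 383444 1492 (fun q => Nat.beq ((fun q => f8 (f9 (f10 (f8 (f9 (f10 (f8 (f9 (f10 (f8 (f9 (f10 (f8 (f9 (f10 (f8 (f9 (f10 (f8 (f9 (f10 (f8 (f9 (f10 (f8 (f9 (f10 (f8 (f9 (f10 (f8 (f9 (f10 (f8 (f9 (f10 (f8 (f9 (f10 (f8 (f9 (f10 (f8 (f9 (f10 (f8 (f9 (f10 (f8 (f9 (f10 (f8 (f9 (f10 (f8 (f9 (f10 (f8 (f9 (f10 (f8 (f9 (f10 (f8 (f9 (f10 (q))))))))))))))))))))))))))))))))))))))))))))))))))))))))))))))))))) q) ((fun q => q) q)) = true := by decide +kernel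

theorem rel3_258 : allR 384936 1492 (fun q => Nat.beq ((fun q => f8 (f9 (f10 (f8 (f9 (f10 (f8 (f9 (f10 (f8 (f9 (f10 (f8 (f9 (f10 (f8 (f9 (f10 (f8 (f9 (f10 (f8 (f9 (f10 (f8 (f9 (f10 (f8 (f9 (f10 (f8 (f9 (f10 (f8 (f9 (f10 (f8 (f9 (f10 (f8 (f9 (f10 (f8 (f9 (f10 (f8 (f9 (f10 (f8 (f9 (f10 (f8 (f9 (f10 (f8 (f9 (f10 (f8 (f9 (f10 (f8 (f9 (f10 (f8 (f9 (f10 (q))))))))))))))))))))))))))))))))))))))))))))))))))))))))))))))))))) q) ((fun q => q) q)) = true := by decide +kernel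

theorem rel3_259 : allR 386428 1492 (fun q => Nat.beq ((fun q => f8 (f9 (f10 (f8 (f9 (f10 (f8 (f9 (f10 (f8 (f9 (f10 (f8 (f9 (f10 (f8 (f9 (f10 (f8 (f9 (f10 (f8 (f9 (f10 (f8 (f9 (f10 (f8 (f9 (f10 (f8 (f9 (f10 (f8 (f9 (f10 (f8 (f9 (f10 (f8 (f9 (f10 (f8 (f9 (f10 (f8 (f9 (f10 (f8 (f9 (f10 (f8 (f9 (f10 (f8 (f9 (f10 (f8 (f9 (f10 (f8 (f9 (f10 (f8 (f9 (f10 (q))))))))))))))))))))))))))))))))))))))))))))))))))))))))))))))))))) q) ((fun q => q) q)) = true := by decide +kernel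

theorem rel3_260 : allR 387920 1492 (fun q => Nat.beq ((fun q => f8 (f9 (f10 (f8 (f9 (f10 (f8 (f9 (f10 (f8 (f9 (f10 (f8 (f9 (f10 (f8 (f9 (f10 (f8 (f9 (f10 (f8 (f9 (f10 (f8 (f9 (f10 (f8 (f9 (f10 (f8 (f9 (f10 (f8 (f9 (f10 (f8 (f9 (f10 (f8 (f9 (f10 (f8 (f9 (f10 (f8 (f9 (f10 (f8 (f9 (f10 (f8 (f9 (f10 (f8 (f9 (f10 (f8 (f9 (f10 (f8 (f9 (f10 (f8 (f9 (f10 (q))))))))))))))))))))))))))))))))))))))))))))))))))))))))))))))))))) q) ((fun q => q) q)) = true := by decide +kernel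

theorem rel3_261 : allR 389412 1492 (fun q => Nat.beq ((fun q => f8 (f9 (f10 (f8 (f9 (f10 (f8 (f9 (f10 (f8 (f9 (f10 (f8 (f9 (f10 (f8 (f9 (f10 (f8 (f9 (f10 (f8 (f9 (f10 (f8 (f9 (f10 (f8 (f9 (f10 (f8 (f9 (f10 (f8 (f9 (f10 (f8 (f9 (f10 (f8 (f9 (f10 (f8 (f9 (f10 (f8 (f9 (f10 (f8 (f9 (f10 (f8 (f9 (f10 (f8 (f9 (f10 (f8 (f9 (f10 (f8 (f9 (f10 (f8 (f9 (f10 (q))))))))))))))))))))))))))))))))))))))))))))))))))))))))))))))))))) q) ((fun q => q) q)) = true := by decide +kernel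

theorem rel3_262 : allR 390904 1492 (fun q => Nat.beq ((fun q => f8 (f9 (f10 (f8 (f9 (f10 (f8 (f9 (f10 (f8 (f9 (f10 (f8 (f9 (f10 (f8 (f9 (f10 (f8 (f9 (f10 (f8 (f9 (f10 (f8 (f9 (f10 (f8 (f9 (f10 (f8 (f9 (f10 (f8 (f9 (f10 (f8 (f9 (f10 (f8 (f9 (f10 (f8 (f9 (f10 (f8 (f9 (f10 (f8 (f9 (f10 (f8 (f9 (f10 (f8 (f9 (f10 (f8 (f9 (f10 (f8 (f9 (f10 (f8 (f9 (f10 (q))))))))))))))))))))))))))))))))))))))))))))))))))))))))))))))))))) q) ((fun q => q) q)) = true := by decide +kernel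

theorem rel3_263 : allR 392396 1492 (fun q => Nat.beq ((fun q => f8 (f9 (f10 (f8 (f9 (f10 (f8 (f9 (f10 (f8 (f9 (f10 (f8 (f9 (f10 (f8 (f9 (f10 (f8 (f9 (f10 (f8 (f9 (f10 (f8 (f9 (f10 (f8 (f9 (f10 (f8 (f9 (f10 (f8 (f9 (f10 (f8 (f9 (f10 (f8 (f9 (f10 (f8 (f9 (f10 (f8 (f9 (f10 (f8 (f9 (f10 (f8 (f9 (f10 (f8 (f9 (f10 (f8 (f9 (f10 (f8 (f9 (f10 (f8 (f9 (f10 (q))))))))))))))))))))))))))))))))))))))))))))))))))))))))))))))))))) q) ((fun q => q) q)) = true := by decide +kernel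

theorem rel3_264 : allR 393888 1492 (fun q => Nat.beq ((fun q => f8 (f9 (f10 (f8 (f9 (f10 (f8 (f9 (f10 (f8 (f9 (f10 (f8 (f9 (f10 (f8 (f9 (f10 (f8 (f9 (f10 (f8 (f9 (f10 (f8 (f9 (f10 (f8 (f9 (f10 (f8 (f9 (f10 (f8 (f9 (f10 (f8 (f9 (f10 (f8 (f9 (f10 (f8 (f9 (f10 (f8 (f9 (f10 (f8 (f9 (f10 (f8 (f9 (f10 (f8 (f9 (f10 (f8 (f9 (f10 (f8 (f9 (f10 (f8 (f9 (f10 (q))))))))))))))))))))))))))))))))))))))))))))))))))))))))))))))))))) q) ((fun q => q) q)) = true := by decide +kernel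

theorem rel3_265 : allR 395380 1492 (fun q => Nat.beq ((fun q => f8 (f9 (f10 (f8 (f9 (f10 (f8 (f9 (f10 (f8 (f9 (f10 (f8 (f9 (f10 (f8 (f9 (f10 (f8 (f9 (f10 (f8 (f9 (f10 (f8 (f9 (f10 (f8 (f9 (f10 (f8 (f9 (f10 (f8 (f9 (f10 (f8 (f9 (f10 (f8 (f9 (f10 (f8 (f9 (f10 (f8 (f9 (f10 (f8 (f9 (f10 (f8 (f9 (f10 (f8 (f9 (f10 (f8 (f9 (f10 (f8 (f9 (f10 (f8 (f9 (f10 (q))))))))))))))))))))))))))))))))))))))))))))))))))))))))))))))))))) q) ((fun q => q) q)) = true := by decide +kernel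

theorem rel3_266 : allR 396872 1492 (fun q => Nat.beq ((fun q => f8 (f9 (f10 (f8 (f9 (f10 (f8 (f9 (f10 (f8 (f9 (f10 (f8 (f9 (f10 (f8 (f9 (f10 (f8 (f9 (f10 (f8 (f9 (f10 (f8 (f9 (f10 (f8 (f9 (f10 (f8 (f9 (f10 (f8 (f9 (f10 (f8 (f9 (f10 (f8 (f9 (f10 (f8 (f9 (f10 (f8 (f9 (f10 (f8 (f9 (f10 (f8 (f9 (f10 (f8 (f9 (f10 (f8 (f9 (f10 (f8 (f9 (f10 (f8 (f9 (f10 (q))))))))))))))))))))))))))))))))))))))))))))))))))))))))))))))))))) q) ((fun q => q) q)) = true := by decide +kernel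

theorem rel3_267 : allR 398364 1492 (fun q => Nat.beq ((fun q => f8 (f9 (f10 (f8 (f9 (f10 (f8 (f9 (f10 (f8 (f9 (f10 (f8 (f9 (f10 (f8 (f9 (f10 (f8 (f9 (f10 (f8 (f9 (f10 (f8 (f9 (f10 (f8 (f9 (f10 (f8 (f9 (f10 (f8 (f9 (f10 (f8 (f9 (f10 (f8 (f9 (f10 (f8 (f9 (f10 (f8 (f9 (f10 (f8 (f9 (f10 (f8 (f9 (f10 (f8 (f9 (f10 (f8 (f9 (f10 (f8 (f9 (f10 (f8 (f9 (f10 (q))))))))))))))))))))))))))))))))))))))))))))))))))))))))))))))))))) q) ((fun q => q) q)) = true := by decide +kernel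

theorem rel3_268 : allR 399856 1492 (fun q => Nat.beq ((fun q => f8 (f9 (f10 (f8 (f9 (f10 (f8 (f9 (f10 (f8 (f9 (f10 (f8 (f9 (f10 (f8 (f9 (f10 (f8 (f9 (f10 (f8 (f9 (f10 (f8 (f9 (f10 (f8 (f9 (f10 (f8 (f9 (f10 (f8 (f9 (f10 (f8 (f9 (f10 (f8 (f9 (f10 (f8 (f9 (f10 (f8 (f9 (f10 (f8 (f9 (f10 (f8 (f9 (f10 (f8 (f9 (f10 (f8 (f9 (f10 (f8 (f9 (f10 (f8 (f9 (f10 (q))))))))))))))))))))))))))))))))))))))))))))))))))))))))))))))))))) q) ((fun q => q) q)) = true := by decide +kernel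

theorem rel3_269 : allR 401348 1492 (fun q => Nat.beq ((fun q => f8 (f9 (f10 (f8 (f9 (f10 (f8 (f9 (f10 (f8 (f9 (f10 (f8 (f9 (f10 (f8 (f9 (f10 (f8 (f9 (f10 (f8 (f9 (f10 (f8 (f9 (f10 (f8 (f9 (f10 (f8 (f9 (f10 (f8 (f9 (f10 (f8 (f9 (f10 (f8 (f9 (f10 (f8 (f9 (f10 (f8 (f9 (f10 (f8 (f9 (f10 (f8 (f9 (f10 (f8 (f9 (f10 (f8 (f9 (f10 (f8 (f9 (f10 (f8 (f9 (f10 (q))))))))))))))))))))))))))))))))))))))))))))))))))))))))))))))))))) q) ((fun q => q) q)) = true := by decide +kernel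

theorem rel3_270 : allR 402840 1492 (fun q => Nat.beq ((fun q => f8 (f9 (f10 (f8 (f9 (f10 (f8 (f9 (f10 (f8 (f9 (f10 (f8 (f9 (f10 (f8 (f9 (f10 (f8 (f9 (f10 (f8 (f9 (f10 (f8 (f9 (f10 (f8 (f9 (f10 (f8 (f9 (f10 (f8 (f9 (f10 (f8 (f9 (f10 (f8 (f9 (f10 (f8 (f9 (f10 (f8 (f9 (f10 (f8 (f9 (f10 (f8 (f9 (f10 (f8 (f9 (f10 (f8 (f9 (f10 (f8 (f9 (f10 (f8 (f9 (f10 (q))))))))))))))))))))))))))))))))))))))))))))))))))))))))))))))))))) q) ((fun q => q) q)) = true := by decide +kernel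

theorem rel3_271 : allR 404332 1492 (fun q => Nat.beq ((fun q => f8 (f9 (f10 (f8 (f9 (f10 (f8 (f9 (f10 (f8 (f9 (f10 (f8 (f9 (f10 (f8 (f9 (f10 (f8 (f9 (f10 (f8 (f9 (f10 (f8 (f9 (f10 (f8 (f9 (f10 (f8 (f9 (f10 (f8 (f9 (f10 (f8 (f9 (f10 (f8 (f9 (f10 (f8 (f9 (f10 (f8 (f9 (f10 (f8 (f9 (f10 (f8 (f9 (f10 (f8 (f9 (f10 (f8 (f9 (f10 (f8 (f9 (f10 (f8 (f9 (f10 (q))))))))))))))))))))))))))))))))))))))))))))))))))))))))))))))))))) q) ((fun q => q) q)) = true := by decide +kernel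

theorem rel3_272 : allR 405824 1492 (fun q => Nat.beq ((fun q => f8 (f9 (f10 (f8 (f9 (f10 (f8 (f9 (f10 (f8 (f9 (f10 (f8 (f9 (f10 (f8 (f9 (f10 (f8 (f9 (f10 (f8 (f9 (f10 (f8 (f9 (f10 (f8 (f9 (f10 (f8 (f9 (f10 (f8 (f9 (f10 (f8 (f9 (f10 (f8 (f9 (f10 (f8 (f9 (f10 (f8 (f9 (f10 (f8 (f9 (f10 (f8 (f9 (f10 (f8 (f9 (f10 (f8 (f9 (f10 (f8 (f9 (f10 (f8 (f9 (f10 (q))))))))))))))))))))))))))))))))))))))))))))))))))))))))))))))))))) q) ((fun q => q) q)) = true := by decide +kernel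

theorem rel3_273 : allR 407316 1492 (fun q => Nat.beq ((fun q => f8 (f9 (f10 (f8 (f9 (f10 (f8 (f9 (f10 (f8 (f9 (f10 (f8 (f9 (f10 (f8 (f9 (f10 (f8 (f9 (f10 (f8 (f9 (f10 (f8 (f9 (f10 (f8 (f9 (f10 (f8 (f9 (f10 (f8 (f9 (f10 (f8 (f9 (f10 (f8 (f9 (f10 (f8 (f9 (f10 (f8 (f9 (f10 (f8 (f9 (f10 (f8 (f9 (f10 (f8 (f9 (f10 (f8 (f9 (f10 (f8 (f9 (f10 (f8 (f9 (f10 (q))))))))))))))))))))))))))))))))))))))))))))))))))))))))))))))))))) q) ((fun q => q) q)) = true := by decide +kernel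

theorem rel3_274 : allR 408808 1492 (fun q => Nat.beq ((fun q => f8 (f9 (f10 (f8 (f9 (f10 (f8 (f9 (f10 (f8 (f9 (f10 (f8 (f9 (f10 (f8 (f9 (f10 (f8 (f9 (f10 (f8 (f9 (f10 (f8 (f9 (f10 (f8 (f9 (f10 (f8 (f9 (f10 (f8 (f9 (f10 (f8 (f9 (f10 (f8 (f9 (f10 (f8 (f9 (f10 (f8 (f9 (f10 (f8 (f9 (f10 (f8 (f9 (f10 (f8 (f9 (f10 (f8 (f9 (f10 (f8 (f9 (f10 (f8 (f9 (f10 (q))))))))))))))))))))))))))))))))))))))))))))))))))))))))))))))))))) q) ((fun q => q) q)) = true := by decide +kernel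


end Cfsg.Agent.HNOut
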