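import Cfsg.Agent.Lib.Lead.HNOut.D8
import Cfsg.Agent.Lib.Lead.HNOut.D9
import Cfsg.Agent.Lib.Lead.HNOut.D10

/-! # The outer automorphism group of the Harada–Norton group: the relation number 3, a part (generated) -/

set_option autoImplicit false
set_option maxRecDepth 100000

namespace Cfsg.Agent.HNOut

open Cfsg.Agent.PF Cfsg.Agent.Lib.Helper6 Cfsg.Agent.Lib.Helper6.TC Cfsg.Agent.Lib.Helper6.NatArr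
open Cfsg.Agent.PL (Acts evalF)

theorem rel3_275 : allR 410300 1492 (fun q => Nat.beq ((fun q => f8 (f9 (f10 (f8 (f9 (f10 (f8 (f9 (f10 (f8 (f9 (f10 (f8 (f9 (f10 (f8 (f9 (f10 (f8 (f9 (f10 (f8 (f9 (f10 (f8 (f9 (f10 (f8 (f9 (f10 (f8 (f9 (f10 (f8 (f9 (f10 (f8 (f9 (f10 (f8 (f9 (f10 (f8 (f9 (f10 (f8 (f9 (f10 (f8 (f9 (f10 (f8 (f9 (f10 (f8 (f9 (f10 (f8 (f9 (f10 (f8 (f9 (f10 (f8 (f9 (f10 (q))))))))))))))))))))))))))))))))))))))))))))))))))))))))))))))))))) q) ((fun q => q) q)) = true := by decide +kernel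

theorem rel3_276 : allR 411792 1492 (fun q => Nat.beq ((fun q => f8 (f9 (f10 (f8 (f9 (f10 (f8 (f9 (f10 (f8 (f9 (f10 (f8 (f9 (f10 (f8 (f9 (f10 (f8 (f9 (f10 (f8 (f9 (f10 (f8 (f9 (f10 (f8 (f9 (f10 (f8 (f9 (f10 (f8 (f9 (f10 (f8 (f9 (f10 (f8 (f9 (f10 (f8 (f9 (f10 (f8 (f9 (f10 (f8 (f9 (f10 (f8 (f9 (f10 (f8 (f9 (f10 (f8 (f9 (f10 (f8 (f9 (f10 (f8 (f9 (f10 (q))))))))))))))))))))))))))))))))))))))))))))))))))))))))))))))))))) q) ((fun q => q) q)) = true := by decide +kernel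

theorem rel3_277 : allR 413284 1492 (fun q => Nat.beq ((fun q => f8 (f9 (f10 (f8 (f9 (f10 (f8 (f9 (f10 (f8 (f9 (f10 (f8 (f9 (f10 (f8 (f9 (f10 (f8 (f9 (f10 (f8 (f9 (f10 (f8 (f9 (f10 (f8 (f9 (f10 (f8 (f9 (f10 (f8 (f9 (f10 (f8 (f9 (f10 (f8 (f9 (f10 (f8 (f9 (f10 (f8 (f9 (f10 (f8 (f9 (f10 (f8 (f9 (f10 (f8 (f9 (f10 (f8 (f9 (f10 (f8 (f9 (f10 (f8 (f9 (f10 (q))))))))))))))))))))))))))))))))))))))))))))))))))))))))))))))))))) q) ((fun q => q) q)) = true := by decide +kernel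

theorem rel3_278 : allR 414776 1492 (fun q => Nat.beq ((fun q => f8 (f9 (f10 (f8 (f9 (f10 (f8 (f9 (f10 (f8 (f9 (f10 (f8 (f9 (f10 (f8 (f9 (f10 (f8 (f9 (f10 (f8 (f9 (f10 (f8 (f9 (f10 (f8 (f9 (f10 (f8 (f9 (f10 (f8 (f9 (f10 (f8 (f9 (f10 (f8 (f9 (f10 (f8 (f9 (f10 (f8 (f9 (f10 (f8 (f9 (f10 (f8 (f9 (f10 (f8 (f9 (f10 (f8 (f9 (f10 (f8 (f9 (f10 (f8 (f9 (f10 (q))))))))))))))))))))))))))))))))))))))))))))))))))))))))))))))))))) q) ((fun q => q) q)) = true := by decide +kernel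

theorem rel3_279 : allR 416268 1492 (fun q => Nat.beq ((fun q => f8 (f9 (f10 (f8 (f9 (f10 (f8 (f9 (f10 (f8 (f9 (f10 (f8 (f9 (f10 (f8 (f9 (f10 (f8 (f9 (f10 (f8 (f9 (f10 (f8 (f9 (f10 (f8 (f9 (f10 (f8 (f9 (f10 (f8 (f9 (f10 (f8 (f9 (f10 (f8 (f9 (f10 (f8 (f9 (f10 (f8 (f9 (f10 (f8 (f9 (f10 (f8 (f9 (f10 (f8 (f9 (f10 (f8 (f9 (f10 (f8 (f9 (f10 (f8 (f9 (f10 (q))))))))))))))))))))))))))))))))))))))))))))))))))))))))))))))))))) q) ((fun q => q) q)) = true := by decide +kernel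

theorem rel3_280 : allR 417760 1492 (fun q => Nat.beq ((fun q => f8 (f9 (f10 (f8 (f9 (f10 (f8 (f9 (f10 (f8 (f9 (f10 (f8 (f9 (f10 (f8 (f9 (f10 (f8 (f9 (f10 (f8 (f9 (f10 (f8 (f9 (f10 (f8 (f9 (f10 (f8 (f9 (f10 (f8 (f9 (f10 (f8 (f9 (f10 (f8 (f9 (f10 (f8 (f9 (f10 (f8 (f9 (f10 (f8 (f9 (f10 (f8 (f9 (f10 (f8 (f9 (f10 (f8 (f9 (f10 (f8 (f9 (f10 (f8 (f9 (f10 (q))))))))))))))))))))))))))))))))))))))))))))))))))))))))))))))))))) q) ((fun q => q) q)) = true := by decide +kernel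

theorem rel3_281 : allR 419252 1492 (fun q => Nat.beq ((fun q => f8 (f9 (f10 (f8 (f9 (f10 (f8 (f9 (f10 (f8 (f9 (f10 (f8 (f9 (f10 (f8 (f9 (f10 (f8 (f9 (f10 (f8 (f9 (f10 (f8 (f9 (f10 (f8 (f9 (f10 (f8 (f9 (f10 (f8 (f9 (f10 (f8 (f9 (f10 (f8 (f9 (f10 (f8 (f9 (f10 (f8 (f9 (f10 (f8 (f9 (f10 (f8 (f9 (f10 (f8 (f9 (f10 (f8 (f9 (f10 (f8 (f9 (f10 (f8 (f9 (f10 (q))))))))))))))))))))))))))))))))))))))))))))))))))))))))))))))))))) q) ((fun q => q) q)) = true := by decide +kernel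

theorem rel3_282 : allR 420744 1492 (fun q => Nat.beq ((fun q => f8 (f9 (f10 (f8 (f9 (f10 (f8 (f9 (f10 (f8 (f9 (f10 (f8 (f9 (f10 (f8 (f9 (f10 (f8 (f9 (f10 (f8 (f9 (f10 (f8 (f9 (f10 (f8 (f9 (f10 (f8 (f9 (f10 (f8 (f9 (f10 (f8 (f9 (f10 (f8 (f9 (f10 (f8 (f9 (f10 (f8 (f9 (f10 (f8 (f9 (f10 (f8 (f9 (f10 (f8 (f9 (f10 (f8 (f9 (f10 (f8 (f9 (f10 (f8 (f9 (f10 (q))))))))))))))))))))))))))))))))))))))))))))))))))))))))))))))))))) q) ((fun q => q) q)) = true := by decide +kernel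

theorem rel3_283 : allR 422236 1492 (fun q => Nat.beq ((fun q => f8 (f9 (f10 (f8 (f9 (f10 (f8 (f9 (f10 (f8 (f9 (f10 (f8 (f9 (f10 (f8 (f9 (f10 (f8 (f9 (f10 (f8 (f9 (f10 (f8 (f9 (f10 (f8 (f9 (f10 (f8 (f9 (f10 (f8 (f9 (f10 (f8 (f9 (f10 (f8 (f9 (f10 (f8 (f9 (f10 (f8 (f9 (f10 (f8 (f9 (f10 (f8 (f9 (f10 (f8 (f9 (f10 (f8 (f9 (f10 (f8 (f9 (f10 (f8 (f9 (f10 (q))))))))))))))))))))))))))))))))))))))))))))))))))))))))))))))))))) q) ((fun q => q) q)) = true := by decide +kernel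

theorem rel3_284 : allR 423728 1492 (fun q => Nat.beq ((fun q => f8 (f9 (f10 (f8 (f9 (f10 (f8 (f9 (f10 (f8 (f9 (f10 (f8 (f9 (f10 (f8 (f9 (f10 (f8 (f9 (f10 (f8 (f9 (f10 (f8 (f9 (f10 (f8 (f9 (f10 (f8 (f9 (f10 (f8 (f9 (f10 (f8 (f9 (f10 (f8 (f9 (f10 (f8 (f9 (f10 (f8 (f9 (f10 (f8 (f9 (f10 (f8 (f9 (f10 (f8 (f9 (f10 (f8 (f9 (f10 (f8 (f9 (f10 (f8 (f9 (f10 (q))))))))))))))))))))))))))))))))))))))))))))))))))))))))))))))))))) q) ((fun q => q) q)) = true := by decide +kernel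

theorem rel3_285 : allR 425220 1492 (fun q => Nat.beq ((fun q => f8 (f9 (f10 (f8 (f9 (f10 (f8 (f9 (f10 (f8 (f9 (f10 (f8 (f9 (f10 (f8 (f9 (f10 (f8 (f9 (f10 (f8 (f9 (f10 (f8 (f9 (f10 (f8 (f9 (f10 (f8 (f9 (f10 (f8 (f9 (f10 (f8 (f9 (f10 (f8 (f9 (f10 (f8 (f9 (f10 (f8 (f9 (f10 (f8 (f9 (f10 (f8 (f9 (f10 (f8 (f9 (f10 (f8 (f9 (f10 (f8 (f9 (f10 (f8 (f9 (f10 (q))))))))))))))))))))))))))))))))))))))))))))))))))))))))))))))))))) q) ((fun q => q) q)) = true := by decide +kernel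

theorem rel3_286 : allR 426712 1492 (fun q => Nat.beq ((fun q => f8 (f9 (f10 (f8 (f9 (f10 (f8 (f9 (f10 (f8 (f9 (f10 (f8 (f9 (f10 (f8 (f9 (f10 (f8 (f9 (f10 (f8 (f9 (f10 (f8 (f9 (f10 (f8 (f9 (f10 (f8 (f9 (f10 (f8 (f9 (f10 (f8 (f9 (f10 (f8 (f9 (f10 (f8 (f9 (f10 (f8 (f9 (f10 (f8 (f9 (f10 (f8 (f9 (f10 (f8 (f9 (f10 (f8 (f9 (f10 (f8 (f9 (f10 (f8 (f9 (f10 (q))))))))))))))))))))))))))))))))))))))))))))))))))))))))))))))))))) q) ((fun q => q) q)) = true := by decide +kernel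

theorem rel3_287 : allR 428204 1492 (fun q => Nat.beq ((fun q => f8 (f9 (f10 (f8 (f9 (f10 (f8 (f9 (f10 (f8 (f9 (f10 (f8 (f9 (f10 (f8 (f9 (f10 (f8 (f9 (f10 (f8 (f9 (f10 (f8 (f9 (f10 (f8 (f9 (f10 (f8 (f9 (f10 (f8 (f9 (f10 (f8 (f9 (f10 (f8 (f9 (f10 (f8 (f9 (f10 (f8 (f9 (f10 (f8 (f9 (f10 (f8 (f9 (f10 (f8 (f9 (f10 (f8 (f9 (f10 (f8 (f9 (f10 (f8 (f9 (f10 (q))))))))))))))))))))))))))))))))))))))))))))))))))))))))))))))))))) q) ((fun q => q) q)) = true := by decide +kernel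

theorem rel3_288 : allR 429696 1492 (fun q => Nat.beq ((fun q => f8 (f9 (f10 (f8 (f9 (f10 (f8 (f9 (f10 (f8 (f9 (f10 (f8 (f9 (f10 (f8 (f9 (f10 (f8 (f9 (f10 (f8 (f9 (f10 (f8 (f9 (f10 (f8 (f9 (f10 (f8 (f9 (f10 (f8 (f9 (f10 (f8 (f9 (f10 (f8 (f9 (f10 (f8 (f9 (f10 (f8 (f9 (f10 (f8 (f9 (f10 (f8 (f9 (f10 (f8 (f9 (f10 (f8 (f9 (f10 (f8 (f9 (f10 (f8 (f9 (f10 (q))))))))))))))))))))))))))))))))))))))))))))))))))))))))))))))))))) q) ((fun q => q) q)) = true := by decide +kernel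

theorem rel3_289 : allR 431188 1492 (fun q => Nat.beq ((fun q => f8 (f9 (f10 (f8 (f9 (f10 (f8 (f9 (f10 (f8 (f9 (f10 (f8 (f9 (f10 (f8 (f9 (f10 (f8 (f9 (f10 (f8 (f9 (f10 (f8 (f9 (f10 (f8 (f9 (f10 (f8 (f9 (f10 (f8 (f9 (f10 (f8 (f9 (f10 (f8 (f9 (f10 (f8 (f9 (f10 (f8 (f9 (f10 (f8 (f9 (f10 (f8 (f9 (f10 (f8 (f9 (f10 (f8 (f9 (f10 (f8 (f9 (f10 (f8 (f9 (f10 (q))))))))))))))))))))))))))))))))))))))))))))))))))))))))))))))))))) q) ((fun q => q) q)) = true := by decide +kernel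

theorem rel3_290 : allR 432680 1492 (fun q => Nat.beq ((fun q => f8 (f9 (f10 (f8 (f9 (f10 (f8 (f9 (f10 (f8 (f9 (f10 (f8 (f9 (f10 (f8 (f9 (f10 (f8 (f9 (f10 (f8 (f9 (f10 (f8 (f9 (f10 (f8 (f9 (f10 (f8 (f9 (f10 (f8 (f9 (f10 (f8 (f9 (f10 (f8 (f9 (f10 (f8 (f9 (f10 (f8 (f9 (f10 (f8 (f9 (f10 (f8 (f9 (f10 (f8 (f9 (f10 (f8 (f9 (f10 (f8 (f9 (f10 (f8 (f9 (f10 (q))))))))))))))))))))))))))))))))))))))))))))))))))))))))))))))))))) q) ((fun q => q) q)) = true := by decide +kernel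

theorem rel3_291 : allR 434172 1492 (fun q => Nat.beq ((fun q => f8 (f9 (f10 (f8 (f9 (f10 (f8 (f9 (f10 (f8 (f9 (f10 (f8 (f9 (f10 (f8 (f9 (f10 (f8 (f9 (f10 (f8 (f9 (f10 (f8 (f9 (f10 (f8 (f9 (f10 (f8 (f9 (f10 (f8 (f9 (f10 (f8 (f9 (f10 (f8 (f9 (f10 (f8 (f9 (f10 (f8 (f9 (f10 (f8 (f9 (f10 (f8 (f9 (f10 (f8 (f9 (f10 (f8 (f9 (f10 (f8 (f9 (f10 (f8 (f9 (f10 (q))))))))))))))))))))))))))))))))))))))))))))))))))))))))))))))))))) q) ((fun q => q) q)) = true := by decide +kernel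

theorem rel3_292 : allR 435664 1492 (fun q => Nat.beq ((fun q => f8 (f9 (f10 (f8 (f9 (f10 (f8 (f9 (f10 (f8 (f9 (f10 (f8 (f9 (f10 (f8 (f9 (f10 (f8 (f9 (f10 (f8 (f9 (f10 (f8 (f9 (f10 (f8 (f9 (f10 (f8 (f9 (f10 (f8 (f9 (f10 (f8 (f9 (f10 (f8 (f9 (f10 (f8 (f9 (f10 (f8 (f9 (f10 (f8 (f9 (f10 (f8 (f9 (f10 (f8 (f9 (f10 (f8 (f9 (f10 (f8 (f9 (f10 (f8 (f9 (f10 (q))))))))))))))))))))))))))))))))))))))))))))))))))))))))))))))))))) q) ((fun q => q) q)) = true := by decide +kernel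

theorem rel3_293 : allR 437156 1492 (fun q => Nat.beq ((fun q => f8 (f9 (f10 (f8 (f9 (f10 (f8 (f9 (f10 (f8 (f9 (f10 (f8 (f9 (f10 (f8 (f9 (f10 (f8 (f9 (f10 (f8 (f9 (f10 (f8 (f9 (f10 (f8 (f9 (f10 (f8 (f9 (f10 (f8 (f9 (f10 (f8 (f9 (f10 (f8 (f9 (f10 (f8 (f9 (f10 (f8 (f9 (f10 (f8 (f9 (f10 (f8 (f9 (f10 (f8 (f9 (f10 (f8 (f9 (f10 (f8 (f9 (f10 (f8 (f9 (f10 (q))))))))))))))))))))))))))))))))))))))))))))))))))))))))))))))))))) q) ((fun q => q) q)) = true := by decide +kernel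

theorem rel3_294 : allR 438648 1492 (fun q => Nat.beq ((fun q => f8 (f9 (f10 (f8 (f9 (f10 (f8 (f9 (f10 (f8 (f9 (f10 (f8 (f9 (f10 (f8 (f9 (f10 (f8 (f9 (f10 (f8 (f9 (f10 (f8 (f9 (f10 (f8 (f9 (f10 (f8 (f9 (f10 (f8 (f9 (f10 (f8 (f9 (f10 (f8 (f9 (f10 (f8 (f9 (f10 (f8 (f9 (f10 (f8 (f9 (f10 (f8 (f9 (f10 (f8 (f9 (f10 (f8 (f9 (f10 (f8 (f9 (f10 (f8 (f9 (f10 (q))))))))))))))))))))))))))))))))))))))))))))))))))))))))))))))))))) q) ((fun q => q) q)) = true := by decide +kernel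

theorem rel3_295 : allR 440140 1492 (fun q => Nat.beq ((fun q => f8 (f9 (f10 (f8 (f9 (f10 (f8 (f9 (f10 (f8 (f9 (f10 (f8 (f9 (f10 (f8 (f9 (f10 (f8 (f9 (f10 (f8 (f9 (f10 (f8 (f9 (f10 (f8 (f9 (f10 (f8 (f9 (f10 (f8 (f9 (f10 (f8 (f9 (f10 (f8 (f9 (f10 (f8 (f9 (f10 (f8 (f9 (f10 (f8 (f9 (f10 (f8 (f9 (f10 (f8 (f9 (f10 (f8 (f9 (f10 (f8 (f9 (f10 (f8 (f9 (f10 (q))))))))))))))))))))))))))))))))))))))))))))))))))))))))))))))))))) q) ((fun q => q) q)) = true := by decide +kernel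

theorem rel3_296 : allR 441632 1492 (fun q => Nat.beq ((fun q => f8 (f9 (f10 (f8 (f9 (f10 (f8 (f9 (f10 (f8 (f9 (f10 (f8 (f9 (f10 (f8 (f9 (f10 (f8 (f9 (f10 (f8 (f9 (f10 (f8 (f9 (f10 (f8 (f9 (f10 (f8 (f9 (f10 (f8 (f9 (f10 (f8 (f9 (f10 (f8 (f9 (f10 (f8 (f9 (f10 (f8 (f9 (f10 (f8 (f9 (f10 (f8 (f9 (f10 (f8 (f9 (f10 (f8 (f9 (f10 (f8 (f9 (f10 (f8 (f9 (f10 (q))))))))))))))))))))))))))))))))))))))))))))))))))))))))))))))))))) q) ((fun q => q) q)) = true := by decide +kernel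

theorem rel3_297 : allR 443124 1492 (fun q => Nat.beq ((fun q => f8 (f9 (f10 (f8 (f9 (f10 (f8 (f9 (f10 (f8 (f9 (f10 (f8 (f9 (f10 (f8 (f9 (f10 (f8 (f9 (f10 (f8 (f9 (f10 (f8 (f9 (f10 (f8 (f9 (f10 (f8 (f9 (f10 (f8 (f9 (f10 (f8 (f9 (f10 (f8 (f9 (f10 (f8 (f9 (f10 (f8 (f9 (f10 (f8 (f9 (f10 (f8 (f9 (f10 (f8 (f9 (f10 (f8 (f9 (f10 (f8 (f9 (f10 (f8 (f9 (f10 (q))))))))))))))))))))))))))))))))))))))))))))))))))))))))))))))))))) q) ((fun q => q) q)) = true := by decide +kernel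

theorem rel3_298 : allR 444616 1492 (fun q => Nat.beq ((fun q => f8 (f9 (f10 (f8 (f9 (f10 (f8 (f9 (f10 (f8 (f9 (f10 (f8 (f9 (f10 (f8 (f9 (f10 (f8 (f9 (f10 (f8 (f9 (f10 (f8 (f9 (f10 (f8 (f9 (f10 (f8 (f9 (f10 (f8 (f9 (f10 (f8 (f9 (f10 (f8 (f9 (f10 (f8 (f9 (f10 (f8 (f9 (f10 (f8 (f9 (f10 (f8 (f9 (f10 (f8 (f9 (f10 (f8 (f9 (f10 (f8 (f9 (f10 (f8 (f9 (f10 (q))))))))))))))))))))))))))))))))))))))))))))))))))))))))))))))))))) q) ((fun q => q) q)) = true := by decide +kernel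

theorem rel3_299 : allR 446108 1492 (fun q => Nat.beq ((fun q => f8 (f9 (f10 (f8 (f9 (f10 (f8 (f9 (f10 (f8 (f9 (f10 (f8 (f9 (f10 (f8 (f9 (f10 (f8 (f9 (f10 (f8 (f9 (f10 (f8 (f9 (f10 (f8 (f9 (f10 (f8 (f9 (f10 (f8 (f9 (f10 (f8 (f9 (f10 (f8 (f9 (f10 (f8 (f9 (f10 (f8 (f9 (f10 (f8 (f9 (f10 (f8 (f9 (f10 (f8 (f9 (f10 (f8 (f9 (f10 (f8 (f9 (f10 (f8 (f9 (f10 (q))))))))))))))))))))))))))))))))))))))))))))))))))))))))))))))))))) q) ((fun q => q) q)) = true := by decide +kernel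


end Cfsg.Agent.HNOut
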