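import Cfsg.Agent.Lib.Lead.HNOut.Rel3x0
import Cfsg.Agent.Lib.Lead.HNOut.Rel3x1
import Cfsg.Agent.Lib.Lead.HNOut.Rel3x2
import Cfsg.Agent.Lib.Lead.HNOut.Rel3x3
import Cfsg.Agent.Lib.Lead.HNOut.Rel3x4
import Cfsg.Agent.Lib.Lead.HNOut.Rel3x5
import Cfsg.Agent.Lib.Lead.HNOut.Rel3x6
import Cfsg.Agent.Lib.Lead.HNOut.Rel3x7
import Cfsg.Agent.Lib.Lead.HNOut.Rel3x8
import Cfsg.Agent.Lib.Lead.HNOut.Rel3x9
import Cfsg.Agent.Lib.Lead.HNOut.Rel3x10
import Cfsg.Agent.Lib.Lead.HNOut.Rel3x11
import Cfsg.Agent.Lib.Lead.HNOut.Rel3x12
import Cfsg.Agent.Lib.Lead.HNOut.Rel3x13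
import Cfsg.Agent.Lib.Lead.HNOut.Rel3x14
import Cfsg.Agent.Lib.Lead.HNOut.Rel3x15
import Cfsg.Agent.Lib.Lead.HNOut.Rel3x16
import Cfsg.Agent.Lib.Lead.HNOut.Rel3x17
import Cfsg.Agent.Lib.Lead.HNOut.Rel3x18
import Cfsg.Agent.Lib.Lead.HNOut.Rel3x19
import Cfsg.Agent.Lib.Lead.HNOut.Rel3x20
import Cfsg.Agent.Lib.Lead.HNOut.Rel3x21
import Cfsg.Agent.Lib.Lead.HNOut.Rel3x22
import Cfsg.Agent.Lib.Lead.HNOut.Rel3x23
import Cfsg.Agent.Lib.Lead.HNOut.Rel3x24
import Cfsg.Agent.Lib.Lead.HNOut.Rel3x25
import Cfsg.Agent.Lib.Lead.HNOut.Rel3x26
import Cfsg.Agent.Lib.Lead.HNOut.Rel3x27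
import Cfsg.Agent.Lib.Lead.HNOut.Rel3x28
import Cfsg.Agent.Lib.Lead.HNOut.Rel3x29
import Cfsg.Agent.Lib.Lead.HNOut.Rel3x30
import Cfsg.Agent.Lib.Lead.HNOut.Rel3x31
import Cfsg.Agent.Lib.Lead.HNOut.Rel3x32
import Cfsg.Agent.Lib.Lead.HNOut.Rel3x33
import Cfsg.Agent.Lib.Lead.HNOut.Rel3x34
import Cfsg.Agent.Lib.Lead.HNOut.Rel3x35
import Cfsg.Agent.Lib.Lead.HNOut.Rel3x36
import Cfsg.Agent.Lib.Lead.HNOut.Rel3x37
import Cfsg.Agent.Lib.Lead.HNOut.Rel3x38
import Cfsg.Agent.Lib.Lead.HNOut.Rel3x39
import Cfsg.Agent.Lib.Lead.HNOut.Rel3x40
import Cfsg.Agent.Lib.Lead.HNOut.Rel3x41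
import Cfsg.Agent.Lib.Lead.HNOut.Kills

/-! # The outer automorphism group of the Harada–Norton group: the relation number 3 (generated) -/

set_option autoImplicit false
set_option maxRecDepth 100000

namespace Cfsg.Agent.HNOut

open Cfsg.Agent.PF Cfsg.Agent.Lib.Helper6 Cfsg.Agent.Lib.Helper6.TC Cfsg.Agent.Lib.Helper6.NatArr
open Cfsg.Agent.PL (Acts evalF)

theorem rel3_grp0 : ∀ c ∈ ([(0, 1492), (1492, 1492), (2984, 1492), (4476, 1492), (5968, 1492), (7460, 1492), (8952, 1492), (10444, 1492), (11936, 1492), (13428, 1492), (14920, 1492), (16412, 1492), (17904, 1492), (19396, 1492), (20888, 1492), (22380, 1492), (23872, 1492), (25364, 1492), (26856, 1492), (28348, 1492), (29840, 1492), (31332, 1492), (32824, 1492), (34316, 1492), (35808, 1492), (37300, 1492), (38792, 1492), (40284, 1492), (41776, 1492), (43268, 1492), (44760, 1492), (46252, 1492), (47744, 1492), (49236, 1492), (50728, 1492), (52220, 1492), (53712, 1492), (55204, 1492), (56696, 1492), (58188, 1492), (59680, 1492), (61172, 1492), (62664, 1492), (64156, 1492), (65648, 1492), (67140, 1492),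 (68632, 1492), (70124, 1492), (71616, 1492), (73108, 1492), (74600, 1492), (76092, 1492), (77584, 1492), (79076, 1492), (80568, 1492), (82060, 1492), (83552, 1492), (85044, 1492), (86536, 1492), (88028, 1492), (89520, 1492), (91012, 1492), (92504, 1492), (93996, 1492), (95488, 1492), (96980, 1492), (98472, 1492), (99964, 1492), (101456, 1492), (102948, 1492), (104440, 1492), (105932, 1492), (107424, 1492), (108916, 1492), (110408, 1492), (111900, 1492), (113392, 1492), (114884, 1492), (116376, 1492), (117868, 1492), (119360, 1492), (120852, 1492), (122344, 1492), (123836, 1492), (125328, 1492), (126820, 1492), (128312, 1492), (129804, 1492), (131296, 1492), (132788, 1492), (134280, 1492), (135772, 1492), (137264, 1492), (138756, 1492), (140248, 1492), (141740, 1492), (143232, 1492), (144724, 1492), (146216, 1492), (147708, 1492), (149200, 1492), (150692, 1492), (152184, 1492), (153676, 1492), (155168, 1492), (156660, 1492), (158152, 1492), (159644, 1492), (161136, 1492), (162628, 1492), (164120, 1492), (165612, 1492), (167104, 1492), (168596, 1492), (170088,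 1492), (171580, 1492), (173072, 1492), (174564, 1492), (176056, 1492), (177548, 1492), (179040, 1492), (180532, 1492), (182024, 1492), (183516, 1492), (185008, 1492), (186500, 1492), (187992, 1492), (189484, 1492), (190976, 1492), (192468, 1492), (193960, 1492), (195452, 1492), (196944, 1492), (198436, 1492), (199928, 1492), (201420, 1492), (202912, 1492), (204404, 1492), (205896, 1492), (207388, 1492), (208880, 1492), (210372, 1492), (211864, 1492), (213356, 1492), (214848, 1492), (216340, 1492), (217832, 1492), (219324, 1492), (220816, 1492), (222308, 1492)] : List (ℕ × ℕ)), allR c.1 c.2 (fun q => Nat.beq ((fun q => f8 (f9 (f10 (f8 (f9 (f10 (f8 (f9 (f10 (f8 (f9 (f10 (f8 (f9 (f10 (f8 (f9 (f10 (f8 (f9 (f10 (f8 (f9 (f10 (f8 (f9 (f10 (f8 (f9 (f10 (f8 (f9 (f10 (f8 (f9 (f10 (f8 (f9 (f10 (f8 (f9 (f10 (f8 (f9 (f10 (f8 (f9 (f10 (f8 (f9 (f10 (f8 (f9 (f10 (f8 (f9 (f10 (f8 (f9 (f10 (f8 (f9 (f10 (f8 (f9 (f10 (q))))))))))))))))))))))))))))))))))))))))))))))))))))))))))))))))))) q) ((fun q => q) q)) = true :=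
  all_cons rel3_0 (all_cons rel3_1 (all_cons rel3_2 (all_cons rel3_3 (all_cons rel3_4 (all_cons rel3_5 (all_cons rel3_6 (all_cons rel3_7 (all_cons rel3_8 (all_cons rel3_9 (all_cons rel3_10 (all_cons rel3_11 (all_cons rel3_12 (all_cons rel3_13 (all_cons rel3_14 (all_cons rel3_15 (all_cons rel3_16 (all_cons rel3_17 (all_cons rel3_18 (all_cons rel3_19 (all_cons rel3_20 (all_cons rel3_21 (all_cons rel3_22 (all_cons rel3_23 (all_cons rel3_24 (all_cons rel3_25 (all_cons rel3_26 (all_cons rel3_27 (all_cons rel3_28 (all_cons rel3_29 (all_cons rel3_30 (all_cons rel3_31 (all_cons rel3_32 (all_cons rel3_33 (all_cons rel3_34 (all_cons rel3_35 (all_cons rel3_36 (all_cons rel3_37 (all_cons rel3_38 (all_cons rel3_39 (all_cons rel3_40 (all_cons rel3_41 (all_cons rel3_42 (all_cons rel3_43 (all_cons rel3_44 (all_cons rel3_45 (all_cons rel3_46 (all_cons rel3_47 (all_cons rel3_48 (all_cons rel3_49 (all_cons rel3_50 (all_cons rel3_51 (all_cons rel3_52 (all_cons rel3_53 (all_cons rel3_54 (all_cons rel3_55 (all_cons rel3_56 (all_cons rel3_57 (all_cons rel3_58 (all_cons rel3_59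 (all_cons rel3_60 (all_cons rel3_61 (all_cons rel3_62 (all_cons rel3_63 (all_cons rel3_64 (all_cons rel3_65 (all_cons rel3_66 (all_cons rel3_67 (all_cons rel3_68 (all_cons rel3_69 (all_cons rel3_70 (all_cons rel3_71 (all_cons rel3_72 (all_cons rel3_73 (all_cons rel3_74 (all_cons rel3_75 (all_cons rel3_76 (all_cons rel3_77 (all_cons rel3_78 (all_cons rel3_79 (all_cons rel3_80 (all_cons rel3_81 (all_cons rel3_82 (all_cons rel3_83 (all_cons rel3_84 (all_cons rel3_85 (all_cons rel3_86 (all_cons rel3_87 (all_cons rel3_88 (all_cons rel3_89 (all_cons rel3_90 (all_cons rel3_91 (all_cons rel3_92 (all_cons rel3_93 (all_cons rel3_94 (all_cons rel3_95 (all_cons rel3_96 (all_cons rel3_97 (all_cons rel3_98 (all_cons rel3_99 (all_cons rel3_100 (all_cons rel3_101 (all_cons rel3_102 (all_cons rel3_103 (all_cons rel3_104 (all_cons rel3_105 (all_cons rel3_106 (all_cons rel3_107 (all_cons rel3_108 (all_cons rel3_109 (all_cons rel3_110 (all_cons rel3_111 (all_cons rel3_112 (all_cons rel3_113 (all_cons rel3_114 (all_cons rel3_115 (all_cons rel3_116 (all_cons rel3_117 (all_cons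 rel3_118 (all_cons rel3_119 (all_cons rel3_120 (all_cons rel3_121 (all_cons rel3_122 (all_cons rel3_123 (all_cons rel3_124 (all_cons rel3_125 (all_cons rel3_126 (all_cons rel3_127 (all_cons rel3_128 (all_cons rel3_129 (all_cons rel3_130 (all_cons rel3_131 (all_cons rel3_132 (all_cons rel3_133 (all_cons rel3_134 (all_cons rel3_135 (all_cons rel3_136 (all_cons rel3_137 (all_cons rel3_138 (all_cons rel3_139 (all_cons rel3_140 (all_cons rel3_141 (all_cons rel3_142 (all_cons rel3_143 (all_cons rel3_144 (all_cons rel3_145 (all_cons rel3_146 (all_cons rel3_147 (all_cons rel3_148 (all_cons rel3_149 (all_nil))))))))))))))))))))))))))))))))))))))))))))))))))))))))))))))))))))))))))))))))))))))))))))))))))))))))))))))))))))))))))))))))))))))))))))))))))))))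

theorem rel3_grp1 : ∀ c ∈ ([(223800, 1492), (225292, 1492), (226784, 1492), (228276, 1492), (229768, 1492), (231260, 1492), (232752, 1492), (234244, 1492), (235736, 1492), (237228, 1492), (238720, 1492), (240212, 1492), (241704, 1492), (243196, 1492), (244688, 1492), (246180, 1492), (247672, 1492), (249164, 1492), (250656, 1492), (252148, 1492), (253640, 1492), (255132, 1492), (256624, 1492), (258116, 1492), (259608, 1492), (261100, 1492), (262592, 1492), (264084, 1492), (265576, 1492), (267068, 1492), (268560, 1492), (270052, 1492), (271544, 1492), (273036, 1492), (274528, 1492), (276020, 1492), (277512, 1492), (279004, 1492), (280496, 1492), (281988, 1492), (283480, 1492), (284972, 1492), (286464, 1492), (287956, 1492), (289448, 1492), (290940, 1492), (292432, 1492), (293924, 1492), (295416, 1492), (296908, 1492), (298400, 1492), (299892, 1492), (301384, 1492), (302876, 1492), (304368, 1492), (305860, 1492), (307352, 1492), (308844, 1492), (310336, 1492), (311828, 1492), (313320, 1492), (314812, 1492), (316304, 1492), (317796, 1492), (319288, 1492),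 (320780, 1492), (322272, 1492), (323764, 1492), (325256, 1492), (326748, 1492), (328240, 1492), (329732, 1492), (331224, 1492), (332716, 1492), (334208, 1492), (335700, 1492), (337192, 1492), (338684, 1492), (340176, 1492), (341668, 1492), (343160, 1492), (344652, 1492), (346144, 1492), (347636, 1492), (349128, 1492), (350620, 1492), (352112, 1492), (353604, 1492), (355096, 1492), (356588, 1492), (358080, 1492), (359572, 1492), (361064, 1492), (362556, 1492), (364048, 1492), (365540, 1492), (367032, 1492), (368524, 1492), (370016, 1492), (371508, 1492), (373000, 1492), (374492, 1492), (375984, 1492), (377476, 1492), (378968, 1492), (380460, 1492), (381952, 1492), (383444, 1492), (384936, 1492), (386428, 1492), (387920, 1492), (389412, 1492), (390904, 1492), (392396, 1492), (393888, 1492), (395380, 1492), (396872, 1492), (398364, 1492), (399856, 1492), (401348, 1492), (402840, 1492), (404332, 1492), (405824, 1492), (407316, 1492), (408808, 1492), (410300, 1492), (411792, 1492), (413284, 1492), (414776, 1492), (416268, 1492), (417760, 1492), (419252, 1492),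 (420744, 1492), (422236, 1492), (423728, 1492), (425220, 1492), (426712, 1492), (428204, 1492), (429696, 1492), (431188, 1492), (432680, 1492), (434172, 1492), (435664, 1492), (437156, 1492), (438648, 1492), (440140, 1492), (441632, 1492), (443124, 1492), (444616, 1492), (446108, 1492)] : List (ℕ × ℕ)), allR c.1 c.2 (fun q => Nat.beq ((fun q => f8 (f9 (f10 (f8 (f9 (f10 (f8 (f9 (f10 (f8 (f9 (f10 (f8 (f9 (f10 (f8 (f9 (f10 (f8 (f9 (f10 (f8 (f9 (f10 (f8 (f9 (f10 (f8 (f9 (f10 (f8 (f9 (f10 (f8 (f9 (f10 (f8 (f9 (f10 (f8 (f9 (f10 (f8 (f9 (f10 (f8 (f9 (f10 (f8 (f9 (f10 (f8 (f9 (f10 (f8 (f9 (f10 (f8 (f9 (f10 (f8 (f9 (f10 (f8 (f9 (f10 (q))))))))))))))))))))))))))))))))))))))))))))))))))))))))))))))))))) q) ((fun q => q) q)) = true :=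
  all_cons rel3_150 (all_cons rel3_151 (all_cons rel3_152 (all_cons rel3_153 (all_cons rel3_154 (all_cons rel3_155 (all_cons rel3_156 (all_cons rel3_157 (all_cons rel3_158 (all_cons rel3_159 (all_cons rel3_160 (all_cons rel3_161 (all_cons rel3_162 (all_cons rel3_163 (all_cons rel3_164 (all_cons rel3_165 (all_cons rel3_166 (all_cons rel3_167 (all_cons rel3_168 (all_cons rel3_169 (all_cons rel3_170 (all_cons rel3_171 (all_cons rel3_172 (all_cons rel3_173 (all_cons rel3_174 (all_cons rel3_175 (all_cons rel3_176 (all_cons rel3_177 (all_cons rel3_178 (all_cons rel3_179 (all_cons rel3_180 (all_cons rel3_181 (all_cons rel3_182 (all_cons rel3_183 (all_cons rel3_184 (all_cons rel3_185 (all_cons rel3_186 (all_cons rel3_187 (all_cons rel3_188 (all_cons rel3_189 (all_cons rel3_190 (all_cons rel3_191 (all_cons rel3_192 (all_cons rel3_193 (all_cons rel3_194 (all_cons rel3_195 (all_cons rel3_196 (all_cons rel3_197 (all_cons rel3_198 (all_cons rel3_199 (all_cons rel3_200 (all_cons rel3_201 (all_cons rel3_202 (all_cons rel3_203 (all_cons rel3_204 (all_cons rel3_205 (all_cons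 rel3_206 (all_cons rel3_207 (all_cons rel3_208 (all_cons rel3_209 (all_cons rel3_210 (all_cons rel3_211 (all_cons rel3_212 (all_cons rel3_213 (all_cons rel3_214 (all_cons rel3_215 (all_cons rel3_216 (all_cons rel3_217 (all_cons rel3_218 (all_cons rel3_219 (all_cons rel3_220 (all_cons rel3_221 (all_cons rel3_222 (all_cons rel3_223 (all_cons rel3_224 (all_cons rel3_225 (all_cons rel3_226 (all_cons rel3_227 (all_cons rel3_228 (all_cons rel3_229 (all_cons rel3_230 (all_cons rel3_231 (all_cons rel3_232 (all_cons rel3_233 (all_cons rel3_234 (all_cons rel3_235 (all_cons rel3_236 (all_cons rel3_237 (all_cons rel3_238 (all_cons rel3_239 (all_cons rel3_240 (all_cons rel3_241 (all_cons rel3_242 (all_cons rel3_243 (all_cons rel3_244 (all_cons rel3_245 (all_cons rel3_246 (all_cons rel3_247 (all_cons rel3_248 (all_cons rel3_249 (all_cons rel3_250 (all_cons rel3_251 (all_cons rel3_252 (all_cons rel3_253 (all_cons rel3_254 (all_cons rel3_255 (all_cons rel3_256 (all_cons rel3_257 (all_cons rel3_258 (all_cons rel3_259 (all_cons rel3_260 (all_cons rel3_261 (all_cons rel3_262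 (all_cons rel3_263 (all_cons rel3_264 (all_cons rel3_265 (all_cons rel3_266 (all_cons rel3_267 (all_cons rel3_268 (all_cons rel3_269 (all_cons rel3_270 (all_cons rel3_271 (all_cons rel3_272 (all_cons rel3_273 (all_cons rel3_274 (all_cons rel3_275 (all_cons rel3_276 (all_cons rel3_277 (all_cons rel3_278 (all_cons rel3_279 (all_cons rel3_280 (all_cons rel3_281 (all_cons rel3_282 (all_cons rel3_283 (all_cons rel3_284 (all_cons rel3_285 (all_cons rel3_286 (all_cons rel3_287 (all_cons rel3_288 (all_cons rel3_289 (all_cons rel3_290 (all_cons rel3_291 (all_cons rel3_292 (all_cons rel3_293 (all_cons rel3_294 (all_cons rel3_295 (all_cons rel3_296 (all_cons rel3_297 (all_cons rel3_298 (all_cons rel3_299 (all_nil))))))))))))))))))))))))))))))))))))))))))))))))))))))))))))))))))))))))))))))))))))))))))))))))))))))))))))))))))))))))))))))))))))))))))))))))))))))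

theorem rel3_grp2 : ∀ c ∈ ([(447600, 1492), (449092, 1492), (450584, 1492), (452076, 1492), (453568, 1492), (455060, 1492), (456552, 1492), (458044, 1492), (459536, 1492), (461028, 1492), (462520, 1492), (464012, 1492), (465504, 1492), (466996, 1492), (468488, 1492), (469980, 1492), (471472, 1492), (472964, 1492), (474456, 1492), (475948, 1492), (477440, 1492), (478932, 1492), (480424, 1492), (481916, 1492), (483408, 1492), (484900, 1492), (486392, 1492), (487884, 1492), (489376, 1492), (490868, 1492), (492360, 1492), (493852, 1492), (495344, 1492), (496836, 1492), (498328, 1492), (499820, 1492), (501312, 1492), (502804, 1492), (504296, 1492), (505788, 1492), (507280, 1492), (508772, 1492), (510264, 1492), (511756, 1492), (513248, 1492), (514740, 1492), (516232, 1492), (517724, 1492), (519216, 1492), (520708, 1492), (522200, 1492), (523692, 1492), (525184, 1492), (526676, 1492), (528168, 1492), (529660, 1492), (531152, 1492), (532644, 1492), (534136, 1492), (535628, 1492), (537120, 1492), (538612, 1492), (540104, 1492), (541596, 1492), (543088, 1492),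 (544580, 1492), (546072, 1492), (547564, 1492), (549056, 1492), (550548, 1492), (552040, 1492), (553532, 1492), (555024, 1492), (556516, 1492), (558008, 1492), (559500, 1492), (560992, 1492), (562484, 1492), (563976, 1492), (565468, 1492), (566960, 1492), (568452, 1492), (569944, 1492), (571436, 1492), (572928, 1492), (574420, 1492), (575912, 1492), (577404, 1492), (578896, 1492), (580388, 1492), (581880, 1492), (583372, 1492), (584864, 1492), (586356, 1492), (587848, 1492), (589340, 1492), (590832, 1492), (592324, 1492), (593816, 1492), (595308, 1492), (596800, 1492), (598292, 1492), (599784, 1492), (601276, 1492), (602768, 1492), (604260, 1492), (605752, 1492), (607244, 1492), (608736, 1492), (610228, 1492), (611720, 1492), (613212, 1492), (614704, 1492), (616196, 1492), (617688, 1492), (619180, 1492), (620672, 1492), (622164, 1492), (623656, 1492), (625148, 1492), (626640, 1492), (628132, 1492), (629624, 1492), (631116, 1492), (632608, 1492), (634100, 1492), (635592, 1492), (637084, 1492), (638576, 1492), (640068, 1492), (641560, 1492), (643052, 1492),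 (644544, 1492), (646036, 1492), (647528, 1492), (649020, 1492), (650512, 1492), (652004, 1492), (653496, 1492), (654988, 1492), (656480, 1492), (657972, 1492), (659464, 1492), (660956, 1492), (662448, 1492), (663940, 1492), (665432, 1492), (666924, 1492), (668416, 1492), (669908, 1492)] : List (ℕ × ℕ)), allR c.1 c.2 (fun q => Nat.beq ((fun q => f8 (f9 (f10 (f8 (f9 (f10 (f8 (f9 (f10 (f8 (f9 (f10 (f8 (f9 (f10 (f8 (f9 (f10 (f8 (f9 (f10 (f8 (f9 (f10 (f8 (f9 (f10 (f8 (f9 (f10 (f8 (f9 (f10 (f8 (f9 (f10 (f8 (f9 (f10 (f8 (f9 (f10 (f8 (f9 (f10 (f8 (f9 (f10 (f8 (f9 (f10 (f8 (f9 (f10 (f8 (f9 (f10 (f8 (f9 (f10 (f8 (f9 (f10 (f8 (f9 (f10 (q))))))))))))))))))))))))))))))))))))))))))))))))))))))))))))))))))) q) ((fun q => q) q)) = true :=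
  all_cons rel3_300 (all_cons rel3_301 (all_cons rel3_302 (all_cons rel3_303 (all_cons rel3_304 (all_cons rel3_305 (all_cons rel3_306 (all_cons rel3_307 (all_cons rel3_308 (all_cons rel3_309 (all_cons rel3_310 (all_cons rel3_311 (all_cons rel3_312 (all_cons rel3_313 (all_cons rel3_314 (all_cons rel3_315 (all_cons rel3_316 (all_cons rel3_317 (all_cons rel3_318 (all_cons rel3_319 (all_cons rel3_320 (all_cons rel3_321 (all_cons rel3_322 (all_cons rel3_323 (all_cons rel3_324 (all_cons rel3_325 (all_cons rel3_326 (all_cons rel3_327 (all_cons rel3_328 (all_cons rel3_329 (all_cons rel3_330 (all_cons rel3_331 (all_cons rel3_332 (all_cons rel3_333 (all_cons rel3_334 (all_cons rel3_335 (all_cons rel3_336 (all_cons rel3_337 (all_cons rel3_338 (all_cons rel3_339 (all_cons rel3_340 (all_cons rel3_341 (all_cons rel3_342 (all_cons rel3_343 (all_cons rel3_344 (all_cons rel3_345 (all_cons rel3_346 (all_cons rel3_347 (all_cons rel3_348 (all_cons rel3_349 (all_cons rel3_350 (all_cons rel3_351 (all_cons rel3_352 (all_cons rel3_353 (all_cons rel3_354 (all_cons rel3_355 (all_cons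 rel3_356 (all_cons rel3_357 (all_cons rel3_358 (all_cons rel3_359 (all_cons rel3_360 (all_cons rel3_361 (all_cons rel3_362 (all_cons rel3_363 (all_cons rel3_364 (all_cons rel3_365 (all_cons rel3_366 (all_cons rel3_367 (all_cons rel3_368 (all_cons rel3_369 (all_cons rel3_370 (all_cons rel3_371 (all_cons rel3_372 (all_cons rel3_373 (all_cons rel3_374 (all_cons rel3_375 (all_cons rel3_376 (all_cons rel3_377 (all_cons rel3_378 (all_cons rel3_379 (all_cons rel3_380 (all_cons rel3_381 (all_cons rel3_382 (all_cons rel3_383 (all_cons rel3_384 (all_cons rel3_385 (all_cons rel3_386 (all_cons rel3_387 (all_cons rel3_388 (all_cons rel3_389 (all_cons rel3_390 (all_cons rel3_391 (all_cons rel3_392 (all_cons rel3_393 (all_cons rel3_394 (all_cons rel3_395 (all_cons rel3_396 (all_cons rel3_397 (all_cons rel3_398 (all_cons rel3_399 (all_cons rel3_400 (all_cons rel3_401 (all_cons rel3_402 (all_cons rel3_403 (all_cons rel3_404 (all_cons rel3_405 (all_cons rel3_406 (all_cons rel3_407 (all_cons rel3_408 (all_cons rel3_409 (all_cons rel3_410 (all_cons rel3_411 (all_cons rel3_412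 (all_cons rel3_413 (all_cons rel3_414 (all_cons rel3_415 (all_cons rel3_416 (all_cons rel3_417 (all_cons rel3_418 (all_cons rel3_419 (all_cons rel3_420 (all_cons rel3_421 (all_cons rel3_422 (all_cons rel3_423 (all_cons rel3_424 (all_cons rel3_425 (all_cons rel3_426 (all_cons rel3_427 (all_cons rel3_428 (all_cons rel3_429 (all_cons rel3_430 (all_cons rel3_431 (all_cons rel3_432 (all_cons rel3_433 (all_cons rel3_434 (all_cons rel3_435 (all_cons rel3_436 (all_cons rel3_437 (all_cons rel3_438 (all_cons rel3_439 (all_cons rel3_440 (all_cons rel3_441 (all_cons rel3_442 (all_cons rel3_443 (all_cons rel3_444 (all_cons rel3_445 (all_cons rel3_446 (all_cons rel3_447 (all_cons rel3_448 (all_cons rel3_449 (all_nil))))))))))))))))))))))))))))))))))))))))))))))))))))))))))))))))))))))))))))))))))))))))))))))))))))))))))))))))))))))))))))))))))))))))))))))))))))))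

theorem rel3_grp3 : ∀ c ∈ ([(671400, 1492), (672892, 1492), (674384, 1492), (675876, 1492), (677368, 1492), (678860, 1492), (680352, 1492), (681844, 1492), (683336, 1492), (684828, 1492), (686320, 1492), (687812, 1492), (689304, 1492), (690796, 1492), (692288, 1492), (693780, 1492), (695272, 1492), (696764, 1492), (698256, 1492), (699748, 1492), (701240, 1492), (702732, 1492), (704224, 1492), (705716, 1492), (707208, 1492), (708700, 1492), (710192, 1492), (711684, 1492), (713176, 1492), (714668, 1492), (716160, 1492), (717652, 1492), (719144, 1492), (720636, 1492), (722128, 1492), (723620, 1492), (725112, 1492), (726604, 1492), (728096, 1492), (729588, 1492), (731080, 1492), (732572, 1492), (734064, 1492), (735556, 1492), (737048, 1492), (738540, 1492), (740032, 1492), (741524, 1492), (743016, 1492), (744508, 1492), (746000, 1492), (747492, 1492), (748984, 1492), (750476, 1492), (751968, 1492), (753460, 1492), (754952, 1492), (756444, 1492), (757936, 1492), (759428, 1492), (760920, 1492), (762412, 1492), (763904, 1492), (765396, 1492), (766888, 1492),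 (768380, 1492), (769872, 1492), (771364, 1492), (772856, 1492), (774348, 1492), (775840, 1492), (777332, 1492), (778824, 1492), (780316, 1492), (781808, 1492), (783300, 1492), (784792, 1492), (786284, 1492), (787776, 1492), (789268, 1492), (790760, 1492), (792252, 1492), (793744, 1492), (795236, 1492), (796728, 1492), (798220, 1492), (799712, 1492), (801204, 1492), (802696, 1492), (804188, 1492), (805680, 1492), (807172, 1492), (808664, 1492), (810156, 1492), (811648, 1492), (813140, 1492), (814632, 1492), (816124, 1492), (817616, 1492), (819108, 1492), (820600, 1492), (822092, 1492), (823584, 1492), (825076, 1492), (826568, 1492), (828060, 1492), (829552, 1492), (831044, 1492), (832536, 1492), (834028, 1492), (835520, 1492), (837012, 1492), (838504, 1492), (839996, 1492), (841488, 1492), (842980, 1492), (844472, 1492), (845964, 1492), (847456, 1492), (848948, 1492), (850440, 1492), (851932, 1492), (853424, 1492), (854916, 1492), (856408, 1492), (857900, 1492), (859392, 1492), (860884, 1492), (862376, 1492), (863868, 1492), (865360, 1492), (866852, 1492),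 (868344, 1492), (869836, 1492), (871328, 1492), (872820, 1492), (874312, 1492), (875804, 1492), (877296, 1492), (878788, 1492), (880280, 1492), (881772, 1492), (883264, 1492), (884756, 1492), (886248, 1492), (887740, 1492), (889232, 1492), (890724, 1492), (892216, 1492), (893708, 1492)] : List (ℕ × ℕ)), allR c.1 c.2 (fun q => Nat.beq ((fun q => f8 (f9 (f10 (f8 (f9 (f10 (f8 (f9 (f10 (f8 (f9 (f10 (f8 (f9 (f10 (f8 (f9 (f10 (f8 (f9 (f10 (f8 (f9 (f10 (f8 (f9 (f10 (f8 (f9 (f10 (f8 (f9 (f10 (f8 (f9 (f10 (f8 (f9 (f10 (f8 (f9 (f10 (f8 (f9 (f10 (f8 (f9 (f10 (f8 (f9 (f10 (f8 (f9 (f10 (f8 (f9 (f10 (f8 (f9 (f10 (f8 (f9 (f10 (f8 (f9 (f10 (q))))))))))))))))))))))))))))))))))))))))))))))))))))))))))))))))))) q) ((fun q => q) q)) = true :=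
  all_cons rel3_450 (all_cons rel3_451 (all_cons rel3_452 (all_cons rel3_453 (all_cons rel3_454 (all_cons rel3_455 (all_cons rel3_456 (all_cons rel3_457 (all_cons rel3_458 (all_cons rel3_459 (all_cons rel3_460 (all_cons rel3_461 (all_cons rel3_462 (all_cons rel3_463 (all_cons rel3_464 (all_cons rel3_465 (all_cons rel3_466 (all_cons rel3_467 (all_cons rel3_468 (all_cons rel3_469 (all_cons rel3_470 (all_cons rel3_471 (all_cons rel3_472 (all_cons rel3_473 (all_cons rel3_474 (all_cons rel3_475 (all_cons rel3_476 (all_cons rel3_477 (all_cons rel3_478 (all_cons rel3_479 (all_cons rel3_480 (all_cons rel3_481 (all_cons rel3_482 (all_cons rel3_483 (all_cons rel3_484 (all_cons rel3_485 (all_cons rel3_486 (all_cons rel3_487 (all_cons rel3_488 (all_cons rel3_489 (all_cons rel3_490 (all_cons rel3_491 (all_cons rel3_492 (all_cons rel3_493 (all_cons rel3_494 (all_cons rel3_495 (all_cons rel3_496 (all_cons rel3_497 (all_cons rel3_498 (all_cons rel3_499 (all_cons rel3_500 (all_cons rel3_501 (all_cons rel3_502 (all_cons rel3_503 (all_cons rel3_504 (all_cons rel3_505 (all_cons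 rel3_506 (all_cons rel3_507 (all_cons rel3_508 (all_cons rel3_509 (all_cons rel3_510 (all_cons rel3_511 (all_cons rel3_512 (all_cons rel3_513 (all_cons rel3_514 (all_cons rel3_515 (all_cons rel3_516 (all_cons rel3_517 (all_cons rel3_518 (all_cons rel3_519 (all_cons rel3_520 (all_cons rel3_521 (all_cons rel3_522 (all_cons rel3_523 (all_cons rel3_524 (all_cons rel3_525 (all_cons rel3_526 (all_cons rel3_527 (all_cons rel3_528 (all_cons rel3_529 (all_cons rel3_530 (all_cons rel3_531 (all_cons rel3_532 (all_cons rel3_533 (all_cons rel3_534 (all_cons rel3_535 (all_cons rel3_536 (all_cons rel3_537 (all_cons rel3_538 (all_cons rel3_539 (all_cons rel3_540 (all_cons rel3_541 (all_cons rel3_542 (all_cons rel3_543 (all_cons rel3_544 (all_cons rel3_545 (all_cons rel3_546 (all_cons rel3_547 (all_cons rel3_548 (all_cons rel3_549 (all_cons rel3_550 (all_cons rel3_551 (all_cons rel3_552 (all_cons rel3_553 (all_cons rel3_554 (all_cons rel3_555 (all_cons rel3_556 (all_cons rel3_557 (all_cons rel3_558 (all_cons rel3_559 (all_cons rel3_560 (all_cons rel3_561 (all_cons rel3_562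 (all_cons rel3_563 (all_cons rel3_564 (all_cons rel3_565 (all_cons rel3_566 (all_cons rel3_567 (all_cons rel3_568 (all_cons rel3_569 (all_cons rel3_570 (all_cons rel3_571 (all_cons rel3_572 (all_cons rel3_573 (all_cons rel3_574 (all_cons rel3_575 (all_cons rel3_576 (all_cons rel3_577 (all_cons rel3_578 (all_cons rel3_579 (all_cons rel3_580 (all_cons rel3_581 (all_cons rel3_582 (all_cons rel3_583 (all_cons rel3_584 (all_cons rel3_585 (all_cons rel3_586 (all_cons rel3_587 (all_cons rel3_588 (all_cons rel3_589 (all_cons rel3_590 (all_cons rel3_591 (all_cons rel3_592 (all_cons rel3_593 (all_cons rel3_594 (all_cons rel3_595 (all_cons rel3_596 (all_cons rel3_597 (all_cons rel3_598 (all_cons rel3_599 (all_nil))))))))))))))))))))))))))))))))))))))))))))))))))))))))))))))))))))))))))))))))))))))))))))))))))))))))))))))))))))))))))))))))))))))))))))))))))))))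

theorem rel3_grp4 : ∀ c ∈ ([(895200, 1492), (896692, 1492), (898184, 1492), (899676, 1492), (901168, 1492), (902660, 1492), (904152, 1492), (905644, 1492), (907136, 1492), (908628, 1492), (910120, 1492), (911612, 1492), (913104, 1492), (914596, 1492), (916088, 1492), (917580, 1492), (919072, 1492), (920564, 1492), (922056, 1492), (923548, 1492), (925040, 1492), (926532, 1492), (928024, 1492), (929516, 1492), (931008, 1492), (932500, 1492), (933992, 1492), (935484, 1492), (936976, 1492), (938468, 1492), (939960, 1492), (941452, 1492), (942944, 1492), (944436, 1492), (945928, 1492), (947420, 1492), (948912, 1492), (950404, 1492), (951896, 1492), (953388, 1492), (954880, 1492), (956372, 1492), (957864, 1492), (959356, 1492), (960848, 1492), (962340, 1492), (963832, 1492), (965324, 1492), (966816, 1492), (968308, 1492), (969800, 1492), (971292, 1492), (972784, 1492), (974276, 1492), (975768, 1492), (977260, 1492), (978752, 1492), (980244, 1492), (981736, 1492), (983228, 1492), (984720, 1492), (986212, 1492), (987704, 1492), (989196, 1492), (990688, 1492),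 (992180, 1492), (993672, 1492), (995164, 1492), (996656, 1492), (998148, 1492), (999640, 1492), (1001132, 1492), (1002624, 1492), (1004116, 1492), (1005608, 1492), (1007100, 1492), (1008592, 1492), (1010084, 1492), (1011576, 1492), (1013068, 1492), (1014560, 1492), (1016052, 1492), (1017544, 1492), (1019036, 1492), (1020528, 1492), (1022020, 1492), (1023512, 1492), (1025004, 1492), (1026496, 1492), (1027988, 1492), (1029480, 1492), (1030972, 1492), (1032464, 1492), (1033956, 1492), (1035448, 1492), (1036940, 1492), (1038432, 1492), (1039924, 1492), (1041416, 1492), (1042908, 1492), (1044400, 1492), (1045892, 1492), (1047384, 1492), (1048876, 1492), (1050368, 1492), (1051860, 1492), (1053352, 1492), (1054844, 1492), (1056336, 1492), (1057828, 1492), (1059320, 1492), (1060812, 1492), (1062304, 1492), (1063796, 1492), (1065288, 1492), (1066780, 1492), (1068272, 1492), (1069764, 1492), (1071256, 1492), (1072748, 1492), (1074240, 1492), (1075732, 1492), (1077224, 1492), (1078716, 1492), (1080208, 1492), (1081700, 1492), (1083192, 1492), (1084684, 1492), (1086176,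 1492), (1087668, 1492), (1089160, 1492), (1090652, 1492), (1092144, 1492), (1093636, 1492), (1095128, 1492), (1096620, 1492), (1098112, 1492), (1099604, 1492), (1101096, 1492), (1102588, 1492), (1104080, 1492), (1105572, 1492), (1107064, 1492), (1108556, 1492), (1110048, 1492), (1111540, 1492), (1113032, 1492), (1114524, 1492), (1116016, 1492), (1117508, 1492)] : List (ℕ × ℕ)), allR c.1 c.2 (fun q => Nat.beq ((fun q => f8 (f9 (f10 (f8 (f9 (f10 (f8 (f9 (f10 (f8 (f9 (f10 (f8 (f9 (f10 (f8 (f9 (f10 (f8 (f9 (f10 (f8 (f9 (f10 (f8 (f9 (f10 (f8 (f9 (f10 (f8 (f9 (f10 (f8 (f9 (f10 (f8 (f9 (f10 (f8 (f9 (f10 (f8 (f9 (f10 (f8 (f9 (f10 (f8 (f9 (f10 (f8 (f9 (f10 (f8 (f9 (f10 (f8 (f9 (f10 (f8 (f9 (f10 (f8 (f9 (f10 (q))))))))))))))))))))))))))))))))))))))))))))))))))))))))))))))))))) q) ((fun q => q) q)) = true :=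
  all_cons rel3_600 (all_cons rel3_601 (all_cons rel3_602 (all_cons rel3_603 (all_cons rel3_604 (all_cons rel3_605 (all_cons rel3_606 (all_cons rel3_607 (all_cons rel3_608 (all_cons rel3_609 (all_cons rel3_610 (all_cons rel3_611 (all_cons rel3_612 (all_cons rel3_613 (all_cons rel3_614 (all_cons rel3_615 (all_cons rel3_616 (all_cons rel3_617 (all_cons rel3_618 (all_cons rel3_619 (all_cons rel3_620 (all_cons rel3_621 (all_cons rel3_622 (all_cons rel3_623 (all_cons rel3_624 (all_cons rel3_625 (all_cons rel3_626 (all_cons rel3_627 (all_cons rel3_628 (all_cons rel3_629 (all_cons rel3_630 (all_cons rel3_631 (all_cons rel3_632 (all_cons rel3_633 (all_cons rel3_634 (all_cons rel3_635 (all_cons rel3_636 (all_cons rel3_637 (all_cons rel3_638 (all_cons rel3_639 (all_cons rel3_640 (all_cons rel3_641 (all_cons rel3_642 (all_cons rel3_643 (all_cons rel3_644 (all_cons rel3_645 (all_cons rel3_646 (all_cons rel3_647 (all_cons rel3_648 (all_cons rel3_649 (all_cons rel3_650 (all_cons rel3_651 (all_cons rel3_652 (all_cons rel3_653 (all_cons rel3_654 (all_cons rel3_655 (all_cons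 rel3_656 (all_cons rel3_657 (all_cons rel3_658 (all_cons rel3_659 (all_cons rel3_660 (all_cons rel3_661 (all_cons rel3_662 (all_cons rel3_663 (all_cons rel3_664 (all_cons rel3_665 (all_cons rel3_666 (all_cons rel3_667 (all_cons rel3_668 (all_cons rel3_669 (all_cons rel3_670 (all_cons rel3_671 (all_cons rel3_672 (all_cons rel3_673 (all_cons rel3_674 (all_cons rel3_675 (all_cons rel3_676 (all_cons rel3_677 (all_cons rel3_678 (all_cons rel3_679 (all_cons rel3_680 (all_cons rel3_681 (all_cons rel3_682 (all_cons rel3_683 (all_cons rel3_684 (all_cons rel3_685 (all_cons rel3_686 (all_cons rel3_687 (all_cons rel3_688 (all_cons rel3_689 (all_cons rel3_690 (all_cons rel3_691 (all_cons rel3_692 (all_cons rel3_693 (all_cons rel3_694 (all_cons rel3_695 (all_cons rel3_696 (all_cons rel3_697 (all_cons rel3_698 (all_cons rel3_699 (all_cons rel3_700 (all_cons rel3_701 (all_cons rel3_702 (all_cons rel3_703 (all_cons rel3_704 (all_cons rel3_705 (all_cons rel3_706 (all_cons rel3_707 (all_cons rel3_708 (all_cons rel3_709 (all_cons rel3_710 (all_cons rel3_711 (all_cons rel3_712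 (all_cons rel3_713 (all_cons rel3_714 (all_cons rel3_715 (all_cons rel3_716 (all_cons rel3_717 (all_cons rel3_718 (all_cons rel3_719 (all_cons rel3_720 (all_cons rel3_721 (all_cons rel3_722 (all_cons rel3_723 (all_cons rel3_724 (all_cons rel3_725 (all_cons rel3_726 (all_cons rel3_727 (all_cons rel3_728 (all_cons rel3_729 (all_cons rel3_730 (all_cons rel3_731 (all_cons rel3_732 (all_cons rel3_733 (all_cons rel3_734 (all_cons rel3_735 (all_cons rel3_736 (all_cons rel3_737 (all_cons rel3_738 (all_cons rel3_739 (all_cons rel3_740 (all_cons rel3_741 (all_cons rel3_742 (all_cons rel3_743 (all_cons rel3_744 (all_cons rel3_745 (all_cons rel3_746 (all_cons rel3_747 (all_cons rel3_748 (all_cons rel3_749 (all_nil))))))))))))))))))))))))))))))))))))))))))))))))))))))))))))))))))))))))))))))))))))))))))))))))))))))))))))))))))))))))))))))))))))))))))))))))))))))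

theorem rel3_grp5 : ∀ c ∈ ([(1119000, 1492), (1120492, 1492), (1121984, 1492), (1123476, 1492), (1124968, 1492), (1126460, 1492), (1127952, 1492), (1129444, 1492), (1130936, 1492), (1132428, 1492), (1133920, 1492), (1135412, 1492), (1136904, 1492), (1138396, 1492), (1139888, 1492), (1141380, 1492), (1142872, 1492), (1144364, 1492), (1145856, 1492), (1147348, 1492), (1148840, 1492), (1150332, 1492), (1151824, 1492), (1153316, 1492), (1154808, 1492), (1156300, 1492), (1157792, 1492), (1159284, 1492), (1160776, 1492), (1162268, 1492), (1163760, 1492), (1165252, 1492), (1166744, 1492), (1168236, 1492), (1169728, 1492), (1171220, 1492), (1172712, 1492), (1174204, 1492), (1175696, 1492), (1177188, 1492), (1178680, 1492), (1180172, 1492), (1181664, 1492), (1183156, 1492), (1184648, 1492), (1186140, 1492), (1187632, 1492), (1189124, 1492), (1190616, 1492), (1192108, 1492), (1193600, 1492), (1195092, 1492), (1196584, 1492), (1198076, 1492), (1199568, 1492), (1201060, 1492), (1202552, 1492), (1204044, 1492), (1205536, 1492), (1207028, 1492), (1208520, 1492), (1210012,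 1492), (1211504, 1492), (1212996, 1492), (1214488, 1492), (1215980, 1492), (1217472, 1492), (1218964, 1492), (1220456, 1492), (1221948, 1492), (1223440, 1492), (1224932, 1492), (1226424, 1492), (1227916, 1492), (1229408, 1492), (1230900, 1492), (1232392, 1492), (1233884, 1492), (1235376, 1492), (1236868, 1492), (1238360, 1492), (1239852, 1492), (1241344, 1492), (1242836, 1492), (1244328, 1492), (1245820, 1492), (1247312, 1492), (1248804, 1492), (1250296, 1492), (1251788, 1492), (1253280, 1492), (1254772, 1492), (1256264, 1492), (1257756, 1492), (1259248, 1492), (1260740, 1492), (1262232, 1492), (1263724, 1492), (1265216, 1492), (1266708, 1492), (1268200, 1492), (1269692, 1492), (1271184, 1492), (1272676, 1492), (1274168, 1492), (1275660, 1492), (1277152, 1492), (1278644, 1492), (1280136, 1492), (1281628, 1492), (1283120, 1492), (1284612, 1492), (1286104, 1492), (1287596, 1492), (1289088, 1492), (1290580, 1492), (1292072, 1492), (1293564, 1492), (1295056, 1492), (1296548, 1492), (1298040, 1492), (1299532, 1492), (1301024, 1492), (1302516, 1492), (1304008,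 1492), (1305500, 1492), (1306992, 1492), (1308484, 1492), (1309976, 1492), (1311468, 1492), (1312960, 1492), (1314452, 1492), (1315944, 1492), (1317436, 1492), (1318928, 1492), (1320420, 1492), (1321912, 1492), (1323404, 1492), (1324896, 1492), (1326388, 1492), (1327880, 1492), (1329372, 1492), (1330864, 1492), (1332356, 1492), (1333848, 1492), (1335340, 1492), (1336832, 1492), (1338324, 1492), (1339816, 1492), (1341308, 1492)] : List (ℕ × ℕ)), allR c.1 c.2 (fun q => Nat.beq ((fun q => f8 (f9 (f10 (f8 (f9 (f10 (f8 (f9 (f10 (f8 (f9 (f10 (f8 (f9 (f10 (f8 (f9 (f10 (f8 (f9 (f10 (f8 (f9 (f10 (f8 (f9 (f10 (f8 (f9 (f10 (f8 (f9 (f10 (f8 (f9 (f10 (f8 (f9 (f10 (f8 (f9 (f10 (f8 (f9 (f10 (f8 (f9 (f10 (f8 (f9 (f10 (f8 (f9 (f10 (f8 (f9 (f10 (f8 (f9 (f10 (f8 (f9 (f10 (f8 (f9 (f10 (q))))))))))))))))))))))))))))))))))))))))))))))))))))))))))))))))))) q) ((fun q => q) q)) = true :=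
  all_cons rel3_750 (all_cons rel3_751 (all_cons rel3_752 (all_cons rel3_753 (all_cons rel3_754 (all_cons rel3_755 (all_cons rel3_756 (all_cons rel3_757 (all_cons rel3_758 (all_cons rel3_759 (all_cons rel3_760 (all_cons rel3_761 (all_cons rel3_762 (all_cons rel3_763 (all_cons rel3_764 (all_cons rel3_765 (all_cons rel3_766 (all_cons rel3_767 (all_cons rel3_768 (all_cons rel3_769 (all_cons rel3_770 (all_cons rel3_771 (all_cons rel3_772 (all_cons rel3_773 (all_cons rel3_774 (all_cons rel3_775 (all_cons rel3_776 (all_cons rel3_777 (all_cons rel3_778 (all_cons rel3_779 (all_cons rel3_780 (all_cons rel3_781 (all_cons rel3_782 (all_cons rel3_783 (all_cons rel3_784 (all_cons rel3_785 (all_cons rel3_786 (all_cons rel3_787 (all_cons rel3_788 (all_cons rel3_789 (all_cons rel3_790 (all_cons rel3_791 (all_cons rel3_792 (all_cons rel3_793 (all_cons rel3_794 (all_cons rel3_795 (all_cons rel3_796 (all_cons rel3_797 (all_cons rel3_798 (all_cons rel3_799 (all_cons rel3_800 (all_cons rel3_801 (all_cons rel3_802 (all_cons rel3_803 (all_cons rel3_804 (all_cons rel3_805 (all_cons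 rel3_806 (all_cons rel3_807 (all_cons rel3_808 (all_cons rel3_809 (all_cons rel3_810 (all_cons rel3_811 (all_cons rel3_812 (all_cons rel3_813 (all_cons rel3_814 (all_cons rel3_815 (all_cons rel3_816 (all_cons rel3_817 (all_cons rel3_818 (all_cons rel3_819 (all_cons rel3_820 (all_cons rel3_821 (all_cons rel3_822 (all_cons rel3_823 (all_cons rel3_824 (all_cons rel3_825 (all_cons rel3_826 (all_cons rel3_827 (all_cons rel3_828 (all_cons rel3_829 (all_cons rel3_830 (all_cons rel3_831 (all_cons rel3_832 (all_cons rel3_833 (all_cons rel3_834 (all_cons rel3_835 (all_cons rel3_836 (all_cons rel3_837 (all_cons rel3_838 (all_cons rel3_839 (all_cons rel3_840 (all_cons rel3_841 (all_cons rel3_842 (all_cons rel3_843 (all_cons rel3_844 (all_cons rel3_845 (all_cons rel3_846 (all_cons rel3_847 (all_cons rel3_848 (all_cons rel3_849 (all_cons rel3_850 (all_cons rel3_851 (all_cons rel3_852 (all_cons rel3_853 (all_cons rel3_854 (all_cons rel3_855 (all_cons rel3_856 (all_cons rel3_857 (all_cons rel3_858 (all_cons rel3_859 (all_cons rel3_860 (all_cons rel3_861 (all_cons rel3_862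 (all_cons rel3_863 (all_cons rel3_864 (all_cons rel3_865 (all_cons rel3_866 (all_cons rel3_867 (all_cons rel3_868 (all_cons rel3_869 (all_cons rel3_870 (all_cons rel3_871 (all_cons rel3_872 (all_cons rel3_873 (all_cons rel3_874 (all_cons rel3_875 (all_cons rel3_876 (all_cons rel3_877 (all_cons rel3_878 (all_cons rel3_879 (all_cons rel3_880 (all_cons rel3_881 (all_cons rel3_882 (all_cons rel3_883 (all_cons rel3_884 (all_cons rel3_885 (all_cons rel3_886 (all_cons rel3_887 (all_cons rel3_888 (all_cons rel3_889 (all_cons rel3_890 (all_cons rel3_891 (all_cons rel3_892 (all_cons rel3_893 (all_cons rel3_894 (all_cons rel3_895 (all_cons rel3_896 (all_cons rel3_897 (all_cons rel3_898 (all_cons rel3_899 (all_nil))))))))))))))))))))))))))))))))))))))))))))))))))))))))))))))))))))))))))))))))))))))))))))))))))))))))))))))))))))))))))))))))))))))))))))))))))))))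

theorem rel3_grp6 : ∀ c ∈ ([(1342800, 1492), (1344292, 1492), (1345784, 1492), (1347276, 1492), (1348768, 1492), (1350260, 1492), (1351752, 1492), (1353244, 1492), (1354736, 1492), (1356228, 1492), (1357720, 1492), (1359212, 1492), (1360704, 1492), (1362196, 1492), (1363688, 1492), (1365180, 1492), (1366672, 1492), (1368164, 1492), (1369656, 1492), (1371148, 1492), (1372640, 1492), (1374132, 1492), (1375624, 1492), (1377116, 1492), (1378608, 1492), (1380100, 1492), (1381592, 1492), (1383084, 1492), (1384576, 1492), (1386068, 1492), (1387560, 1492), (1389052, 1492), (1390544, 1492), (1392036, 1492), (1393528, 1492), (1395020, 1492), (1396512, 1492), (1398004, 1492), (1399496, 1492), (1400988, 1492), (1402480, 1492), (1403972, 1492), (1405464, 1492), (1406956, 1492), (1408448, 1492), (1409940, 1492), (1411432, 1492), (1412924, 1492), (1414416, 1492), (1415908, 1492), (1417400, 1492), (1418892, 1492), (1420384, 1492), (1421876, 1492), (1423368, 1492), (1424860, 1492), (1426352, 1492), (1427844, 1492), (1429336, 1492), (1430828, 1492), (1432320, 1492), (1433812,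 1492), (1435304, 1492), (1436796, 1492), (1438288, 1492), (1439780, 1492), (1441272, 1492), (1442764, 1492), (1444256, 1492), (1445748, 1492), (1447240, 1492), (1448732, 1492), (1450224, 1492), (1451716, 1492), (1453208, 1492), (1454700, 1492), (1456192, 1492), (1457684, 1492), (1459176, 1492), (1460668, 1492), (1462160, 1492), (1463652, 1492), (1465144, 1492), (1466636, 1492), (1468128, 1492), (1469620, 1492), (1471112, 1492), (1472604, 1492), (1474096, 1492), (1475588, 1492), (1477080, 1492), (1478572, 1492), (1480064, 1492), (1481556, 1492), (1483048, 1492), (1484540, 1492), (1486032, 1492), (1487524, 1492), (1489016, 1492), (1490508, 1492), (1492000, 1492), (1493492, 1492), (1494984, 1492), (1496476, 1492), (1497968, 1492), (1499460, 1492), (1500952, 1492), (1502444, 1492), (1503936, 1492), (1505428, 1492), (1506920, 1492), (1508412, 1492), (1509904, 1492), (1511396, 1492), (1512888, 1492), (1514380, 1492), (1515872, 1492), (1517364, 1492), (1518856, 1492), (1520348, 1492), (1521840, 1492), (1523332, 1492), (1524824, 1492), (1526316, 1492), (1527808,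 1492), (1529300, 1492), (1530792, 1492), (1532284, 1492), (1533776, 1492), (1535268, 1492), (1536760, 1492), (1538252, 748)] : List (ℕ × ℕ)), allR c.1 c.2 (fun q => Nat.beq ((fun q => f8 (f9 (f10 (f8 (f9 (f10 (f8 (f9 (f10 (f8 (f9 (f10 (f8 (f9 (f10 (f8 (f9 (f10 (f8 (f9 (f10 (f8 (f9 (f10 (f8 (f9 (f10 (f8 (f9 (f10 (f8 (f9 (f10 (f8 (f9 (f10 (f8 (f9 (f10 (f8 (f9 (f10 (f8 (f9 (f10 (f8 (f9 (f10 (f8 (f9 (f10 (f8 (f9 (f10 (f8 (f9 (f10 (f8 (f9 (f10 (f8 (f9 (f10 (f8 (f9 (f10 (q))))))))))))))))))))))))))))))))))))))))))))))))))))))))))))))))))) q) ((fun q => q) q)) = true :=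
  all_cons rel3_900 (all_cons rel3_901 (all_cons rel3_902 (all_cons rel3_903 (all_cons rel3_904 (all_cons rel3_905 (all_cons rel3_906 (all_cons rel3_907 (all_cons rel3_908 (all_cons rel3_909 (all_cons rel3_910 (all_cons rel3_911 (all_cons rel3_912 (all_cons rel3_913 (all_cons rel3_914 (all_cons rel3_915 (all_cons rel3_916 (all_cons rel3_917 (all_cons rel3_918 (all_cons rel3_919 (all_cons rel3_920 (all_cons rel3_921 (all_cons rel3_922 (all_cons rel3_923 (all_cons rel3_924 (all_cons rel3_925 (all_cons rel3_926 (all_cons rel3_927 (all_cons rel3_928 (all_cons rel3_929 (all_cons rel3_930 (all_cons rel3_931 (all_cons rel3_932 (all_cons rel3_933 (all_cons rel3_934 (all_cons rel3_935 (all_cons rel3_936 (all_cons rel3_937 (all_cons rel3_938 (all_cons rel3_939 (all_cons rel3_940 (all_cons rel3_941 (all_cons rel3_942 (all_cons rel3_943 (all_cons rel3_944 (all_cons rel3_945 (all_cons rel3_946 (all_cons rel3_947 (all_cons rel3_948 (all_cons rel3_949 (all_cons rel3_950 (all_cons rel3_951 (all_cons rel3_952 (all_cons rel3_953 (all_cons rel3_954 (all_cons rel3_955 (all_cons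 rel3_956 (all_cons rel3_957 (all_cons rel3_958 (all_cons rel3_959 (all_cons rel3_960 (all_cons rel3_961 (all_cons rel3_962 (all_cons rel3_963 (all_cons rel3_964 (all_cons rel3_965 (all_cons rel3_966 (all_cons rel3_967 (all_cons rel3_968 (all_cons rel3_969 (all_cons rel3_970 (all_cons rel3_971 (all_cons rel3_972 (all_cons rel3_973 (all_cons rel3_974 (all_cons rel3_975 (all_cons rel3_976 (all_cons rel3_977 (all_cons rel3_978 (all_cons rel3_979 (all_cons rel3_980 (all_cons rel3_981 (all_cons rel3_982 (all_cons rel3_983 (all_cons rel3_984 (all_cons rel3_985 (all_cons rel3_986 (all_cons rel3_987 (all_cons rel3_988 (all_cons rel3_989 (all_cons rel3_990 (all_cons rel3_991 (all_cons rel3_992 (all_cons rel3_993 (all_cons rel3_994 (all_cons rel3_995 (all_cons rel3_996 (all_cons rel3_997 (all_cons rel3_998 (all_cons rel3_999 (all_cons rel3_1000 (all_cons rel3_1001 (all_cons rel3_1002 (all_cons rel3_1003 (all_cons rel3_1004 (all_cons rel3_1005 (all_cons rel3_1006 (all_cons rel3_1007 (all_cons rel3_1008 (all_cons rel3_1009 (all_cons rel3_1010 (all_cons rel3_1011 (all_cons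 rel3_1012 (all_cons rel3_1013 (all_cons rel3_1014 (all_cons rel3_1015 (all_cons rel3_1016 (all_cons rel3_1017 (all_cons rel3_1018 (all_cons rel3_1019 (all_cons rel3_1020 (all_cons rel3_1021 (all_cons rel3_1022 (all_cons rel3_1023 (all_cons rel3_1024 (all_cons rel3_1025 (all_cons rel3_1026 (all_cons rel3_1027 (all_cons rel3_1028 (all_cons rel3_1029 (all_cons rel3_1030 (all_cons rel3_1031 (all_nil))))))))))))))))))))))))))))))))))))))))))))))))))))))))))))))))))))))))))))))))))))))))))))))))))))))))))))))))))))))))))))))))))))

/-- a relation -/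
theorem rel3 : ∀ q < 1539000, (evalF f8 f9 f10 [0, 1, 2])^[22] q = (fun q => q) q :=
  eq_of_chunks (f := (fun q => f8 (f9 (f10 (f8 (f9 (f10 (f8 (f9 (f10 (f8 (f9 (f10 (f8 (f9 (f10 (f8 (f9 (f10 (f8 (f9 (f10 (f8 (f9 (f10 (f8 (f9 (f10 (f8 (f9 (f10 (f8 (f9 (f10 (f8 (f9 (f10 (f8 (f9 (f10 (f8 (f9 (f10 (f8 (f9 (f10 (f8 (f9 (f10 (f8 (f9 (f10 (f8 (f9 (f10 (f8 (f9 (f10 (f8 (f9 (f10 (f8 (f9 (f10 (f8 (f9 (f10 (q)))))))))))))))))))))))))))))))))))))))))))))))))))))))))))))))))))) (g := (fun q => q)) ([(0, 1492), (1492, 1492), (2984, 1492), (4476, 1492), (5968, 1492), (7460, 1492), (8952, 1492), (10444, 1492), (11936, 1492), (13428, 1492), (14920, 1492), (16412, 1492), (17904, 1492), (19396, 1492), (20888, 1492), (22380, 1492), (23872, 1492), (25364, 1492), (26856, 1492), (28348, 1492), (29840, 1492), (31332, 1492), (32824, 1492), (34316, 1492), (35808, 1492), (37300, 1492), (38792, 1492), (40284, 1492), (41776, 1492), (43268, 1492), (44760, 1492), (46252, 1492), (47744, 1492), (49236, 1492), (50728, 1492), (52220, 1492), (53712, 1492), (55204, 1492), (56696, 1492),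 (58188, 1492), (59680, 1492), (61172, 1492), (62664, 1492), (64156, 1492), (65648, 1492), (67140, 1492), (68632, 1492), (70124, 1492), (71616, 1492), (73108, 1492), (74600, 1492), (76092, 1492), (77584, 1492), (79076, 1492), (80568, 1492), (82060, 1492), (83552, 1492), (85044, 1492), (86536, 1492), (88028, 1492), (89520, 1492), (91012, 1492), (92504, 1492), (93996, 1492), (95488, 1492), (96980, 1492), (98472, 1492), (99964, 1492), (101456, 1492), (102948, 1492), (104440, 1492), (105932, 1492), (107424, 1492), (108916, 1492), (110408, 1492), (111900, 1492), (113392, 1492), (114884, 1492), (116376, 1492), (117868, 1492), (119360, 1492), (120852, 1492), (122344, 1492), (123836, 1492), (125328, 1492), (126820, 1492), (128312, 1492), (129804, 1492), (131296, 1492), (132788, 1492), (134280, 1492), (135772, 1492), (137264, 1492), (138756, 1492), (140248, 1492), (141740, 1492), (143232, 1492), (144724, 1492), (146216, 1492), (147708, 1492), (149200, 1492), (150692, 1492), (152184, 1492), (153676, 1492), (155168, 1492), (156660, 1492), (158152, 1492), (159644, 1492),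 (161136, 1492), (162628, 1492), (164120, 1492), (165612, 1492), (167104, 1492), (168596, 1492), (170088, 1492), (171580, 1492), (173072, 1492), (174564, 1492), (176056, 1492), (177548, 1492), (179040, 1492), (180532, 1492), (182024, 1492), (183516, 1492), (185008, 1492), (186500, 1492), (187992, 1492), (189484, 1492), (190976, 1492), (192468, 1492), (193960, 1492), (195452, 1492), (196944, 1492), (198436, 1492), (199928, 1492), (201420, 1492), (202912, 1492), (204404, 1492), (205896, 1492), (207388, 1492), (208880, 1492), (210372, 1492), (211864, 1492), (213356, 1492), (214848, 1492), (216340, 1492), (217832, 1492), (219324, 1492), (220816, 1492), (222308, 1492)] ++ [(223800, 1492), (225292, 1492), (226784, 1492), (228276, 1492), (229768, 1492), (231260, 1492), (232752, 1492), (234244, 1492), (235736, 1492), (237228, 1492), (238720, 1492), (240212, 1492), (241704, 1492), (243196, 1492), (244688, 1492), (246180, 1492), (247672, 1492), (249164, 1492), (250656, 1492), (252148, 1492), (253640, 1492), (255132, 1492), (256624, 1492), (258116, 1492), (259608,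 1492), (261100, 1492), (262592, 1492), (264084, 1492), (265576, 1492), (267068, 1492), (268560, 1492), (270052, 1492), (271544, 1492), (273036, 1492), (274528, 1492), (276020, 1492), (277512, 1492), (279004, 1492), (280496, 1492), (281988, 1492), (283480, 1492), (284972, 1492), (286464, 1492), (287956, 1492), (289448, 1492), (290940, 1492), (292432, 1492), (293924, 1492), (295416, 1492), (296908, 1492), (298400, 1492), (299892, 1492), (301384, 1492), (302876, 1492), (304368, 1492), (305860, 1492), (307352, 1492), (308844, 1492), (310336, 1492), (311828, 1492), (313320, 1492), (314812, 1492), (316304, 1492), (317796, 1492), (319288, 1492), (320780, 1492), (322272, 1492), (323764, 1492), (325256, 1492), (326748, 1492), (328240, 1492), (329732, 1492), (331224, 1492), (332716, 1492), (334208, 1492), (335700, 1492), (337192, 1492), (338684, 1492), (340176, 1492), (341668, 1492), (343160, 1492), (344652, 1492), (346144, 1492), (347636, 1492), (349128, 1492), (350620, 1492), (352112, 1492), (353604, 1492), (355096, 1492), (356588, 1492), (358080, 1492), (359572,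 1492), (361064, 1492), (362556, 1492), (364048, 1492), (365540, 1492), (367032, 1492), (368524, 1492), (370016, 1492), (371508, 1492), (373000, 1492), (374492, 1492), (375984, 1492), (377476, 1492), (378968, 1492), (380460, 1492), (381952, 1492), (383444, 1492), (384936, 1492), (386428, 1492), (387920, 1492), (389412, 1492), (390904, 1492), (392396, 1492), (393888, 1492), (395380, 1492), (396872, 1492), (398364, 1492), (399856, 1492), (401348, 1492), (402840, 1492), (404332, 1492), (405824, 1492), (407316, 1492), (408808, 1492), (410300, 1492), (411792, 1492), (413284, 1492), (414776, 1492), (416268, 1492), (417760, 1492), (419252, 1492), (420744, 1492), (422236, 1492), (423728, 1492), (425220, 1492), (426712, 1492), (428204, 1492), (429696, 1492), (431188, 1492), (432680, 1492), (434172, 1492), (435664, 1492), (437156, 1492), (438648, 1492), (440140, 1492), (441632, 1492), (443124, 1492), (444616, 1492), (446108, 1492)] ++ [(447600, 1492), (449092, 1492), (450584, 1492), (452076, 1492), (453568, 1492), (455060, 1492), (456552, 1492), (458044, 1492), (459536,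 1492), (461028, 1492), (462520, 1492), (464012, 1492), (465504, 1492), (466996, 1492), (468488, 1492), (469980, 1492), (471472, 1492), (472964, 1492), (474456, 1492), (475948, 1492), (477440, 1492), (478932, 1492), (480424, 1492), (481916, 1492), (483408, 1492), (484900, 1492), (486392, 1492), (487884, 1492), (489376, 1492), (490868, 1492), (492360, 1492), (493852, 1492), (495344, 1492), (496836, 1492), (498328, 1492), (499820, 1492), (501312, 1492), (502804, 1492), (504296, 1492), (505788, 1492), (507280, 1492), (508772, 1492), (510264, 1492), (511756, 1492), (513248, 1492), (514740, 1492), (516232, 1492), (517724, 1492), (519216, 1492), (520708, 1492), (522200, 1492), (523692, 1492), (525184, 1492), (526676, 1492), (528168, 1492), (529660, 1492), (531152, 1492), (532644, 1492), (534136, 1492), (535628, 1492), (537120, 1492), (538612, 1492), (540104, 1492), (541596, 1492), (543088, 1492), (544580, 1492), (546072, 1492), (547564, 1492), (549056, 1492), (550548, 1492), (552040, 1492), (553532, 1492), (555024, 1492), (556516, 1492), (558008, 1492), (559500,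 1492), (560992, 1492), (562484, 1492), (563976, 1492), (565468, 1492), (566960, 1492), (568452, 1492), (569944, 1492), (571436, 1492), (572928, 1492), (574420, 1492), (575912, 1492), (577404, 1492), (578896, 1492), (580388, 1492), (581880, 1492), (583372, 1492), (584864, 1492), (586356, 1492), (587848, 1492), (589340, 1492), (590832, 1492), (592324, 1492), (593816, 1492), (595308, 1492), (596800, 1492), (598292, 1492), (599784, 1492), (601276, 1492), (602768, 1492), (604260, 1492), (605752, 1492), (607244, 1492), (608736, 1492), (610228, 1492), (611720, 1492), (613212, 1492), (614704, 1492), (616196, 1492), (617688, 1492), (619180, 1492), (620672, 1492), (622164, 1492), (623656, 1492), (625148, 1492), (626640, 1492), (628132, 1492), (629624, 1492), (631116, 1492), (632608, 1492), (634100, 1492), (635592, 1492), (637084, 1492), (638576, 1492), (640068, 1492), (641560, 1492), (643052, 1492), (644544, 1492), (646036, 1492), (647528, 1492), (649020, 1492), (650512, 1492), (652004, 1492), (653496, 1492), (654988, 1492), (656480, 1492), (657972, 1492), (659464,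 1492), (660956, 1492), (662448, 1492), (663940, 1492), (665432, 1492), (666924, 1492), (668416, 1492), (669908, 1492)] ++ [(671400, 1492), (672892, 1492), (674384, 1492), (675876, 1492), (677368, 1492), (678860, 1492), (680352, 1492), (681844, 1492), (683336, 1492), (684828, 1492), (686320, 1492), (687812, 1492), (689304, 1492), (690796, 1492), (692288, 1492), (693780, 1492), (695272, 1492), (696764, 1492), (698256, 1492), (699748, 1492), (701240, 1492), (702732, 1492), (704224, 1492), (705716, 1492), (707208, 1492), (708700, 1492), (710192, 1492), (711684, 1492), (713176, 1492), (714668, 1492), (716160, 1492), (717652, 1492), (719144, 1492), (720636, 1492), (722128, 1492), (723620, 1492), (725112, 1492), (726604, 1492), (728096, 1492), (729588, 1492), (731080, 1492), (732572, 1492), (734064, 1492), (735556, 1492), (737048, 1492), (738540, 1492), (740032, 1492), (741524, 1492), (743016, 1492), (744508, 1492), (746000, 1492), (747492, 1492), (748984, 1492), (750476, 1492), (751968, 1492), (753460, 1492), (754952, 1492), (756444, 1492), (757936, 1492), (759428,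 1492), (760920, 1492), (762412, 1492), (763904, 1492), (765396, 1492), (766888, 1492), (768380, 1492), (769872, 1492), (771364, 1492), (772856, 1492), (774348, 1492), (775840, 1492), (777332, 1492), (778824, 1492), (780316, 1492), (781808, 1492), (783300, 1492), (784792, 1492), (786284, 1492), (787776, 1492), (789268, 1492), (790760, 1492), (792252, 1492), (793744, 1492), (795236, 1492), (796728, 1492), (798220, 1492), (799712, 1492), (801204, 1492), (802696, 1492), (804188, 1492), (805680, 1492), (807172, 1492), (808664, 1492), (810156, 1492), (811648, 1492), (813140, 1492), (814632, 1492), (816124, 1492), (817616, 1492), (819108, 1492), (820600, 1492), (822092, 1492), (823584, 1492), (825076, 1492), (826568, 1492), (828060, 1492), (829552, 1492), (831044, 1492), (832536, 1492), (834028, 1492), (835520, 1492), (837012, 1492), (838504, 1492), (839996, 1492), (841488, 1492), (842980, 1492), (844472, 1492), (845964, 1492), (847456, 1492), (848948, 1492), (850440, 1492), (851932, 1492), (853424, 1492), (854916, 1492), (856408, 1492), (857900, 1492), (859392,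 1492), (860884, 1492), (862376, 1492), (863868, 1492), (865360, 1492), (866852, 1492), (868344, 1492), (869836, 1492), (871328, 1492), (872820, 1492), (874312, 1492), (875804, 1492), (877296, 1492), (878788, 1492), (880280, 1492), (881772, 1492), (883264, 1492), (884756, 1492), (886248, 1492), (887740, 1492), (889232, 1492), (890724, 1492), (892216, 1492), (893708, 1492)] ++ [(895200, 1492), (896692, 1492), (898184, 1492), (899676, 1492), (901168, 1492), (902660, 1492), (904152, 1492), (905644, 1492), (907136, 1492), (908628, 1492), (910120, 1492), (911612, 1492), (913104, 1492), (914596, 1492), (916088, 1492), (917580, 1492), (919072, 1492), (920564, 1492), (922056, 1492), (923548, 1492), (925040, 1492), (926532, 1492), (928024, 1492), (929516, 1492), (931008, 1492), (932500, 1492), (933992, 1492), (935484, 1492), (936976, 1492), (938468, 1492), (939960, 1492), (941452, 1492), (942944, 1492), (944436, 1492), (945928, 1492), (947420, 1492), (948912, 1492), (950404, 1492), (951896, 1492), (953388, 1492), (954880, 1492), (956372, 1492), (957864, 1492), (959356,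 1492), (960848, 1492), (962340, 1492), (963832, 1492), (965324, 1492), (966816, 1492), (968308, 1492), (969800, 1492), (971292, 1492), (972784, 1492), (974276, 1492), (975768, 1492), (977260, 1492), (978752, 1492), (980244, 1492), (981736, 1492), (983228, 1492), (984720, 1492), (986212, 1492), (987704, 1492), (989196, 1492), (990688, 1492), (992180, 1492), (993672, 1492), (995164, 1492), (996656, 1492), (998148, 1492), (999640, 1492), (1001132, 1492), (1002624, 1492), (1004116, 1492), (1005608, 1492), (1007100, 1492), (1008592, 1492), (1010084, 1492), (1011576, 1492), (1013068, 1492), (1014560, 1492), (1016052, 1492), (1017544, 1492), (1019036, 1492), (1020528, 1492), (1022020, 1492), (1023512, 1492), (1025004, 1492), (1026496, 1492), (1027988, 1492), (1029480, 1492), (1030972, 1492), (1032464, 1492), (1033956, 1492), (1035448, 1492), (1036940, 1492), (1038432, 1492), (1039924, 1492), (1041416, 1492), (1042908, 1492), (1044400, 1492), (1045892, 1492), (1047384, 1492), (1048876, 1492), (1050368, 1492), (1051860, 1492), (1053352, 1492), (1054844, 1492), (1056336,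 1492), (1057828, 1492), (1059320, 1492), (1060812, 1492), (1062304, 1492), (1063796, 1492), (1065288, 1492), (1066780, 1492), (1068272, 1492), (1069764, 1492), (1071256, 1492), (1072748, 1492), (1074240, 1492), (1075732, 1492), (1077224, 1492), (1078716, 1492), (1080208, 1492), (1081700, 1492), (1083192, 1492), (1084684, 1492), (1086176, 1492), (1087668, 1492), (1089160, 1492), (1090652, 1492), (1092144, 1492), (1093636, 1492), (1095128, 1492), (1096620, 1492), (1098112, 1492), (1099604, 1492), (1101096, 1492), (1102588, 1492), (1104080, 1492), (1105572, 1492), (1107064, 1492), (1108556, 1492), (1110048, 1492), (1111540, 1492), (1113032, 1492), (1114524, 1492), (1116016, 1492), (1117508, 1492)] ++ [(1119000, 1492), (1120492, 1492), (1121984, 1492), (1123476, 1492), (1124968, 1492), (1126460, 1492), (1127952, 1492), (1129444, 1492), (1130936, 1492), (1132428, 1492), (1133920, 1492), (1135412, 1492), (1136904, 1492), (1138396, 1492), (1139888, 1492), (1141380, 1492), (1142872, 1492), (1144364, 1492), (1145856, 1492), (1147348, 1492), (1148840, 1492), (1150332,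 1492), (1151824, 1492), (1153316, 1492), (1154808, 1492), (1156300, 1492), (1157792, 1492), (1159284, 1492), (1160776, 1492), (1162268, 1492), (1163760, 1492), (1165252, 1492), (1166744, 1492), (1168236, 1492), (1169728, 1492), (1171220, 1492), (1172712, 1492), (1174204, 1492), (1175696, 1492), (1177188, 1492), (1178680, 1492), (1180172, 1492), (1181664, 1492), (1183156, 1492), (1184648, 1492), (1186140, 1492), (1187632, 1492), (1189124, 1492), (1190616, 1492), (1192108, 1492), (1193600, 1492), (1195092, 1492), (1196584, 1492), (1198076, 1492), (1199568, 1492), (1201060, 1492), (1202552, 1492), (1204044, 1492), (1205536, 1492), (1207028, 1492), (1208520, 1492), (1210012, 1492), (1211504, 1492), (1212996, 1492), (1214488, 1492), (1215980, 1492), (1217472, 1492), (1218964, 1492), (1220456, 1492), (1221948, 1492), (1223440, 1492), (1224932, 1492), (1226424, 1492), (1227916, 1492), (1229408, 1492), (1230900, 1492), (1232392, 1492), (1233884, 1492), (1235376, 1492), (1236868, 1492), (1238360, 1492), (1239852, 1492), (1241344, 1492), (1242836, 1492), (1244328,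 1492), (1245820, 1492), (1247312, 1492), (1248804, 1492), (1250296, 1492), (1251788, 1492), (1253280, 1492), (1254772, 1492), (1256264, 1492), (1257756, 1492), (1259248, 1492), (1260740, 1492), (1262232, 1492), (1263724, 1492), (1265216, 1492), (1266708, 1492), (1268200, 1492), (1269692, 1492), (1271184, 1492), (1272676, 1492), (1274168, 1492), (1275660, 1492), (1277152, 1492), (1278644, 1492), (1280136, 1492), (1281628, 1492), (1283120, 1492), (1284612, 1492), (1286104, 1492), (1287596, 1492), (1289088, 1492), (1290580, 1492), (1292072, 1492), (1293564, 1492), (1295056, 1492), (1296548, 1492), (1298040, 1492), (1299532, 1492), (1301024, 1492), (1302516, 1492), (1304008, 1492), (1305500, 1492), (1306992, 1492), (1308484, 1492), (1309976, 1492), (1311468, 1492), (1312960, 1492), (1314452, 1492), (1315944, 1492), (1317436, 1492), (1318928, 1492), (1320420, 1492), (1321912, 1492), (1323404, 1492), (1324896, 1492), (1326388, 1492), (1327880, 1492), (1329372, 1492), (1330864, 1492), (1332356, 1492), (1333848, 1492), (1335340, 1492), (1336832, 1492), (1338324,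 1492), (1339816, 1492), (1341308, 1492)] ++ [(1342800, 1492), (1344292, 1492), (1345784, 1492), (1347276, 1492), (1348768, 1492), (1350260, 1492), (1351752, 1492), (1353244, 1492), (1354736, 1492), (1356228, 1492), (1357720, 1492), (1359212, 1492), (1360704, 1492), (1362196, 1492), (1363688, 1492), (1365180, 1492), (1366672, 1492), (1368164, 1492), (1369656, 1492), (1371148, 1492), (1372640, 1492), (1374132, 1492), (1375624, 1492), (1377116, 1492), (1378608, 1492), (1380100, 1492), (1381592, 1492), (1383084, 1492), (1384576, 1492), (1386068, 1492), (1387560, 1492), (1389052, 1492), (1390544, 1492), (1392036, 1492), (1393528, 1492), (1395020, 1492), (1396512, 1492), (1398004, 1492), (1399496, 1492), (1400988, 1492), (1402480, 1492), (1403972, 1492), (1405464, 1492), (1406956, 1492), (1408448, 1492), (1409940, 1492), (1411432, 1492), (1412924, 1492), (1414416, 1492), (1415908, 1492), (1417400, 1492), (1418892, 1492), (1420384, 1492), (1421876, 1492), (1423368, 1492), (1424860, 1492), (1426352, 1492), (1427844, 1492), (1429336, 1492), (1430828, 1492), (1432320,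 1492), (1433812, 1492), (1435304, 1492), (1436796, 1492), (1438288, 1492), (1439780, 1492), (1441272, 1492), (1442764, 1492), (1444256, 1492), (1445748, 1492), (1447240, 1492), (1448732, 1492), (1450224, 1492), (1451716, 1492), (1453208, 1492), (1454700, 1492), (1456192, 1492), (1457684, 1492), (1459176, 1492), (1460668, 1492), (1462160, 1492), (1463652, 1492), (1465144, 1492), (1466636, 1492), (1468128, 1492), (1469620, 1492), (1471112, 1492), (1472604, 1492), (1474096, 1492), (1475588, 1492), (1477080, 1492), (1478572, 1492), (1480064, 1492), (1481556, 1492), (1483048, 1492), (1484540, 1492), (1486032, 1492), (1487524, 1492), (1489016, 1492), (1490508, 1492), (1492000, 1492), (1493492, 1492), (1494984, 1492), (1496476, 1492), (1497968, 1492), (1499460, 1492), (1500952, 1492), (1502444, 1492), (1503936, 1492), (1505428, 1492), (1506920, 1492), (1508412, 1492), (1509904, 1492), (1511396, 1492), (1512888, 1492), (1514380, 1492), (1515872, 1492), (1517364, 1492), (1518856, 1492), (1520348, 1492), (1521840, 1492), (1523332, 1492), (1524824, 1492), (1526316,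 1492), (1527808, 1492), (1529300, 1492), (1530792, 1492), (1532284, 1492), (1533776, 1492), (1535268, 1492), (1536760, 1492), (1538252, 748)]) (by decide +kernel) (all_append (all_append (all_append (all_append (all_append (all_append (rel3_grp0) rel3_grp1) rel3_grp2) rel3_grp3) rel3_grp4) rel3_grp5) rel3_grp6)

end Cfsg.Agent.HNOut
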