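import Cfsg.Agent.Lib.Lead.HNOut.CVx0
import Cfsg.Agent.Lib.Lead.HNOut.CVx1

/-! # The outer automorphism group of the Harada–Norton group: `w` is an involution (generated) -/

set_option autoImplicit false
set_option maxRecDepth 100000

namespace Cfsg.Agent.HNOut

open Cfsg.Agent.PF Cfsg.Agent.Lib.Helper6 Cfsg.Agent.Lib.Helper6.TC Cfsg.Agent.Lib.Helper6.NatArr
open Cfsg.Agent.PL (Acts evalF)

theorem chk_v_grp0 : ∀ c ∈ ([(0, 32745), (32745, 32745), (65490, 32745), (98235, 32745), (130980, 32745), (163725, 32745), (196470, 32745), (229215, 32745), (261960, 32745), (294705, 32745), (327450, 32745), (360195, 32745), (392940, 32745), (425685, 32745), (458430, 32745), (491175, 32745), (523920, 32745), (556665, 32745), (589410, 32745), (622155, 32745), (654900, 32745), (687645, 32745), (720390, 32745), (753135, 32745), (785880, 32745), (818625, 32745), (851370, 32745), (884115, 32745), (916860, 32745), (949605, 32745), (982350, 32745), (1015095, 32745), (1047840, 32745), (1080585, 32745), (1113330, 32745), (1146075, 32745), (1178820, 32745), (1211565, 32745), (1244310,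 32745), (1277055, 32745), (1309800, 32745), (1342545, 32745), (1375290, 32745), (1408035, 32745), (1440780, 32745), (1473525, 32745), (1506270, 32730)] : List (ℕ × ℕ)), allR c.1 c.2 (fun q => Nat.beq ((fun q => f10 (f10 q)) q) ((fun q => q) q)) = true :=
  all_cons chk_v_0 (all_cons chk_v_1 (all_cons chk_v_2 (all_cons chk_v_3 (all_cons chk_v_4 (all_cons chk_v_5 (all_cons chk_v_6 (all_cons chk_v_7 (all_cons chk_v_8 (all_cons chk_v_9 (all_cons chk_v_10 (all_cons chk_v_11 (all_cons chk_v_12 (all_cons chk_v_13 (all_cons chk_v_14 (all_cons chk_v_15 (all_cons chk_v_16 (all_cons chk_v_17 (all_cons chk_v_18 (all_cons chk_v_19 (all_cons chk_v_20 (all_cons chk_v_21 (all_cons chk_v_22 (all_cons chk_v_23 (all_cons chk_v_24 (all_cons chk_v_25 (all_cons chk_v_26 (all_cons chk_v_27 (all_cons chk_v_28 (all_cons chk_v_29 (all_cons chk_v_30 (all_cons chk_v_31 (all_cons chk_v_32 (all_cons chk_v_33 (all_cons chk_v_34 (all_cons chk_v_35 (all_cons chk_v_36 (all_cons chk_v_37 (all_cons chk_v_38 (all_cons chk_v_39 (all_cons chk_v_40 (all_cons chk_v_41 (all_cons chk_v_42 (all_cons chk_v_43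 (all_cons chk_v_44 (all_cons chk_v_45 (all_cons chk_v_46 (all_nil)))))))))))))))))))))))))))))))))))))))))))))))

/-- the map of `w` is an involution -/
theorem chk_v : ∀ q < 1539000, (fun q => f10 (f10 q)) q = (fun q => q) q :=
  eq_of_chunks (f := (fun q => f10 (f10 q))) (g := (fun q => q)) ([(0, 32745), (32745, 32745), (65490, 32745), (98235, 32745), (130980, 32745), (163725, 32745), (196470, 32745), (229215, 32745), (261960, 32745), (294705, 32745), (327450, 32745), (360195, 32745), (392940, 32745), (425685, 32745), (458430, 32745), (491175, 32745), (523920, 32745), (556665, 32745), (589410, 32745), (622155, 32745), (654900, 32745), (687645, 32745), (720390, 32745), (753135, 32745), (785880, 32745), (818625, 32745), (851370, 32745), (884115, 32745), (916860, 32745), (949605, 32745), (982350, 32745), (1015095, 32745), (1047840, 32745), (1080585, 32745), (1113330, 32745), (1146075, 32745), (1178820, 32745), (1211565, 32745), (1244310, 32745), (1277055, 32745), (1309800, 32745), (1342545, 32745), (1375290, 32745), (1408035, 32745), (1440780, 32745), (1473525, 32745),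 (1506270, 32730)]) (by decide +kernel) (chk_v_grp0)

end Cfsg.Agent.HNOut
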