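import Cfsg.Agent.Lib.Lead.HNOut.D0
import Cfsg.Agent.Lib.Lead.HNOut.D1
import Cfsg.Agent.Lib.Lead.HNOut.D2
import Cfsg.Agent.Lib.Lead.HNOut.D3
import Cfsg.Agent.Lib.Lead.HNOut.D4
import Cfsg.Agent.Lib.Lead.HNOut.D6
import Cfsg.Agent.Lib.Lead.HNOut.D7

/-! # The outer automorphism group of the Harada–Norton group: the further relator number 10 for the images of the letters, a part (generated) -/

set_option autoImplicit false
set_option maxRecDepth 100000

namespace Cfsg.Agent.HNOut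

open Cfsg.Agent.PF Cfsg.Agent.Lib.Helper6 Cfsg.Agent.Lib.Helper6.TC Cfsg.Agent.Lib.Helper6.NatArr
open Cfsg.Agent.PL (Acts evalF)

theorem pextra10_50 : allR 452650 9053 (fun q => Nat.beq ((fun q => f7 (f7 (f7 (f7 (f7 (f7 (f7 (f7 (f7 (f7 (q))))))))))) q) ((fun q => q) q)) = true := by decide +kernel

theorem pextra10_51 : allR 461703 9053 (fun q => Nat.beq ((fun q => f7 (f7 (f7 (f7 (f7 (f7 (f7 (f7 (f7 (f7 (q))))))))))) q) ((fun q => q) q)) = true := by decide +kernel

theorem pextra10_52 : allR 470756 9053 (fun q => Nat.beq ((fun q => f7 (f7 (f7 (f7 (f7 (f7 (f7 (f7 (f7 (f7 (q))))))))))) q) ((fun q => q) q)) = true := by decide +kernel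

theorem pextra10_53 : allR 479809 9053 (fun q => Nat.beq ((fun q => f7 (f7 (f7 (f7 (f7 (f7 (f7 (f7 (f7 (f7 (q))))))))))) q) ((fun q => q) q)) = true := by decide +kernel

theorem pextra10_54 : allR 488862 9053 (fun q => Nat.beq ((fun q => f7 (f7 (f7 (f7 (f7 (f7 (f7 (f7 (f7 (f7 (q))))))))))) q) ((fun q => q) q)) = true := by decide +kernel

theorem pextra10_55 : allR 497915 9053 (fun q => Nat.beq ((fun q => f7 (f7 (f7 (f7 (f7 (f7 (f7 (f7 (f7 (f7 (q))))))))))) q) ((fun q => q) q)) = true := by decide +kernel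

theorem pextra10_56 : allR 506968 9053 (fun q => Nat.beq ((fun q => f7 (f7 (f7 (f7 (f7 (f7 (f7 (f7 (f7 (f7 (q))))))))))) q) ((fun q => q) q)) = true := by decide +kernel

theorem pextra10_57 : allR 516021 9053 (fun q => Nat.beq ((fun q => f7 (f7 (f7 (f7 (f7 (f7 (f7 (f7 (f7 (f7 (q))))))))))) q) ((fun q => q) q)) = true := by decide +kernel

theorem pextra10_58 : allR 525074 9053 (fun q => Nat.beq ((fun q => f7 (f7 (f7 (f7 (f7 (f7 (f7 (f7 (f7 (f7 (q))))))))))) q) ((fun q => q) q)) = true := by decide +kernel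

theorem pextra10_59 : allR 534127 9053 (fun q => Nat.beq ((fun q => f7 (f7 (f7 (f7 (f7 (f7 (f7 (f7 (f7 (f7 (q))))))))))) q) ((fun q => q) q)) = true := by decide +kernel

theorem pextra10_60 : allR 543180 9053 (fun q => Nat.beq ((fun q => f7 (f7 (f7 (f7 (f7 (f7 (f7 (f7 (f7 (f7 (q))))))))))) q) ((fun q => q) q)) = true := by decide +kernel

theorem pextra10_61 : allR 552233 9053 (fun q => Nat.beq ((fun q => f7 (f7 (f7 (f7 (f7 (f7 (f7 (f7 (f7 (f7 (q))))))))))) q) ((fun q => q) q)) = true := by decide +kernel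

theorem pextra10_62 : allR 561286 9053 (fun q => Nat.beq ((fun q => f7 (f7 (f7 (f7 (f7 (f7 (f7 (f7 (f7 (f7 (q))))))))))) q) ((fun q => q) q)) = true := by decide +kernel

theorem pextra10_63 : allR 570339 9053 (fun q => Nat.beq ((fun q => f7 (f7 (f7 (f7 (f7 (f7 (f7 (f7 (f7 (f7 (q))))))))))) q) ((fun q => q) q)) = true := by decide +kernel

theorem pextra10_64 : allR 579392 9053 (fun q => Nat.beq ((fun q => f7 (f7 (f7 (f7 (f7 (f7 (f7 (f7 (f7 (f7 (q))))))))))) q) ((fun q => q) q)) = true := by decide +kernel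

theorem pextra10_65 : allR 588445 9053 (fun q => Nat.beq ((fun q => f7 (f7 (f7 (f7 (f7 (f7 (f7 (f7 (f7 (f7 (q))))))))))) q) ((fun q => q) q)) = true := by decide +kernel

theorem pextra10_66 : allR 597498 9053 (fun q => Nat.beq ((fun q => f7 (f7 (f7 (f7 (f7 (f7 (f7 (f7 (f7 (f7 (q))))))))))) q) ((fun q => q) q)) = true := by decide +kernel

theorem pextra10_67 : allR 606551 9053 (fun q => Nat.beq ((fun q => f7 (f7 (f7 (f7 (f7 (f7 (f7 (f7 (f7 (f7 (q))))))))))) q) ((fun q => q) q)) = true := by decide +kernel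

theorem pextra10_68 : allR 615604 9053 (fun q => Nat.beq ((fun q => f7 (f7 (f7 (f7 (f7 (f7 (f7 (f7 (f7 (f7 (q))))))))))) q) ((fun q => q) q)) = true := by decide +kernel

theorem pextra10_69 : allR 624657 9053 (fun q => Nat.beq ((fun q => f7 (f7 (f7 (f7 (f7 (f7 (f7 (f7 (f7 (f7 (q))))))))))) q) ((fun q => q) q)) = true := by decide +kernel

theorem pextra10_70 : allR 633710 9053 (fun q => Nat.beq ((fun q => f7 (f7 (f7 (f7 (f7 (f7 (f7 (f7 (f7 (f7 (q))))))))))) q) ((fun q => q) q)) = true := by decide +kernel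

theorem pextra10_71 : allR 642763 9053 (fun q => Nat.beq ((fun q => f7 (f7 (f7 (f7 (f7 (f7 (f7 (f7 (f7 (f7 (q))))))))))) q) ((fun q => q) q)) = true := by decide +kernel

theorem pextra10_72 : allR 651816 9053 (fun q => Nat.beq ((fun q => f7 (f7 (f7 (f7 (f7 (f7 (f7 (f7 (f7 (f7 (q))))))))))) q) ((fun q => q) q)) = true := by decide +kernel

theorem pextra10_73 : allR 660869 9053 (fun q => Nat.beq ((fun q => f7 (f7 (f7 (f7 (f7 (f7 (f7 (f7 (f7 (f7 (q))))))))))) q) ((fun q => q) q)) = true := by decide +kernel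

theorem pextra10_74 : allR 669922 9053 (fun q => Nat.beq ((fun q => f7 (f7 (f7 (f7 (f7 (f7 (f7 (f7 (f7 (f7 (q))))))))))) q) ((fun q => q) q)) = true := by decide +kernel


end Cfsg.Agent.HNOut
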