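import Cfsg.Agent.Lib.Lead.HNOut.D0
import Cfsg.Agent.Lib.Lead.HNOut.D1
import Cfsg.Agent.Lib.Lead.HNOut.D2
import Cfsg.Agent.Lib.Lead.HNOut.D3
import Cfsg.Agent.Lib.Lead.HNOut.D4
import Cfsg.Agent.Lib.Lead.HNOut.D6
import Cfsg.Agent.Lib.Lead.HNOut.D7

/-! # The outer automorphism group of the Harada–Norton group: the further relator number 10 for the images of the letters, a part (generated) -/

set_option autoImplicit false
set_option maxRecDepth 100000

namespace Cfsg.Agent.HNOut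

open Cfsg.Agent.PF Cfsg.Agent.Lib.Helper6 Cfsg.Agent.Lib.Helper6.TC Cfsg.Agent.Lib.Helper6.NatArr
open Cfsg.Agent.PL (Acts evalF)

theorem pextra10_75 : allR 678975 9053 (fun q => Nat.beq ((fun q => f7 (f7 (f7 (f7 (f7 (f7 (f7 (f7 (f7 (f7 (q))))))))))) q) ((fun q => q) q)) = true := by decide +kernel

theorem pextra10_76 : allR 688028 9053 (fun q => Nat.beq ((fun q => f7 (f7 (f7 (f7 (f7 (f7 (f7 (f7 (f7 (f7 (q))))))))))) q) ((fun q => q) q)) = true := by decide +kernel

theorem pextra10_77 : allR 697081 9053 (fun q => Nat.beq ((fun q => f7 (f7 (f7 (f7 (f7 (f7 (f7 (f7 (f7 (f7 (q))))))))))) q) ((fun q => q) q)) = true := by decide +kernel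

theorem pextra10_78 : allR 706134 9053 (fun q => Nat.beq ((fun q => f7 (f7 (f7 (f7 (f7 (f7 (f7 (f7 (f7 (f7 (q))))))))))) q) ((fun q => q) q)) = true := by decide +kernel

theorem pextra10_79 : allR 715187 9053 (fun q => Nat.beq ((fun q => f7 (f7 (f7 (f7 (f7 (f7 (f7 (f7 (f7 (f7 (q))))))))))) q) ((fun q => q) q)) = true := by decide +kernel

theorem pextra10_80 : allR 724240 9053 (fun q => Nat.beq ((fun q => f7 (f7 (f7 (f7 (f7 (f7 (f7 (f7 (f7 (f7 (q))))))))))) q) ((fun q => q) q)) = true := by decide +kernel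

theorem pextra10_81 : allR 733293 9053 (fun q => Nat.beq ((fun q => f7 (f7 (f7 (f7 (f7 (f7 (f7 (f7 (f7 (f7 (q))))))))))) q) ((fun q => q) q)) = true := by decide +kernel

theorem pextra10_82 : allR 742346 9053 (fun q => Nat.beq ((fun q => f7 (f7 (f7 (f7 (f7 (f7 (f7 (f7 (f7 (f7 (q))))))))))) q) ((fun q => q) q)) = true := by decide +kernel

theorem pextra10_83 : allR 751399 9053 (fun q => Nat.beq ((fun q => f7 (f7 (f7 (f7 (f7 (f7 (f7 (f7 (f7 (f7 (q))))))))))) q) ((fun q => q) q)) = true := by decide +kernel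

theorem pextra10_84 : allR 760452 9053 (fun q => Nat.beq ((fun q => f7 (f7 (f7 (f7 (f7 (f7 (f7 (f7 (f7 (f7 (q))))))))))) q) ((fun q => q) q)) = true := by decide +kernel

theorem pextra10_85 : allR 769505 9053 (fun q => Nat.beq ((fun q => f7 (f7 (f7 (f7 (f7 (f7 (f7 (f7 (f7 (f7 (q))))))))))) q) ((fun q => q) q)) = true := by decide +kernel

theorem pextra10_86 : allR 778558 9053 (fun q => Nat.beq ((fun q => f7 (f7 (f7 (f7 (f7 (f7 (f7 (f7 (f7 (f7 (q))))))))))) q) ((fun q => q) q)) = true := by decide +kernel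

theorem pextra10_87 : allR 787611 9053 (fun q => Nat.beq ((fun q => f7 (f7 (f7 (f7 (f7 (f7 (f7 (f7 (f7 (f7 (q))))))))))) q) ((fun q => q) q)) = true := by decide +kernel

theorem pextra10_88 : allR 796664 9053 (fun q => Nat.beq ((fun q => f7 (f7 (f7 (f7 (f7 (f7 (f7 (f7 (f7 (f7 (q))))))))))) q) ((fun q => q) q)) = true := by decide +kernel

theorem pextra10_89 : allR 805717 9053 (fun q => Nat.beq ((fun q => f7 (f7 (f7 (f7 (f7 (f7 (f7 (f7 (f7 (f7 (q))))))))))) q) ((fun q => q) q)) = true := by decide +kernel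

theorem pextra10_90 : allR 814770 9053 (fun q => Nat.beq ((fun q => f7 (f7 (f7 (f7 (f7 (f7 (f7 (f7 (f7 (f7 (q))))))))))) q) ((fun q => q) q)) = true := by decide +kernel

theorem pextra10_91 : allR 823823 9053 (fun q => Nat.beq ((fun q => f7 (f7 (f7 (f7 (f7 (f7 (f7 (f7 (f7 (f7 (q))))))))))) q) ((fun q => q) q)) = true := by decide +kernel

theorem pextra10_92 : allR 832876 9053 (fun q => Nat.beq ((fun q => f7 (f7 (f7 (f7 (f7 (f7 (f7 (f7 (f7 (f7 (q))))))))))) q) ((fun q => q) q)) = true := by decide +kernel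

theorem pextra10_93 : allR 841929 9053 (fun q => Nat.beq ((fun q => f7 (f7 (f7 (f7 (f7 (f7 (f7 (f7 (f7 (f7 (q))))))))))) q) ((fun q => q) q)) = true := by decide +kernel

theorem pextra10_94 : allR 850982 9053 (fun q => Nat.beq ((fun q => f7 (f7 (f7 (f7 (f7 (f7 (f7 (f7 (f7 (f7 (q))))))))))) q) ((fun q => q) q)) = true := by decide +kernel

theorem pextra10_95 : allR 860035 9053 (fun q => Nat.beq ((fun q => f7 (f7 (f7 (f7 (f7 (f7 (f7 (f7 (f7 (f7 (q))))))))))) q) ((fun q => q) q)) = true := by decide +kernel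

theorem pextra10_96 : allR 869088 9053 (fun q => Nat.beq ((fun q => f7 (f7 (f7 (f7 (f7 (f7 (f7 (f7 (f7 (f7 (q))))))))))) q) ((fun q => q) q)) = true := by decide +kernel

theorem pextra10_97 : allR 878141 9053 (fun q => Nat.beq ((fun q => f7 (f7 (f7 (f7 (f7 (f7 (f7 (f7 (f7 (f7 (q))))))))))) q) ((fun q => q) q)) = true := by decide +kernel

theorem pextra10_98 : allR 887194 9053 (fun q => Nat.beq ((fun q => f7 (f7 (f7 (f7 (f7 (f7 (f7 (f7 (f7 (f7 (q))))))))))) q) ((fun q => q) q)) = true := by decide +kernel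

theorem pextra10_99 : allR 896247 9053 (fun q => Nat.beq ((fun q => f7 (f7 (f7 (f7 (f7 (f7 (f7 (f7 (f7 (f7 (q))))))))))) q) ((fun q => q) q)) = true := by decide +kernel


end Cfsg.Agent.HNOut
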