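import Cfsg.Agent.Lib.Lead.HNOut.TauExtra10x0
import Cfsg.Agent.Lib.Lead.HNOut.TauExtra10x1
import Cfsg.Agent.Lib.Lead.HNOut.TauExtra10x2
import Cfsg.Agent.Lib.Lead.HNOut.TauExtra10x3
import Cfsg.Agent.Lib.Lead.HNOut.TauExtra10x4
import Cfsg.Agent.Lib.Lead.HNOut.TauExtra10x5
import Cfsg.Agent.Lib.Lead.HNOut.TauExtra10x6
import Cfsg.Agent.Lib.Lead.HNOut.DP

/-! # The outer automorphism group of the Harada–Norton group: the further relator number 10 for the images of the letters (generated) -/

set_option autoImplicit false
set_option maxRecDepth 100000

namespace Cfsg.Agent.HNOut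

open Cfsg.Agent.PF Cfsg.Agent.Lib.Helper6 Cfsg.Agent.Lib.Helper6.TC Cfsg.Agent.Lib.Helper6.NatArr
open Cfsg.Agent.PL (Acts evalF)

/-- the images of the letters of the relator -/
noncomputable def WE10 : List (ℕ → ℕ) := [p6, p6, p6, p6, p6]

theorem pextra10_grp0 : ∀ c ∈ ([(0, 9053), (9053, 9053), (18106, 9053), (27159, 9053), (36212, 9053), (45265, 9053), (54318, 9053), (63371, 9053), (72424, 9053), (81477, 9053), (90530, 9053), (99583, 9053), (108636, 9053), (117689, 9053), (126742, 9053), (135795, 9053), (144848, 9053), (153901, 9053), (162954, 9053), (172007, 9053), (181060, 9053), (190113, 9053), (199166, 9053), (208219, 9053), (217272, 9053), (226325, 9053), (235378, 9053), (244431, 9053), (253484, 9053), (262537, 9053), (271590, 9053), (280643, 9053), (289696, 9053), (298749, 9053), (307802, 9053), (316855, 9053), (325908, 9053), (334961, 9053), (344014, 9053), (353067, 9053), (362120, 9053), (371173, 9053), (380226, 9053), (389279, 9053), (398332, 9053), (407385, 9053), (416438, 9053), (425491, 9053), (434544, 9053), (443597, 9053), (452650, 9053), (461703, 9053), (470756, 9053), (479809, 9053),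 (488862, 9053), (497915, 9053), (506968, 9053), (516021, 9053), (525074, 9053), (534127, 9053), (543180, 9053), (552233, 9053), (561286, 9053), (570339, 9053), (579392, 9053), (588445, 9053), (597498, 9053), (606551, 9053), (615604, 9053), (624657, 9053), (633710, 9053), (642763, 9053), (651816, 9053), (660869, 9053), (669922, 9053), (678975, 9053), (688028, 9053), (697081, 9053), (706134, 9053), (715187, 9053), (724240, 9053), (733293, 9053), (742346, 9053), (751399, 9053), (760452, 9053), (769505, 9053), (778558, 9053), (787611, 9053), (796664, 9053), (805717, 9053), (814770, 9053), (823823, 9053), (832876, 9053), (841929, 9053), (850982, 9053), (860035, 9053), (869088, 9053), (878141, 9053), (887194, 9053), (896247, 9053), (905300, 9053), (914353, 9053), (923406, 9053), (932459, 9053), (941512, 9053), (950565, 9053), (959618, 9053), (968671, 9053), (977724, 9053), (986777, 9053), (995830, 9053), (1004883, 9053), (1013936, 9053), (1022989, 9053), (1032042, 9053), (1041095, 9053), (1050148, 9053), (1059201, 9053), (1068254, 9053), (1077307, 9053), (1086360, 9053), (1095413, 9053), (1104466, 9053),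 (1113519, 9053), (1122572, 9053), (1131625, 9053), (1140678, 9053), (1149731, 9053), (1158784, 9053), (1167837, 9053), (1176890, 9053), (1185943, 9053), (1194996, 9053), (1204049, 9053), (1213102, 9053), (1222155, 9053), (1231208, 9053), (1240261, 9053), (1249314, 9053), (1258367, 9053), (1267420, 9053), (1276473, 9053), (1285526, 9053), (1294579, 9053), (1303632, 9053), (1312685, 9053), (1321738, 9053), (1330791, 9053), (1339844, 9053), (1348897, 9053)] : List (ℕ × ℕ)), allR c.1 c.2 (fun q => Nat.beq ((fun q => f7 (f7 (f7 (f7 (f7 (f7 (f7 (f7 (f7 (f7 (q))))))))))) q) ((fun q => q) q)) = true :=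
  all_cons pextra10_0 (all_cons pextra10_1 (all_cons pextra10_2 (all_cons pextra10_3 (all_cons pextra10_4 (all_cons pextra10_5 (all_cons pextra10_6 (all_cons pextra10_7 (all_cons pextra10_8 (all_cons pextra10_9 (all_cons pextra10_10 (all_cons pextra10_11 (all_cons pextra10_12 (all_cons pextra10_13 (all_cons pextra10_14 (all_cons pextra10_15 (all_cons pextra10_16 (all_cons pextra10_17 (all_cons pextra10_18 (all_cons pextra10_19 (all_cons pextra10_20 (all_cons pextra10_21 (all_cons pextra10_22 (all_cons pextra10_23 (all_cons pextra10_24 (all_cons pextra10_25 (all_cons pextra10_26 (all_cons pextra10_27 (all_cons pextra10_28 (all_cons pextra10_29 (all_cons pextra10_30 (all_cons pextra10_31 (all_cons pextra10_32 (all_cons pextra10_33 (all_cons pextra10_34 (all_cons pextra10_35 (all_cons pextra10_36 (all_cons pextra10_37 (all_cons pextra10_38 (all_cons pextra10_39 (all_cons pextra10_40 (all_cons pextra10_41 (all_cons pextra10_42 (all_cons pextra10_43 (all_cons pextra10_44 (all_cons pextra10_45 (all_cons pextra10_46 (all_cons pextra10_47 (all_cons pextra10_48 (all_cons pextra10_49 (all_cons pextra10_50 (all_cons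 pextra10_51 (all_cons pextra10_52 (all_cons pextra10_53 (all_cons pextra10_54 (all_cons pextra10_55 (all_cons pextra10_56 (all_cons pextra10_57 (all_cons pextra10_58 (all_cons pextra10_59 (all_cons pextra10_60 (all_cons pextra10_61 (all_cons pextra10_62 (all_cons pextra10_63 (all_cons pextra10_64 (all_cons pextra10_65 (all_cons pextra10_66 (all_cons pextra10_67 (all_cons pextra10_68 (all_cons pextra10_69 (all_cons pextra10_70 (all_cons pextra10_71 (all_cons pextra10_72 (all_cons pextra10_73 (all_cons pextra10_74 (all_cons pextra10_75 (all_cons pextra10_76 (all_cons pextra10_77 (all_cons pextra10_78 (all_cons pextra10_79 (all_cons pextra10_80 (all_cons pextra10_81 (all_cons pextra10_82 (all_cons pextra10_83 (all_cons pextra10_84 (all_cons pextra10_85 (all_cons pextra10_86 (all_cons pextra10_87 (all_cons pextra10_88 (all_cons pextra10_89 (all_cons pextra10_90 (all_cons pextra10_91 (all_cons pextra10_92 (all_cons pextra10_93 (all_cons pextra10_94 (all_cons pextra10_95 (all_cons pextra10_96 (all_cons pextra10_97 (all_cons pextra10_98 (all_cons pextra10_99 (all_cons pextra10_100 (all_cons pextra10_101 (all_cons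 pextra10_102 (all_cons pextra10_103 (all_cons pextra10_104 (all_cons pextra10_105 (all_cons pextra10_106 (all_cons pextra10_107 (all_cons pextra10_108 (all_cons pextra10_109 (all_cons pextra10_110 (all_cons pextra10_111 (all_cons pextra10_112 (all_cons pextra10_113 (all_cons pextra10_114 (all_cons pextra10_115 (all_cons pextra10_116 (all_cons pextra10_117 (all_cons pextra10_118 (all_cons pextra10_119 (all_cons pextra10_120 (all_cons pextra10_121 (all_cons pextra10_122 (all_cons pextra10_123 (all_cons pextra10_124 (all_cons pextra10_125 (all_cons pextra10_126 (all_cons pextra10_127 (all_cons pextra10_128 (all_cons pextra10_129 (all_cons pextra10_130 (all_cons pextra10_131 (all_cons pextra10_132 (all_cons pextra10_133 (all_cons pextra10_134 (all_cons pextra10_135 (all_cons pextra10_136 (all_cons pextra10_137 (all_cons pextra10_138 (all_cons pextra10_139 (all_cons pextra10_140 (all_cons pextra10_141 (all_cons pextra10_142 (all_cons pextra10_143 (all_cons pextra10_144 (all_cons pextra10_145 (all_cons pextra10_146 (all_cons pextra10_147 (all_cons pextra10_148 (all_cons pextra10_149 (all_nil))))))))))))))))))))))))))))))))))))))))))))))))))))))))))))))))))))))))))))))))))))))))))))))))))))))))))))))))))))))))))))))))))))))))))))))))))))))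

theorem pextra10_grp1 : ∀ c ∈ ([(1357950, 9053), (1367003, 9053), (1376056, 9053), (1385109, 9053), (1394162, 9053), (1403215, 9053), (1412268, 9053), (1421321, 9053), (1430374, 9053), (1439427, 9053), (1448480, 9053), (1457533, 9053), (1466586, 9053), (1475639, 9053), (1484692, 9053), (1493745, 9053), (1502798, 9053), (1511851, 9053), (1520904, 9053), (1529957, 9043)] : List (ℕ × ℕ)), allR c.1 c.2 (fun q => Nat.beq ((fun q => f7 (f7 (f7 (f7 (f7 (f7 (f7 (f7 (f7 (f7 (q))))))))))) q) ((fun q => q) q)) = true :=
  all_cons pextra10_150 (all_cons pextra10_151 (all_cons pextra10_152 (all_cons pextra10_153 (all_cons pextra10_154 (all_cons pextra10_155 (all_cons pextra10_156 (all_cons pextra10_157 (all_cons pextra10_158 (all_cons pextra10_159 (all_cons pextra10_160 (all_cons pextra10_161 (all_cons pextra10_162 (all_cons pextra10_163 (all_cons pextra10_164 (all_cons pextra10_165 (all_cons pextra10_166 (all_cons pextra10_167 (all_cons pextra10_168 (all_cons pextra10_169 (all_nil))))))))))))))))))))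

/-- the further relator number 10 holds for the images of the letters -/
theorem pextra10 : ∀ q < 1539000, wordF WE10 q = (fun q => q) q :=
  eq_of_chunks (f := (fun q => f7 (f7 (f7 (f7 (f7 (f7 (f7 (f7 (f7 (f7 (q)))))))))))) (g := (fun q => q)) ([(0, 9053), (9053, 9053), (18106, 9053), (27159, 9053), (36212, 9053), (45265, 9053), (54318, 9053), (63371, 9053), (72424, 9053), (81477, 9053), (90530, 9053), (99583, 9053), (108636, 9053), (117689, 9053), (126742, 9053), (135795, 9053), (144848, 9053), (153901, 9053), (162954, 9053), (172007, 9053), (181060, 9053), (190113, 9053), (199166, 9053), (208219, 9053), (217272, 9053), (226325, 9053), (235378, 9053), (244431, 9053), (253484, 9053), (262537, 9053), (271590, 9053), (280643, 9053), (289696, 9053), (298749, 9053), (307802, 9053), (316855, 9053), (325908, 9053), (334961, 9053), (344014, 9053), (353067, 9053), (362120, 9053), (371173, 9053), (380226, 9053), (389279, 9053), (398332, 9053), (407385, 9053), (416438, 9053), (425491, 9053), (434544, 9053), (443597, 9053), (452650, 9053), (461703, 9053), (470756, 9053), (479809, 9053), (488862, 9053), (497915,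 9053), (506968, 9053), (516021, 9053), (525074, 9053), (534127, 9053), (543180, 9053), (552233, 9053), (561286, 9053), (570339, 9053), (579392, 9053), (588445, 9053), (597498, 9053), (606551, 9053), (615604, 9053), (624657, 9053), (633710, 9053), (642763, 9053), (651816, 9053), (660869, 9053), (669922, 9053), (678975, 9053), (688028, 9053), (697081, 9053), (706134, 9053), (715187, 9053), (724240, 9053), (733293, 9053), (742346, 9053), (751399, 9053), (760452, 9053), (769505, 9053), (778558, 9053), (787611, 9053), (796664, 9053), (805717, 9053), (814770, 9053), (823823, 9053), (832876, 9053), (841929, 9053), (850982, 9053), (860035, 9053), (869088, 9053), (878141, 9053), (887194, 9053), (896247, 9053), (905300, 9053), (914353, 9053), (923406, 9053), (932459, 9053), (941512, 9053), (950565, 9053), (959618, 9053), (968671, 9053), (977724, 9053), (986777, 9053), (995830, 9053), (1004883, 9053), (1013936, 9053), (1022989, 9053), (1032042, 9053), (1041095, 9053), (1050148, 9053), (1059201, 9053), (1068254, 9053), (1077307, 9053), (1086360, 9053), (1095413, 9053), (1104466, 9053), (1113519, 9053), (1122572,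 9053), (1131625, 9053), (1140678, 9053), (1149731, 9053), (1158784, 9053), (1167837, 9053), (1176890, 9053), (1185943, 9053), (1194996, 9053), (1204049, 9053), (1213102, 9053), (1222155, 9053), (1231208, 9053), (1240261, 9053), (1249314, 9053), (1258367, 9053), (1267420, 9053), (1276473, 9053), (1285526, 9053), (1294579, 9053), (1303632, 9053), (1312685, 9053), (1321738, 9053), (1330791, 9053), (1339844, 9053), (1348897, 9053)] ++ [(1357950, 9053), (1367003, 9053), (1376056, 9053), (1385109, 9053), (1394162, 9053), (1403215, 9053), (1412268, 9053), (1421321, 9053), (1430374, 9053), (1439427, 9053), (1448480, 9053), (1457533, 9053), (1466586, 9053), (1475639, 9053), (1484692, 9053), (1493745, 9053), (1502798, 9053), (1511851, 9053), (1520904, 9053), (1529957, 9043)]) (by decide +kernel) (all_append (pextra10_grp0) pextra10_grp1)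

end Cfsg.Agent.HNOut
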