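import Cfsg.Agent.Lib.Lead.HNOut.D0
import Cfsg.Agent.Lib.Lead.HNOut.D1
import Cfsg.Agent.Lib.Lead.HNOut.D2
import Cfsg.Agent.Lib.Lead.HNOut.D3
import Cfsg.Agent.Lib.Lead.HNOut.D4
import Cfsg.Agent.Lib.Lead.HNOut.D6
import Cfsg.Agent.Lib.Lead.HNOut.D7

/-! # The outer automorphism group of the Harada–Norton group: the further relator number 11 for the images of the letters, a part (generated) -/

set_option autoImplicit false
set_option maxRecDepth 100000

namespace Cfsg.Agent.HNOut

open Cfsg.Agent.PF Cfsg.Agent.Lib.Helper6 Cfsg.Agent.Lib.Helper6.TC Cfsg.Agent.Lib.Helper6.NatArr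
open Cfsg.Agent.PL (Acts evalF)

theorem pextra11_25 : allR 276800 11072 (fun q => Nat.beq ((fun q => f0 (f7 (f7 (f1 (f7 (f7 (f7 (f7 (q))))))))) q) ((fun q => q) q)) = true := by decide +kernel

theorem pextra11_26 : allR 287872 11072 (fun q => Nat.beq ((fun q => f0 (f7 (f7 (f1 (f7 (f7 (f7 (f7 (q))))))))) q) ((fun q => q) q)) = true := by decide +kernel

theorem pextra11_27 : allR 298944 11072 (fun q => Nat.beq ((fun q => f0 (f7 (f7 (f1 (f7 (f7 (f7 (f7 (q))))))))) q) ((fun q => q) q)) = true := by decide +kernel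

theorem pextra11_28 : allR 310016 11072 (fun q => Nat.beq ((fun q => f0 (f7 (f7 (f1 (f7 (f7 (f7 (f7 (q))))))))) q) ((fun q => q) q)) = true := by decide +kernel

theorem pextra11_29 : allR 321088 11072 (fun q => Nat.beq ((fun q => f0 (f7 (f7 (f1 (f7 (f7 (f7 (f7 (q))))))))) q) ((fun q => q) q)) = true := by decide +kernel

theorem pextra11_30 : allR 332160 11072 (fun q => Nat.beq ((fun q => f0 (f7 (f7 (f1 (f7 (f7 (f7 (f7 (q))))))))) q) ((fun q => q) q)) = true := by decide +kernel

theorem pextra11_31 : allR 343232 11072 (fun q => Nat.beq ((fun q => f0 (f7 (f7 (f1 (f7 (f7 (f7 (f7 (q))))))))) q) ((fun q => q) q)) = true := by decide +kernel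

theorem pextra11_32 : allR 354304 11072 (fun q => Nat.beq ((fun q => f0 (f7 (f7 (f1 (f7 (f7 (f7 (f7 (q))))))))) q) ((fun q => q) q)) = true := by decide +kernel

theorem pextra11_33 : allR 365376 11072 (fun q => Nat.beq ((fun q => f0 (f7 (f7 (f1 (f7 (f7 (f7 (f7 (q))))))))) q) ((fun q => q) q)) = true := by decide +kernel

theorem pextra11_34 : allR 376448 11072 (fun q => Nat.beq ((fun q => f0 (f7 (f7 (f1 (f7 (f7 (f7 (f7 (q))))))))) q) ((fun q => q) q)) = true := by decide +kernel

theorem pextra11_35 : allR 387520 11072 (fun q => Nat.beq ((fun q => f0 (f7 (f7 (f1 (f7 (f7 (f7 (f7 (q))))))))) q) ((fun q => q) q)) = true := by decide +kernel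

theorem pextra11_36 : allR 398592 11072 (fun q => Nat.beq ((fun q => f0 (f7 (f7 (f1 (f7 (f7 (f7 (f7 (q))))))))) q) ((fun q => q) q)) = true := by decide +kernel

theorem pextra11_37 : allR 409664 11072 (fun q => Nat.beq ((fun q => f0 (f7 (f7 (f1 (f7 (f7 (f7 (f7 (q))))))))) q) ((fun q => q) q)) = true := by decide +kernel

theorem pextra11_38 : allR 420736 11072 (fun q => Nat.beq ((fun q => f0 (f7 (f7 (f1 (f7 (f7 (f7 (f7 (q))))))))) q) ((fun q => q) q)) = true := by decide +kernel

theorem pextra11_39 : allR 431808 11072 (fun q => Nat.beq ((fun q => f0 (f7 (f7 (f1 (f7 (f7 (f7 (f7 (q))))))))) q) ((fun q => q) q)) = true := by decide +kernel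

theorem pextra11_40 : allR 442880 11072 (fun q => Nat.beq ((fun q => f0 (f7 (f7 (f1 (f7 (f7 (f7 (f7 (q))))))))) q) ((fun q => q) q)) = true := by decide +kernel

theorem pextra11_41 : allR 453952 11072 (fun q => Nat.beq ((fun q => f0 (f7 (f7 (f1 (f7 (f7 (f7 (f7 (q))))))))) q) ((fun q => q) q)) = true := by decide +kernel

theorem pextra11_42 : allR 465024 11072 (fun q => Nat.beq ((fun q => f0 (f7 (f7 (f1 (f7 (f7 (f7 (f7 (q))))))))) q) ((fun q => q) q)) = true := by decide +kernel

theorem pextra11_43 : allR 476096 11072 (fun q => Nat.beq ((fun q => f0 (f7 (f7 (f1 (f7 (f7 (f7 (f7 (q))))))))) q) ((fun q => q) q)) = true := by decide +kernel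

theorem pextra11_44 : allR 487168 11072 (fun q => Nat.beq ((fun q => f0 (f7 (f7 (f1 (f7 (f7 (f7 (f7 (q))))))))) q) ((fun q => q) q)) = true := by decide +kernel

theorem pextra11_45 : allR 498240 11072 (fun q => Nat.beq ((fun q => f0 (f7 (f7 (f1 (f7 (f7 (f7 (f7 (q))))))))) q) ((fun q => q) q)) = true := by decide +kernel

theorem pextra11_46 : allR 509312 11072 (fun q => Nat.beq ((fun q => f0 (f7 (f7 (f1 (f7 (f7 (f7 (f7 (q))))))))) q) ((fun q => q) q)) = true := by decide +kernel

theorem pextra11_47 : allR 520384 11072 (fun q => Nat.beq ((fun q => f0 (f7 (f7 (f1 (f7 (f7 (f7 (f7 (q))))))))) q) ((fun q => q) q)) = true := by decide +kernel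

theorem pextra11_48 : allR 531456 11072 (fun q => Nat.beq ((fun q => f0 (f7 (f7 (f1 (f7 (f7 (f7 (f7 (q))))))))) q) ((fun q => q) q)) = true := by decide +kernel

theorem pextra11_49 : allR 542528 11072 (fun q => Nat.beq ((fun q => f0 (f7 (f7 (f1 (f7 (f7 (f7 (f7 (q))))))))) q) ((fun q => q) q)) = true := by decide +kernel


end Cfsg.Agent.HNOut
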