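import Cfsg.Agent.Lib.Lead.HNOut.D0
import Cfsg.Agent.Lib.Lead.HNOut.D1
import Cfsg.Agent.Lib.Lead.HNOut.D2
import Cfsg.Agent.Lib.Lead.HNOut.D3
import Cfsg.Agent.Lib.Lead.HNOut.D4
import Cfsg.Agent.Lib.Lead.HNOut.D6
import Cfsg.Agent.Lib.Lead.HNOut.D7

/-! # The outer automorphism group of the Harada–Norton group: the further relator number 11 for the images of the letters, a part (generated) -/

set_option autoImplicit false
set_option maxRecDepth 100000

namespace Cfsg.Agent.HNOut

open Cfsg.Agent.PF Cfsg.Agent.Lib.Helper6 Cfsg.Agent.Lib.Helper6.TC Cfsg.Agent.Lib.Helper6.NatArr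
open Cfsg.Agent.PL (Acts evalF)

theorem pextra11_50 : allR 553600 11072 (fun q => Nat.beq ((fun q => f0 (f7 (f7 (f1 (f7 (f7 (f7 (f7 (q))))))))) q) ((fun q => q) q)) = true := by decide +kernel

theorem pextra11_51 : allR 564672 11072 (fun q => Nat.beq ((fun q => f0 (f7 (f7 (f1 (f7 (f7 (f7 (f7 (q))))))))) q) ((fun q => q) q)) = true := by decide +kernel

theorem pextra11_52 : allR 575744 11072 (fun q => Nat.beq ((fun q => f0 (f7 (f7 (f1 (f7 (f7 (f7 (f7 (q))))))))) q) ((fun q => q) q)) = true := by decide +kernel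

theorem pextra11_53 : allR 586816 11072 (fun q => Nat.beq ((fun q => f0 (f7 (f7 (f1 (f7 (f7 (f7 (f7 (q))))))))) q) ((fun q => q) q)) = true := by decide +kernel

theorem pextra11_54 : allR 597888 11072 (fun q => Nat.beq ((fun q => f0 (f7 (f7 (f1 (f7 (f7 (f7 (f7 (q))))))))) q) ((fun q => q) q)) = true := by decide +kernel

theorem pextra11_55 : allR 608960 11072 (fun q => Nat.beq ((fun q => f0 (f7 (f7 (f1 (f7 (f7 (f7 (f7 (q))))))))) q) ((fun q => q) q)) = true := by decide +kernel

theorem pextra11_56 : allR 620032 11072 (fun q => Nat.beq ((fun q => f0 (f7 (f7 (f1 (f7 (f7 (f7 (f7 (q))))))))) q) ((fun q => q) q)) = true := by decide +kernel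

theorem pextra11_57 : allR 631104 11072 (fun q => Nat.beq ((fun q => f0 (f7 (f7 (f1 (f7 (f7 (f7 (f7 (q))))))))) q) ((fun q => q) q)) = true := by decide +kernel

theorem pextra11_58 : allR 642176 11072 (fun q => Nat.beq ((fun q => f0 (f7 (f7 (f1 (f7 (f7 (f7 (f7 (q))))))))) q) ((fun q => q) q)) = true := by decide +kernel

theorem pextra11_59 : allR 653248 11072 (fun q => Nat.beq ((fun q => f0 (f7 (f7 (f1 (f7 (f7 (f7 (f7 (q))))))))) q) ((fun q => q) q)) = true := by decide +kernel

theorem pextra11_60 : allR 664320 11072 (fun q => Nat.beq ((fun q => f0 (f7 (f7 (f1 (f7 (f7 (f7 (f7 (q))))))))) q) ((fun q => q) q)) = true := by decide +kernel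

theorem pextra11_61 : allR 675392 11072 (fun q => Nat.beq ((fun q => f0 (f7 (f7 (f1 (f7 (f7 (f7 (f7 (q))))))))) q) ((fun q => q) q)) = true := by decide +kernel

theorem pextra11_62 : allR 686464 11072 (fun q => Nat.beq ((fun q => f0 (f7 (f7 (f1 (f7 (f7 (f7 (f7 (q))))))))) q) ((fun q => q) q)) = true := by decide +kernel

theorem pextra11_63 : allR 697536 11072 (fun q => Nat.beq ((fun q => f0 (f7 (f7 (f1 (f7 (f7 (f7 (f7 (q))))))))) q) ((fun q => q) q)) = true := by decide +kernel

theorem pextra11_64 : allR 708608 11072 (fun q => Nat.beq ((fun q => f0 (f7 (f7 (f1 (f7 (f7 (f7 (f7 (q))))))))) q) ((fun q => q) q)) = true := by decide +kernel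

theorem pextra11_65 : allR 719680 11072 (fun q => Nat.beq ((fun q => f0 (f7 (f7 (f1 (f7 (f7 (f7 (f7 (q))))))))) q) ((fun q => q) q)) = true := by decide +kernel

theorem pextra11_66 : allR 730752 11072 (fun q => Nat.beq ((fun q => f0 (f7 (f7 (f1 (f7 (f7 (f7 (f7 (q))))))))) q) ((fun q => q) q)) = true := by decide +kernel

theorem pextra11_67 : allR 741824 11072 (fun q => Nat.beq ((fun q => f0 (f7 (f7 (f1 (f7 (f7 (f7 (f7 (q))))))))) q) ((fun q => q) q)) = true := by decide +kernel

theorem pextra11_68 : allR 752896 11072 (fun q => Nat.beq ((fun q => f0 (f7 (f7 (f1 (f7 (f7 (f7 (f7 (q))))))))) q) ((fun q => q) q)) = true := by decide +kernel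

theorem pextra11_69 : allR 763968 11072 (fun q => Nat.beq ((fun q => f0 (f7 (f7 (f1 (f7 (f7 (f7 (f7 (q))))))))) q) ((fun q => q) q)) = true := by decide +kernel

theorem pextra11_70 : allR 775040 11072 (fun q => Nat.beq ((fun q => f0 (f7 (f7 (f1 (f7 (f7 (f7 (f7 (q))))))))) q) ((fun q => q) q)) = true := by decide +kernel

theorem pextra11_71 : allR 786112 11072 (fun q => Nat.beq ((fun q => f0 (f7 (f7 (f1 (f7 (f7 (f7 (f7 (q))))))))) q) ((fun q => q) q)) = true := by decide +kernel

theorem pextra11_72 : allR 797184 11072 (fun q => Nat.beq ((fun q => f0 (f7 (f7 (f1 (f7 (f7 (f7 (f7 (q))))))))) q) ((fun q => q) q)) = true := by decide +kernel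

theorem pextra11_73 : allR 808256 11072 (fun q => Nat.beq ((fun q => f0 (f7 (f7 (f1 (f7 (f7 (f7 (f7 (q))))))))) q) ((fun q => q) q)) = true := by decide +kernel

theorem pextra11_74 : allR 819328 11072 (fun q => Nat.beq ((fun q => f0 (f7 (f7 (f1 (f7 (f7 (f7 (f7 (q))))))))) q) ((fun q => q) q)) = true := by decide +kernel


end Cfsg.Agent.HNOut
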