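import Cfsg.Agent.Lib.Lead.HNOut.D0
import Cfsg.Agent.Lib.Lead.HNOut.D1
import Cfsg.Agent.Lib.Lead.HNOut.D2
import Cfsg.Agent.Lib.Lead.HNOut.D3
import Cfsg.Agent.Lib.Lead.HNOut.D4
import Cfsg.Agent.Lib.Lead.HNOut.D6
import Cfsg.Agent.Lib.Lead.HNOut.D7

/-! # The outer automorphism group of the Harada–Norton group: the further relator number 11 for the images of the letters, a part (generated) -/

set_option autoImplicit false
set_option maxRecDepth 100000

namespace Cfsg.Agent.HNOut

open Cfsg.Agent.PF Cfsg.Agent.Lib.Helper6 Cfsg.Agent.Lib.Helper6.TC Cfsg.Agent.Lib.Helper6.NatArr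
open Cfsg.Agent.PL (Acts evalF)

theorem pextra11_75 : allR 830400 11072 (fun q => Nat.beq ((fun q => f0 (f7 (f7 (f1 (f7 (f7 (f7 (f7 (q))))))))) q) ((fun q => q) q)) = true := by decide +kernel

theorem pextra11_76 : allR 841472 11072 (fun q => Nat.beq ((fun q => f0 (f7 (f7 (f1 (f7 (f7 (f7 (f7 (q))))))))) q) ((fun q => q) q)) = true := by decide +kernel

theorem pextra11_77 : allR 852544 11072 (fun q => Nat.beq ((fun q => f0 (f7 (f7 (f1 (f7 (f7 (f7 (f7 (q))))))))) q) ((fun q => q) q)) = true := by decide +kernel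

theorem pextra11_78 : allR 863616 11072 (fun q => Nat.beq ((fun q => f0 (f7 (f7 (f1 (f7 (f7 (f7 (f7 (q))))))))) q) ((fun q => q) q)) = true := by decide +kernel

theorem pextra11_79 : allR 874688 11072 (fun q => Nat.beq ((fun q => f0 (f7 (f7 (f1 (f7 (f7 (f7 (f7 (q))))))))) q) ((fun q => q) q)) = true := by decide +kernel

theorem pextra11_80 : allR 885760 11072 (fun q => Nat.beq ((fun q => f0 (f7 (f7 (f1 (f7 (f7 (f7 (f7 (q))))))))) q) ((fun q => q) q)) = true := by decide +kernel

theorem pextra11_81 : allR 896832 11072 (fun q => Nat.beq ((fun q => f0 (f7 (f7 (f1 (f7 (f7 (f7 (f7 (q))))))))) q) ((fun q => q) q)) = true := by decide +kernel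

theorem pextra11_82 : allR 907904 11072 (fun q => Nat.beq ((fun q => f0 (f7 (f7 (f1 (f7 (f7 (f7 (f7 (q))))))))) q) ((fun q => q) q)) = true := by decide +kernel

theorem pextra11_83 : allR 918976 11072 (fun q => Nat.beq ((fun q => f0 (f7 (f7 (f1 (f7 (f7 (f7 (f7 (q))))))))) q) ((fun q => q) q)) = true := by decide +kernel

theorem pextra11_84 : allR 930048 11072 (fun q => Nat.beq ((fun q => f0 (f7 (f7 (f1 (f7 (f7 (f7 (f7 (q))))))))) q) ((fun q => q) q)) = true := by decide +kernel

theorem pextra11_85 : allR 941120 11072 (fun q => Nat.beq ((fun q => f0 (f7 (f7 (f1 (f7 (f7 (f7 (f7 (q))))))))) q) ((fun q => q) q)) = true := by decide +kernel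

theorem pextra11_86 : allR 952192 11072 (fun q => Nat.beq ((fun q => f0 (f7 (f7 (f1 (f7 (f7 (f7 (f7 (q))))))))) q) ((fun q => q) q)) = true := by decide +kernel

theorem pextra11_87 : allR 963264 11072 (fun q => Nat.beq ((fun q => f0 (f7 (f7 (f1 (f7 (f7 (f7 (f7 (q))))))))) q) ((fun q => q) q)) = true := by decide +kernel

theorem pextra11_88 : allR 974336 11072 (fun q => Nat.beq ((fun q => f0 (f7 (f7 (f1 (f7 (f7 (f7 (f7 (q))))))))) q) ((fun q => q) q)) = true := by decide +kernel

theorem pextra11_89 : allR 985408 11072 (fun q => Nat.beq ((fun q => f0 (f7 (f7 (f1 (f7 (f7 (f7 (f7 (q))))))))) q) ((fun q => q) q)) = true := by decide +kernel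

theorem pextra11_90 : allR 996480 11072 (fun q => Nat.beq ((fun q => f0 (f7 (f7 (f1 (f7 (f7 (f7 (f7 (q))))))))) q) ((fun q => q) q)) = true := by decide +kernel

theorem pextra11_91 : allR 1007552 11072 (fun q => Nat.beq ((fun q => f0 (f7 (f7 (f1 (f7 (f7 (f7 (f7 (q))))))))) q) ((fun q => q) q)) = true := by decide +kernel

theorem pextra11_92 : allR 1018624 11072 (fun q => Nat.beq ((fun q => f0 (f7 (f7 (f1 (f7 (f7 (f7 (f7 (q))))))))) q) ((fun q => q) q)) = true := by decide +kernel

theorem pextra11_93 : allR 1029696 11072 (fun q => Nat.beq ((fun q => f0 (f7 (f7 (f1 (f7 (f7 (f7 (f7 (q))))))))) q) ((fun q => q) q)) = true := by decide +kernel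

theorem pextra11_94 : allR 1040768 11072 (fun q => Nat.beq ((fun q => f0 (f7 (f7 (f1 (f7 (f7 (f7 (f7 (q))))))))) q) ((fun q => q) q)) = true := by decide +kernel

theorem pextra11_95 : allR 1051840 11072 (fun q => Nat.beq ((fun q => f0 (f7 (f7 (f1 (f7 (f7 (f7 (f7 (q))))))))) q) ((fun q => q) q)) = true := by decide +kernel

theorem pextra11_96 : allR 1062912 11072 (fun q => Nat.beq ((fun q => f0 (f7 (f7 (f1 (f7 (f7 (f7 (f7 (q))))))))) q) ((fun q => q) q)) = true := by decide +kernel

theorem pextra11_97 : allR 1073984 11072 (fun q => Nat.beq ((fun q => f0 (f7 (f7 (f1 (f7 (f7 (f7 (f7 (q))))))))) q) ((fun q => q) q)) = true := by decide +kernel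

theorem pextra11_98 : allR 1085056 11072 (fun q => Nat.beq ((fun q => f0 (f7 (f7 (f1 (f7 (f7 (f7 (f7 (q))))))))) q) ((fun q => q) q)) = true := by decide +kernel

theorem pextra11_99 : allR 1096128 11072 (fun q => Nat.beq ((fun q => f0 (f7 (f7 (f1 (f7 (f7 (f7 (f7 (q))))))))) q) ((fun q => q) q)) = true := by decide +kernel


end Cfsg.Agent.HNOut
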