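import Cfsg.Agent.Lib.Lead.HNOut.D0
import Cfsg.Agent.Lib.Lead.HNOut.D1
import Cfsg.Agent.Lib.Lead.HNOut.D2
import Cfsg.Agent.Lib.Lead.HNOut.D3
import Cfsg.Agent.Lib.Lead.HNOut.D4
import Cfsg.Agent.Lib.Lead.HNOut.D6
import Cfsg.Agent.Lib.Lead.HNOut.D7

/-! # The outer automorphism group of the Harada–Norton group: the further relator number 13 for the images of the letters, a part (generated) -/

set_option autoImplicit false
set_option maxRecDepth 100000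

namespace Cfsg.Agent.HNOut

open Cfsg.Agent.PF Cfsg.Agent.Lib.Helper6 Cfsg.Agent.Lib.Helper6.TC Cfsg.Agent.Lib.Helper6.NatArr
open Cfsg.Agent.PL (Acts evalF)

theorem pextra13_75 : allR 467325 6231 (fun q => Nat.beq ((fun q => f0 (f0 (f4 (f7 (f7 (f0 (f0 (f4 (f7 (f7 (f0 (f0 (f4 (f7 (f7 (q)))))))))))))))) q) ((fun q => q) q)) = true := by decide +kernel

theorem pextra13_76 : allR 473556 6231 (fun q => Nat.beq ((fun q => f0 (f0 (f4 (f7 (f7 (f0 (f0 (f4 (f7 (f7 (f0 (f0 (f4 (f7 (f7 (q)))))))))))))))) q) ((fun q => q) q)) = true := by decide +kernel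

theorem pextra13_77 : allR 479787 6231 (fun q => Nat.beq ((fun q => f0 (f0 (f4 (f7 (f7 (f0 (f0 (f4 (f7 (f7 (f0 (f0 (f4 (f7 (f7 (q)))))))))))))))) q) ((fun q => q) q)) = true := by decide +kernel

theorem pextra13_78 : allR 486018 6231 (fun q => Nat.beq ((fun q => f0 (f0 (f4 (f7 (f7 (f0 (f0 (f4 (f7 (f7 (f0 (f0 (f4 (f7 (f7 (q)))))))))))))))) q) ((fun q => q) q)) = true := by decide +kernel

theorem pextra13_79 : allR 492249 6231 (fun q => Nat.beq ((fun q => f0 (f0 (f4 (f7 (f7 (f0 (f0 (f4 (f7 (f7 (f0 (f0 (f4 (f7 (f7 (q)))))))))))))))) q) ((fun q => q) q)) = true := by decide +kernel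

theorem pextra13_80 : allR 498480 6231 (fun q => Nat.beq ((fun q => f0 (f0 (f4 (f7 (f7 (f0 (f0 (f4 (f7 (f7 (f0 (f0 (f4 (f7 (f7 (q)))))))))))))))) q) ((fun q => q) q)) = true := by decide +kernel

theorem pextra13_81 : allR 504711 6231 (fun q => Nat.beq ((fun q => f0 (f0 (f4 (f7 (f7 (f0 (f0 (f4 (f7 (f7 (f0 (f0 (f4 (f7 (f7 (q)))))))))))))))) q) ((fun q => q) q)) = true := by decide +kernel

theorem pextra13_82 : allR 510942 6231 (fun q => Nat.beq ((fun q => f0 (f0 (f4 (f7 (f7 (f0 (f0 (f4 (f7 (f7 (f0 (f0 (f4 (f7 (f7 (q)))))))))))))))) q) ((fun q => q) q)) = true := by decide +kernel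

theorem pextra13_83 : allR 517173 6231 (fun q => Nat.beq ((fun q => f0 (f0 (f4 (f7 (f7 (f0 (f0 (f4 (f7 (f7 (f0 (f0 (f4 (f7 (f7 (q)))))))))))))))) q) ((fun q => q) q)) = true := by decide +kernel

theorem pextra13_84 : allR 523404 6231 (fun q => Nat.beq ((fun q => f0 (f0 (f4 (f7 (f7 (f0 (f0 (f4 (f7 (f7 (f0 (f0 (f4 (f7 (f7 (q)))))))))))))))) q) ((fun q => q) q)) = true := by decide +kernel

theorem pextra13_85 : allR 529635 6231 (fun q => Nat.beq ((fun q => f0 (f0 (f4 (f7 (f7 (f0 (f0 (f4 (f7 (f7 (f0 (f0 (f4 (f7 (f7 (q)))))))))))))))) q) ((fun q => q) q)) = true := by decide +kernel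

theorem pextra13_86 : allR 535866 6231 (fun q => Nat.beq ((fun q => f0 (f0 (f4 (f7 (f7 (f0 (f0 (f4 (f7 (f7 (f0 (f0 (f4 (f7 (f7 (q)))))))))))))))) q) ((fun q => q) q)) = true := by decide +kernel

theorem pextra13_87 : allR 542097 6231 (fun q => Nat.beq ((fun q => f0 (f0 (f4 (f7 (f7 (f0 (f0 (f4 (f7 (f7 (f0 (f0 (f4 (f7 (f7 (q)))))))))))))))) q) ((fun q => q) q)) = true := by decide +kernel

theorem pextra13_88 : allR 548328 6231 (fun q => Nat.beq ((fun q => f0 (f0 (f4 (f7 (f7 (f0 (f0 (f4 (f7 (f7 (f0 (f0 (f4 (f7 (f7 (q)))))))))))))))) q) ((fun q => q) q)) = true := by decide +kernel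

theorem pextra13_89 : allR 554559 6231 (fun q => Nat.beq ((fun q => f0 (f0 (f4 (f7 (f7 (f0 (f0 (f4 (f7 (f7 (f0 (f0 (f4 (f7 (f7 (q)))))))))))))))) q) ((fun q => q) q)) = true := by decide +kernel

theorem pextra13_90 : allR 560790 6231 (fun q => Nat.beq ((fun q => f0 (f0 (f4 (f7 (f7 (f0 (f0 (f4 (f7 (f7 (f0 (f0 (f4 (f7 (f7 (q)))))))))))))))) q) ((fun q => q) q)) = true := by decide +kernel

theorem pextra13_91 : allR 567021 6231 (fun q => Nat.beq ((fun q => f0 (f0 (f4 (f7 (f7 (f0 (f0 (f4 (f7 (f7 (f0 (f0 (f4 (f7 (f7 (q)))))))))))))))) q) ((fun q => q) q)) = true := by decide +kernel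

theorem pextra13_92 : allR 573252 6231 (fun q => Nat.beq ((fun q => f0 (f0 (f4 (f7 (f7 (f0 (f0 (f4 (f7 (f7 (f0 (f0 (f4 (f7 (f7 (q)))))))))))))))) q) ((fun q => q) q)) = true := by decide +kernel

theorem pextra13_93 : allR 579483 6231 (fun q => Nat.beq ((fun q => f0 (f0 (f4 (f7 (f7 (f0 (f0 (f4 (f7 (f7 (f0 (f0 (f4 (f7 (f7 (q)))))))))))))))) q) ((fun q => q) q)) = true := by decide +kernel

theorem pextra13_94 : allR 585714 6231 (fun q => Nat.beq ((fun q => f0 (f0 (f4 (f7 (f7 (f0 (f0 (f4 (f7 (f7 (f0 (f0 (f4 (f7 (f7 (q)))))))))))))))) q) ((fun q => q) q)) = true := by decide +kernel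

theorem pextra13_95 : allR 591945 6231 (fun q => Nat.beq ((fun q => f0 (f0 (f4 (f7 (f7 (f0 (f0 (f4 (f7 (f7 (f0 (f0 (f4 (f7 (f7 (q)))))))))))))))) q) ((fun q => q) q)) = true := by decide +kernel

theorem pextra13_96 : allR 598176 6231 (fun q => Nat.beq ((fun q => f0 (f0 (f4 (f7 (f7 (f0 (f0 (f4 (f7 (f7 (f0 (f0 (f4 (f7 (f7 (q)))))))))))))))) q) ((fun q => q) q)) = true := by decide +kernel

theorem pextra13_97 : allR 604407 6231 (fun q => Nat.beq ((fun q => f0 (f0 (f4 (f7 (f7 (f0 (f0 (f4 (f7 (f7 (f0 (f0 (f4 (f7 (f7 (q)))))))))))))))) q) ((fun q => q) q)) = true := by decide +kernel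

theorem pextra13_98 : allR 610638 6231 (fun q => Nat.beq ((fun q => f0 (f0 (f4 (f7 (f7 (f0 (f0 (f4 (f7 (f7 (f0 (f0 (f4 (f7 (f7 (q)))))))))))))))) q) ((fun q => q) q)) = true := by decide +kernel

theorem pextra13_99 : allR 616869 6231 (fun q => Nat.beq ((fun q => f0 (f0 (f4 (f7 (f7 (f0 (f0 (f4 (f7 (f7 (f0 (f0 (f4 (f7 (f7 (q)))))))))))))))) q) ((fun q => q) q)) = true := by decide +kernel


end Cfsg.Agent.HNOut
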