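import Cfsg.Agent.Lib.Lead.HNOut.TauExtra13x0
import Cfsg.Agent.Lib.Lead.HNOut.TauExtra13x1
import Cfsg.Agent.Lib.Lead.HNOut.TauExtra13x2
import Cfsg.Agent.Lib.Lead.HNOut.TauExtra13x3
import Cfsg.Agent.Lib.Lead.HNOut.TauExtra13x4
import Cfsg.Agent.Lib.Lead.HNOut.TauExtra13x5
import Cfsg.Agent.Lib.Lead.HNOut.TauExtra13x6
import Cfsg.Agent.Lib.Lead.HNOut.TauExtra13x7
import Cfsg.Agent.Lib.Lead.HNOut.TauExtra13x8
import Cfsg.Agent.Lib.Lead.HNOut.TauExtra13x9
import Cfsg.Agent.Lib.Lead.HNOut.DP

/-! # The outer automorphism group of the Harada–Norton group: the further relator number 13 for the images of the letters (generated) -/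

set_option autoImplicit false
set_option maxRecDepth 100000

namespace Cfsg.Agent.HNOut

open Cfsg.Agent.PF Cfsg.Agent.Lib.Helper6 Cfsg.Agent.Lib.Helper6.TC Cfsg.Agent.Lib.Helper6.NatArr
open Cfsg.Agent.PL (Acts evalF)

/-- the images of the letters of the relator -/
noncomputable def WE13 : List (ℕ → ℕ) := [p4, p6, p4, p6, p4, p6]

theorem pextra13_grp0 : ∀ c ∈ ([(0, 6231), (6231, 6231), (12462, 6231), (18693, 6231), (24924, 6231), (31155, 6231), (37386, 6231), (43617, 6231), (49848, 6231), (56079, 6231), (62310, 6231), (68541, 6231), (74772, 6231), (81003, 6231), (87234, 6231), (93465, 6231), (99696, 6231), (105927, 6231), (112158, 6231), (118389, 6231), (124620, 6231), (130851, 6231), (137082, 6231), (143313, 6231), (149544, 6231), (155775, 6231), (162006, 6231), (168237, 6231), (174468, 6231), (180699, 6231), (186930, 6231), (193161, 6231), (199392, 6231), (205623, 6231), (211854, 6231), (218085, 6231), (224316, 6231), (230547, 6231), (236778, 6231), (243009, 6231), (249240, 6231), (255471, 6231), (261702, 6231), (267933, 6231), (274164, 6231), (280395, 6231), (286626, 6231), (292857, 6231), (299088,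 6231), (305319, 6231), (311550, 6231), (317781, 6231), (324012, 6231), (330243, 6231), (336474, 6231), (342705, 6231), (348936, 6231), (355167, 6231), (361398, 6231), (367629, 6231), (373860, 6231), (380091, 6231), (386322, 6231), (392553, 6231), (398784, 6231), (405015, 6231), (411246, 6231), (417477, 6231), (423708, 6231), (429939, 6231), (436170, 6231), (442401, 6231), (448632, 6231), (454863, 6231), (461094, 6231), (467325, 6231), (473556, 6231), (479787, 6231), (486018, 6231), (492249, 6231), (498480, 6231), (504711, 6231), (510942, 6231), (517173, 6231), (523404, 6231), (529635, 6231), (535866, 6231), (542097, 6231), (548328, 6231), (554559, 6231), (560790, 6231), (567021, 6231), (573252, 6231), (579483, 6231), (585714, 6231), (591945, 6231), (598176, 6231), (604407, 6231), (610638, 6231), (616869, 6231), (623100, 6231), (629331, 6231), (635562, 6231), (641793, 6231), (648024, 6231), (654255, 6231), (660486, 6231), (666717, 6231), (672948, 6231), (679179, 6231), (685410, 6231), (691641, 6231), (697872, 6231), (704103, 6231), (710334, 6231), (716565, 6231), (722796, 6231), (729027, 6231), (735258, 6231),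 (741489, 6231), (747720, 6231), (753951, 6231), (760182, 6231), (766413, 6231), (772644, 6231), (778875, 6231), (785106, 6231), (791337, 6231), (797568, 6231), (803799, 6231), (810030, 6231), (816261, 6231), (822492, 6231), (828723, 6231), (834954, 6231), (841185, 6231), (847416, 6231), (853647, 6231), (859878, 6231), (866109, 6231), (872340, 6231), (878571, 6231), (884802, 6231), (891033, 6231), (897264, 6231), (903495, 6231), (909726, 6231), (915957, 6231), (922188, 6231), (928419, 6231)] : List (ℕ × ℕ)), allR c.1 c.2 (fun q => Nat.beq ((fun q => f0 (f0 (f4 (f7 (f7 (f0 (f0 (f4 (f7 (f7 (f0 (f0 (f4 (f7 (f7 (q)))))))))))))))) q) ((fun q => q) q)) = true :=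
  all_cons pextra13_0 (all_cons pextra13_1 (all_cons pextra13_2 (all_cons pextra13_3 (all_cons pextra13_4 (all_cons pextra13_5 (all_cons pextra13_6 (all_cons pextra13_7 (all_cons pextra13_8 (all_cons pextra13_9 (all_cons pextra13_10 (all_cons pextra13_11 (all_cons pextra13_12 (all_cons pextra13_13 (all_cons pextra13_14 (all_cons pextra13_15 (all_cons pextra13_16 (all_cons pextra13_17 (all_cons pextra13_18 (all_cons pextra13_19 (all_cons pextra13_20 (all_cons pextra13_21 (all_cons pextra13_22 (all_cons pextra13_23 (all_cons pextra13_24 (all_cons pextra13_25 (all_cons pextra13_26 (all_cons pextra13_27 (all_cons pextra13_28 (all_cons pextra13_29 (all_cons pextra13_30 (all_cons pextra13_31 (all_cons pextra13_32 (all_cons pextra13_33 (all_cons pextra13_34 (all_cons pextra13_35 (all_cons pextra13_36 (all_cons pextra13_37 (all_cons pextra13_38 (all_cons pextra13_39 (all_cons pextra13_40 (all_cons pextra13_41 (all_cons pextra13_42 (all_cons pextra13_43 (all_cons pextra13_44 (all_cons pextra13_45 (all_cons pextra13_46 (all_cons pextra13_47 (all_cons pextra13_48 (all_cons pextra13_49 (all_cons pextra13_50 (all_cons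 pextra13_51 (all_cons pextra13_52 (all_cons pextra13_53 (all_cons pextra13_54 (all_cons pextra13_55 (all_cons pextra13_56 (all_cons pextra13_57 (all_cons pextra13_58 (all_cons pextra13_59 (all_cons pextra13_60 (all_cons pextra13_61 (all_cons pextra13_62 (all_cons pextra13_63 (all_cons pextra13_64 (all_cons pextra13_65 (all_cons pextra13_66 (all_cons pextra13_67 (all_cons pextra13_68 (all_cons pextra13_69 (all_cons pextra13_70 (all_cons pextra13_71 (all_cons pextra13_72 (all_cons pextra13_73 (all_cons pextra13_74 (all_cons pextra13_75 (all_cons pextra13_76 (all_cons pextra13_77 (all_cons pextra13_78 (all_cons pextra13_79 (all_cons pextra13_80 (all_cons pextra13_81 (all_cons pextra13_82 (all_cons pextra13_83 (all_cons pextra13_84 (all_cons pextra13_85 (all_cons pextra13_86 (all_cons pextra13_87 (all_cons pextra13_88 (all_cons pextra13_89 (all_cons pextra13_90 (all_cons pextra13_91 (all_cons pextra13_92 (all_cons pextra13_93 (all_cons pextra13_94 (all_cons pextra13_95 (all_cons pextra13_96 (all_cons pextra13_97 (all_cons pextra13_98 (all_cons pextra13_99 (all_cons pextra13_100 (all_cons pextra13_101 (all_cons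 pextra13_102 (all_cons pextra13_103 (all_cons pextra13_104 (all_cons pextra13_105 (all_cons pextra13_106 (all_cons pextra13_107 (all_cons pextra13_108 (all_cons pextra13_109 (all_cons pextra13_110 (all_cons pextra13_111 (all_cons pextra13_112 (all_cons pextra13_113 (all_cons pextra13_114 (all_cons pextra13_115 (all_cons pextra13_116 (all_cons pextra13_117 (all_cons pextra13_118 (all_cons pextra13_119 (all_cons pextra13_120 (all_cons pextra13_121 (all_cons pextra13_122 (all_cons pextra13_123 (all_cons pextra13_124 (all_cons pextra13_125 (all_cons pextra13_126 (all_cons pextra13_127 (all_cons pextra13_128 (all_cons pextra13_129 (all_cons pextra13_130 (all_cons pextra13_131 (all_cons pextra13_132 (all_cons pextra13_133 (all_cons pextra13_134 (all_cons pextra13_135 (all_cons pextra13_136 (all_cons pextra13_137 (all_cons pextra13_138 (all_cons pextra13_139 (all_cons pextra13_140 (all_cons pextra13_141 (all_cons pextra13_142 (all_cons pextra13_143 (all_cons pextra13_144 (all_cons pextra13_145 (all_cons pextra13_146 (all_cons pextra13_147 (all_cons pextra13_148 (all_cons pextra13_149 (all_nil))))))))))))))))))))))))))))))))))))))))))))))))))))))))))))))))))))))))))))))))))))))))))))))))))))))))))))))))))))))))))))))))))))))))))))))))))))))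

theorem pextra13_grp1 : ∀ c ∈ ([(934650, 6231), (940881, 6231), (947112, 6231), (953343, 6231), (959574, 6231), (965805, 6231), (972036, 6231), (978267, 6231), (984498, 6231), (990729, 6231), (996960, 6231), (1003191, 6231), (1009422, 6231), (1015653, 6231), (1021884, 6231), (1028115, 6231), (1034346, 6231), (1040577, 6231), (1046808, 6231), (1053039, 6231), (1059270, 6231), (1065501, 6231), (1071732, 6231), (1077963, 6231), (1084194, 6231), (1090425, 6231), (1096656, 6231), (1102887, 6231), (1109118, 6231), (1115349, 6231), (1121580, 6231), (1127811, 6231), (1134042, 6231), (1140273, 6231), (1146504, 6231), (1152735, 6231), (1158966, 6231), (1165197, 6231), (1171428, 6231), (1177659, 6231), (1183890, 6231), (1190121, 6231), (1196352, 6231), (1202583, 6231), (1208814, 6231), (1215045, 6231), (1221276, 6231), (1227507, 6231), (1233738, 6231), (1239969, 6231), (1246200, 6231), (1252431, 6231), (1258662, 6231), (1264893, 6231), (1271124, 6231), (1277355, 6231), (1283586, 6231), (1289817, 6231), (1296048, 6231), (1302279, 6231), (1308510, 6231), (1314741, 6231), (1320972, 6231), (1327203, 6231), (1333434, 6231),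 (1339665, 6231), (1345896, 6231), (1352127, 6231), (1358358, 6231), (1364589, 6231), (1370820, 6231), (1377051, 6231), (1383282, 6231), (1389513, 6231), (1395744, 6231), (1401975, 6231), (1408206, 6231), (1414437, 6231), (1420668, 6231), (1426899, 6231), (1433130, 6231), (1439361, 6231), (1445592, 6231), (1451823, 6231), (1458054, 6231), (1464285, 6231), (1470516, 6231), (1476747, 6231), (1482978, 6231), (1489209, 6231), (1495440, 6231), (1501671, 6231), (1507902, 6231), (1514133, 6231), (1520364, 6231), (1526595, 6231), (1532826, 6174)] : List (ℕ × ℕ)), allR c.1 c.2 (fun q => Nat.beq ((fun q => f0 (f0 (f4 (f7 (f7 (f0 (f0 (f4 (f7 (f7 (f0 (f0 (f4 (f7 (f7 (q)))))))))))))))) q) ((fun q => q) q)) = true :=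
  all_cons pextra13_150 (all_cons pextra13_151 (all_cons pextra13_152 (all_cons pextra13_153 (all_cons pextra13_154 (all_cons pextra13_155 (all_cons pextra13_156 (all_cons pextra13_157 (all_cons pextra13_158 (all_cons pextra13_159 (all_cons pextra13_160 (all_cons pextra13_161 (all_cons pextra13_162 (all_cons pextra13_163 (all_cons pextra13_164 (all_cons pextra13_165 (all_cons pextra13_166 (all_cons pextra13_167 (all_cons pextra13_168 (all_cons pextra13_169 (all_cons pextra13_170 (all_cons pextra13_171 (all_cons pextra13_172 (all_cons pextra13_173 (all_cons pextra13_174 (all_cons pextra13_175 (all_cons pextra13_176 (all_cons pextra13_177 (all_cons pextra13_178 (all_cons pextra13_179 (all_cons pextra13_180 (all_cons pextra13_181 (all_cons pextra13_182 (all_cons pextra13_183 (all_cons pextra13_184 (all_cons pextra13_185 (all_cons pextra13_186 (all_cons pextra13_187 (all_cons pextra13_188 (all_cons pextra13_189 (all_cons pextra13_190 (all_cons pextra13_191 (all_cons pextra13_192 (all_cons pextra13_193 (all_cons pextra13_194 (all_cons pextra13_195 (all_cons pextra13_196 (all_cons pextra13_197 (all_cons pextra13_198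 (all_cons pextra13_199 (all_cons pextra13_200 (all_cons pextra13_201 (all_cons pextra13_202 (all_cons pextra13_203 (all_cons pextra13_204 (all_cons pextra13_205 (all_cons pextra13_206 (all_cons pextra13_207 (all_cons pextra13_208 (all_cons pextra13_209 (all_cons pextra13_210 (all_cons pextra13_211 (all_cons pextra13_212 (all_cons pextra13_213 (all_cons pextra13_214 (all_cons pextra13_215 (all_cons pextra13_216 (all_cons pextra13_217 (all_cons pextra13_218 (all_cons pextra13_219 (all_cons pextra13_220 (all_cons pextra13_221 (all_cons pextra13_222 (all_cons pextra13_223 (all_cons pextra13_224 (all_cons pextra13_225 (all_cons pextra13_226 (all_cons pextra13_227 (all_cons pextra13_228 (all_cons pextra13_229 (all_cons pextra13_230 (all_cons pextra13_231 (all_cons pextra13_232 (all_cons pextra13_233 (all_cons pextra13_234 (all_cons pextra13_235 (all_cons pextra13_236 (all_cons pextra13_237 (all_cons pextra13_238 (all_cons pextra13_239 (all_cons pextra13_240 (all_cons pextra13_241 (all_cons pextra13_242 (all_cons pextra13_243 (all_cons pextra13_244 (all_cons pextra13_245 (all_cons pextra13_246 (all_nil)))))))))))))))))))))))))))))))))))))))))))))))))))))))))))))))))))))))))))))))))))))))))))))))))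

/-- the further relator number 13 holds for the images of the letters -/
theorem pextra13 : ∀ q < 1539000, wordF WE13 q = (fun q => q) q :=
  eq_of_chunks (f := (fun q => f0 (f0 (f4 (f7 (f7 (f0 (f0 (f4 (f7 (f7 (f0 (f0 (f4 (f7 (f7 (q))))))))))))))))) (g := (fun q => q)) ([(0, 6231), (6231, 6231), (12462, 6231), (18693, 6231), (24924, 6231), (31155, 6231), (37386, 6231), (43617, 6231), (49848, 6231), (56079, 6231), (62310, 6231), (68541, 6231), (74772, 6231), (81003, 6231), (87234, 6231), (93465, 6231), (99696, 6231), (105927, 6231), (112158, 6231), (118389, 6231), (124620, 6231), (130851, 6231), (137082, 6231), (143313, 6231), (149544, 6231), (155775, 6231), (162006, 6231), (168237, 6231), (174468, 6231), (180699, 6231), (186930, 6231), (193161, 6231), (199392, 6231), (205623, 6231), (211854, 6231), (218085, 6231), (224316, 6231), (230547, 6231), (236778, 6231), (243009, 6231), (249240, 6231), (255471, 6231), (261702, 6231), (267933, 6231), (274164, 6231), (280395, 6231), (286626, 6231), (292857, 6231), (299088, 6231), (305319, 6231), (311550, 6231), (317781, 6231), (324012, 6231), (330243, 6231), (336474,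 6231), (342705, 6231), (348936, 6231), (355167, 6231), (361398, 6231), (367629, 6231), (373860, 6231), (380091, 6231), (386322, 6231), (392553, 6231), (398784, 6231), (405015, 6231), (411246, 6231), (417477, 6231), (423708, 6231), (429939, 6231), (436170, 6231), (442401, 6231), (448632, 6231), (454863, 6231), (461094, 6231), (467325, 6231), (473556, 6231), (479787, 6231), (486018, 6231), (492249, 6231), (498480, 6231), (504711, 6231), (510942, 6231), (517173, 6231), (523404, 6231), (529635, 6231), (535866, 6231), (542097, 6231), (548328, 6231), (554559, 6231), (560790, 6231), (567021, 6231), (573252, 6231), (579483, 6231), (585714, 6231), (591945, 6231), (598176, 6231), (604407, 6231), (610638, 6231), (616869, 6231), (623100, 6231), (629331, 6231), (635562, 6231), (641793, 6231), (648024, 6231), (654255, 6231), (660486, 6231), (666717, 6231), (672948, 6231), (679179, 6231), (685410, 6231), (691641, 6231), (697872, 6231), (704103, 6231), (710334, 6231), (716565, 6231), (722796, 6231), (729027, 6231), (735258, 6231), (741489, 6231), (747720, 6231), (753951, 6231), (760182, 6231), (766413, 6231), (772644, 6231),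 (778875, 6231), (785106, 6231), (791337, 6231), (797568, 6231), (803799, 6231), (810030, 6231), (816261, 6231), (822492, 6231), (828723, 6231), (834954, 6231), (841185, 6231), (847416, 6231), (853647, 6231), (859878, 6231), (866109, 6231), (872340, 6231), (878571, 6231), (884802, 6231), (891033, 6231), (897264, 6231), (903495, 6231), (909726, 6231), (915957, 6231), (922188, 6231), (928419, 6231)] ++ [(934650, 6231), (940881, 6231), (947112, 6231), (953343, 6231), (959574, 6231), (965805, 6231), (972036, 6231), (978267, 6231), (984498, 6231), (990729, 6231), (996960, 6231), (1003191, 6231), (1009422, 6231), (1015653, 6231), (1021884, 6231), (1028115, 6231), (1034346, 6231), (1040577, 6231), (1046808, 6231), (1053039, 6231), (1059270, 6231), (1065501, 6231), (1071732, 6231), (1077963, 6231), (1084194, 6231), (1090425, 6231), (1096656, 6231), (1102887, 6231), (1109118, 6231), (1115349, 6231), (1121580, 6231), (1127811, 6231), (1134042, 6231), (1140273, 6231), (1146504, 6231), (1152735, 6231), (1158966, 6231), (1165197, 6231), (1171428, 6231), (1177659, 6231), (1183890, 6231), (1190121, 6231), (1196352, 6231),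 (1202583, 6231), (1208814, 6231), (1215045, 6231), (1221276, 6231), (1227507, 6231), (1233738, 6231), (1239969, 6231), (1246200, 6231), (1252431, 6231), (1258662, 6231), (1264893, 6231), (1271124, 6231), (1277355, 6231), (1283586, 6231), (1289817, 6231), (1296048, 6231), (1302279, 6231), (1308510, 6231), (1314741, 6231), (1320972, 6231), (1327203, 6231), (1333434, 6231), (1339665, 6231), (1345896, 6231), (1352127, 6231), (1358358, 6231), (1364589, 6231), (1370820, 6231), (1377051, 6231), (1383282, 6231), (1389513, 6231), (1395744, 6231), (1401975, 6231), (1408206, 6231), (1414437, 6231), (1420668, 6231), (1426899, 6231), (1433130, 6231), (1439361, 6231), (1445592, 6231), (1451823, 6231), (1458054, 6231), (1464285, 6231), (1470516, 6231), (1476747, 6231), (1482978, 6231), (1489209, 6231), (1495440, 6231), (1501671, 6231), (1507902, 6231), (1514133, 6231), (1520364, 6231), (1526595, 6231), (1532826, 6174)]) (by decide +kernel) (all_append (pextra13_grp0) pextra13_grp1)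

end Cfsg.Agent.HNOut
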