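import Cfsg.Agent.Lib.Lead.HNOut.D0
import Cfsg.Agent.Lib.Lead.HNOut.D1
import Cfsg.Agent.Lib.Lead.HNOut.D2
import Cfsg.Agent.Lib.Lead.HNOut.D3
import Cfsg.Agent.Lib.Lead.HNOut.D4
import Cfsg.Agent.Lib.Lead.HNOut.D6
import Cfsg.Agent.Lib.Lead.HNOut.D7

/-! # The outer automorphism group of the Harada–Norton group: the further relator number 6 for the images of the letters, a part (generated) -/

set_option autoImplicit false
set_option maxRecDepth 100000

namespace Cfsg.Agent.HNOut

open Cfsg.Agent.PF Cfsg.Agent.Lib.Helper6 Cfsg.Agent.Lib.Helper6.TC Cfsg.Agent.Lib.Helper6.NatArr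
open Cfsg.Agent.PL (Acts evalF)

theorem pextra6_50 : allR 712500 14250 (fun q => Nat.beq ((fun q => f0 (f0 (f4 (f0 (f0 (f4 (q))))))) q) ((fun q => q) q)) = true := by decide +kernel

theorem pextra6_51 : allR 726750 14250 (fun q => Nat.beq ((fun q => f0 (f0 (f4 (f0 (f0 (f4 (q))))))) q) ((fun q => q) q)) = true := by decide +kernel

theorem pextra6_52 : allR 741000 14250 (fun q => Nat.beq ((fun q => f0 (f0 (f4 (f0 (f0 (f4 (q))))))) q) ((fun q => q) q)) = true := by decide +kernel

theorem pextra6_53 : allR 755250 14250 (fun q => Nat.beq ((fun q => f0 (f0 (f4 (f0 (f0 (f4 (q))))))) q) ((fun q => q) q)) = true := by decide +kernel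

theorem pextra6_54 : allR 769500 14250 (fun q => Nat.beq ((fun q => f0 (f0 (f4 (f0 (f0 (f4 (q))))))) q) ((fun q => q) q)) = true := by decide +kernel

theorem pextra6_55 : allR 783750 14250 (fun q => Nat.beq ((fun q => f0 (f0 (f4 (f0 (f0 (f4 (q))))))) q) ((fun q => q) q)) = true := by decide +kernel

theorem pextra6_56 : allR 798000 14250 (fun q => Nat.beq ((fun q => f0 (f0 (f4 (f0 (f0 (f4 (q))))))) q) ((fun q => q) q)) = true := by decide +kernel

theorem pextra6_57 : allR 812250 14250 (fun q => Nat.beq ((fun q => f0 (f0 (f4 (f0 (f0 (f4 (q))))))) q) ((fun q => q) q)) = true := by decide +kernel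

theorem pextra6_58 : allR 826500 14250 (fun q => Nat.beq ((fun q => f0 (f0 (f4 (f0 (f0 (f4 (q))))))) q) ((fun q => q) q)) = true := by decide +kernel

theorem pextra6_59 : allR 840750 14250 (fun q => Nat.beq ((fun q => f0 (f0 (f4 (f0 (f0 (f4 (q))))))) q) ((fun q => q) q)) = true := by decide +kernel

theorem pextra6_60 : allR 855000 14250 (fun q => Nat.beq ((fun q => f0 (f0 (f4 (f0 (f0 (f4 (q))))))) q) ((fun q => q) q)) = true := by decide +kernel

theorem pextra6_61 : allR 869250 14250 (fun q => Nat.beq ((fun q => f0 (f0 (f4 (f0 (f0 (f4 (q))))))) q) ((fun q => q) q)) = true := by decide +kernel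

theorem pextra6_62 : allR 883500 14250 (fun q => Nat.beq ((fun q => f0 (f0 (f4 (f0 (f0 (f4 (q))))))) q) ((fun q => q) q)) = true := by decide +kernel

theorem pextra6_63 : allR 897750 14250 (fun q => Nat.beq ((fun q => f0 (f0 (f4 (f0 (f0 (f4 (q))))))) q) ((fun q => q) q)) = true := by decide +kernel

theorem pextra6_64 : allR 912000 14250 (fun q => Nat.beq ((fun q => f0 (f0 (f4 (f0 (f0 (f4 (q))))))) q) ((fun q => q) q)) = true := by decide +kernel

theorem pextra6_65 : allR 926250 14250 (fun q => Nat.beq ((fun q => f0 (f0 (f4 (f0 (f0 (f4 (q))))))) q) ((fun q => q) q)) = true := by decide +kernel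

theorem pextra6_66 : allR 940500 14250 (fun q => Nat.beq ((fun q => f0 (f0 (f4 (f0 (f0 (f4 (q))))))) q) ((fun q => q) q)) = true := by decide +kernel

theorem pextra6_67 : allR 954750 14250 (fun q => Nat.beq ((fun q => f0 (f0 (f4 (f0 (f0 (f4 (q))))))) q) ((fun q => q) q)) = true := by decide +kernel

theorem pextra6_68 : allR 969000 14250 (fun q => Nat.beq ((fun q => f0 (f0 (f4 (f0 (f0 (f4 (q))))))) q) ((fun q => q) q)) = true := by decide +kernel

theorem pextra6_69 : allR 983250 14250 (fun q => Nat.beq ((fun q => f0 (f0 (f4 (f0 (f0 (f4 (q))))))) q) ((fun q => q) q)) = true := by decide +kernel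

theorem pextra6_70 : allR 997500 14250 (fun q => Nat.beq ((fun q => f0 (f0 (f4 (f0 (f0 (f4 (q))))))) q) ((fun q => q) q)) = true := by decide +kernel

theorem pextra6_71 : allR 1011750 14250 (fun q => Nat.beq ((fun q => f0 (f0 (f4 (f0 (f0 (f4 (q))))))) q) ((fun q => q) q)) = true := by decide +kernel

theorem pextra6_72 : allR 1026000 14250 (fun q => Nat.beq ((fun q => f0 (f0 (f4 (f0 (f0 (f4 (q))))))) q) ((fun q => q) q)) = true := by decide +kernel

theorem pextra6_73 : allR 1040250 14250 (fun q => Nat.beq ((fun q => f0 (f0 (f4 (f0 (f0 (f4 (q))))))) q) ((fun q => q) q)) = true := by decide +kernel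

theorem pextra6_74 : allR 1054500 14250 (fun q => Nat.beq ((fun q => f0 (f0 (f4 (f0 (f0 (f4 (q))))))) q) ((fun q => q) q)) = true := by decide +kernel


end Cfsg.Agent.HNOut
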