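import Cfsg.Agent.Lib.Lead.HNOut.D0
import Cfsg.Agent.Lib.Lead.HNOut.D1
import Cfsg.Agent.Lib.Lead.HNOut.D2
import Cfsg.Agent.Lib.Lead.HNOut.D3
import Cfsg.Agent.Lib.Lead.HNOut.D4
import Cfsg.Agent.Lib.Lead.HNOut.D6
import Cfsg.Agent.Lib.Lead.HNOut.D7

/-! # The outer automorphism group of the Harada–Norton group: the further relator number 6 for the images of the letters, a part (generated) -/

set_option autoImplicit false
set_option maxRecDepth 100000

namespace Cfsg.Agent.HNOut

open Cfsg.Agent.PF Cfsg.Agent.Lib.Helper6 Cfsg.Agent.Lib.Helper6.TC Cfsg.Agent.Lib.Helper6.NatArr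
open Cfsg.Agent.PL (Acts evalF)

theorem pextra6_75 : allR 1068750 14250 (fun q => Nat.beq ((fun q => f0 (f0 (f4 (f0 (f0 (f4 (q))))))) q) ((fun q => q) q)) = true := by decide +kernel

theorem pextra6_76 : allR 1083000 14250 (fun q => Nat.beq ((fun q => f0 (f0 (f4 (f0 (f0 (f4 (q))))))) q) ((fun q => q) q)) = true := by decide +kernel

theorem pextra6_77 : allR 1097250 14250 (fun q => Nat.beq ((fun q => f0 (f0 (f4 (f0 (f0 (f4 (q))))))) q) ((fun q => q) q)) = true := by decide +kernel

theorem pextra6_78 : allR 1111500 14250 (fun q => Nat.beq ((fun q => f0 (f0 (f4 (f0 (f0 (f4 (q))))))) q) ((fun q => q) q)) = true := by decide +kernel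

theorem pextra6_79 : allR 1125750 14250 (fun q => Nat.beq ((fun q => f0 (f0 (f4 (f0 (f0 (f4 (q))))))) q) ((fun q => q) q)) = true := by decide +kernel

theorem pextra6_80 : allR 1140000 14250 (fun q => Nat.beq ((fun q => f0 (f0 (f4 (f0 (f0 (f4 (q))))))) q) ((fun q => q) q)) = true := by decide +kernel

theorem pextra6_81 : allR 1154250 14250 (fun q => Nat.beq ((fun q => f0 (f0 (f4 (f0 (f0 (f4 (q))))))) q) ((fun q => q) q)) = true := by decide +kernel

theorem pextra6_82 : allR 1168500 14250 (fun q => Nat.beq ((fun q => f0 (f0 (f4 (f0 (f0 (f4 (q))))))) q) ((fun q => q) q)) = true := by decide +kernel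

theorem pextra6_83 : allR 1182750 14250 (fun q => Nat.beq ((fun q => f0 (f0 (f4 (f0 (f0 (f4 (q))))))) q) ((fun q => q) q)) = true := by decide +kernel

theorem pextra6_84 : allR 1197000 14250 (fun q => Nat.beq ((fun q => f0 (f0 (f4 (f0 (f0 (f4 (q))))))) q) ((fun q => q) q)) = true := by decide +kernel

theorem pextra6_85 : allR 1211250 14250 (fun q => Nat.beq ((fun q => f0 (f0 (f4 (f0 (f0 (f4 (q))))))) q) ((fun q => q) q)) = true := by decide +kernel

theorem pextra6_86 : allR 1225500 14250 (fun q => Nat.beq ((fun q => f0 (f0 (f4 (f0 (f0 (f4 (q))))))) q) ((fun q => q) q)) = true := by decide +kernel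

theorem pextra6_87 : allR 1239750 14250 (fun q => Nat.beq ((fun q => f0 (f0 (f4 (f0 (f0 (f4 (q))))))) q) ((fun q => q) q)) = true := by decide +kernel

theorem pextra6_88 : allR 1254000 14250 (fun q => Nat.beq ((fun q => f0 (f0 (f4 (f0 (f0 (f4 (q))))))) q) ((fun q => q) q)) = true := by decide +kernel

theorem pextra6_89 : allR 1268250 14250 (fun q => Nat.beq ((fun q => f0 (f0 (f4 (f0 (f0 (f4 (q))))))) q) ((fun q => q) q)) = true := by decide +kernel

theorem pextra6_90 : allR 1282500 14250 (fun q => Nat.beq ((fun q => f0 (f0 (f4 (f0 (f0 (f4 (q))))))) q) ((fun q => q) q)) = true := by decide +kernel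

theorem pextra6_91 : allR 1296750 14250 (fun q => Nat.beq ((fun q => f0 (f0 (f4 (f0 (f0 (f4 (q))))))) q) ((fun q => q) q)) = true := by decide +kernel

theorem pextra6_92 : allR 1311000 14250 (fun q => Nat.beq ((fun q => f0 (f0 (f4 (f0 (f0 (f4 (q))))))) q) ((fun q => q) q)) = true := by decide +kernel

theorem pextra6_93 : allR 1325250 14250 (fun q => Nat.beq ((fun q => f0 (f0 (f4 (f0 (f0 (f4 (q))))))) q) ((fun q => q) q)) = true := by decide +kernel

theorem pextra6_94 : allR 1339500 14250 (fun q => Nat.beq ((fun q => f0 (f0 (f4 (f0 (f0 (f4 (q))))))) q) ((fun q => q) q)) = true := by decide +kernel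

theorem pextra6_95 : allR 1353750 14250 (fun q => Nat.beq ((fun q => f0 (f0 (f4 (f0 (f0 (f4 (q))))))) q) ((fun q => q) q)) = true := by decide +kernel

theorem pextra6_96 : allR 1368000 14250 (fun q => Nat.beq ((fun q => f0 (f0 (f4 (f0 (f0 (f4 (q))))))) q) ((fun q => q) q)) = true := by decide +kernel

theorem pextra6_97 : allR 1382250 14250 (fun q => Nat.beq ((fun q => f0 (f0 (f4 (f0 (f0 (f4 (q))))))) q) ((fun q => q) q)) = true := by decide +kernel

theorem pextra6_98 : allR 1396500 14250 (fun q => Nat.beq ((fun q => f0 (f0 (f4 (f0 (f0 (f4 (q))))))) q) ((fun q => q) q)) = true := by decide +kernel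

theorem pextra6_99 : allR 1410750 14250 (fun q => Nat.beq ((fun q => f0 (f0 (f4 (f0 (f0 (f4 (q))))))) q) ((fun q => q) q)) = true := by decide +kernel


end Cfsg.Agent.HNOut
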