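import Cfsg.Agent.Lib.Lead.HNOut.TauExtra6x0
import Cfsg.Agent.Lib.Lead.HNOut.TauExtra6x1
import Cfsg.Agent.Lib.Lead.HNOut.TauExtra6x2
import Cfsg.Agent.Lib.Lead.HNOut.TauExtra6x3
import Cfsg.Agent.Lib.Lead.HNOut.TauExtra6x4
import Cfsg.Agent.Lib.Lead.HNOut.DP

/-! # The outer automorphism group of the Harada–Norton group: the further relator number 6 for the images of the letters (generated) -/

set_option autoImplicit false
set_option maxRecDepth 100000

namespace Cfsg.Agent.HNOut

open Cfsg.Agent.PF Cfsg.Agent.Lib.Helper6 Cfsg.Agent.Lib.Helper6.TC Cfsg.Agent.Lib.Helper6.NatArr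
open Cfsg.Agent.PL (Acts evalF)

/-- the images of the letters of the relator -/
noncomputable def WE6 : List (ℕ → ℕ) := [p4, p4]

theorem pextra6_grp0 : ∀ c ∈ ([(0, 14250), (14250, 14250), (28500, 14250), (42750, 14250), (57000, 14250), (71250, 14250), (85500, 14250), (99750, 14250), (114000, 14250), (128250, 14250), (142500, 14250), (156750, 14250), (171000, 14250), (185250, 14250), (199500, 14250), (213750, 14250), (228000, 14250), (242250, 14250), (256500, 14250), (270750, 14250), (285000, 14250), (299250, 14250), (313500, 14250), (327750, 14250), (342000, 14250), (356250, 14250), (370500, 14250), (384750, 14250), (399000, 14250), (413250, 14250), (427500, 14250), (441750, 14250), (456000, 14250), (470250, 14250), (484500, 14250), (498750, 14250), (513000, 14250), (527250, 14250), (541500, 14250), (555750, 14250), (570000, 14250), (584250, 14250), (598500, 14250), (612750, 14250), (627000, 14250), (641250, 14250), (655500, 14250), (669750, 14250), (684000, 14250), (698250, 14250), (712500, 14250), (726750, 14250), (741000, 14250), (755250, 14250), (769500, 14250), (783750, 14250), (798000, 14250), (812250, 14250),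 (826500, 14250), (840750, 14250), (855000, 14250), (869250, 14250), (883500, 14250), (897750, 14250), (912000, 14250), (926250, 14250), (940500, 14250), (954750, 14250), (969000, 14250), (983250, 14250), (997500, 14250), (1011750, 14250), (1026000, 14250), (1040250, 14250), (1054500, 14250), (1068750, 14250), (1083000, 14250), (1097250, 14250), (1111500, 14250), (1125750, 14250), (1140000, 14250), (1154250, 14250), (1168500, 14250), (1182750, 14250), (1197000, 14250), (1211250, 14250), (1225500, 14250), (1239750, 14250), (1254000, 14250), (1268250, 14250), (1282500, 14250), (1296750, 14250), (1311000, 14250), (1325250, 14250), (1339500, 14250), (1353750, 14250), (1368000, 14250), (1382250, 14250), (1396500, 14250), (1410750, 14250), (1425000, 14250), (1439250, 14250), (1453500, 14250), (1467750, 14250), (1482000, 14250), (1496250, 14250), (1510500, 14250), (1524750, 14250)] : List (ℕ × ℕ)), allR c.1 c.2 (fun q => Nat.beq ((fun q => f0 (f0 (f4 (f0 (f0 (f4 (q))))))) q) ((fun q => q) q)) = true :=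
  all_cons pextra6_0 (all_cons pextra6_1 (all_cons pextra6_2 (all_cons pextra6_3 (all_cons pextra6_4 (all_cons pextra6_5 (all_cons pextra6_6 (all_cons pextra6_7 (all_cons pextra6_8 (all_cons pextra6_9 (all_cons pextra6_10 (all_cons pextra6_11 (all_cons pextra6_12 (all_cons pextra6_13 (all_cons pextra6_14 (all_cons pextra6_15 (all_cons pextra6_16 (all_cons pextra6_17 (all_cons pextra6_18 (all_cons pextra6_19 (all_cons pextra6_20 (all_cons pextra6_21 (all_cons pextra6_22 (all_cons pextra6_23 (all_cons pextra6_24 (all_cons pextra6_25 (all_cons pextra6_26 (all_cons pextra6_27 (all_cons pextra6_28 (all_cons pextra6_29 (all_cons pextra6_30 (all_cons pextra6_31 (all_cons pextra6_32 (all_cons pextra6_33 (all_cons pextra6_34 (all_cons pextra6_35 (all_cons pextra6_36 (all_cons pextra6_37 (all_cons pextra6_38 (all_cons pextra6_39 (all_cons pextra6_40 (all_cons pextra6_41 (all_cons pextra6_42 (all_cons pextra6_43 (all_cons pextra6_44 (all_cons pextra6_45 (all_cons pextra6_46 (all_cons pextra6_47 (all_cons pextra6_48 (all_cons pextra6_49 (all_cons pextra6_50 (all_cons pextra6_51 (all_cons pextra6_52 (all_cons pextra6_53 (all_cons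 pextra6_54 (all_cons pextra6_55 (all_cons pextra6_56 (all_cons pextra6_57 (all_cons pextra6_58 (all_cons pextra6_59 (all_cons pextra6_60 (all_cons pextra6_61 (all_cons pextra6_62 (all_cons pextra6_63 (all_cons pextra6_64 (all_cons pextra6_65 (all_cons pextra6_66 (all_cons pextra6_67 (all_cons pextra6_68 (all_cons pextra6_69 (all_cons pextra6_70 (all_cons pextra6_71 (all_cons pextra6_72 (all_cons pextra6_73 (all_cons pextra6_74 (all_cons pextra6_75 (all_cons pextra6_76 (all_cons pextra6_77 (all_cons pextra6_78 (all_cons pextra6_79 (all_cons pextra6_80 (all_cons pextra6_81 (all_cons pextra6_82 (all_cons pextra6_83 (all_cons pextra6_84 (all_cons pextra6_85 (all_cons pextra6_86 (all_cons pextra6_87 (all_cons pextra6_88 (all_cons pextra6_89 (all_cons pextra6_90 (all_cons pextra6_91 (all_cons pextra6_92 (all_cons pextra6_93 (all_cons pextra6_94 (all_cons pextra6_95 (all_cons pextra6_96 (all_cons pextra6_97 (all_cons pextra6_98 (all_cons pextra6_99 (all_cons pextra6_100 (all_cons pextra6_101 (all_cons pextra6_102 (all_cons pextra6_103 (all_cons pextra6_104 (all_cons pextra6_105 (all_cons pextra6_106 (all_cons pextra6_107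 (all_nil))))))))))))))))))))))))))))))))))))))))))))))))))))))))))))))))))))))))))))))))))))))))))))))))))))))))))))

/-- the further relator number 6 holds for the images of the letters -/
theorem pextra6 : ∀ q < 1539000, wordF WE6 q = (fun q => q) q :=
  eq_of_chunks (f := (fun q => f0 (f0 (f4 (f0 (f0 (f4 (q)))))))) (g := (fun q => q)) ([(0, 14250), (14250, 14250), (28500, 14250), (42750, 14250), (57000, 14250), (71250, 14250), (85500, 14250), (99750, 14250), (114000, 14250), (128250, 14250), (142500, 14250), (156750, 14250), (171000, 14250), (185250, 14250), (199500, 14250), (213750, 14250), (228000, 14250), (242250, 14250), (256500, 14250), (270750, 14250), (285000, 14250), (299250, 14250), (313500, 14250), (327750, 14250), (342000, 14250), (356250, 14250), (370500, 14250), (384750, 14250), (399000, 14250), (413250, 14250), (427500, 14250), (441750, 14250), (456000, 14250), (470250, 14250), (484500, 14250), (498750, 14250), (513000, 14250), (527250, 14250), (541500, 14250), (555750, 14250), (570000, 14250), (584250, 14250), (598500, 14250), (612750, 14250), (627000, 14250), (641250, 14250), (655500, 14250), (669750,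 14250), (684000, 14250), (698250, 14250), (712500, 14250), (726750, 14250), (741000, 14250), (755250, 14250), (769500, 14250), (783750, 14250), (798000, 14250), (812250, 14250), (826500, 14250), (840750, 14250), (855000, 14250), (869250, 14250), (883500, 14250), (897750, 14250), (912000, 14250), (926250, 14250), (940500, 14250), (954750, 14250), (969000, 14250), (983250, 14250), (997500, 14250), (1011750, 14250), (1026000, 14250), (1040250, 14250), (1054500, 14250), (1068750, 14250), (1083000, 14250), (1097250, 14250), (1111500, 14250), (1125750, 14250), (1140000, 14250), (1154250, 14250), (1168500, 14250), (1182750, 14250), (1197000, 14250), (1211250, 14250), (1225500, 14250), (1239750, 14250), (1254000, 14250), (1268250, 14250), (1282500, 14250), (1296750, 14250), (1311000, 14250), (1325250, 14250), (1339500, 14250), (1353750, 14250), (1368000, 14250), (1382250, 14250), (1396500, 14250), (1410750, 14250), (1425000, 14250), (1439250, 14250), (1453500, 14250), (1467750, 14250), (1482000, 14250), (1496250, 14250), (1510500, 14250), (1524750, 14250)]) (by decide +kernel) (pextra6_grp0)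

end Cfsg.Agent.HNOut
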