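import Cfsg.Agent.Lib.Lead.HNOut.TauExtra7x0
import Cfsg.Agent.Lib.Lead.HNOut.TauExtra7x1
import Cfsg.Agent.Lib.Lead.HNOut.TauExtra7x2
import Cfsg.Agent.Lib.Lead.HNOut.TauExtra7x3
import Cfsg.Agent.Lib.Lead.HNOut.TauExtra7x4
import Cfsg.Agent.Lib.Lead.HNOut.TauExtra7x5
import Cfsg.Agent.Lib.Lead.HNOut.DP

/-! # The outer automorphism group of the Harada–Norton group: the further relator number 7 for the images of the letters (generated) -/

set_option autoImplicit false
set_option maxRecDepth 100000

namespace Cfsg.Agent.HNOut

open Cfsg.Agent.PF Cfsg.Agent.Lib.Helper6 Cfsg.Agent.Lib.Helper6.TC Cfsg.Agent.Lib.Helper6.NatArr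
open Cfsg.Agent.PL (Acts evalF)

/-- the images of the letters of the relator -/
noncomputable def WE7 : List (ℕ → ℕ) := [p4, p0, p4, p0]

theorem pextra7_grp0 : ∀ c ∈ ([(0, 11072), (11072, 11072), (22144, 11072), (33216, 11072), (44288, 11072), (55360, 11072), (66432, 11072), (77504, 11072), (88576, 11072), (99648, 11072), (110720, 11072), (121792, 11072), (132864, 11072), (143936, 11072), (155008, 11072), (166080, 11072), (177152, 11072), (188224, 11072), (199296, 11072), (210368, 11072), (221440, 11072), (232512, 11072), (243584, 11072), (254656, 11072), (265728, 11072), (276800, 11072), (287872, 11072), (298944, 11072), (310016, 11072), (321088, 11072), (332160, 11072), (343232, 11072), (354304, 11072), (365376, 11072), (376448, 11072), (387520, 11072), (398592, 11072), (409664, 11072), (420736, 11072), (431808, 11072), (442880, 11072), (453952, 11072), (465024, 11072), (476096, 11072), (487168, 11072), (498240, 11072), (509312, 11072), (520384, 11072), (531456, 11072), (542528, 11072), (553600, 11072), (564672, 11072), (575744, 11072), (586816, 11072), (597888, 11072), (608960, 11072), (620032, 11072), (631104, 11072),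 (642176, 11072), (653248, 11072), (664320, 11072), (675392, 11072), (686464, 11072), (697536, 11072), (708608, 11072), (719680, 11072), (730752, 11072), (741824, 11072), (752896, 11072), (763968, 11072), (775040, 11072), (786112, 11072), (797184, 11072), (808256, 11072), (819328, 11072), (830400, 11072), (841472, 11072), (852544, 11072), (863616, 11072), (874688, 11072), (885760, 11072), (896832, 11072), (907904, 11072), (918976, 11072), (930048, 11072), (941120, 11072), (952192, 11072), (963264, 11072), (974336, 11072), (985408, 11072), (996480, 11072), (1007552, 11072), (1018624, 11072), (1029696, 11072), (1040768, 11072), (1051840, 11072), (1062912, 11072), (1073984, 11072), (1085056, 11072), (1096128, 11072), (1107200, 11072), (1118272, 11072), (1129344, 11072), (1140416, 11072), (1151488, 11072), (1162560, 11072), (1173632, 11072), (1184704, 11072), (1195776, 11072), (1206848, 11072), (1217920, 11072), (1228992, 11072), (1240064, 11072), (1251136, 11072), (1262208, 11072), (1273280, 11072), (1284352, 11072), (1295424, 11072), (1306496, 11072), (1317568, 11072), (1328640, 11072), (1339712, 11072), (1350784, 11072),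 (1361856, 11072), (1372928, 11072), (1384000, 11072), (1395072, 11072), (1406144, 11072), (1417216, 11072), (1428288, 11072), (1439360, 11072), (1450432, 11072), (1461504, 11072), (1472576, 11072), (1483648, 11072), (1494720, 11072), (1505792, 11072), (1516864, 11072), (1527936, 11064)] : List (ℕ × ℕ)), allR c.1 c.2 (fun q => Nat.beq ((fun q => f0 (f0 (f4 (f1 (f0 (f0 (f4 (f1 (q))))))))) q) ((fun q => q) q)) = true :=
  all_cons pextra7_0 (all_cons pextra7_1 (all_cons pextra7_2 (all_cons pextra7_3 (all_cons pextra7_4 (all_cons pextra7_5 (all_cons pextra7_6 (all_cons pextra7_7 (all_cons pextra7_8 (all_cons pextra7_9 (all_cons pextra7_10 (all_cons pextra7_11 (all_cons pextra7_12 (all_cons pextra7_13 (all_cons pextra7_14 (all_cons pextra7_15 (all_cons pextra7_16 (all_cons pextra7_17 (all_cons pextra7_18 (all_cons pextra7_19 (all_cons pextra7_20 (all_cons pextra7_21 (all_cons pextra7_22 (all_cons pextra7_23 (all_cons pextra7_24 (all_cons pextra7_25 (all_cons pextra7_26 (all_cons pextra7_27 (all_cons pextra7_28 (all_cons pextra7_29 (all_cons pextra7_30 (all_cons pextra7_31 (all_cons pextra7_32 (all_cons pextra7_33 (all_cons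 pextra7_34 (all_cons pextra7_35 (all_cons pextra7_36 (all_cons pextra7_37 (all_cons pextra7_38 (all_cons pextra7_39 (all_cons pextra7_40 (all_cons pextra7_41 (all_cons pextra7_42 (all_cons pextra7_43 (all_cons pextra7_44 (all_cons pextra7_45 (all_cons pextra7_46 (all_cons pextra7_47 (all_cons pextra7_48 (all_cons pextra7_49 (all_cons pextra7_50 (all_cons pextra7_51 (all_cons pextra7_52 (all_cons pextra7_53 (all_cons pextra7_54 (all_cons pextra7_55 (all_cons pextra7_56 (all_cons pextra7_57 (all_cons pextra7_58 (all_cons pextra7_59 (all_cons pextra7_60 (all_cons pextra7_61 (all_cons pextra7_62 (all_cons pextra7_63 (all_cons pextra7_64 (all_cons pextra7_65 (all_cons pextra7_66 (all_cons pextra7_67 (all_cons pextra7_68 (all_cons pextra7_69 (all_cons pextra7_70 (all_cons pextra7_71 (all_cons pextra7_72 (all_cons pextra7_73 (all_cons pextra7_74 (all_cons pextra7_75 (all_cons pextra7_76 (all_cons pextra7_77 (all_cons pextra7_78 (all_cons pextra7_79 (all_cons pextra7_80 (all_cons pextra7_81 (all_cons pextra7_82 (all_cons pextra7_83 (all_cons pextra7_84 (all_cons pextra7_85 (all_cons pextra7_86 (all_cons pextra7_87 (all_cons pextra7_88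 (all_cons pextra7_89 (all_cons pextra7_90 (all_cons pextra7_91 (all_cons pextra7_92 (all_cons pextra7_93 (all_cons pextra7_94 (all_cons pextra7_95 (all_cons pextra7_96 (all_cons pextra7_97 (all_cons pextra7_98 (all_cons pextra7_99 (all_cons pextra7_100 (all_cons pextra7_101 (all_cons pextra7_102 (all_cons pextra7_103 (all_cons pextra7_104 (all_cons pextra7_105 (all_cons pextra7_106 (all_cons pextra7_107 (all_cons pextra7_108 (all_cons pextra7_109 (all_cons pextra7_110 (all_cons pextra7_111 (all_cons pextra7_112 (all_cons pextra7_113 (all_cons pextra7_114 (all_cons pextra7_115 (all_cons pextra7_116 (all_cons pextra7_117 (all_cons pextra7_118 (all_cons pextra7_119 (all_cons pextra7_120 (all_cons pextra7_121 (all_cons pextra7_122 (all_cons pextra7_123 (all_cons pextra7_124 (all_cons pextra7_125 (all_cons pextra7_126 (all_cons pextra7_127 (all_cons pextra7_128 (all_cons pextra7_129 (all_cons pextra7_130 (all_cons pextra7_131 (all_cons pextra7_132 (all_cons pextra7_133 (all_cons pextra7_134 (all_cons pextra7_135 (all_cons pextra7_136 (all_cons pextra7_137 (all_cons pextra7_138 (all_nil)))))))))))))))))))))))))))))))))))))))))))))))))))))))))))))))))))))))))))))))))))))))))))))))))))))))))))))))))))))))))))))))))))))))))))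

/-- the further relator number 7 holds for the images of the letters -/
theorem pextra7 : ∀ q < 1539000, wordF WE7 q = (fun q => q) q :=
  eq_of_chunks (f := (fun q => f0 (f0 (f4 (f1 (f0 (f0 (f4 (f1 (q)))))))))) (g := (fun q => q)) ([(0, 11072), (11072, 11072), (22144, 11072), (33216, 11072), (44288, 11072), (55360, 11072), (66432, 11072), (77504, 11072), (88576, 11072), (99648, 11072), (110720, 11072), (121792, 11072), (132864, 11072), (143936, 11072), (155008, 11072), (166080, 11072), (177152, 11072), (188224, 11072), (199296, 11072), (210368, 11072), (221440, 11072), (232512, 11072), (243584, 11072), (254656, 11072), (265728, 11072), (276800, 11072), (287872, 11072), (298944, 11072), (310016, 11072), (321088, 11072), (332160, 11072), (343232, 11072), (354304, 11072), (365376, 11072), (376448, 11072), (387520, 11072), (398592, 11072), (409664, 11072), (420736, 11072), (431808, 11072), (442880, 11072), (453952, 11072), (465024, 11072), (476096, 11072), (487168, 11072), (498240, 11072), (509312, 11072), (520384, 11072), (531456, 11072), (542528, 11072), (553600, 11072), (564672, 11072), (575744, 11072), (586816, 11072),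 (597888, 11072), (608960, 11072), (620032, 11072), (631104, 11072), (642176, 11072), (653248, 11072), (664320, 11072), (675392, 11072), (686464, 11072), (697536, 11072), (708608, 11072), (719680, 11072), (730752, 11072), (741824, 11072), (752896, 11072), (763968, 11072), (775040, 11072), (786112, 11072), (797184, 11072), (808256, 11072), (819328, 11072), (830400, 11072), (841472, 11072), (852544, 11072), (863616, 11072), (874688, 11072), (885760, 11072), (896832, 11072), (907904, 11072), (918976, 11072), (930048, 11072), (941120, 11072), (952192, 11072), (963264, 11072), (974336, 11072), (985408, 11072), (996480, 11072), (1007552, 11072), (1018624, 11072), (1029696, 11072), (1040768, 11072), (1051840, 11072), (1062912, 11072), (1073984, 11072), (1085056, 11072), (1096128, 11072), (1107200, 11072), (1118272, 11072), (1129344, 11072), (1140416, 11072), (1151488, 11072), (1162560, 11072), (1173632, 11072), (1184704, 11072), (1195776, 11072), (1206848, 11072), (1217920, 11072), (1228992, 11072), (1240064, 11072), (1251136, 11072), (1262208, 11072), (1273280, 11072), (1284352, 11072), (1295424, 11072), (1306496, 11072), (1317568,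 11072), (1328640, 11072), (1339712, 11072), (1350784, 11072), (1361856, 11072), (1372928, 11072), (1384000, 11072), (1395072, 11072), (1406144, 11072), (1417216, 11072), (1428288, 11072), (1439360, 11072), (1450432, 11072), (1461504, 11072), (1472576, 11072), (1483648, 11072), (1494720, 11072), (1505792, 11072), (1516864, 11072), (1527936, 11064)]) (by decide +kernel) (pextra7_grp0)

end Cfsg.Agent.HNOut
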