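import Cfsg.Agent.Lib.Lead.HNOut.D0
import Cfsg.Agent.Lib.Lead.HNOut.D1
import Cfsg.Agent.Lib.Lead.HNOut.D2
import Cfsg.Agent.Lib.Lead.HNOut.D3
import Cfsg.Agent.Lib.Lead.HNOut.D4
import Cfsg.Agent.Lib.Lead.HNOut.D6
import Cfsg.Agent.Lib.Lead.HNOut.D7

/-! # The outer automorphism group of the Harada–Norton group: the further relator number 8 for the images of the letters, a part (generated) -/

set_option autoImplicit false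
set_option maxRecDepth 100000

namespace Cfsg.Agent.HNOut

open Cfsg.Agent.PF Cfsg.Agent.Lib.Helper6 Cfsg.Agent.Lib.Helper6.TC Cfsg.Agent.Lib.Helper6.NatArr
open Cfsg.Agent.PL (Acts evalF)

theorem pextra8_25 : allR 99950 3998 (fun q => Nat.beq ((fun q => f0 (f0 (f4 (f3 (f0 (f2 (f2 (f0 (f2 (f0 (f2 (f0 (f0 (f4 (f3 (f1 (f3 (f1 (f3 (f3 (f1 (f2 (f0 (f0 (q))))))))))))))))))))))))) q) ((fun q => q) q)) = true := by decide +kernel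

theorem pextra8_26 : allR 103948 3998 (fun q => Nat.beq ((fun q => f0 (f0 (f4 (f3 (f0 (f2 (f2 (f0 (f2 (f0 (f2 (f0 (f0 (f4 (f3 (f1 (f3 (f1 (f3 (f3 (f1 (f2 (f0 (f0 (q))))))))))))))))))))))))) q) ((fun q => q) q)) = true := by decide +kernel

theorem pextra8_27 : allR 107946 3998 (fun q => Nat.beq ((fun q => f0 (f0 (f4 (f3 (f0 (f2 (f2 (f0 (f2 (f0 (f2 (f0 (f0 (f4 (f3 (f1 (f3 (f1 (f3 (f3 (f1 (f2 (f0 (f0 (q))))))))))))))))))))))))) q) ((fun q => q) q)) = true := by decide +kernel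

theorem pextra8_28 : allR 111944 3998 (fun q => Nat.beq ((fun q => f0 (f0 (f4 (f3 (f0 (f2 (f2 (f0 (f2 (f0 (f2 (f0 (f0 (f4 (f3 (f1 (f3 (f1 (f3 (f3 (f1 (f2 (f0 (f0 (q))))))))))))))))))))))))) q) ((fun q => q) q)) = true := by decide +kernel

theorem pextra8_29 : allR 115942 3998 (fun q => Nat.beq ((fun q => f0 (f0 (f4 (f3 (f0 (f2 (f2 (f0 (f2 (f0 (f2 (f0 (f0 (f4 (f3 (f1 (f3 (f1 (f3 (f3 (f1 (f2 (f0 (f0 (q))))))))))))))))))))))))) q) ((fun q => q) q)) = true := by decide +kernel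

theorem pextra8_30 : allR 119940 3998 (fun q => Nat.beq ((fun q => f0 (f0 (f4 (f3 (f0 (f2 (f2 (f0 (f2 (f0 (f2 (f0 (f0 (f4 (f3 (f1 (f3 (f1 (f3 (f3 (f1 (f2 (f0 (f0 (q))))))))))))))))))))))))) q) ((fun q => q) q)) = true := by decide +kernel

theorem pextra8_31 : allR 123938 3998 (fun q => Nat.beq ((fun q => f0 (f0 (f4 (f3 (f0 (f2 (f2 (f0 (f2 (f0 (f2 (f0 (f0 (f4 (f3 (f1 (f3 (f1 (f3 (f3 (f1 (f2 (f0 (f0 (q))))))))))))))))))))))))) q) ((fun q => q) q)) = true := by decide +kernel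

theorem pextra8_32 : allR 127936 3998 (fun q => Nat.beq ((fun q => f0 (f0 (f4 (f3 (f0 (f2 (f2 (f0 (f2 (f0 (f2 (f0 (f0 (f4 (f3 (f1 (f3 (f1 (f3 (f3 (f1 (f2 (f0 (f0 (q))))))))))))))))))))))))) q) ((fun q => q) q)) = true := by decide +kernel

theorem pextra8_33 : allR 131934 3998 (fun q => Nat.beq ((fun q => f0 (f0 (f4 (f3 (f0 (f2 (f2 (f0 (f2 (f0 (f2 (f0 (f0 (f4 (f3 (f1 (f3 (f1 (f3 (f3 (f1 (f2 (f0 (f0 (q))))))))))))))))))))))))) q) ((fun q => q) q)) = true := by decide +kernel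

theorem pextra8_34 : allR 135932 3998 (fun q => Nat.beq ((fun q => f0 (f0 (f4 (f3 (f0 (f2 (f2 (f0 (f2 (f0 (f2 (f0 (f0 (f4 (f3 (f1 (f3 (f1 (f3 (f3 (f1 (f2 (f0 (f0 (q))))))))))))))))))))))))) q) ((fun q => q) q)) = true := by decide +kernel

theorem pextra8_35 : allR 139930 3998 (fun q => Nat.beq ((fun q => f0 (f0 (f4 (f3 (f0 (f2 (f2 (f0 (f2 (f0 (f2 (f0 (f0 (f4 (f3 (f1 (f3 (f1 (f3 (f3 (f1 (f2 (f0 (f0 (q))))))))))))))))))))))))) q) ((fun q => q) q)) = true := by decide +kernel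

theorem pextra8_36 : allR 143928 3998 (fun q => Nat.beq ((fun q => f0 (f0 (f4 (f3 (f0 (f2 (f2 (f0 (f2 (f0 (f2 (f0 (f0 (f4 (f3 (f1 (f3 (f1 (f3 (f3 (f1 (f2 (f0 (f0 (q))))))))))))))))))))))))) q) ((fun q => q) q)) = true := by decide +kernel

theorem pextra8_37 : allR 147926 3998 (fun q => Nat.beq ((fun q => f0 (f0 (f4 (f3 (f0 (f2 (f2 (f0 (f2 (f0 (f2 (f0 (f0 (f4 (f3 (f1 (f3 (f1 (f3 (f3 (f1 (f2 (f0 (f0 (q))))))))))))))))))))))))) q) ((fun q => q) q)) = true := by decide +kernel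

theorem pextra8_38 : allR 151924 3998 (fun q => Nat.beq ((fun q => f0 (f0 (f4 (f3 (f0 (f2 (f2 (f0 (f2 (f0 (f2 (f0 (f0 (f4 (f3 (f1 (f3 (f1 (f3 (f3 (f1 (f2 (f0 (f0 (q))))))))))))))))))))))))) q) ((fun q => q) q)) = true := by decide +kernel

theorem pextra8_39 : allR 155922 3998 (fun q => Nat.beq ((fun q => f0 (f0 (f4 (f3 (f0 (f2 (f2 (f0 (f2 (f0 (f2 (f0 (f0 (f4 (f3 (f1 (f3 (f1 (f3 (f3 (f1 (f2 (f0 (f0 (q))))))))))))))))))))))))) q) ((fun q => q) q)) = true := by decide +kernel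

theorem pextra8_40 : allR 159920 3998 (fun q => Nat.beq ((fun q => f0 (f0 (f4 (f3 (f0 (f2 (f2 (f0 (f2 (f0 (f2 (f0 (f0 (f4 (f3 (f1 (f3 (f1 (f3 (f3 (f1 (f2 (f0 (f0 (q))))))))))))))))))))))))) q) ((fun q => q) q)) = true := by decide +kernel

theorem pextra8_41 : allR 163918 3998 (fun q => Nat.beq ((fun q => f0 (f0 (f4 (f3 (f0 (f2 (f2 (f0 (f2 (f0 (f2 (f0 (f0 (f4 (f3 (f1 (f3 (f1 (f3 (f3 (f1 (f2 (f0 (f0 (q))))))))))))))))))))))))) q) ((fun q => q) q)) = true := by decide +kernel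

theorem pextra8_42 : allR 167916 3998 (fun q => Nat.beq ((fun q => f0 (f0 (f4 (f3 (f0 (f2 (f2 (f0 (f2 (f0 (f2 (f0 (f0 (f4 (f3 (f1 (f3 (f1 (f3 (f3 (f1 (f2 (f0 (f0 (q))))))))))))))))))))))))) q) ((fun q => q) q)) = true := by decide +kernel

theorem pextra8_43 : allR 171914 3998 (fun q => Nat.beq ((fun q => f0 (f0 (f4 (f3 (f0 (f2 (f2 (f0 (f2 (f0 (f2 (f0 (f0 (f4 (f3 (f1 (f3 (f1 (f3 (f3 (f1 (f2 (f0 (f0 (q))))))))))))))))))))))))) q) ((fun q => q) q)) = true := by decide +kernel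

theorem pextra8_44 : allR 175912 3998 (fun q => Nat.beq ((fun q => f0 (f0 (f4 (f3 (f0 (f2 (f2 (f0 (f2 (f0 (f2 (f0 (f0 (f4 (f3 (f1 (f3 (f1 (f3 (f3 (f1 (f2 (f0 (f0 (q))))))))))))))))))))))))) q) ((fun q => q) q)) = true := by decide +kernel

theorem pextra8_45 : allR 179910 3998 (fun q => Nat.beq ((fun q => f0 (f0 (f4 (f3 (f0 (f2 (f2 (f0 (f2 (f0 (f2 (f0 (f0 (f4 (f3 (f1 (f3 (f1 (f3 (f3 (f1 (f2 (f0 (f0 (q))))))))))))))))))))))))) q) ((fun q => q) q)) = true := by decide +kernel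

theorem pextra8_46 : allR 183908 3998 (fun q => Nat.beq ((fun q => f0 (f0 (f4 (f3 (f0 (f2 (f2 (f0 (f2 (f0 (f2 (f0 (f0 (f4 (f3 (f1 (f3 (f1 (f3 (f3 (f1 (f2 (f0 (f0 (q))))))))))))))))))))))))) q) ((fun q => q) q)) = true := by decide +kernel

theorem pextra8_47 : allR 187906 3998 (fun q => Nat.beq ((fun q => f0 (f0 (f4 (f3 (f0 (f2 (f2 (f0 (f2 (f0 (f2 (f0 (f0 (f4 (f3 (f1 (f3 (f1 (f3 (f3 (f1 (f2 (f0 (f0 (q))))))))))))))))))))))))) q) ((fun q => q) q)) = true := by decide +kernel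

theorem pextra8_48 : allR 191904 3998 (fun q => Nat.beq ((fun q => f0 (f0 (f4 (f3 (f0 (f2 (f2 (f0 (f2 (f0 (f2 (f0 (f0 (f4 (f3 (f1 (f3 (f1 (f3 (f3 (f1 (f2 (f0 (f0 (q))))))))))))))))))))))))) q) ((fun q => q) q)) = true := by decide +kernel

theorem pextra8_49 : allR 195902 3998 (fun q => Nat.beq ((fun q => f0 (f0 (f4 (f3 (f0 (f2 (f2 (f0 (f2 (f0 (f2 (f0 (f0 (f4 (f3 (f1 (f3 (f1 (f3 (f3 (f1 (f2 (f0 (f0 (q))))))))))))))))))))))))) q) ((fun q => q) q)) = true := by decide +kernel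


end Cfsg.Agent.HNOut
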