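import Cfsg.Agent.Lib.Lead.HNOut.D0
import Cfsg.Agent.Lib.Lead.HNOut.D1
import Cfsg.Agent.Lib.Lead.HNOut.D2
import Cfsg.Agent.Lib.Lead.HNOut.D3
import Cfsg.Agent.Lib.Lead.HNOut.D4
import Cfsg.Agent.Lib.Lead.HNOut.D6
import Cfsg.Agent.Lib.Lead.HNOut.D7

/-! # The outer automorphism group of the Harada–Norton group: the further relator number 8 for the images of the letters, a part (generated) -/

set_option autoImplicit false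
set_option maxRecDepth 100000

namespace Cfsg.Agent.HNOut

open Cfsg.Agent.PF Cfsg.Agent.Lib.Helper6 Cfsg.Agent.Lib.Helper6.TC Cfsg.Agent.Lib.Helper6.NatArr
open Cfsg.Agent.PL (Acts evalF)

theorem pextra8_250 : allR 999500 3998 (fun q => Nat.beq ((fun q => f0 (f0 (f4 (f3 (f0 (f2 (f2 (f0 (f2 (f0 (f2 (f0 (f0 (f4 (f3 (f1 (f3 (f1 (f3 (f3 (f1 (f2 (f0 (f0 (q))))))))))))))))))))))))) q) ((fun q => q) q)) = true := by decide +kernel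

theorem pextra8_251 : allR 1003498 3998 (fun q => Nat.beq ((fun q => f0 (f0 (f4 (f3 (f0 (f2 (f2 (f0 (f2 (f0 (f2 (f0 (f0 (f4 (f3 (f1 (f3 (f1 (f3 (f3 (f1 (f2 (f0 (f0 (q))))))))))))))))))))))))) q) ((fun q => q) q)) = true := by decide +kernel

theorem pextra8_252 : allR 1007496 3998 (fun q => Nat.beq ((fun q => f0 (f0 (f4 (f3 (f0 (f2 (f2 (f0 (f2 (f0 (f2 (f0 (f0 (f4 (f3 (f1 (f3 (f1 (f3 (f3 (f1 (f2 (f0 (f0 (q))))))))))))))))))))))))) q) ((fun q => q) q)) = true := by decide +kernel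

theorem pextra8_253 : allR 1011494 3998 (fun q => Nat.beq ((fun q => f0 (f0 (f4 (f3 (f0 (f2 (f2 (f0 (f2 (f0 (f2 (f0 (f0 (f4 (f3 (f1 (f3 (f1 (f3 (f3 (f1 (f2 (f0 (f0 (q))))))))))))))))))))))))) q) ((fun q => q) q)) = true := by decide +kernel

theorem pextra8_254 : allR 1015492 3998 (fun q => Nat.beq ((fun q => f0 (f0 (f4 (f3 (f0 (f2 (f2 (f0 (f2 (f0 (f2 (f0 (f0 (f4 (f3 (f1 (f3 (f1 (f3 (f3 (f1 (f2 (f0 (f0 (q))))))))))))))))))))))))) q) ((fun q => q) q)) = true := by decide +kernel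

theorem pextra8_255 : allR 1019490 3998 (fun q => Nat.beq ((fun q => f0 (f0 (f4 (f3 (f0 (f2 (f2 (f0 (f2 (f0 (f2 (f0 (f0 (f4 (f3 (f1 (f3 (f1 (f3 (f3 (f1 (f2 (f0 (f0 (q))))))))))))))))))))))))) q) ((fun q => q) q)) = true := by decide +kernel

theorem pextra8_256 : allR 1023488 3998 (fun q => Nat.beq ((fun q => f0 (f0 (f4 (f3 (f0 (f2 (f2 (f0 (f2 (f0 (f2 (f0 (f0 (f4 (f3 (f1 (f3 (f1 (f3 (f3 (f1 (f2 (f0 (f0 (q))))))))))))))))))))))))) q) ((fun q => q) q)) = true := by decide +kernel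

theorem pextra8_257 : allR 1027486 3998 (fun q => Nat.beq ((fun q => f0 (f0 (f4 (f3 (f0 (f2 (f2 (f0 (f2 (f0 (f2 (f0 (f0 (f4 (f3 (f1 (f3 (f1 (f3 (f3 (f1 (f2 (f0 (f0 (q))))))))))))))))))))))))) q) ((fun q => q) q)) = true := by decide +kernel

theorem pextra8_258 : allR 1031484 3998 (fun q => Nat.beq ((fun q => f0 (f0 (f4 (f3 (f0 (f2 (f2 (f0 (f2 (f0 (f2 (f0 (f0 (f4 (f3 (f1 (f3 (f1 (f3 (f3 (f1 (f2 (f0 (f0 (q))))))))))))))))))))))))) q) ((fun q => q) q)) = true := by decide +kernel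

theorem pextra8_259 : allR 1035482 3998 (fun q => Nat.beq ((fun q => f0 (f0 (f4 (f3 (f0 (f2 (f2 (f0 (f2 (f0 (f2 (f0 (f0 (f4 (f3 (f1 (f3 (f1 (f3 (f3 (f1 (f2 (f0 (f0 (q))))))))))))))))))))))))) q) ((fun q => q) q)) = true := by decide +kernel

theorem pextra8_260 : allR 1039480 3998 (fun q => Nat.beq ((fun q => f0 (f0 (f4 (f3 (f0 (f2 (f2 (f0 (f2 (f0 (f2 (f0 (f0 (f4 (f3 (f1 (f3 (f1 (f3 (f3 (f1 (f2 (f0 (f0 (q))))))))))))))))))))))))) q) ((fun q => q) q)) = true := by decide +kernel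

theorem pextra8_261 : allR 1043478 3998 (fun q => Nat.beq ((fun q => f0 (f0 (f4 (f3 (f0 (f2 (f2 (f0 (f2 (f0 (f2 (f0 (f0 (f4 (f3 (f1 (f3 (f1 (f3 (f3 (f1 (f2 (f0 (f0 (q))))))))))))))))))))))))) q) ((fun q => q) q)) = true := by decide +kernel

theorem pextra8_262 : allR 1047476 3998 (fun q => Nat.beq ((fun q => f0 (f0 (f4 (f3 (f0 (f2 (f2 (f0 (f2 (f0 (f2 (f0 (f0 (f4 (f3 (f1 (f3 (f1 (f3 (f3 (f1 (f2 (f0 (f0 (q))))))))))))))))))))))))) q) ((fun q => q) q)) = true := by decide +kernel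

theorem pextra8_263 : allR 1051474 3998 (fun q => Nat.beq ((fun q => f0 (f0 (f4 (f3 (f0 (f2 (f2 (f0 (f2 (f0 (f2 (f0 (f0 (f4 (f3 (f1 (f3 (f1 (f3 (f3 (f1 (f2 (f0 (f0 (q))))))))))))))))))))))))) q) ((fun q => q) q)) = true := by decide +kernel

theorem pextra8_264 : allR 1055472 3998 (fun q => Nat.beq ((fun q => f0 (f0 (f4 (f3 (f0 (f2 (f2 (f0 (f2 (f0 (f2 (f0 (f0 (f4 (f3 (f1 (f3 (f1 (f3 (f3 (f1 (f2 (f0 (f0 (q))))))))))))))))))))))))) q) ((fun q => q) q)) = true := by decide +kernel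

theorem pextra8_265 : allR 1059470 3998 (fun q => Nat.beq ((fun q => f0 (f0 (f4 (f3 (f0 (f2 (f2 (f0 (f2 (f0 (f2 (f0 (f0 (f4 (f3 (f1 (f3 (f1 (f3 (f3 (f1 (f2 (f0 (f0 (q))))))))))))))))))))))))) q) ((fun q => q) q)) = true := by decide +kernel

theorem pextra8_266 : allR 1063468 3998 (fun q => Nat.beq ((fun q => f0 (f0 (f4 (f3 (f0 (f2 (f2 (f0 (f2 (f0 (f2 (f0 (f0 (f4 (f3 (f1 (f3 (f1 (f3 (f3 (f1 (f2 (f0 (f0 (q))))))))))))))))))))))))) q) ((fun q => q) q)) = true := by decide +kernel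

theorem pextra8_267 : allR 1067466 3998 (fun q => Nat.beq ((fun q => f0 (f0 (f4 (f3 (f0 (f2 (f2 (f0 (f2 (f0 (f2 (f0 (f0 (f4 (f3 (f1 (f3 (f1 (f3 (f3 (f1 (f2 (f0 (f0 (q))))))))))))))))))))))))) q) ((fun q => q) q)) = true := by decide +kernel

theorem pextra8_268 : allR 1071464 3998 (fun q => Nat.beq ((fun q => f0 (f0 (f4 (f3 (f0 (f2 (f2 (f0 (f2 (f0 (f2 (f0 (f0 (f4 (f3 (f1 (f3 (f1 (f3 (f3 (f1 (f2 (f0 (f0 (q))))))))))))))))))))))))) q) ((fun q => q) q)) = true := by decide +kernel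

theorem pextra8_269 : allR 1075462 3998 (fun q => Nat.beq ((fun q => f0 (f0 (f4 (f3 (f0 (f2 (f2 (f0 (f2 (f0 (f2 (f0 (f0 (f4 (f3 (f1 (f3 (f1 (f3 (f3 (f1 (f2 (f0 (f0 (q))))))))))))))))))))))))) q) ((fun q => q) q)) = true := by decide +kernel

theorem pextra8_270 : allR 1079460 3998 (fun q => Nat.beq ((fun q => f0 (f0 (f4 (f3 (f0 (f2 (f2 (f0 (f2 (f0 (f2 (f0 (f0 (f4 (f3 (f1 (f3 (f1 (f3 (f3 (f1 (f2 (f0 (f0 (q))))))))))))))))))))))))) q) ((fun q => q) q)) = true := by decide +kernel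

theorem pextra8_271 : allR 1083458 3998 (fun q => Nat.beq ((fun q => f0 (f0 (f4 (f3 (f0 (f2 (f2 (f0 (f2 (f0 (f2 (f0 (f0 (f4 (f3 (f1 (f3 (f1 (f3 (f3 (f1 (f2 (f0 (f0 (q))))))))))))))))))))))))) q) ((fun q => q) q)) = true := by decide +kernel

theorem pextra8_272 : allR 1087456 3998 (fun q => Nat.beq ((fun q => f0 (f0 (f4 (f3 (f0 (f2 (f2 (f0 (f2 (f0 (f2 (f0 (f0 (f4 (f3 (f1 (f3 (f1 (f3 (f3 (f1 (f2 (f0 (f0 (q))))))))))))))))))))))))) q) ((fun q => q) q)) = true := by decide +kernel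

theorem pextra8_273 : allR 1091454 3998 (fun q => Nat.beq ((fun q => f0 (f0 (f4 (f3 (f0 (f2 (f2 (f0 (f2 (f0 (f2 (f0 (f0 (f4 (f3 (f1 (f3 (f1 (f3 (f3 (f1 (f2 (f0 (f0 (q))))))))))))))))))))))))) q) ((fun q => q) q)) = true := by decide +kernel

theorem pextra8_274 : allR 1095452 3998 (fun q => Nat.beq ((fun q => f0 (f0 (f4 (f3 (f0 (f2 (f2 (f0 (f2 (f0 (f2 (f0 (f0 (f4 (f3 (f1 (f3 (f1 (f3 (f3 (f1 (f2 (f0 (f0 (q))))))))))))))))))))))))) q) ((fun q => q) q)) = true := by decide +kernel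


end Cfsg.Agent.HNOut
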