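import Cfsg.Agent.Lib.Lead.HNOut.D0
import Cfsg.Agent.Lib.Lead.HNOut.D1
import Cfsg.Agent.Lib.Lead.HNOut.D2
import Cfsg.Agent.Lib.Lead.HNOut.D3
import Cfsg.Agent.Lib.Lead.HNOut.D4
import Cfsg.Agent.Lib.Lead.HNOut.D6
import Cfsg.Agent.Lib.Lead.HNOut.D7

/-! # The outer automorphism group of the Harada–Norton group: the further relator number 8 for the images of the letters, a part (generated) -/

set_option autoImplicit false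
set_option maxRecDepth 100000

namespace Cfsg.Agent.HNOut

open Cfsg.Agent.PF Cfsg.Agent.Lib.Helper6 Cfsg.Agent.Lib.Helper6.TC Cfsg.Agent.Lib.Helper6.NatArr
open Cfsg.Agent.PL (Acts evalF)

theorem pextra8_275 : allR 1099450 3998 (fun q => Nat.beq ((fun q => f0 (f0 (f4 (f3 (f0 (f2 (f2 (f0 (f2 (f0 (f2 (f0 (f0 (f4 (f3 (f1 (f3 (f1 (f3 (f3 (f1 (f2 (f0 (f0 (q))))))))))))))))))))))))) q) ((fun q => q) q)) = true := by decide +kernel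

theorem pextra8_276 : allR 1103448 3998 (fun q => Nat.beq ((fun q => f0 (f0 (f4 (f3 (f0 (f2 (f2 (f0 (f2 (f0 (f2 (f0 (f0 (f4 (f3 (f1 (f3 (f1 (f3 (f3 (f1 (f2 (f0 (f0 (q))))))))))))))))))))))))) q) ((fun q => q) q)) = true := by decide +kernel

theorem pextra8_277 : allR 1107446 3998 (fun q => Nat.beq ((fun q => f0 (f0 (f4 (f3 (f0 (f2 (f2 (f0 (f2 (f0 (f2 (f0 (f0 (f4 (f3 (f1 (f3 (f1 (f3 (f3 (f1 (f2 (f0 (f0 (q))))))))))))))))))))))))) q) ((fun q => q) q)) = true := by decide +kernel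

theorem pextra8_278 : allR 1111444 3998 (fun q => Nat.beq ((fun q => f0 (f0 (f4 (f3 (f0 (f2 (f2 (f0 (f2 (f0 (f2 (f0 (f0 (f4 (f3 (f1 (f3 (f1 (f3 (f3 (f1 (f2 (f0 (f0 (q))))))))))))))))))))))))) q) ((fun q => q) q)) = true := by decide +kernel

theorem pextra8_279 : allR 1115442 3998 (fun q => Nat.beq ((fun q => f0 (f0 (f4 (f3 (f0 (f2 (f2 (f0 (f2 (f0 (f2 (f0 (f0 (f4 (f3 (f1 (f3 (f1 (f3 (f3 (f1 (f2 (f0 (f0 (q))))))))))))))))))))))))) q) ((fun q => q) q)) = true := by decide +kernel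

theorem pextra8_280 : allR 1119440 3998 (fun q => Nat.beq ((fun q => f0 (f0 (f4 (f3 (f0 (f2 (f2 (f0 (f2 (f0 (f2 (f0 (f0 (f4 (f3 (f1 (f3 (f1 (f3 (f3 (f1 (f2 (f0 (f0 (q))))))))))))))))))))))))) q) ((fun q => q) q)) = true := by decide +kernel

theorem pextra8_281 : allR 1123438 3998 (fun q => Nat.beq ((fun q => f0 (f0 (f4 (f3 (f0 (f2 (f2 (f0 (f2 (f0 (f2 (f0 (f0 (f4 (f3 (f1 (f3 (f1 (f3 (f3 (f1 (f2 (f0 (f0 (q))))))))))))))))))))))))) q) ((fun q => q) q)) = true := by decide +kernel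

theorem pextra8_282 : allR 1127436 3998 (fun q => Nat.beq ((fun q => f0 (f0 (f4 (f3 (f0 (f2 (f2 (f0 (f2 (f0 (f2 (f0 (f0 (f4 (f3 (f1 (f3 (f1 (f3 (f3 (f1 (f2 (f0 (f0 (q))))))))))))))))))))))))) q) ((fun q => q) q)) = true := by decide +kernel

theorem pextra8_283 : allR 1131434 3998 (fun q => Nat.beq ((fun q => f0 (f0 (f4 (f3 (f0 (f2 (f2 (f0 (f2 (f0 (f2 (f0 (f0 (f4 (f3 (f1 (f3 (f1 (f3 (f3 (f1 (f2 (f0 (f0 (q))))))))))))))))))))))))) q) ((fun q => q) q)) = true := by decide +kernel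

theorem pextra8_284 : allR 1135432 3998 (fun q => Nat.beq ((fun q => f0 (f0 (f4 (f3 (f0 (f2 (f2 (f0 (f2 (f0 (f2 (f0 (f0 (f4 (f3 (f1 (f3 (f1 (f3 (f3 (f1 (f2 (f0 (f0 (q))))))))))))))))))))))))) q) ((fun q => q) q)) = true := by decide +kernel

theorem pextra8_285 : allR 1139430 3998 (fun q => Nat.beq ((fun q => f0 (f0 (f4 (f3 (f0 (f2 (f2 (f0 (f2 (f0 (f2 (f0 (f0 (f4 (f3 (f1 (f3 (f1 (f3 (f3 (f1 (f2 (f0 (f0 (q))))))))))))))))))))))))) q) ((fun q => q) q)) = true := by decide +kernel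

theorem pextra8_286 : allR 1143428 3998 (fun q => Nat.beq ((fun q => f0 (f0 (f4 (f3 (f0 (f2 (f2 (f0 (f2 (f0 (f2 (f0 (f0 (f4 (f3 (f1 (f3 (f1 (f3 (f3 (f1 (f2 (f0 (f0 (q))))))))))))))))))))))))) q) ((fun q => q) q)) = true := by decide +kernel

theorem pextra8_287 : allR 1147426 3998 (fun q => Nat.beq ((fun q => f0 (f0 (f4 (f3 (f0 (f2 (f2 (f0 (f2 (f0 (f2 (f0 (f0 (f4 (f3 (f1 (f3 (f1 (f3 (f3 (f1 (f2 (f0 (f0 (q))))))))))))))))))))))))) q) ((fun q => q) q)) = true := by decide +kernel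

theorem pextra8_288 : allR 1151424 3998 (fun q => Nat.beq ((fun q => f0 (f0 (f4 (f3 (f0 (f2 (f2 (f0 (f2 (f0 (f2 (f0 (f0 (f4 (f3 (f1 (f3 (f1 (f3 (f3 (f1 (f2 (f0 (f0 (q))))))))))))))))))))))))) q) ((fun q => q) q)) = true := by decide +kernel

theorem pextra8_289 : allR 1155422 3998 (fun q => Nat.beq ((fun q => f0 (f0 (f4 (f3 (f0 (f2 (f2 (f0 (f2 (f0 (f2 (f0 (f0 (f4 (f3 (f1 (f3 (f1 (f3 (f3 (f1 (f2 (f0 (f0 (q))))))))))))))))))))))))) q) ((fun q => q) q)) = true := by decide +kernel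

theorem pextra8_290 : allR 1159420 3998 (fun q => Nat.beq ((fun q => f0 (f0 (f4 (f3 (f0 (f2 (f2 (f0 (f2 (f0 (f2 (f0 (f0 (f4 (f3 (f1 (f3 (f1 (f3 (f3 (f1 (f2 (f0 (f0 (q))))))))))))))))))))))))) q) ((fun q => q) q)) = true := by decide +kernel

theorem pextra8_291 : allR 1163418 3998 (fun q => Nat.beq ((fun q => f0 (f0 (f4 (f3 (f0 (f2 (f2 (f0 (f2 (f0 (f2 (f0 (f0 (f4 (f3 (f1 (f3 (f1 (f3 (f3 (f1 (f2 (f0 (f0 (q))))))))))))))))))))))))) q) ((fun q => q) q)) = true := by decide +kernel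

theorem pextra8_292 : allR 1167416 3998 (fun q => Nat.beq ((fun q => f0 (f0 (f4 (f3 (f0 (f2 (f2 (f0 (f2 (f0 (f2 (f0 (f0 (f4 (f3 (f1 (f3 (f1 (f3 (f3 (f1 (f2 (f0 (f0 (q))))))))))))))))))))))))) q) ((fun q => q) q)) = true := by decide +kernel

theorem pextra8_293 : allR 1171414 3998 (fun q => Nat.beq ((fun q => f0 (f0 (f4 (f3 (f0 (f2 (f2 (f0 (f2 (f0 (f2 (f0 (f0 (f4 (f3 (f1 (f3 (f1 (f3 (f3 (f1 (f2 (f0 (f0 (q))))))))))))))))))))))))) q) ((fun q => q) q)) = true := by decide +kernel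

theorem pextra8_294 : allR 1175412 3998 (fun q => Nat.beq ((fun q => f0 (f0 (f4 (f3 (f0 (f2 (f2 (f0 (f2 (f0 (f2 (f0 (f0 (f4 (f3 (f1 (f3 (f1 (f3 (f3 (f1 (f2 (f0 (f0 (q))))))))))))))))))))))))) q) ((fun q => q) q)) = true := by decide +kernel

theorem pextra8_295 : allR 1179410 3998 (fun q => Nat.beq ((fun q => f0 (f0 (f4 (f3 (f0 (f2 (f2 (f0 (f2 (f0 (f2 (f0 (f0 (f4 (f3 (f1 (f3 (f1 (f3 (f3 (f1 (f2 (f0 (f0 (q))))))))))))))))))))))))) q) ((fun q => q) q)) = true := by decide +kernel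

theorem pextra8_296 : allR 1183408 3998 (fun q => Nat.beq ((fun q => f0 (f0 (f4 (f3 (f0 (f2 (f2 (f0 (f2 (f0 (f2 (f0 (f0 (f4 (f3 (f1 (f3 (f1 (f3 (f3 (f1 (f2 (f0 (f0 (q))))))))))))))))))))))))) q) ((fun q => q) q)) = true := by decide +kernel

theorem pextra8_297 : allR 1187406 3998 (fun q => Nat.beq ((fun q => f0 (f0 (f4 (f3 (f0 (f2 (f2 (f0 (f2 (f0 (f2 (f0 (f0 (f4 (f3 (f1 (f3 (f1 (f3 (f3 (f1 (f2 (f0 (f0 (q))))))))))))))))))))))))) q) ((fun q => q) q)) = true := by decide +kernel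

theorem pextra8_298 : allR 1191404 3998 (fun q => Nat.beq ((fun q => f0 (f0 (f4 (f3 (f0 (f2 (f2 (f0 (f2 (f0 (f2 (f0 (f0 (f4 (f3 (f1 (f3 (f1 (f3 (f3 (f1 (f2 (f0 (f0 (q))))))))))))))))))))))))) q) ((fun q => q) q)) = true := by decide +kernel

theorem pextra8_299 : allR 1195402 3998 (fun q => Nat.beq ((fun q => f0 (f0 (f4 (f3 (f0 (f2 (f2 (f0 (f2 (f0 (f2 (f0 (f0 (f4 (f3 (f1 (f3 (f1 (f3 (f3 (f1 (f2 (f0 (f0 (q))))))))))))))))))))))))) q) ((fun q => q) q)) = true := by decide +kernel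


end Cfsg.Agent.HNOut
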