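import Cfsg.Agent.Lib.Lead.HNOut.TauExtra8x0
import Cfsg.Agent.Lib.Lead.HNOut.TauExtra8x1
import Cfsg.Agent.Lib.Lead.HNOut.TauExtra8x2
import Cfsg.Agent.Lib.Lead.HNOut.TauExtra8x3
import Cfsg.Agent.Lib.Lead.HNOut.TauExtra8x4
import Cfsg.Agent.Lib.Lead.HNOut.TauExtra8x5
import Cfsg.Agent.Lib.Lead.HNOut.TauExtra8x6
import Cfsg.Agent.Lib.Lead.HNOut.TauExtra8x7
import Cfsg.Agent.Lib.Lead.HNOut.TauExtra8x8
import Cfsg.Agent.Lib.Lead.HNOut.TauExtra8x9
import Cfsg.Agent.Lib.Lead.HNOut.TauExtra8x10
import Cfsg.Agent.Lib.Lead.HNOut.TauExtra8x11
import Cfsg.Agent.Lib.Lead.HNOut.TauExtra8x12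
import Cfsg.Agent.Lib.Lead.HNOut.TauExtra8x13
import Cfsg.Agent.Lib.Lead.HNOut.TauExtra8x14
import Cfsg.Agent.Lib.Lead.HNOut.TauExtra8x15
import Cfsg.Agent.Lib.Lead.HNOut.DP

/-! # The outer automorphism group of the Harada–Norton group: the further relator number 8 for the images of the letters (generated) -/

set_option autoImplicit false
set_option maxRecDepth 100000

namespace Cfsg.Agent.HNOut

open Cfsg.Agent.PF Cfsg.Agent.Lib.Helper6 Cfsg.Agent.Lib.Helper6.TC Cfsg.Agent.Lib.Helper6.NatArr
open Cfsg.Agent.PL (Acts evalF)

/-- the images of the letters of the relator -/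
noncomputable def WE8 : List (ℕ → ℕ) := [p5, p2, p1, p3, p3, p1, p3, p1, p3, p4, p2, p0, p2, p0, p2, p2, p0, p3, p1, p1]

theorem pextra8_grp0 : ∀ c ∈ ([(0, 3998), (3998, 3998), (7996, 3998), (11994, 3998), (15992, 3998), (19990, 3998), (23988, 3998), (27986, 3998), (31984, 3998), (35982, 3998), (39980, 3998), (43978, 3998), (47976, 3998), (51974, 3998), (55972, 3998), (59970, 3998), (63968, 3998), (67966, 3998), (71964, 3998), (75962, 3998), (79960, 3998), (83958, 3998), (87956, 3998), (91954, 3998), (95952, 3998), (99950, 3998), (103948, 3998), (107946, 3998), (111944, 3998), (115942, 3998), (119940, 3998), (123938, 3998), (127936, 3998), (131934, 3998), (135932, 3998), (139930, 3998), (143928, 3998), (147926, 3998), (151924, 3998), (155922, 3998), (159920, 3998), (163918, 3998), (167916, 3998), (171914, 3998), (175912, 3998), (179910, 3998), (183908, 3998), (187906, 3998), (191904, 3998), (195902, 3998), (199900, 3998), (203898, 3998), (207896, 3998), (211894, 3998), (215892, 3998), (219890, 3998), (223888, 3998), (227886, 3998), (231884, 3998), (235882, 3998), (239880, 3998), (243878,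 3998), (247876, 3998), (251874, 3998), (255872, 3998), (259870, 3998), (263868, 3998), (267866, 3998), (271864, 3998), (275862, 3998), (279860, 3998), (283858, 3998), (287856, 3998), (291854, 3998), (295852, 3998), (299850, 3998), (303848, 3998), (307846, 3998), (311844, 3998), (315842, 3998), (319840, 3998), (323838, 3998), (327836, 3998), (331834, 3998), (335832, 3998), (339830, 3998), (343828, 3998), (347826, 3998), (351824, 3998), (355822, 3998), (359820, 3998), (363818, 3998), (367816, 3998), (371814, 3998), (375812, 3998), (379810, 3998), (383808, 3998), (387806, 3998), (391804, 3998), (395802, 3998), (399800, 3998), (403798, 3998), (407796, 3998), (411794, 3998), (415792, 3998), (419790, 3998), (423788, 3998), (427786, 3998), (431784, 3998), (435782, 3998), (439780, 3998), (443778, 3998), (447776, 3998), (451774, 3998), (455772, 3998), (459770, 3998), (463768, 3998), (467766, 3998), (471764, 3998), (475762, 3998), (479760, 3998), (483758, 3998), (487756, 3998), (491754, 3998), (495752, 3998), (499750, 3998), (503748, 3998), (507746, 3998), (511744, 3998), (515742, 3998), (519740,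 3998), (523738, 3998), (527736, 3998), (531734, 3998), (535732, 3998), (539730, 3998), (543728, 3998), (547726, 3998), (551724, 3998), (555722, 3998), (559720, 3998), (563718, 3998), (567716, 3998), (571714, 3998), (575712, 3998), (579710, 3998), (583708, 3998), (587706, 3998), (591704, 3998), (595702, 3998)] : List (ℕ × ℕ)), allR c.1 c.2 (fun q => Nat.beq ((fun q => f0 (f0 (f4 (f3 (f0 (f2 (f2 (f0 (f2 (f0 (f2 (f0 (f0 (f4 (f3 (f1 (f3 (f1 (f3 (f3 (f1 (f2 (f0 (f0 (q))))))))))))))))))))))))) q) ((fun q => q) q)) = true :=
  all_cons pextra8_0 (all_cons pextra8_1 (all_cons pextra8_2 (all_cons pextra8_3 (all_cons pextra8_4 (all_cons pextra8_5 (all_cons pextra8_6 (all_cons pextra8_7 (all_cons pextra8_8 (all_cons pextra8_9 (all_cons pextra8_10 (all_cons pextra8_11 (all_cons pextra8_12 (all_cons pextra8_13 (all_cons pextra8_14 (all_cons pextra8_15 (all_cons pextra8_16 (all_cons pextra8_17 (all_cons pextra8_18 (all_cons pextra8_19 (all_cons pextra8_20 (all_cons pextra8_21 (all_cons pextra8_22 (all_cons pextra8_23 (all_cons pextra8_24 (all_cons pextra8_25 (all_cons pextra8_26 (all_cons pextra8_27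 (all_cons pextra8_28 (all_cons pextra8_29 (all_cons pextra8_30 (all_cons pextra8_31 (all_cons pextra8_32 (all_cons pextra8_33 (all_cons pextra8_34 (all_cons pextra8_35 (all_cons pextra8_36 (all_cons pextra8_37 (all_cons pextra8_38 (all_cons pextra8_39 (all_cons pextra8_40 (all_cons pextra8_41 (all_cons pextra8_42 (all_cons pextra8_43 (all_cons pextra8_44 (all_cons pextra8_45 (all_cons pextra8_46 (all_cons pextra8_47 (all_cons pextra8_48 (all_cons pextra8_49 (all_cons pextra8_50 (all_cons pextra8_51 (all_cons pextra8_52 (all_cons pextra8_53 (all_cons pextra8_54 (all_cons pextra8_55 (all_cons pextra8_56 (all_cons pextra8_57 (all_cons pextra8_58 (all_cons pextra8_59 (all_cons pextra8_60 (all_cons pextra8_61 (all_cons pextra8_62 (all_cons pextra8_63 (all_cons pextra8_64 (all_cons pextra8_65 (all_cons pextra8_66 (all_cons pextra8_67 (all_cons pextra8_68 (all_cons pextra8_69 (all_cons pextra8_70 (all_cons pextra8_71 (all_cons pextra8_72 (all_cons pextra8_73 (all_cons pextra8_74 (all_cons pextra8_75 (all_cons pextra8_76 (all_cons pextra8_77 (all_cons pextra8_78 (all_cons pextra8_79 (all_cons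 pextra8_80 (all_cons pextra8_81 (all_cons pextra8_82 (all_cons pextra8_83 (all_cons pextra8_84 (all_cons pextra8_85 (all_cons pextra8_86 (all_cons pextra8_87 (all_cons pextra8_88 (all_cons pextra8_89 (all_cons pextra8_90 (all_cons pextra8_91 (all_cons pextra8_92 (all_cons pextra8_93 (all_cons pextra8_94 (all_cons pextra8_95 (all_cons pextra8_96 (all_cons pextra8_97 (all_cons pextra8_98 (all_cons pextra8_99 (all_cons pextra8_100 (all_cons pextra8_101 (all_cons pextra8_102 (all_cons pextra8_103 (all_cons pextra8_104 (all_cons pextra8_105 (all_cons pextra8_106 (all_cons pextra8_107 (all_cons pextra8_108 (all_cons pextra8_109 (all_cons pextra8_110 (all_cons pextra8_111 (all_cons pextra8_112 (all_cons pextra8_113 (all_cons pextra8_114 (all_cons pextra8_115 (all_cons pextra8_116 (all_cons pextra8_117 (all_cons pextra8_118 (all_cons pextra8_119 (all_cons pextra8_120 (all_cons pextra8_121 (all_cons pextra8_122 (all_cons pextra8_123 (all_cons pextra8_124 (all_cons pextra8_125 (all_cons pextra8_126 (all_cons pextra8_127 (all_cons pextra8_128 (all_cons pextra8_129 (all_cons pextra8_130 (all_cons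 pextra8_131 (all_cons pextra8_132 (all_cons pextra8_133 (all_cons pextra8_134 (all_cons pextra8_135 (all_cons pextra8_136 (all_cons pextra8_137 (all_cons pextra8_138 (all_cons pextra8_139 (all_cons pextra8_140 (all_cons pextra8_141 (all_cons pextra8_142 (all_cons pextra8_143 (all_cons pextra8_144 (all_cons pextra8_145 (all_cons pextra8_146 (all_cons pextra8_147 (all_cons pextra8_148 (all_cons pextra8_149 (all_nil))))))))))))))))))))))))))))))))))))))))))))))))))))))))))))))))))))))))))))))))))))))))))))))))))))))))))))))))))))))))))))))))))))))))))))))))))))))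

theorem pextra8_grp1 : ∀ c ∈ ([(599700, 3998), (603698, 3998), (607696, 3998), (611694, 3998), (615692, 3998), (619690, 3998), (623688, 3998), (627686, 3998), (631684, 3998), (635682, 3998), (639680, 3998), (643678, 3998), (647676, 3998), (651674, 3998), (655672, 3998), (659670, 3998), (663668, 3998), (667666, 3998), (671664, 3998), (675662, 3998), (679660, 3998), (683658, 3998), (687656, 3998), (691654, 3998), (695652, 3998), (699650, 3998), (703648, 3998), (707646, 3998), (711644, 3998), (715642, 3998), (719640, 3998), (723638, 3998), (727636, 3998), (731634, 3998), (735632, 3998), (739630, 3998), (743628, 3998), (747626, 3998), (751624, 3998), (755622, 3998), (759620, 3998), (763618, 3998), (767616, 3998), (771614, 3998), (775612, 3998), (779610, 3998), (783608, 3998), (787606, 3998), (791604, 3998), (795602, 3998), (799600, 3998), (803598, 3998), (807596, 3998), (811594, 3998), (815592, 3998), (819590, 3998), (823588, 3998), (827586, 3998), (831584, 3998), (835582, 3998), (839580, 3998), (843578, 3998), (847576, 3998), (851574, 3998), (855572, 3998), (859570, 3998), (863568, 3998),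 (867566, 3998), (871564, 3998), (875562, 3998), (879560, 3998), (883558, 3998), (887556, 3998), (891554, 3998), (895552, 3998), (899550, 3998), (903548, 3998), (907546, 3998), (911544, 3998), (915542, 3998), (919540, 3998), (923538, 3998), (927536, 3998), (931534, 3998), (935532, 3998), (939530, 3998), (943528, 3998), (947526, 3998), (951524, 3998), (955522, 3998), (959520, 3998), (963518, 3998), (967516, 3998), (971514, 3998), (975512, 3998), (979510, 3998), (983508, 3998), (987506, 3998), (991504, 3998), (995502, 3998), (999500, 3998), (1003498, 3998), (1007496, 3998), (1011494, 3998), (1015492, 3998), (1019490, 3998), (1023488, 3998), (1027486, 3998), (1031484, 3998), (1035482, 3998), (1039480, 3998), (1043478, 3998), (1047476, 3998), (1051474, 3998), (1055472, 3998), (1059470, 3998), (1063468, 3998), (1067466, 3998), (1071464, 3998), (1075462, 3998), (1079460, 3998), (1083458, 3998), (1087456, 3998), (1091454, 3998), (1095452, 3998), (1099450, 3998), (1103448, 3998), (1107446, 3998), (1111444, 3998), (1115442, 3998), (1119440, 3998), (1123438, 3998), (1127436, 3998), (1131434, 3998),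 (1135432, 3998), (1139430, 3998), (1143428, 3998), (1147426, 3998), (1151424, 3998), (1155422, 3998), (1159420, 3998), (1163418, 3998), (1167416, 3998), (1171414, 3998), (1175412, 3998), (1179410, 3998), (1183408, 3998), (1187406, 3998), (1191404, 3998), (1195402, 3998)] : List (ℕ × ℕ)), allR c.1 c.2 (fun q => Nat.beq ((fun q => f0 (f0 (f4 (f3 (f0 (f2 (f2 (f0 (f2 (f0 (f2 (f0 (f0 (f4 (f3 (f1 (f3 (f1 (f3 (f3 (f1 (f2 (f0 (f0 (q))))))))))))))))))))))))) q) ((fun q => q) q)) = true :=
  all_cons pextra8_150 (all_cons pextra8_151 (all_cons pextra8_152 (all_cons pextra8_153 (all_cons pextra8_154 (all_cons pextra8_155 (all_cons pextra8_156 (all_cons pextra8_157 (all_cons pextra8_158 (all_cons pextra8_159 (all_cons pextra8_160 (all_cons pextra8_161 (all_cons pextra8_162 (all_cons pextra8_163 (all_cons pextra8_164 (all_cons pextra8_165 (all_cons pextra8_166 (all_cons pextra8_167 (all_cons pextra8_168 (all_cons pextra8_169 (all_cons pextra8_170 (all_cons pextra8_171 (all_cons pextra8_172 (all_cons pextra8_173 (all_cons pextra8_174 (all_cons pextra8_175 (all_cons pextra8_176 (all_cons pextra8_177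 (all_cons pextra8_178 (all_cons pextra8_179 (all_cons pextra8_180 (all_cons pextra8_181 (all_cons pextra8_182 (all_cons pextra8_183 (all_cons pextra8_184 (all_cons pextra8_185 (all_cons pextra8_186 (all_cons pextra8_187 (all_cons pextra8_188 (all_cons pextra8_189 (all_cons pextra8_190 (all_cons pextra8_191 (all_cons pextra8_192 (all_cons pextra8_193 (all_cons pextra8_194 (all_cons pextra8_195 (all_cons pextra8_196 (all_cons pextra8_197 (all_cons pextra8_198 (all_cons pextra8_199 (all_cons pextra8_200 (all_cons pextra8_201 (all_cons pextra8_202 (all_cons pextra8_203 (all_cons pextra8_204 (all_cons pextra8_205 (all_cons pextra8_206 (all_cons pextra8_207 (all_cons pextra8_208 (all_cons pextra8_209 (all_cons pextra8_210 (all_cons pextra8_211 (all_cons pextra8_212 (all_cons pextra8_213 (all_cons pextra8_214 (all_cons pextra8_215 (all_cons pextra8_216 (all_cons pextra8_217 (all_cons pextra8_218 (all_cons pextra8_219 (all_cons pextra8_220 (all_cons pextra8_221 (all_cons pextra8_222 (all_cons pextra8_223 (all_cons pextra8_224 (all_cons pextra8_225 (all_cons pextra8_226 (all_cons pextra8_227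 (all_cons pextra8_228 (all_cons pextra8_229 (all_cons pextra8_230 (all_cons pextra8_231 (all_cons pextra8_232 (all_cons pextra8_233 (all_cons pextra8_234 (all_cons pextra8_235 (all_cons pextra8_236 (all_cons pextra8_237 (all_cons pextra8_238 (all_cons pextra8_239 (all_cons pextra8_240 (all_cons pextra8_241 (all_cons pextra8_242 (all_cons pextra8_243 (all_cons pextra8_244 (all_cons pextra8_245 (all_cons pextra8_246 (all_cons pextra8_247 (all_cons pextra8_248 (all_cons pextra8_249 (all_cons pextra8_250 (all_cons pextra8_251 (all_cons pextra8_252 (all_cons pextra8_253 (all_cons pextra8_254 (all_cons pextra8_255 (all_cons pextra8_256 (all_cons pextra8_257 (all_cons pextra8_258 (all_cons pextra8_259 (all_cons pextra8_260 (all_cons pextra8_261 (all_cons pextra8_262 (all_cons pextra8_263 (all_cons pextra8_264 (all_cons pextra8_265 (all_cons pextra8_266 (all_cons pextra8_267 (all_cons pextra8_268 (all_cons pextra8_269 (all_cons pextra8_270 (all_cons pextra8_271 (all_cons pextra8_272 (all_cons pextra8_273 (all_cons pextra8_274 (all_cons pextra8_275 (all_cons pextra8_276 (all_cons pextra8_277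 (all_cons pextra8_278 (all_cons pextra8_279 (all_cons pextra8_280 (all_cons pextra8_281 (all_cons pextra8_282 (all_cons pextra8_283 (all_cons pextra8_284 (all_cons pextra8_285 (all_cons pextra8_286 (all_cons pextra8_287 (all_cons pextra8_288 (all_cons pextra8_289 (all_cons pextra8_290 (all_cons pextra8_291 (all_cons pextra8_292 (all_cons pextra8_293 (all_cons pextra8_294 (all_cons pextra8_295 (all_cons pextra8_296 (all_cons pextra8_297 (all_cons pextra8_298 (all_cons pextra8_299 (all_nil))))))))))))))))))))))))))))))))))))))))))))))))))))))))))))))))))))))))))))))))))))))))))))))))))))))))))))))))))))))))))))))))))))))))))))))))))))))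

theorem pextra8_grp2 : ∀ c ∈ ([(1199400, 3998), (1203398, 3998), (1207396, 3998), (1211394, 3998), (1215392, 3998), (1219390, 3998), (1223388, 3998), (1227386, 3998), (1231384, 3998), (1235382, 3998), (1239380, 3998), (1243378, 3998), (1247376, 3998), (1251374, 3998), (1255372, 3998), (1259370, 3998), (1263368, 3998), (1267366, 3998), (1271364, 3998), (1275362, 3998), (1279360, 3998), (1283358, 3998), (1287356, 3998), (1291354, 3998), (1295352, 3998), (1299350, 3998), (1303348, 3998), (1307346, 3998), (1311344, 3998), (1315342, 3998), (1319340, 3998), (1323338, 3998), (1327336, 3998), (1331334, 3998), (1335332, 3998), (1339330, 3998), (1343328, 3998), (1347326, 3998), (1351324, 3998), (1355322, 3998), (1359320, 3998), (1363318, 3998), (1367316, 3998), (1371314, 3998), (1375312, 3998), (1379310, 3998), (1383308, 3998), (1387306, 3998), (1391304, 3998), (1395302, 3998), (1399300, 3998), (1403298, 3998), (1407296, 3998), (1411294, 3998), (1415292, 3998), (1419290, 3998), (1423288, 3998), (1427286, 3998), (1431284, 3998), (1435282, 3998), (1439280, 3998), (1443278, 3998), (1447276, 3998),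 (1451274, 3998), (1455272, 3998), (1459270, 3998), (1463268, 3998), (1467266, 3998), (1471264, 3998), (1475262, 3998), (1479260, 3998), (1483258, 3998), (1487256, 3998), (1491254, 3998), (1495252, 3998), (1499250, 3998), (1503248, 3998), (1507246, 3998), (1511244, 3998), (1515242, 3998), (1519240, 3998), (1523238, 3998), (1527236, 3998), (1531234, 3998), (1535232, 3768)] : List (ℕ × ℕ)), allR c.1 c.2 (fun q => Nat.beq ((fun q => f0 (f0 (f4 (f3 (f0 (f2 (f2 (f0 (f2 (f0 (f2 (f0 (f0 (f4 (f3 (f1 (f3 (f1 (f3 (f3 (f1 (f2 (f0 (f0 (q))))))))))))))))))))))))) q) ((fun q => q) q)) = true :=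
  all_cons pextra8_300 (all_cons pextra8_301 (all_cons pextra8_302 (all_cons pextra8_303 (all_cons pextra8_304 (all_cons pextra8_305 (all_cons pextra8_306 (all_cons pextra8_307 (all_cons pextra8_308 (all_cons pextra8_309 (all_cons pextra8_310 (all_cons pextra8_311 (all_cons pextra8_312 (all_cons pextra8_313 (all_cons pextra8_314 (all_cons pextra8_315 (all_cons pextra8_316 (all_cons pextra8_317 (all_cons pextra8_318 (all_cons pextra8_319 (all_cons pextra8_320 (all_cons pextra8_321 (all_cons pextra8_322 (all_cons pextra8_323 (all_cons pextra8_324 (all_cons pextra8_325 (all_cons pextra8_326 (all_cons pextra8_327 (all_cons pextra8_328 (all_cons pextra8_329 (all_cons pextra8_330 (all_cons pextra8_331 (all_cons pextra8_332 (all_cons pextra8_333 (all_cons pextra8_334 (all_cons pextra8_335 (all_cons pextra8_336 (all_cons pextra8_337 (all_cons pextra8_338 (all_cons pextra8_339 (all_cons pextra8_340 (all_cons pextra8_341 (all_cons pextra8_342 (all_cons pextra8_343 (all_cons pextra8_344 (all_cons pextra8_345 (all_cons pextra8_346 (all_cons pextra8_347 (all_cons pextra8_348 (all_cons pextra8_349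 (all_cons pextra8_350 (all_cons pextra8_351 (all_cons pextra8_352 (all_cons pextra8_353 (all_cons pextra8_354 (all_cons pextra8_355 (all_cons pextra8_356 (all_cons pextra8_357 (all_cons pextra8_358 (all_cons pextra8_359 (all_cons pextra8_360 (all_cons pextra8_361 (all_cons pextra8_362 (all_cons pextra8_363 (all_cons pextra8_364 (all_cons pextra8_365 (all_cons pextra8_366 (all_cons pextra8_367 (all_cons pextra8_368 (all_cons pextra8_369 (all_cons pextra8_370 (all_cons pextra8_371 (all_cons pextra8_372 (all_cons pextra8_373 (all_cons pextra8_374 (all_cons pextra8_375 (all_cons pextra8_376 (all_cons pextra8_377 (all_cons pextra8_378 (all_cons pextra8_379 (all_cons pextra8_380 (all_cons pextra8_381 (all_cons pextra8_382 (all_cons pextra8_383 (all_cons pextra8_384 (all_nil)))))))))))))))))))))))))))))))))))))))))))))))))))))))))))))))))))))))))))))))))))))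

/-- the further relator number 8 holds for the images of the letters -/
theorem pextra8 : ∀ q < 1539000, wordF WE8 q = (fun q => q) q :=
  eq_of_chunks (f := (fun q => f0 (f0 (f4 (f3 (f0 (f2 (f2 (f0 (f2 (f0 (f2 (f0 (f0 (f4 (f3 (f1 (f3 (f1 (f3 (f3 (f1 (f2 (f0 (f0 (q)))))))))))))))))))))))))) (g := (fun q => q)) ([(0, 3998), (3998, 3998), (7996, 3998), (11994, 3998), (15992, 3998), (19990, 3998), (23988, 3998), (27986, 3998), (31984, 3998), (35982, 3998), (39980, 3998), (43978, 3998), (47976, 3998), (51974, 3998), (55972, 3998), (59970, 3998), (63968, 3998), (67966, 3998), (71964, 3998), (75962, 3998), (79960, 3998), (83958, 3998), (87956, 3998), (91954, 3998), (95952, 3998), (99950, 3998), (103948, 3998), (107946, 3998), (111944, 3998), (115942, 3998), (119940, 3998), (123938, 3998), (127936, 3998), (131934, 3998), (135932, 3998), (139930, 3998), (143928, 3998), (147926, 3998), (151924, 3998), (155922, 3998), (159920, 3998), (163918, 3998), (167916, 3998), (171914, 3998), (175912, 3998), (179910, 3998), (183908, 3998), (187906, 3998), (191904, 3998), (195902, 3998), (199900, 3998), (203898,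 3998), (207896, 3998), (211894, 3998), (215892, 3998), (219890, 3998), (223888, 3998), (227886, 3998), (231884, 3998), (235882, 3998), (239880, 3998), (243878, 3998), (247876, 3998), (251874, 3998), (255872, 3998), (259870, 3998), (263868, 3998), (267866, 3998), (271864, 3998), (275862, 3998), (279860, 3998), (283858, 3998), (287856, 3998), (291854, 3998), (295852, 3998), (299850, 3998), (303848, 3998), (307846, 3998), (311844, 3998), (315842, 3998), (319840, 3998), (323838, 3998), (327836, 3998), (331834, 3998), (335832, 3998), (339830, 3998), (343828, 3998), (347826, 3998), (351824, 3998), (355822, 3998), (359820, 3998), (363818, 3998), (367816, 3998), (371814, 3998), (375812, 3998), (379810, 3998), (383808, 3998), (387806, 3998), (391804, 3998), (395802, 3998), (399800, 3998), (403798, 3998), (407796, 3998), (411794, 3998), (415792, 3998), (419790, 3998), (423788, 3998), (427786, 3998), (431784, 3998), (435782, 3998), (439780, 3998), (443778, 3998), (447776, 3998), (451774, 3998), (455772, 3998), (459770, 3998), (463768, 3998), (467766, 3998), (471764, 3998), (475762, 3998), (479760,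 3998), (483758, 3998), (487756, 3998), (491754, 3998), (495752, 3998), (499750, 3998), (503748, 3998), (507746, 3998), (511744, 3998), (515742, 3998), (519740, 3998), (523738, 3998), (527736, 3998), (531734, 3998), (535732, 3998), (539730, 3998), (543728, 3998), (547726, 3998), (551724, 3998), (555722, 3998), (559720, 3998), (563718, 3998), (567716, 3998), (571714, 3998), (575712, 3998), (579710, 3998), (583708, 3998), (587706, 3998), (591704, 3998), (595702, 3998)] ++ [(599700, 3998), (603698, 3998), (607696, 3998), (611694, 3998), (615692, 3998), (619690, 3998), (623688, 3998), (627686, 3998), (631684, 3998), (635682, 3998), (639680, 3998), (643678, 3998), (647676, 3998), (651674, 3998), (655672, 3998), (659670, 3998), (663668, 3998), (667666, 3998), (671664, 3998), (675662, 3998), (679660, 3998), (683658, 3998), (687656, 3998), (691654, 3998), (695652, 3998), (699650, 3998), (703648, 3998), (707646, 3998), (711644, 3998), (715642, 3998), (719640, 3998), (723638, 3998), (727636, 3998), (731634, 3998), (735632, 3998), (739630, 3998), (743628, 3998), (747626, 3998), (751624, 3998), (755622,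 3998), (759620, 3998), (763618, 3998), (767616, 3998), (771614, 3998), (775612, 3998), (779610, 3998), (783608, 3998), (787606, 3998), (791604, 3998), (795602, 3998), (799600, 3998), (803598, 3998), (807596, 3998), (811594, 3998), (815592, 3998), (819590, 3998), (823588, 3998), (827586, 3998), (831584, 3998), (835582, 3998), (839580, 3998), (843578, 3998), (847576, 3998), (851574, 3998), (855572, 3998), (859570, 3998), (863568, 3998), (867566, 3998), (871564, 3998), (875562, 3998), (879560, 3998), (883558, 3998), (887556, 3998), (891554, 3998), (895552, 3998), (899550, 3998), (903548, 3998), (907546, 3998), (911544, 3998), (915542, 3998), (919540, 3998), (923538, 3998), (927536, 3998), (931534, 3998), (935532, 3998), (939530, 3998), (943528, 3998), (947526, 3998), (951524, 3998), (955522, 3998), (959520, 3998), (963518, 3998), (967516, 3998), (971514, 3998), (975512, 3998), (979510, 3998), (983508, 3998), (987506, 3998), (991504, 3998), (995502, 3998), (999500, 3998), (1003498, 3998), (1007496, 3998), (1011494, 3998), (1015492, 3998), (1019490, 3998), (1023488, 3998), (1027486, 3998),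 (1031484, 3998), (1035482, 3998), (1039480, 3998), (1043478, 3998), (1047476, 3998), (1051474, 3998), (1055472, 3998), (1059470, 3998), (1063468, 3998), (1067466, 3998), (1071464, 3998), (1075462, 3998), (1079460, 3998), (1083458, 3998), (1087456, 3998), (1091454, 3998), (1095452, 3998), (1099450, 3998), (1103448, 3998), (1107446, 3998), (1111444, 3998), (1115442, 3998), (1119440, 3998), (1123438, 3998), (1127436, 3998), (1131434, 3998), (1135432, 3998), (1139430, 3998), (1143428, 3998), (1147426, 3998), (1151424, 3998), (1155422, 3998), (1159420, 3998), (1163418, 3998), (1167416, 3998), (1171414, 3998), (1175412, 3998), (1179410, 3998), (1183408, 3998), (1187406, 3998), (1191404, 3998), (1195402, 3998)] ++ [(1199400, 3998), (1203398, 3998), (1207396, 3998), (1211394, 3998), (1215392, 3998), (1219390, 3998), (1223388, 3998), (1227386, 3998), (1231384, 3998), (1235382, 3998), (1239380, 3998), (1243378, 3998), (1247376, 3998), (1251374, 3998), (1255372, 3998), (1259370, 3998), (1263368, 3998), (1267366, 3998), (1271364, 3998), (1275362, 3998), (1279360, 3998), (1283358, 3998), (1287356,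 3998), (1291354, 3998), (1295352, 3998), (1299350, 3998), (1303348, 3998), (1307346, 3998), (1311344, 3998), (1315342, 3998), (1319340, 3998), (1323338, 3998), (1327336, 3998), (1331334, 3998), (1335332, 3998), (1339330, 3998), (1343328, 3998), (1347326, 3998), (1351324, 3998), (1355322, 3998), (1359320, 3998), (1363318, 3998), (1367316, 3998), (1371314, 3998), (1375312, 3998), (1379310, 3998), (1383308, 3998), (1387306, 3998), (1391304, 3998), (1395302, 3998), (1399300, 3998), (1403298, 3998), (1407296, 3998), (1411294, 3998), (1415292, 3998), (1419290, 3998), (1423288, 3998), (1427286, 3998), (1431284, 3998), (1435282, 3998), (1439280, 3998), (1443278, 3998), (1447276, 3998), (1451274, 3998), (1455272, 3998), (1459270, 3998), (1463268, 3998), (1467266, 3998), (1471264, 3998), (1475262, 3998), (1479260, 3998), (1483258, 3998), (1487256, 3998), (1491254, 3998), (1495252, 3998), (1499250, 3998), (1503248, 3998), (1507246, 3998), (1511244, 3998), (1515242, 3998), (1519240, 3998), (1523238, 3998), (1527236, 3998), (1531234, 3998), (1535232, 3768)]) (by decide +kernel) (all_append (all_append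 (pextra8_grp0) pextra8_grp1) pextra8_grp2)

end Cfsg.Agent.HNOut
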