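import Cfsg.Agent.Lib.Lead.HNOut.D0
import Cfsg.Agent.Lib.Lead.HNOut.D1
import Cfsg.Agent.Lib.Lead.HNOut.D2
import Cfsg.Agent.Lib.Lead.HNOut.D3
import Cfsg.Agent.Lib.Lead.HNOut.D4
import Cfsg.Agent.Lib.Lead.HNOut.D6
import Cfsg.Agent.Lib.Lead.HNOut.D7

/-! # The outer automorphism group of the Harada–Norton group: the further relator number 9 for the images of the letters, a part (generated) -/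

set_option autoImplicit false
set_option maxRecDepth 100000

namespace Cfsg.Agent.HNOut

open Cfsg.Agent.PF Cfsg.Agent.Lib.Helper6 Cfsg.Agent.Lib.Helper6.TC Cfsg.Agent.Lib.Helper6.NatArr
open Cfsg.Agent.PL (Acts evalF)

theorem pextra9_25 : allR 43100 1724 (fun q => Nat.beq ((fun q => f0 (f0 (f4 (f2 (f0 (f2 (f0 (f2 (f2 (f2 (f0 (f0 (f4 (f3 (f3 (f3 (f1 (f3 (f1 (f3 (f1 (f2 (f0 (f2 (f0 (f2 (f2 (f2 (f0 (f0 (f4 (f3 (f3 (f3 (f1 (f3 (f1 (f3 (f1 (f2 (f0 (f2 (f0 (f2 (f2 (f2 (f0 (f0 (f4 (f3 (f3 (f3 (f1 (f3 (f1 (f3 (f1 (q)))))))))))))))))))))))))))))))))))))))))))))))))))))))))) q) ((fun q => q) q)) = true := by decide +kernel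

theorem pextra9_26 : allR 44824 1724 (fun q => Nat.beq ((fun q => f0 (f0 (f4 (f2 (f0 (f2 (f0 (f2 (f2 (f2 (f0 (f0 (f4 (f3 (f3 (f3 (f1 (f3 (f1 (f3 (f1 (f2 (f0 (f2 (f0 (f2 (f2 (f2 (f0 (f0 (f4 (f3 (f3 (f3 (f1 (f3 (f1 (f3 (f1 (f2 (f0 (f2 (f0 (f2 (f2 (f2 (f0 (f0 (f4 (f3 (f3 (f3 (f1 (f3 (f1 (f3 (f1 (q)))))))))))))))))))))))))))))))))))))))))))))))))))))))))) q) ((fun q => q) q)) = true := by decide +kernel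

theorem pextra9_27 : allR 46548 1724 (fun q => Nat.beq ((fun q => f0 (f0 (f4 (f2 (f0 (f2 (f0 (f2 (f2 (f2 (f0 (f0 (f4 (f3 (f3 (f3 (f1 (f3 (f1 (f3 (f1 (f2 (f0 (f2 (f0 (f2 (f2 (f2 (f0 (f0 (f4 (f3 (f3 (f3 (f1 (f3 (f1 (f3 (f1 (f2 (f0 (f2 (f0 (f2 (f2 (f2 (f0 (f0 (f4 (f3 (f3 (f3 (f1 (f3 (f1 (f3 (f1 (q)))))))))))))))))))))))))))))))))))))))))))))))))))))))))) q) ((fun q => q) q)) = true := by decide +kernel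

theorem pextra9_28 : allR 48272 1724 (fun q => Nat.beq ((fun q => f0 (f0 (f4 (f2 (f0 (f2 (f0 (f2 (f2 (f2 (f0 (f0 (f4 (f3 (f3 (f3 (f1 (f3 (f1 (f3 (f1 (f2 (f0 (f2 (f0 (f2 (f2 (f2 (f0 (f0 (f4 (f3 (f3 (f3 (f1 (f3 (f1 (f3 (f1 (f2 (f0 (f2 (f0 (f2 (f2 (f2 (f0 (f0 (f4 (f3 (f3 (f3 (f1 (f3 (f1 (f3 (f1 (q)))))))))))))))))))))))))))))))))))))))))))))))))))))))))) q) ((fun q => q) q)) = true := by decide +kernel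

theorem pextra9_29 : allR 49996 1724 (fun q => Nat.beq ((fun q => f0 (f0 (f4 (f2 (f0 (f2 (f0 (f2 (f2 (f2 (f0 (f0 (f4 (f3 (f3 (f3 (f1 (f3 (f1 (f3 (f1 (f2 (f0 (f2 (f0 (f2 (f2 (f2 (f0 (f0 (f4 (f3 (f3 (f3 (f1 (f3 (f1 (f3 (f1 (f2 (f0 (f2 (f0 (f2 (f2 (f2 (f0 (f0 (f4 (f3 (f3 (f3 (f1 (f3 (f1 (f3 (f1 (q)))))))))))))))))))))))))))))))))))))))))))))))))))))))))) q) ((fun q => q) q)) = true := by decide +kernel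

theorem pextra9_30 : allR 51720 1724 (fun q => Nat.beq ((fun q => f0 (f0 (f4 (f2 (f0 (f2 (f0 (f2 (f2 (f2 (f0 (f0 (f4 (f3 (f3 (f3 (f1 (f3 (f1 (f3 (f1 (f2 (f0 (f2 (f0 (f2 (f2 (f2 (f0 (f0 (f4 (f3 (f3 (f3 (f1 (f3 (f1 (f3 (f1 (f2 (f0 (f2 (f0 (f2 (f2 (f2 (f0 (f0 (f4 (f3 (f3 (f3 (f1 (f3 (f1 (f3 (f1 (q)))))))))))))))))))))))))))))))))))))))))))))))))))))))))) q) ((fun q => q) q)) = true := by decide +kernel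

theorem pextra9_31 : allR 53444 1724 (fun q => Nat.beq ((fun q => f0 (f0 (f4 (f2 (f0 (f2 (f0 (f2 (f2 (f2 (f0 (f0 (f4 (f3 (f3 (f3 (f1 (f3 (f1 (f3 (f1 (f2 (f0 (f2 (f0 (f2 (f2 (f2 (f0 (f0 (f4 (f3 (f3 (f3 (f1 (f3 (f1 (f3 (f1 (f2 (f0 (f2 (f0 (f2 (f2 (f2 (f0 (f0 (f4 (f3 (f3 (f3 (f1 (f3 (f1 (f3 (f1 (q)))))))))))))))))))))))))))))))))))))))))))))))))))))))))) q) ((fun q => q) q)) = true := by decide +kernel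

theorem pextra9_32 : allR 55168 1724 (fun q => Nat.beq ((fun q => f0 (f0 (f4 (f2 (f0 (f2 (f0 (f2 (f2 (f2 (f0 (f0 (f4 (f3 (f3 (f3 (f1 (f3 (f1 (f3 (f1 (f2 (f0 (f2 (f0 (f2 (f2 (f2 (f0 (f0 (f4 (f3 (f3 (f3 (f1 (f3 (f1 (f3 (f1 (f2 (f0 (f2 (f0 (f2 (f2 (f2 (f0 (f0 (f4 (f3 (f3 (f3 (f1 (f3 (f1 (f3 (f1 (q)))))))))))))))))))))))))))))))))))))))))))))))))))))))))) q) ((fun q => q) q)) = true := by decide +kernel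

theorem pextra9_33 : allR 56892 1724 (fun q => Nat.beq ((fun q => f0 (f0 (f4 (f2 (f0 (f2 (f0 (f2 (f2 (f2 (f0 (f0 (f4 (f3 (f3 (f3 (f1 (f3 (f1 (f3 (f1 (f2 (f0 (f2 (f0 (f2 (f2 (f2 (f0 (f0 (f4 (f3 (f3 (f3 (f1 (f3 (f1 (f3 (f1 (f2 (f0 (f2 (f0 (f2 (f2 (f2 (f0 (f0 (f4 (f3 (f3 (f3 (f1 (f3 (f1 (f3 (f1 (q)))))))))))))))))))))))))))))))))))))))))))))))))))))))))) q) ((fun q => q) q)) = true := by decide +kernel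

theorem pextra9_34 : allR 58616 1724 (fun q => Nat.beq ((fun q => f0 (f0 (f4 (f2 (f0 (f2 (f0 (f2 (f2 (f2 (f0 (f0 (f4 (f3 (f3 (f3 (f1 (f3 (f1 (f3 (f1 (f2 (f0 (f2 (f0 (f2 (f2 (f2 (f0 (f0 (f4 (f3 (f3 (f3 (f1 (f3 (f1 (f3 (f1 (f2 (f0 (f2 (f0 (f2 (f2 (f2 (f0 (f0 (f4 (f3 (f3 (f3 (f1 (f3 (f1 (f3 (f1 (q)))))))))))))))))))))))))))))))))))))))))))))))))))))))))) q) ((fun q => q) q)) = true := by decide +kernel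

theorem pextra9_35 : allR 60340 1724 (fun q => Nat.beq ((fun q => f0 (f0 (f4 (f2 (f0 (f2 (f0 (f2 (f2 (f2 (f0 (f0 (f4 (f3 (f3 (f3 (f1 (f3 (f1 (f3 (f1 (f2 (f0 (f2 (f0 (f2 (f2 (f2 (f0 (f0 (f4 (f3 (f3 (f3 (f1 (f3 (f1 (f3 (f1 (f2 (f0 (f2 (f0 (f2 (f2 (f2 (f0 (f0 (f4 (f3 (f3 (f3 (f1 (f3 (f1 (f3 (f1 (q)))))))))))))))))))))))))))))))))))))))))))))))))))))))))) q) ((fun q => q) q)) = true := by decide +kernel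

theorem pextra9_36 : allR 62064 1724 (fun q => Nat.beq ((fun q => f0 (f0 (f4 (f2 (f0 (f2 (f0 (f2 (f2 (f2 (f0 (f0 (f4 (f3 (f3 (f3 (f1 (f3 (f1 (f3 (f1 (f2 (f0 (f2 (f0 (f2 (f2 (f2 (f0 (f0 (f4 (f3 (f3 (f3 (f1 (f3 (f1 (f3 (f1 (f2 (f0 (f2 (f0 (f2 (f2 (f2 (f0 (f0 (f4 (f3 (f3 (f3 (f1 (f3 (f1 (f3 (f1 (q)))))))))))))))))))))))))))))))))))))))))))))))))))))))))) q) ((fun q => q) q)) = true := by decide +kernel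

theorem pextra9_37 : allR 63788 1724 (fun q => Nat.beq ((fun q => f0 (f0 (f4 (f2 (f0 (f2 (f0 (f2 (f2 (f2 (f0 (f0 (f4 (f3 (f3 (f3 (f1 (f3 (f1 (f3 (f1 (f2 (f0 (f2 (f0 (f2 (f2 (f2 (f0 (f0 (f4 (f3 (f3 (f3 (f1 (f3 (f1 (f3 (f1 (f2 (f0 (f2 (f0 (f2 (f2 (f2 (f0 (f0 (f4 (f3 (f3 (f3 (f1 (f3 (f1 (f3 (f1 (q)))))))))))))))))))))))))))))))))))))))))))))))))))))))))) q) ((fun q => q) q)) = true := by decide +kernel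

theorem pextra9_38 : allR 65512 1724 (fun q => Nat.beq ((fun q => f0 (f0 (f4 (f2 (f0 (f2 (f0 (f2 (f2 (f2 (f0 (f0 (f4 (f3 (f3 (f3 (f1 (f3 (f1 (f3 (f1 (f2 (f0 (f2 (f0 (f2 (f2 (f2 (f0 (f0 (f4 (f3 (f3 (f3 (f1 (f3 (f1 (f3 (f1 (f2 (f0 (f2 (f0 (f2 (f2 (f2 (f0 (f0 (f4 (f3 (f3 (f3 (f1 (f3 (f1 (f3 (f1 (q)))))))))))))))))))))))))))))))))))))))))))))))))))))))))) q) ((fun q => q) q)) = true := by decide +kernel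

theorem pextra9_39 : allR 67236 1724 (fun q => Nat.beq ((fun q => f0 (f0 (f4 (f2 (f0 (f2 (f0 (f2 (f2 (f2 (f0 (f0 (f4 (f3 (f3 (f3 (f1 (f3 (f1 (f3 (f1 (f2 (f0 (f2 (f0 (f2 (f2 (f2 (f0 (f0 (f4 (f3 (f3 (f3 (f1 (f3 (f1 (f3 (f1 (f2 (f0 (f2 (f0 (f2 (f2 (f2 (f0 (f0 (f4 (f3 (f3 (f3 (f1 (f3 (f1 (f3 (f1 (q)))))))))))))))))))))))))))))))))))))))))))))))))))))))))) q) ((fun q => q) q)) = true := by decide +kernel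

theorem pextra9_40 : allR 68960 1724 (fun q => Nat.beq ((fun q => f0 (f0 (f4 (f2 (f0 (f2 (f0 (f2 (f2 (f2 (f0 (f0 (f4 (f3 (f3 (f3 (f1 (f3 (f1 (f3 (f1 (f2 (f0 (f2 (f0 (f2 (f2 (f2 (f0 (f0 (f4 (f3 (f3 (f3 (f1 (f3 (f1 (f3 (f1 (f2 (f0 (f2 (f0 (f2 (f2 (f2 (f0 (f0 (f4 (f3 (f3 (f3 (f1 (f3 (f1 (f3 (f1 (q)))))))))))))))))))))))))))))))))))))))))))))))))))))))))) q) ((fun q => q) q)) = true := by decide +kernel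

theorem pextra9_41 : allR 70684 1724 (fun q => Nat.beq ((fun q => f0 (f0 (f4 (f2 (f0 (f2 (f0 (f2 (f2 (f2 (f0 (f0 (f4 (f3 (f3 (f3 (f1 (f3 (f1 (f3 (f1 (f2 (f0 (f2 (f0 (f2 (f2 (f2 (f0 (f0 (f4 (f3 (f3 (f3 (f1 (f3 (f1 (f3 (f1 (f2 (f0 (f2 (f0 (f2 (f2 (f2 (f0 (f0 (f4 (f3 (f3 (f3 (f1 (f3 (f1 (f3 (f1 (q)))))))))))))))))))))))))))))))))))))))))))))))))))))))))) q) ((fun q => q) q)) = true := by decide +kernel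

theorem pextra9_42 : allR 72408 1724 (fun q => Nat.beq ((fun q => f0 (f0 (f4 (f2 (f0 (f2 (f0 (f2 (f2 (f2 (f0 (f0 (f4 (f3 (f3 (f3 (f1 (f3 (f1 (f3 (f1 (f2 (f0 (f2 (f0 (f2 (f2 (f2 (f0 (f0 (f4 (f3 (f3 (f3 (f1 (f3 (f1 (f3 (f1 (f2 (f0 (f2 (f0 (f2 (f2 (f2 (f0 (f0 (f4 (f3 (f3 (f3 (f1 (f3 (f1 (f3 (f1 (q)))))))))))))))))))))))))))))))))))))))))))))))))))))))))) q) ((fun q => q) q)) = true := by decide +kernel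

theorem pextra9_43 : allR 74132 1724 (fun q => Nat.beq ((fun q => f0 (f0 (f4 (f2 (f0 (f2 (f0 (f2 (f2 (f2 (f0 (f0 (f4 (f3 (f3 (f3 (f1 (f3 (f1 (f3 (f1 (f2 (f0 (f2 (f0 (f2 (f2 (f2 (f0 (f0 (f4 (f3 (f3 (f3 (f1 (f3 (f1 (f3 (f1 (f2 (f0 (f2 (f0 (f2 (f2 (f2 (f0 (f0 (f4 (f3 (f3 (f3 (f1 (f3 (f1 (f3 (f1 (q)))))))))))))))))))))))))))))))))))))))))))))))))))))))))) q) ((fun q => q) q)) = true := by decide +kernel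

theorem pextra9_44 : allR 75856 1724 (fun q => Nat.beq ((fun q => f0 (f0 (f4 (f2 (f0 (f2 (f0 (f2 (f2 (f2 (f0 (f0 (f4 (f3 (f3 (f3 (f1 (f3 (f1 (f3 (f1 (f2 (f0 (f2 (f0 (f2 (f2 (f2 (f0 (f0 (f4 (f3 (f3 (f3 (f1 (f3 (f1 (f3 (f1 (f2 (f0 (f2 (f0 (f2 (f2 (f2 (f0 (f0 (f4 (f3 (f3 (f3 (f1 (f3 (f1 (f3 (f1 (q)))))))))))))))))))))))))))))))))))))))))))))))))))))))))) q) ((fun q => q) q)) = true := by decide +kernel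

theorem pextra9_45 : allR 77580 1724 (fun q => Nat.beq ((fun q => f0 (f0 (f4 (f2 (f0 (f2 (f0 (f2 (f2 (f2 (f0 (f0 (f4 (f3 (f3 (f3 (f1 (f3 (f1 (f3 (f1 (f2 (f0 (f2 (f0 (f2 (f2 (f2 (f0 (f0 (f4 (f3 (f3 (f3 (f1 (f3 (f1 (f3 (f1 (f2 (f0 (f2 (f0 (f2 (f2 (f2 (f0 (f0 (f4 (f3 (f3 (f3 (f1 (f3 (f1 (f3 (f1 (q)))))))))))))))))))))))))))))))))))))))))))))))))))))))))) q) ((fun q => q) q)) = true := by decide +kernel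

theorem pextra9_46 : allR 79304 1724 (fun q => Nat.beq ((fun q => f0 (f0 (f4 (f2 (f0 (f2 (f0 (f2 (f2 (f2 (f0 (f0 (f4 (f3 (f3 (f3 (f1 (f3 (f1 (f3 (f1 (f2 (f0 (f2 (f0 (f2 (f2 (f2 (f0 (f0 (f4 (f3 (f3 (f3 (f1 (f3 (f1 (f3 (f1 (f2 (f0 (f2 (f0 (f2 (f2 (f2 (f0 (f0 (f4 (f3 (f3 (f3 (f1 (f3 (f1 (f3 (f1 (q)))))))))))))))))))))))))))))))))))))))))))))))))))))))))) q) ((fun q => q) q)) = true := by decide +kernel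

theorem pextra9_47 : allR 81028 1724 (fun q => Nat.beq ((fun q => f0 (f0 (f4 (f2 (f0 (f2 (f0 (f2 (f2 (f2 (f0 (f0 (f4 (f3 (f3 (f3 (f1 (f3 (f1 (f3 (f1 (f2 (f0 (f2 (f0 (f2 (f2 (f2 (f0 (f0 (f4 (f3 (f3 (f3 (f1 (f3 (f1 (f3 (f1 (f2 (f0 (f2 (f0 (f2 (f2 (f2 (f0 (f0 (f4 (f3 (f3 (f3 (f1 (f3 (f1 (f3 (f1 (q)))))))))))))))))))))))))))))))))))))))))))))))))))))))))) q) ((fun q => q) q)) = true := by decide +kernel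

theorem pextra9_48 : allR 82752 1724 (fun q => Nat.beq ((fun q => f0 (f0 (f4 (f2 (f0 (f2 (f0 (f2 (f2 (f2 (f0 (f0 (f4 (f3 (f3 (f3 (f1 (f3 (f1 (f3 (f1 (f2 (f0 (f2 (f0 (f2 (f2 (f2 (f0 (f0 (f4 (f3 (f3 (f3 (f1 (f3 (f1 (f3 (f1 (f2 (f0 (f2 (f0 (f2 (f2 (f2 (f0 (f0 (f4 (f3 (f3 (f3 (f1 (f3 (f1 (f3 (f1 (q)))))))))))))))))))))))))))))))))))))))))))))))))))))))))) q) ((fun q => q) q)) = true := by decide +kernel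

theorem pextra9_49 : allR 84476 1724 (fun q => Nat.beq ((fun q => f0 (f0 (f4 (f2 (f0 (f2 (f0 (f2 (f2 (f2 (f0 (f0 (f4 (f3 (f3 (f3 (f1 (f3 (f1 (f3 (f1 (f2 (f0 (f2 (f0 (f2 (f2 (f2 (f0 (f0 (f4 (f3 (f3 (f3 (f1 (f3 (f1 (f3 (f1 (f2 (f0 (f2 (f0 (f2 (f2 (f2 (f0 (f0 (f4 (f3 (f3 (f3 (f1 (f3 (f1 (f3 (f1 (q)))))))))))))))))))))))))))))))))))))))))))))))))))))))))) q) ((fun q => q) q)) = true := by decide +kernel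


end Cfsg.Agent.HNOut
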