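import Cfsg.Agent.Lib.Lead.HNOut.TauExtra9x0
import Cfsg.Agent.Lib.Lead.HNOut.TauExtra9x1
import Cfsg.Agent.Lib.Lead.HNOut.TauExtra9x2
import Cfsg.Agent.Lib.Lead.HNOut.TauExtra9x3
import Cfsg.Agent.Lib.Lead.HNOut.TauExtra9x4
import Cfsg.Agent.Lib.Lead.HNOut.TauExtra9x5
import Cfsg.Agent.Lib.Lead.HNOut.TauExtra9x6
import Cfsg.Agent.Lib.Lead.HNOut.TauExtra9x7
import Cfsg.Agent.Lib.Lead.HNOut.TauExtra9x8
import Cfsg.Agent.Lib.Lead.HNOut.TauExtra9x9
import Cfsg.Agent.Lib.Lead.HNOut.TauExtra9x10
import Cfsg.Agent.Lib.Lead.HNOut.TauExtra9x11
import Cfsg.Agent.Lib.Lead.HNOut.TauExtra9x12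
import Cfsg.Agent.Lib.Lead.HNOut.TauExtra9x13
import Cfsg.Agent.Lib.Lead.HNOut.TauExtra9x14
import Cfsg.Agent.Lib.Lead.HNOut.TauExtra9x15
import Cfsg.Agent.Lib.Lead.HNOut.TauExtra9x16
import Cfsg.Agent.Lib.Lead.HNOut.TauExtra9x17
import Cfsg.Agent.Lib.Lead.HNOut.TauExtra9x18
import Cfsg.Agent.Lib.Lead.HNOut.TauExtra9x19
import Cfsg.Agent.Lib.Lead.HNOut.TauExtra9x20
import Cfsg.Agent.Lib.Lead.HNOut.TauExtra9x21
import Cfsg.Agent.Lib.Lead.HNOut.TauExtra9x22
import Cfsg.Agent.Lib.Lead.HNOut.TauExtra9x23
import Cfsg.Agent.Lib.Lead.HNOut.TauExtra9x24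
import Cfsg.Agent.Lib.Lead.HNOut.TauExtra9x25
import Cfsg.Agent.Lib.Lead.HNOut.TauExtra9x26
import Cfsg.Agent.Lib.Lead.HNOut.TauExtra9x27
import Cfsg.Agent.Lib.Lead.HNOut.TauExtra9x28
import Cfsg.Agent.Lib.Lead.HNOut.TauExtra9x29
import Cfsg.Agent.Lib.Lead.HNOut.TauExtra9x30
import Cfsg.Agent.Lib.Lead.HNOut.TauExtra9x31
import Cfsg.Agent.Lib.Lead.HNOut.TauExtra9x32
import Cfsg.Agent.Lib.Lead.HNOut.TauExtra9x33
import Cfsg.Agent.Lib.Lead.HNOut.TauExtra9x34
import Cfsg.Agent.Lib.Lead.HNOut.TauExtra9x35
import Cfsg.Agent.Lib.Lead.HNOut.DP

/-! # The outer automorphism group of the Harada–Norton group: the further relator number 9 for the images of the letters (generated) -/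

set_option autoImplicit false
set_option maxRecDepth 100000

namespace Cfsg.Agent.HNOut

open Cfsg.Agent.PF Cfsg.Agent.Lib.Helper6 Cfsg.Agent.Lib.Helper6.TC Cfsg.Agent.Lib.Helper6.NatArr
open Cfsg.Agent.PL (Acts evalF)

/-- the images of the letters of the relator -/
noncomputable def WE9 : List (ℕ → ℕ) := [p4, p3, p1, p3, p1, p3, p3, p3, p4, p2, p2, p2, p0, p2, p0, p2, p0, p3, p1, p3, p1, p3, p3, p3, p4, p2, p2, p2, p0, p2, p0, p2, p0, p3, p1, p3, p1, p3, p3, p3, p4, p2, p2, p2, p0, p2, p0, p2, p0]

theorem pextra9_grp0 : ∀ c ∈ ([(0, 1724), (1724, 1724), (3448, 1724), (5172, 1724), (6896, 1724), (8620, 1724), (10344, 1724), (12068, 1724), (13792, 1724), (15516, 1724), (17240, 1724), (18964, 1724), (20688, 1724), (22412, 1724), (24136, 1724), (25860, 1724), (27584, 1724), (29308, 1724), (31032, 1724), (32756, 1724), (34480, 1724), (36204, 1724), (37928, 1724), (39652, 1724), (41376, 1724), (43100, 1724), (44824, 1724), (46548, 1724), (48272, 1724), (49996, 1724), (51720, 1724), (53444, 1724), (55168, 1724), (56892, 1724), (58616, 1724), (60340, 1724), (62064, 1724), (63788,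 1724), (65512, 1724), (67236, 1724), (68960, 1724), (70684, 1724), (72408, 1724), (74132, 1724), (75856, 1724), (77580, 1724), (79304, 1724), (81028, 1724), (82752, 1724), (84476, 1724), (86200, 1724), (87924, 1724), (89648, 1724), (91372, 1724), (93096, 1724), (94820, 1724), (96544, 1724), (98268, 1724), (99992, 1724), (101716, 1724), (103440, 1724), (105164, 1724), (106888, 1724), (108612, 1724), (110336, 1724), (112060, 1724), (113784, 1724), (115508, 1724), (117232, 1724), (118956, 1724), (120680, 1724), (122404, 1724), (124128, 1724), (125852, 1724), (127576, 1724), (129300, 1724), (131024, 1724), (132748, 1724), (134472, 1724), (136196, 1724), (137920, 1724), (139644, 1724), (141368, 1724), (143092, 1724), (144816, 1724), (146540, 1724), (148264, 1724), (149988, 1724), (151712, 1724), (153436, 1724), (155160, 1724), (156884, 1724), (158608, 1724), (160332, 1724), (162056, 1724), (163780, 1724), (165504, 1724), (167228, 1724), (168952, 1724), (170676, 1724), (172400, 1724), (174124, 1724), (175848, 1724), (177572, 1724), (179296, 1724), (181020, 1724), (182744, 1724), (184468,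 1724), (186192, 1724), (187916, 1724), (189640, 1724), (191364, 1724), (193088, 1724), (194812, 1724), (196536, 1724), (198260, 1724), (199984, 1724), (201708, 1724), (203432, 1724), (205156, 1724), (206880, 1724), (208604, 1724), (210328, 1724), (212052, 1724), (213776, 1724), (215500, 1724), (217224, 1724), (218948, 1724), (220672, 1724), (222396, 1724), (224120, 1724), (225844, 1724), (227568, 1724), (229292, 1724), (231016, 1724), (232740, 1724), (234464, 1724), (236188, 1724), (237912, 1724), (239636, 1724), (241360, 1724), (243084, 1724), (244808, 1724), (246532, 1724), (248256, 1724), (249980, 1724), (251704, 1724), (253428, 1724), (255152, 1724), (256876, 1724)] : List (ℕ × ℕ)), allR c.1 c.2 (fun q => Nat.beq ((fun q => f0 (f0 (f4 (f2 (f0 (f2 (f0 (f2 (f2 (f2 (f0 (f0 (f4 (f3 (f3 (f3 (f1 (f3 (f1 (f3 (f1 (f2 (f0 (f2 (f0 (f2 (f2 (f2 (f0 (f0 (f4 (f3 (f3 (f3 (f1 (f3 (f1 (f3 (f1 (f2 (f0 (f2 (f0 (f2 (f2 (f2 (f0 (f0 (f4 (f3 (f3 (f3 (f1 (f3 (f1 (f3 (f1 (q)))))))))))))))))))))))))))))))))))))))))))))))))))))))))) q) ((fun q => q) q)) = true :=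
  all_cons pextra9_0 (all_cons pextra9_1 (all_cons pextra9_2 (all_cons pextra9_3 (all_cons pextra9_4 (all_cons pextra9_5 (all_cons pextra9_6 (all_cons pextra9_7 (all_cons pextra9_8 (all_cons pextra9_9 (all_cons pextra9_10 (all_cons pextra9_11 (all_cons pextra9_12 (all_cons pextra9_13 (all_cons pextra9_14 (all_cons pextra9_15 (all_cons pextra9_16 (all_cons pextra9_17 (all_cons pextra9_18 (all_cons pextra9_19 (all_cons pextra9_20 (all_cons pextra9_21 (all_cons pextra9_22 (all_cons pextra9_23 (all_cons pextra9_24 (all_cons pextra9_25 (all_cons pextra9_26 (all_cons pextra9_27 (all_cons pextra9_28 (all_cons pextra9_29 (all_cons pextra9_30 (all_cons pextra9_31 (all_cons pextra9_32 (all_cons pextra9_33 (all_cons pextra9_34 (all_cons pextra9_35 (all_cons pextra9_36 (all_cons pextra9_37 (all_cons pextra9_38 (all_cons pextra9_39 (all_cons pextra9_40 (all_cons pextra9_41 (all_cons pextra9_42 (all_cons pextra9_43 (all_cons pextra9_44 (all_cons pextra9_45 (all_cons pextra9_46 (all_cons pextra9_47 (all_cons pextra9_48 (all_cons pextra9_49 (all_cons pextra9_50 (all_cons pextra9_51 (all_cons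 pextra9_52 (all_cons pextra9_53 (all_cons pextra9_54 (all_cons pextra9_55 (all_cons pextra9_56 (all_cons pextra9_57 (all_cons pextra9_58 (all_cons pextra9_59 (all_cons pextra9_60 (all_cons pextra9_61 (all_cons pextra9_62 (all_cons pextra9_63 (all_cons pextra9_64 (all_cons pextra9_65 (all_cons pextra9_66 (all_cons pextra9_67 (all_cons pextra9_68 (all_cons pextra9_69 (all_cons pextra9_70 (all_cons pextra9_71 (all_cons pextra9_72 (all_cons pextra9_73 (all_cons pextra9_74 (all_cons pextra9_75 (all_cons pextra9_76 (all_cons pextra9_77 (all_cons pextra9_78 (all_cons pextra9_79 (all_cons pextra9_80 (all_cons pextra9_81 (all_cons pextra9_82 (all_cons pextra9_83 (all_cons pextra9_84 (all_cons pextra9_85 (all_cons pextra9_86 (all_cons pextra9_87 (all_cons pextra9_88 (all_cons pextra9_89 (all_cons pextra9_90 (all_cons pextra9_91 (all_cons pextra9_92 (all_cons pextra9_93 (all_cons pextra9_94 (all_cons pextra9_95 (all_cons pextra9_96 (all_cons pextra9_97 (all_cons pextra9_98 (all_cons pextra9_99 (all_cons pextra9_100 (all_cons pextra9_101 (all_cons pextra9_102 (all_cons pextra9_103 (all_cons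 pextra9_104 (all_cons pextra9_105 (all_cons pextra9_106 (all_cons pextra9_107 (all_cons pextra9_108 (all_cons pextra9_109 (all_cons pextra9_110 (all_cons pextra9_111 (all_cons pextra9_112 (all_cons pextra9_113 (all_cons pextra9_114 (all_cons pextra9_115 (all_cons pextra9_116 (all_cons pextra9_117 (all_cons pextra9_118 (all_cons pextra9_119 (all_cons pextra9_120 (all_cons pextra9_121 (all_cons pextra9_122 (all_cons pextra9_123 (all_cons pextra9_124 (all_cons pextra9_125 (all_cons pextra9_126 (all_cons pextra9_127 (all_cons pextra9_128 (all_cons pextra9_129 (all_cons pextra9_130 (all_cons pextra9_131 (all_cons pextra9_132 (all_cons pextra9_133 (all_cons pextra9_134 (all_cons pextra9_135 (all_cons pextra9_136 (all_cons pextra9_137 (all_cons pextra9_138 (all_cons pextra9_139 (all_cons pextra9_140 (all_cons pextra9_141 (all_cons pextra9_142 (all_cons pextra9_143 (all_cons pextra9_144 (all_cons pextra9_145 (all_cons pextra9_146 (all_cons pextra9_147 (all_cons pextra9_148 (all_cons pextra9_149 (all_nil))))))))))))))))))))))))))))))))))))))))))))))))))))))))))))))))))))))))))))))))))))))))))))))))))))))))))))))))))))))))))))))))))))))))))))))))))))))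

theorem pextra9_grp1 : ∀ c ∈ ([(258600, 1724), (260324, 1724), (262048, 1724), (263772, 1724), (265496, 1724), (267220, 1724), (268944, 1724), (270668, 1724), (272392, 1724), (274116, 1724), (275840, 1724), (277564, 1724), (279288, 1724), (281012, 1724), (282736, 1724), (284460, 1724), (286184, 1724), (287908, 1724), (289632, 1724), (291356, 1724), (293080, 1724), (294804, 1724), (296528, 1724), (298252, 1724), (299976, 1724), (301700, 1724), (303424, 1724), (305148, 1724), (306872, 1724), (308596, 1724), (310320, 1724), (312044, 1724), (313768, 1724), (315492, 1724), (317216, 1724), (318940, 1724), (320664, 1724), (322388, 1724), (324112, 1724), (325836, 1724), (327560, 1724), (329284, 1724), (331008, 1724), (332732, 1724), (334456, 1724), (336180, 1724), (337904, 1724), (339628, 1724), (341352, 1724), (343076, 1724), (344800, 1724), (346524, 1724), (348248, 1724), (349972, 1724), (351696, 1724), (353420, 1724), (355144, 1724), (356868, 1724), (358592, 1724), (360316, 1724), (362040, 1724), (363764, 1724), (365488, 1724), (367212, 1724), (368936, 1724), (370660, 1724), (372384,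 1724), (374108, 1724), (375832, 1724), (377556, 1724), (379280, 1724), (381004, 1724), (382728, 1724), (384452, 1724), (386176, 1724), (387900, 1724), (389624, 1724), (391348, 1724), (393072, 1724), (394796, 1724), (396520, 1724), (398244, 1724), (399968, 1724), (401692, 1724), (403416, 1724), (405140, 1724), (406864, 1724), (408588, 1724), (410312, 1724), (412036, 1724), (413760, 1724), (415484, 1724), (417208, 1724), (418932, 1724), (420656, 1724), (422380, 1724), (424104, 1724), (425828, 1724), (427552, 1724), (429276, 1724), (431000, 1724), (432724, 1724), (434448, 1724), (436172, 1724), (437896, 1724), (439620, 1724), (441344, 1724), (443068, 1724), (444792, 1724), (446516, 1724), (448240, 1724), (449964, 1724), (451688, 1724), (453412, 1724), (455136, 1724), (456860, 1724), (458584, 1724), (460308, 1724), (462032, 1724), (463756, 1724), (465480, 1724), (467204, 1724), (468928, 1724), (470652, 1724), (472376, 1724), (474100, 1724), (475824, 1724), (477548, 1724), (479272, 1724), (480996, 1724), (482720, 1724), (484444, 1724), (486168, 1724), (487892, 1724), (489616, 1724),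 (491340, 1724), (493064, 1724), (494788, 1724), (496512, 1724), (498236, 1724), (499960, 1724), (501684, 1724), (503408, 1724), (505132, 1724), (506856, 1724), (508580, 1724), (510304, 1724), (512028, 1724), (513752, 1724), (515476, 1724)] : List (ℕ × ℕ)), allR c.1 c.2 (fun q => Nat.beq ((fun q => f0 (f0 (f4 (f2 (f0 (f2 (f0 (f2 (f2 (f2 (f0 (f0 (f4 (f3 (f3 (f3 (f1 (f3 (f1 (f3 (f1 (f2 (f0 (f2 (f0 (f2 (f2 (f2 (f0 (f0 (f4 (f3 (f3 (f3 (f1 (f3 (f1 (f3 (f1 (f2 (f0 (f2 (f0 (f2 (f2 (f2 (f0 (f0 (f4 (f3 (f3 (f3 (f1 (f3 (f1 (f3 (f1 (q)))))))))))))))))))))))))))))))))))))))))))))))))))))))))) q) ((fun q => q) q)) = true :=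
  all_cons pextra9_150 (all_cons pextra9_151 (all_cons pextra9_152 (all_cons pextra9_153 (all_cons pextra9_154 (all_cons pextra9_155 (all_cons pextra9_156 (all_cons pextra9_157 (all_cons pextra9_158 (all_cons pextra9_159 (all_cons pextra9_160 (all_cons pextra9_161 (all_cons pextra9_162 (all_cons pextra9_163 (all_cons pextra9_164 (all_cons pextra9_165 (all_cons pextra9_166 (all_cons pextra9_167 (all_cons pextra9_168 (all_cons pextra9_169 (all_cons pextra9_170 (all_cons pextra9_171 (all_cons pextra9_172 (all_cons pextra9_173 (all_cons pextra9_174 (all_cons pextra9_175 (all_cons pextra9_176 (all_cons pextra9_177 (all_cons pextra9_178 (all_cons pextra9_179 (all_cons pextra9_180 (all_cons pextra9_181 (all_cons pextra9_182 (all_cons pextra9_183 (all_cons pextra9_184 (all_cons pextra9_185 (all_cons pextra9_186 (all_cons pextra9_187 (all_cons pextra9_188 (all_cons pextra9_189 (all_cons pextra9_190 (all_cons pextra9_191 (all_cons pextra9_192 (all_cons pextra9_193 (all_cons pextra9_194 (all_cons pextra9_195 (all_cons pextra9_196 (all_cons pextra9_197 (all_cons pextra9_198 (all_cons pextra9_199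 (all_cons pextra9_200 (all_cons pextra9_201 (all_cons pextra9_202 (all_cons pextra9_203 (all_cons pextra9_204 (all_cons pextra9_205 (all_cons pextra9_206 (all_cons pextra9_207 (all_cons pextra9_208 (all_cons pextra9_209 (all_cons pextra9_210 (all_cons pextra9_211 (all_cons pextra9_212 (all_cons pextra9_213 (all_cons pextra9_214 (all_cons pextra9_215 (all_cons pextra9_216 (all_cons pextra9_217 (all_cons pextra9_218 (all_cons pextra9_219 (all_cons pextra9_220 (all_cons pextra9_221 (all_cons pextra9_222 (all_cons pextra9_223 (all_cons pextra9_224 (all_cons pextra9_225 (all_cons pextra9_226 (all_cons pextra9_227 (all_cons pextra9_228 (all_cons pextra9_229 (all_cons pextra9_230 (all_cons pextra9_231 (all_cons pextra9_232 (all_cons pextra9_233 (all_cons pextra9_234 (all_cons pextra9_235 (all_cons pextra9_236 (all_cons pextra9_237 (all_cons pextra9_238 (all_cons pextra9_239 (all_cons pextra9_240 (all_cons pextra9_241 (all_cons pextra9_242 (all_cons pextra9_243 (all_cons pextra9_244 (all_cons pextra9_245 (all_cons pextra9_246 (all_cons pextra9_247 (all_cons pextra9_248 (all_cons pextra9_249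 (all_cons pextra9_250 (all_cons pextra9_251 (all_cons pextra9_252 (all_cons pextra9_253 (all_cons pextra9_254 (all_cons pextra9_255 (all_cons pextra9_256 (all_cons pextra9_257 (all_cons pextra9_258 (all_cons pextra9_259 (all_cons pextra9_260 (all_cons pextra9_261 (all_cons pextra9_262 (all_cons pextra9_263 (all_cons pextra9_264 (all_cons pextra9_265 (all_cons pextra9_266 (all_cons pextra9_267 (all_cons pextra9_268 (all_cons pextra9_269 (all_cons pextra9_270 (all_cons pextra9_271 (all_cons pextra9_272 (all_cons pextra9_273 (all_cons pextra9_274 (all_cons pextra9_275 (all_cons pextra9_276 (all_cons pextra9_277 (all_cons pextra9_278 (all_cons pextra9_279 (all_cons pextra9_280 (all_cons pextra9_281 (all_cons pextra9_282 (all_cons pextra9_283 (all_cons pextra9_284 (all_cons pextra9_285 (all_cons pextra9_286 (all_cons pextra9_287 (all_cons pextra9_288 (all_cons pextra9_289 (all_cons pextra9_290 (all_cons pextra9_291 (all_cons pextra9_292 (all_cons pextra9_293 (all_cons pextra9_294 (all_cons pextra9_295 (all_cons pextra9_296 (all_cons pextra9_297 (all_cons pextra9_298 (all_cons pextra9_299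 (all_nil))))))))))))))))))))))))))))))))))))))))))))))))))))))))))))))))))))))))))))))))))))))))))))))))))))))))))))))))))))))))))))))))))))))))))))))))))))))

theorem pextra9_grp2 : ∀ c ∈ ([(517200, 1724), (518924, 1724), (520648, 1724), (522372, 1724), (524096, 1724), (525820, 1724), (527544, 1724), (529268, 1724), (530992, 1724), (532716, 1724), (534440, 1724), (536164, 1724), (537888, 1724), (539612, 1724), (541336, 1724), (543060, 1724), (544784, 1724), (546508, 1724), (548232, 1724), (549956, 1724), (551680, 1724), (553404, 1724), (555128, 1724), (556852, 1724), (558576, 1724), (560300, 1724), (562024, 1724), (563748, 1724), (565472, 1724), (567196, 1724), (568920, 1724), (570644, 1724), (572368, 1724), (574092, 1724), (575816, 1724), (577540, 1724), (579264, 1724), (580988, 1724), (582712, 1724), (584436, 1724), (586160, 1724), (587884, 1724), (589608, 1724), (591332, 1724), (593056, 1724), (594780, 1724), (596504, 1724), (598228, 1724), (599952, 1724), (601676, 1724), (603400, 1724), (605124, 1724), (606848, 1724), (608572, 1724), (610296, 1724), (612020, 1724), (613744,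 1724), (615468, 1724), (617192, 1724), (618916, 1724), (620640, 1724), (622364, 1724), (624088, 1724), (625812, 1724), (627536, 1724), (629260, 1724), (630984, 1724), (632708, 1724), (634432, 1724), (636156, 1724), (637880, 1724), (639604, 1724), (641328, 1724), (643052, 1724), (644776, 1724), (646500, 1724), (648224, 1724), (649948, 1724), (651672, 1724), (653396, 1724), (655120, 1724), (656844, 1724), (658568, 1724), (660292, 1724), (662016, 1724), (663740, 1724), (665464, 1724), (667188, 1724), (668912, 1724), (670636, 1724), (672360, 1724), (674084, 1724), (675808, 1724), (677532, 1724), (679256, 1724), (680980, 1724), (682704, 1724), (684428, 1724), (686152, 1724), (687876, 1724), (689600, 1724), (691324, 1724), (693048, 1724), (694772, 1724), (696496, 1724), (698220, 1724), (699944, 1724), (701668, 1724), (703392, 1724), (705116, 1724), (706840, 1724), (708564, 1724), (710288, 1724), (712012, 1724), (713736, 1724), (715460, 1724), (717184, 1724), (718908, 1724), (720632, 1724), (722356, 1724), (724080, 1724), (725804, 1724), (727528, 1724), (729252, 1724), (730976, 1724),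 (732700, 1724), (734424, 1724), (736148, 1724), (737872, 1724), (739596, 1724), (741320, 1724), (743044, 1724), (744768, 1724), (746492, 1724), (748216, 1724), (749940, 1724), (751664, 1724), (753388, 1724), (755112, 1724), (756836, 1724), (758560, 1724), (760284, 1724), (762008, 1724), (763732, 1724), (765456, 1724), (767180, 1724), (768904, 1724), (770628, 1724), (772352, 1724), (774076, 1724)] : List (ℕ × ℕ)), allR c.1 c.2 (fun q => Nat.beq ((fun q => f0 (f0 (f4 (f2 (f0 (f2 (f0 (f2 (f2 (f2 (f0 (f0 (f4 (f3 (f3 (f3 (f1 (f3 (f1 (f3 (f1 (f2 (f0 (f2 (f0 (f2 (f2 (f2 (f0 (f0 (f4 (f3 (f3 (f3 (f1 (f3 (f1 (f3 (f1 (f2 (f0 (f2 (f0 (f2 (f2 (f2 (f0 (f0 (f4 (f3 (f3 (f3 (f1 (f3 (f1 (f3 (f1 (q)))))))))))))))))))))))))))))))))))))))))))))))))))))))))) q) ((fun q => q) q)) = true :=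
  all_cons pextra9_300 (all_cons pextra9_301 (all_cons pextra9_302 (all_cons pextra9_303 (all_cons pextra9_304 (all_cons pextra9_305 (all_cons pextra9_306 (all_cons pextra9_307 (all_cons pextra9_308 (all_cons pextra9_309 (all_cons pextra9_310 (all_cons pextra9_311 (all_cons pextra9_312 (all_cons pextra9_313 (all_cons pextra9_314 (all_cons pextra9_315 (all_cons pextra9_316 (all_cons pextra9_317 (all_cons pextra9_318 (all_cons pextra9_319 (all_cons pextra9_320 (all_cons pextra9_321 (all_cons pextra9_322 (all_cons pextra9_323 (all_cons pextra9_324 (all_cons pextra9_325 (all_cons pextra9_326 (all_cons pextra9_327 (all_cons pextra9_328 (all_cons pextra9_329 (all_cons pextra9_330 (all_cons pextra9_331 (all_cons pextra9_332 (all_cons pextra9_333 (all_cons pextra9_334 (all_cons pextra9_335 (all_cons pextra9_336 (all_cons pextra9_337 (all_cons pextra9_338 (all_cons pextra9_339 (all_cons pextra9_340 (all_cons pextra9_341 (all_cons pextra9_342 (all_cons pextra9_343 (all_cons pextra9_344 (all_cons pextra9_345 (all_cons pextra9_346 (all_cons pextra9_347 (all_cons pextra9_348 (all_cons pextra9_349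 (all_cons pextra9_350 (all_cons pextra9_351 (all_cons pextra9_352 (all_cons pextra9_353 (all_cons pextra9_354 (all_cons pextra9_355 (all_cons pextra9_356 (all_cons pextra9_357 (all_cons pextra9_358 (all_cons pextra9_359 (all_cons pextra9_360 (all_cons pextra9_361 (all_cons pextra9_362 (all_cons pextra9_363 (all_cons pextra9_364 (all_cons pextra9_365 (all_cons pextra9_366 (all_cons pextra9_367 (all_cons pextra9_368 (all_cons pextra9_369 (all_cons pextra9_370 (all_cons pextra9_371 (all_cons pextra9_372 (all_cons pextra9_373 (all_cons pextra9_374 (all_cons pextra9_375 (all_cons pextra9_376 (all_cons pextra9_377 (all_cons pextra9_378 (all_cons pextra9_379 (all_cons pextra9_380 (all_cons pextra9_381 (all_cons pextra9_382 (all_cons pextra9_383 (all_cons pextra9_384 (all_cons pextra9_385 (all_cons pextra9_386 (all_cons pextra9_387 (all_cons pextra9_388 (all_cons pextra9_389 (all_cons pextra9_390 (all_cons pextra9_391 (all_cons pextra9_392 (all_cons pextra9_393 (all_cons pextra9_394 (all_cons pextra9_395 (all_cons pextra9_396 (all_cons pextra9_397 (all_cons pextra9_398 (all_cons pextra9_399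 (all_cons pextra9_400 (all_cons pextra9_401 (all_cons pextra9_402 (all_cons pextra9_403 (all_cons pextra9_404 (all_cons pextra9_405 (all_cons pextra9_406 (all_cons pextra9_407 (all_cons pextra9_408 (all_cons pextra9_409 (all_cons pextra9_410 (all_cons pextra9_411 (all_cons pextra9_412 (all_cons pextra9_413 (all_cons pextra9_414 (all_cons pextra9_415 (all_cons pextra9_416 (all_cons pextra9_417 (all_cons pextra9_418 (all_cons pextra9_419 (all_cons pextra9_420 (all_cons pextra9_421 (all_cons pextra9_422 (all_cons pextra9_423 (all_cons pextra9_424 (all_cons pextra9_425 (all_cons pextra9_426 (all_cons pextra9_427 (all_cons pextra9_428 (all_cons pextra9_429 (all_cons pextra9_430 (all_cons pextra9_431 (all_cons pextra9_432 (all_cons pextra9_433 (all_cons pextra9_434 (all_cons pextra9_435 (all_cons pextra9_436 (all_cons pextra9_437 (all_cons pextra9_438 (all_cons pextra9_439 (all_cons pextra9_440 (all_cons pextra9_441 (all_cons pextra9_442 (all_cons pextra9_443 (all_cons pextra9_444 (all_cons pextra9_445 (all_cons pextra9_446 (all_cons pextra9_447 (all_cons pextra9_448 (all_cons pextra9_449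 (all_nil))))))))))))))))))))))))))))))))))))))))))))))))))))))))))))))))))))))))))))))))))))))))))))))))))))))))))))))))))))))))))))))))))))))))))))))))))))))

theorem pextra9_grp3 : ∀ c ∈ ([(775800, 1724), (777524, 1724), (779248, 1724), (780972, 1724), (782696, 1724), (784420, 1724), (786144, 1724), (787868, 1724), (789592, 1724), (791316, 1724), (793040, 1724), (794764, 1724), (796488, 1724), (798212, 1724), (799936, 1724), (801660, 1724), (803384, 1724), (805108, 1724), (806832, 1724), (808556, 1724), (810280, 1724), (812004, 1724), (813728, 1724), (815452, 1724), (817176, 1724), (818900, 1724), (820624, 1724), (822348, 1724), (824072, 1724), (825796, 1724), (827520, 1724), (829244, 1724), (830968, 1724), (832692, 1724), (834416, 1724), (836140, 1724), (837864, 1724), (839588, 1724), (841312, 1724), (843036, 1724), (844760, 1724), (846484, 1724), (848208, 1724), (849932, 1724), (851656, 1724), (853380, 1724), (855104, 1724), (856828, 1724), (858552, 1724), (860276, 1724), (862000, 1724), (863724, 1724), (865448, 1724), (867172, 1724), (868896, 1724), (870620, 1724), (872344,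 1724), (874068, 1724), (875792, 1724), (877516, 1724), (879240, 1724), (880964, 1724), (882688, 1724), (884412, 1724), (886136, 1724), (887860, 1724), (889584, 1724), (891308, 1724), (893032, 1724), (894756, 1724), (896480, 1724), (898204, 1724), (899928, 1724), (901652, 1724), (903376, 1724), (905100, 1724), (906824, 1724), (908548, 1724), (910272, 1724), (911996, 1724), (913720, 1724), (915444, 1724), (917168, 1724), (918892, 1724), (920616, 1724), (922340, 1724), (924064, 1724), (925788, 1724), (927512, 1724), (929236, 1724), (930960, 1724), (932684, 1724), (934408, 1724), (936132, 1724), (937856, 1724), (939580, 1724), (941304, 1724), (943028, 1724), (944752, 1724), (946476, 1724), (948200, 1724), (949924, 1724), (951648, 1724), (953372, 1724), (955096, 1724), (956820, 1724), (958544, 1724), (960268, 1724), (961992, 1724), (963716, 1724), (965440, 1724), (967164, 1724), (968888, 1724), (970612, 1724), (972336, 1724), (974060, 1724), (975784, 1724), (977508, 1724), (979232, 1724), (980956, 1724), (982680, 1724), (984404, 1724), (986128, 1724), (987852, 1724), (989576, 1724),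 (991300, 1724), (993024, 1724), (994748, 1724), (996472, 1724), (998196, 1724), (999920, 1724), (1001644, 1724), (1003368, 1724), (1005092, 1724), (1006816, 1724), (1008540, 1724), (1010264, 1724), (1011988, 1724), (1013712, 1724), (1015436, 1724), (1017160, 1724), (1018884, 1724), (1020608, 1724), (1022332, 1724), (1024056, 1724), (1025780, 1724), (1027504, 1724), (1029228, 1724), (1030952, 1724), (1032676, 1724)] : List (ℕ × ℕ)), allR c.1 c.2 (fun q => Nat.beq ((fun q => f0 (f0 (f4 (f2 (f0 (f2 (f0 (f2 (f2 (f2 (f0 (f0 (f4 (f3 (f3 (f3 (f1 (f3 (f1 (f3 (f1 (f2 (f0 (f2 (f0 (f2 (f2 (f2 (f0 (f0 (f4 (f3 (f3 (f3 (f1 (f3 (f1 (f3 (f1 (f2 (f0 (f2 (f0 (f2 (f2 (f2 (f0 (f0 (f4 (f3 (f3 (f3 (f1 (f3 (f1 (f3 (f1 (q)))))))))))))))))))))))))))))))))))))))))))))))))))))))))) q) ((fun q => q) q)) = true :=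
  all_cons pextra9_450 (all_cons pextra9_451 (all_cons pextra9_452 (all_cons pextra9_453 (all_cons pextra9_454 (all_cons pextra9_455 (all_cons pextra9_456 (all_cons pextra9_457 (all_cons pextra9_458 (all_cons pextra9_459 (all_cons pextra9_460 (all_cons pextra9_461 (all_cons pextra9_462 (all_cons pextra9_463 (all_cons pextra9_464 (all_cons pextra9_465 (all_cons pextra9_466 (all_cons pextra9_467 (all_cons pextra9_468 (all_cons pextra9_469 (all_cons pextra9_470 (all_cons pextra9_471 (all_cons pextra9_472 (all_cons pextra9_473 (all_cons pextra9_474 (all_cons pextra9_475 (all_cons pextra9_476 (all_cons pextra9_477 (all_cons pextra9_478 (all_cons pextra9_479 (all_cons pextra9_480 (all_cons pextra9_481 (all_cons pextra9_482 (all_cons pextra9_483 (all_cons pextra9_484 (all_cons pextra9_485 (all_cons pextra9_486 (all_cons pextra9_487 (all_cons pextra9_488 (all_cons pextra9_489 (all_cons pextra9_490 (all_cons pextra9_491 (all_cons pextra9_492 (all_cons pextra9_493 (all_cons pextra9_494 (all_cons pextra9_495 (all_cons pextra9_496 (all_cons pextra9_497 (all_cons pextra9_498 (all_cons pextra9_499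 (all_cons pextra9_500 (all_cons pextra9_501 (all_cons pextra9_502 (all_cons pextra9_503 (all_cons pextra9_504 (all_cons pextra9_505 (all_cons pextra9_506 (all_cons pextra9_507 (all_cons pextra9_508 (all_cons pextra9_509 (all_cons pextra9_510 (all_cons pextra9_511 (all_cons pextra9_512 (all_cons pextra9_513 (all_cons pextra9_514 (all_cons pextra9_515 (all_cons pextra9_516 (all_cons pextra9_517 (all_cons pextra9_518 (all_cons pextra9_519 (all_cons pextra9_520 (all_cons pextra9_521 (all_cons pextra9_522 (all_cons pextra9_523 (all_cons pextra9_524 (all_cons pextra9_525 (all_cons pextra9_526 (all_cons pextra9_527 (all_cons pextra9_528 (all_cons pextra9_529 (all_cons pextra9_530 (all_cons pextra9_531 (all_cons pextra9_532 (all_cons pextra9_533 (all_cons pextra9_534 (all_cons pextra9_535 (all_cons pextra9_536 (all_cons pextra9_537 (all_cons pextra9_538 (all_cons pextra9_539 (all_cons pextra9_540 (all_cons pextra9_541 (all_cons pextra9_542 (all_cons pextra9_543 (all_cons pextra9_544 (all_cons pextra9_545 (all_cons pextra9_546 (all_cons pextra9_547 (all_cons pextra9_548 (all_cons pextra9_549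 (all_cons pextra9_550 (all_cons pextra9_551 (all_cons pextra9_552 (all_cons pextra9_553 (all_cons pextra9_554 (all_cons pextra9_555 (all_cons pextra9_556 (all_cons pextra9_557 (all_cons pextra9_558 (all_cons pextra9_559 (all_cons pextra9_560 (all_cons pextra9_561 (all_cons pextra9_562 (all_cons pextra9_563 (all_cons pextra9_564 (all_cons pextra9_565 (all_cons pextra9_566 (all_cons pextra9_567 (all_cons pextra9_568 (all_cons pextra9_569 (all_cons pextra9_570 (all_cons pextra9_571 (all_cons pextra9_572 (all_cons pextra9_573 (all_cons pextra9_574 (all_cons pextra9_575 (all_cons pextra9_576 (all_cons pextra9_577 (all_cons pextra9_578 (all_cons pextra9_579 (all_cons pextra9_580 (all_cons pextra9_581 (all_cons pextra9_582 (all_cons pextra9_583 (all_cons pextra9_584 (all_cons pextra9_585 (all_cons pextra9_586 (all_cons pextra9_587 (all_cons pextra9_588 (all_cons pextra9_589 (all_cons pextra9_590 (all_cons pextra9_591 (all_cons pextra9_592 (all_cons pextra9_593 (all_cons pextra9_594 (all_cons pextra9_595 (all_cons pextra9_596 (all_cons pextra9_597 (all_cons pextra9_598 (all_cons pextra9_599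 (all_nil))))))))))))))))))))))))))))))))))))))))))))))))))))))))))))))))))))))))))))))))))))))))))))))))))))))))))))))))))))))))))))))))))))))))))))))))))))))

theorem pextra9_grp4 : ∀ c ∈ ([(1034400, 1724), (1036124, 1724), (1037848, 1724), (1039572, 1724), (1041296, 1724), (1043020, 1724), (1044744, 1724), (1046468, 1724), (1048192, 1724), (1049916, 1724), (1051640, 1724), (1053364, 1724), (1055088, 1724), (1056812, 1724), (1058536, 1724), (1060260, 1724), (1061984, 1724), (1063708, 1724), (1065432, 1724), (1067156, 1724), (1068880, 1724), (1070604, 1724), (1072328, 1724), (1074052, 1724), (1075776, 1724), (1077500, 1724), (1079224, 1724), (1080948, 1724), (1082672, 1724), (1084396, 1724), (1086120, 1724), (1087844, 1724), (1089568, 1724), (1091292, 1724), (1093016, 1724), (1094740, 1724), (1096464, 1724), (1098188, 1724), (1099912, 1724), (1101636, 1724), (1103360, 1724), (1105084, 1724), (1106808, 1724), (1108532, 1724), (1110256, 1724), (1111980, 1724), (1113704, 1724), (1115428, 1724), (1117152, 1724), (1118876, 1724), (1120600, 1724), (1122324, 1724), (1124048, 1724),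 (1125772, 1724), (1127496, 1724), (1129220, 1724), (1130944, 1724), (1132668, 1724), (1134392, 1724), (1136116, 1724), (1137840, 1724), (1139564, 1724), (1141288, 1724), (1143012, 1724), (1144736, 1724), (1146460, 1724), (1148184, 1724), (1149908, 1724), (1151632, 1724), (1153356, 1724), (1155080, 1724), (1156804, 1724), (1158528, 1724), (1160252, 1724), (1161976, 1724), (1163700, 1724), (1165424, 1724), (1167148, 1724), (1168872, 1724), (1170596, 1724), (1172320, 1724), (1174044, 1724), (1175768, 1724), (1177492, 1724), (1179216, 1724), (1180940, 1724), (1182664, 1724), (1184388, 1724), (1186112, 1724), (1187836, 1724), (1189560, 1724), (1191284, 1724), (1193008, 1724), (1194732, 1724), (1196456, 1724), (1198180, 1724), (1199904, 1724), (1201628, 1724), (1203352, 1724), (1205076, 1724), (1206800, 1724), (1208524, 1724), (1210248, 1724), (1211972, 1724), (1213696, 1724), (1215420, 1724), (1217144, 1724), (1218868, 1724), (1220592, 1724), (1222316, 1724), (1224040, 1724), (1225764, 1724), (1227488, 1724), (1229212, 1724), (1230936, 1724), (1232660, 1724), (1234384, 1724), (1236108,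 1724), (1237832, 1724), (1239556, 1724), (1241280, 1724), (1243004, 1724), (1244728, 1724), (1246452, 1724), (1248176, 1724), (1249900, 1724), (1251624, 1724), (1253348, 1724), (1255072, 1724), (1256796, 1724), (1258520, 1724), (1260244, 1724), (1261968, 1724), (1263692, 1724), (1265416, 1724), (1267140, 1724), (1268864, 1724), (1270588, 1724), (1272312, 1724), (1274036, 1724), (1275760, 1724), (1277484, 1724), (1279208, 1724), (1280932, 1724), (1282656, 1724), (1284380, 1724), (1286104, 1724), (1287828, 1724), (1289552, 1724), (1291276, 1724)] : List (ℕ × ℕ)), allR c.1 c.2 (fun q => Nat.beq ((fun q => f0 (f0 (f4 (f2 (f0 (f2 (f0 (f2 (f2 (f2 (f0 (f0 (f4 (f3 (f3 (f3 (f1 (f3 (f1 (f3 (f1 (f2 (f0 (f2 (f0 (f2 (f2 (f2 (f0 (f0 (f4 (f3 (f3 (f3 (f1 (f3 (f1 (f3 (f1 (f2 (f0 (f2 (f0 (f2 (f2 (f2 (f0 (f0 (f4 (f3 (f3 (f3 (f1 (f3 (f1 (f3 (f1 (q)))))))))))))))))))))))))))))))))))))))))))))))))))))))))) q) ((fun q => q) q)) = true :=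
  all_cons pextra9_600 (all_cons pextra9_601 (all_cons pextra9_602 (all_cons pextra9_603 (all_cons pextra9_604 (all_cons pextra9_605 (all_cons pextra9_606 (all_cons pextra9_607 (all_cons pextra9_608 (all_cons pextra9_609 (all_cons pextra9_610 (all_cons pextra9_611 (all_cons pextra9_612 (all_cons pextra9_613 (all_cons pextra9_614 (all_cons pextra9_615 (all_cons pextra9_616 (all_cons pextra9_617 (all_cons pextra9_618 (all_cons pextra9_619 (all_cons pextra9_620 (all_cons pextra9_621 (all_cons pextra9_622 (all_cons pextra9_623 (all_cons pextra9_624 (all_cons pextra9_625 (all_cons pextra9_626 (all_cons pextra9_627 (all_cons pextra9_628 (all_cons pextra9_629 (all_cons pextra9_630 (all_cons pextra9_631 (all_cons pextra9_632 (all_cons pextra9_633 (all_cons pextra9_634 (all_cons pextra9_635 (all_cons pextra9_636 (all_cons pextra9_637 (all_cons pextra9_638 (all_cons pextra9_639 (all_cons pextra9_640 (all_cons pextra9_641 (all_cons pextra9_642 (all_cons pextra9_643 (all_cons pextra9_644 (all_cons pextra9_645 (all_cons pextra9_646 (all_cons pextra9_647 (all_cons pextra9_648 (all_cons pextra9_649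 (all_cons pextra9_650 (all_cons pextra9_651 (all_cons pextra9_652 (all_cons pextra9_653 (all_cons pextra9_654 (all_cons pextra9_655 (all_cons pextra9_656 (all_cons pextra9_657 (all_cons pextra9_658 (all_cons pextra9_659 (all_cons pextra9_660 (all_cons pextra9_661 (all_cons pextra9_662 (all_cons pextra9_663 (all_cons pextra9_664 (all_cons pextra9_665 (all_cons pextra9_666 (all_cons pextra9_667 (all_cons pextra9_668 (all_cons pextra9_669 (all_cons pextra9_670 (all_cons pextra9_671 (all_cons pextra9_672 (all_cons pextra9_673 (all_cons pextra9_674 (all_cons pextra9_675 (all_cons pextra9_676 (all_cons pextra9_677 (all_cons pextra9_678 (all_cons pextra9_679 (all_cons pextra9_680 (all_cons pextra9_681 (all_cons pextra9_682 (all_cons pextra9_683 (all_cons pextra9_684 (all_cons pextra9_685 (all_cons pextra9_686 (all_cons pextra9_687 (all_cons pextra9_688 (all_cons pextra9_689 (all_cons pextra9_690 (all_cons pextra9_691 (all_cons pextra9_692 (all_cons pextra9_693 (all_cons pextra9_694 (all_cons pextra9_695 (all_cons pextra9_696 (all_cons pextra9_697 (all_cons pextra9_698 (all_cons pextra9_699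 (all_cons pextra9_700 (all_cons pextra9_701 (all_cons pextra9_702 (all_cons pextra9_703 (all_cons pextra9_704 (all_cons pextra9_705 (all_cons pextra9_706 (all_cons pextra9_707 (all_cons pextra9_708 (all_cons pextra9_709 (all_cons pextra9_710 (all_cons pextra9_711 (all_cons pextra9_712 (all_cons pextra9_713 (all_cons pextra9_714 (all_cons pextra9_715 (all_cons pextra9_716 (all_cons pextra9_717 (all_cons pextra9_718 (all_cons pextra9_719 (all_cons pextra9_720 (all_cons pextra9_721 (all_cons pextra9_722 (all_cons pextra9_723 (all_cons pextra9_724 (all_cons pextra9_725 (all_cons pextra9_726 (all_cons pextra9_727 (all_cons pextra9_728 (all_cons pextra9_729 (all_cons pextra9_730 (all_cons pextra9_731 (all_cons pextra9_732 (all_cons pextra9_733 (all_cons pextra9_734 (all_cons pextra9_735 (all_cons pextra9_736 (all_cons pextra9_737 (all_cons pextra9_738 (all_cons pextra9_739 (all_cons pextra9_740 (all_cons pextra9_741 (all_cons pextra9_742 (all_cons pextra9_743 (all_cons pextra9_744 (all_cons pextra9_745 (all_cons pextra9_746 (all_cons pextra9_747 (all_cons pextra9_748 (all_cons pextra9_749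 (all_nil))))))))))))))))))))))))))))))))))))))))))))))))))))))))))))))))))))))))))))))))))))))))))))))))))))))))))))))))))))))))))))))))))))))))))))))))))))))

theorem pextra9_grp5 : ∀ c ∈ ([(1293000, 1724), (1294724, 1724), (1296448, 1724), (1298172, 1724), (1299896, 1724), (1301620, 1724), (1303344, 1724), (1305068, 1724), (1306792, 1724), (1308516, 1724), (1310240, 1724), (1311964, 1724), (1313688, 1724), (1315412, 1724), (1317136, 1724), (1318860, 1724), (1320584, 1724), (1322308, 1724), (1324032, 1724), (1325756, 1724), (1327480, 1724), (1329204, 1724), (1330928, 1724), (1332652, 1724), (1334376, 1724), (1336100, 1724), (1337824, 1724), (1339548, 1724), (1341272, 1724), (1342996, 1724), (1344720, 1724), (1346444, 1724), (1348168, 1724), (1349892, 1724), (1351616, 1724), (1353340, 1724), (1355064, 1724), (1356788, 1724), (1358512, 1724), (1360236, 1724), (1361960, 1724), (1363684, 1724), (1365408, 1724), (1367132, 1724), (1368856, 1724), (1370580, 1724), (1372304, 1724), (1374028, 1724), (1375752, 1724), (1377476, 1724), (1379200, 1724), (1380924, 1724), (1382648, 1724),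 (1384372, 1724), (1386096, 1724), (1387820, 1724), (1389544, 1724), (1391268, 1724), (1392992, 1724), (1394716, 1724), (1396440, 1724), (1398164, 1724), (1399888, 1724), (1401612, 1724), (1403336, 1724), (1405060, 1724), (1406784, 1724), (1408508, 1724), (1410232, 1724), (1411956, 1724), (1413680, 1724), (1415404, 1724), (1417128, 1724), (1418852, 1724), (1420576, 1724), (1422300, 1724), (1424024, 1724), (1425748, 1724), (1427472, 1724), (1429196, 1724), (1430920, 1724), (1432644, 1724), (1434368, 1724), (1436092, 1724), (1437816, 1724), (1439540, 1724), (1441264, 1724), (1442988, 1724), (1444712, 1724), (1446436, 1724), (1448160, 1724), (1449884, 1724), (1451608, 1724), (1453332, 1724), (1455056, 1724), (1456780, 1724), (1458504, 1724), (1460228, 1724), (1461952, 1724), (1463676, 1724), (1465400, 1724), (1467124, 1724), (1468848, 1724), (1470572, 1724), (1472296, 1724), (1474020, 1724), (1475744, 1724), (1477468, 1724), (1479192, 1724), (1480916, 1724), (1482640, 1724), (1484364, 1724), (1486088, 1724), (1487812, 1724), (1489536, 1724), (1491260, 1724), (1492984, 1724), (1494708,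 1724), (1496432, 1724), (1498156, 1724), (1499880, 1724), (1501604, 1724), (1503328, 1724), (1505052, 1724), (1506776, 1724), (1508500, 1724), (1510224, 1724), (1511948, 1724), (1513672, 1724), (1515396, 1724), (1517120, 1724), (1518844, 1724), (1520568, 1724), (1522292, 1724), (1524016, 1724), (1525740, 1724), (1527464, 1724), (1529188, 1724), (1530912, 1724), (1532636, 1724), (1534360, 1724), (1536084, 1724), (1537808, 1192)] : List (ℕ × ℕ)), allR c.1 c.2 (fun q => Nat.beq ((fun q => f0 (f0 (f4 (f2 (f0 (f2 (f0 (f2 (f2 (f2 (f0 (f0 (f4 (f3 (f3 (f3 (f1 (f3 (f1 (f3 (f1 (f2 (f0 (f2 (f0 (f2 (f2 (f2 (f0 (f0 (f4 (f3 (f3 (f3 (f1 (f3 (f1 (f3 (f1 (f2 (f0 (f2 (f0 (f2 (f2 (f2 (f0 (f0 (f4 (f3 (f3 (f3 (f1 (f3 (f1 (f3 (f1 (q)))))))))))))))))))))))))))))))))))))))))))))))))))))))))) q) ((fun q => q) q)) = true :=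
  all_cons pextra9_750 (all_cons pextra9_751 (all_cons pextra9_752 (all_cons pextra9_753 (all_cons pextra9_754 (all_cons pextra9_755 (all_cons pextra9_756 (all_cons pextra9_757 (all_cons pextra9_758 (all_cons pextra9_759 (all_cons pextra9_760 (all_cons pextra9_761 (all_cons pextra9_762 (all_cons pextra9_763 (all_cons pextra9_764 (all_cons pextra9_765 (all_cons pextra9_766 (all_cons pextra9_767 (all_cons pextra9_768 (all_cons pextra9_769 (all_cons pextra9_770 (all_cons pextra9_771 (all_cons pextra9_772 (all_cons pextra9_773 (all_cons pextra9_774 (all_cons pextra9_775 (all_cons pextra9_776 (all_cons pextra9_777 (all_cons pextra9_778 (all_cons pextra9_779 (all_cons pextra9_780 (all_cons pextra9_781 (all_cons pextra9_782 (all_cons pextra9_783 (all_cons pextra9_784 (all_cons pextra9_785 (all_cons pextra9_786 (all_cons pextra9_787 (all_cons pextra9_788 (all_cons pextra9_789 (all_cons pextra9_790 (all_cons pextra9_791 (all_cons pextra9_792 (all_cons pextra9_793 (all_cons pextra9_794 (all_cons pextra9_795 (all_cons pextra9_796 (all_cons pextra9_797 (all_cons pextra9_798 (all_cons pextra9_799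 (all_cons pextra9_800 (all_cons pextra9_801 (all_cons pextra9_802 (all_cons pextra9_803 (all_cons pextra9_804 (all_cons pextra9_805 (all_cons pextra9_806 (all_cons pextra9_807 (all_cons pextra9_808 (all_cons pextra9_809 (all_cons pextra9_810 (all_cons pextra9_811 (all_cons pextra9_812 (all_cons pextra9_813 (all_cons pextra9_814 (all_cons pextra9_815 (all_cons pextra9_816 (all_cons pextra9_817 (all_cons pextra9_818 (all_cons pextra9_819 (all_cons pextra9_820 (all_cons pextra9_821 (all_cons pextra9_822 (all_cons pextra9_823 (all_cons pextra9_824 (all_cons pextra9_825 (all_cons pextra9_826 (all_cons pextra9_827 (all_cons pextra9_828 (all_cons pextra9_829 (all_cons pextra9_830 (all_cons pextra9_831 (all_cons pextra9_832 (all_cons pextra9_833 (all_cons pextra9_834 (all_cons pextra9_835 (all_cons pextra9_836 (all_cons pextra9_837 (all_cons pextra9_838 (all_cons pextra9_839 (all_cons pextra9_840 (all_cons pextra9_841 (all_cons pextra9_842 (all_cons pextra9_843 (all_cons pextra9_844 (all_cons pextra9_845 (all_cons pextra9_846 (all_cons pextra9_847 (all_cons pextra9_848 (all_cons pextra9_849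 (all_cons pextra9_850 (all_cons pextra9_851 (all_cons pextra9_852 (all_cons pextra9_853 (all_cons pextra9_854 (all_cons pextra9_855 (all_cons pextra9_856 (all_cons pextra9_857 (all_cons pextra9_858 (all_cons pextra9_859 (all_cons pextra9_860 (all_cons pextra9_861 (all_cons pextra9_862 (all_cons pextra9_863 (all_cons pextra9_864 (all_cons pextra9_865 (all_cons pextra9_866 (all_cons pextra9_867 (all_cons pextra9_868 (all_cons pextra9_869 (all_cons pextra9_870 (all_cons pextra9_871 (all_cons pextra9_872 (all_cons pextra9_873 (all_cons pextra9_874 (all_cons pextra9_875 (all_cons pextra9_876 (all_cons pextra9_877 (all_cons pextra9_878 (all_cons pextra9_879 (all_cons pextra9_880 (all_cons pextra9_881 (all_cons pextra9_882 (all_cons pextra9_883 (all_cons pextra9_884 (all_cons pextra9_885 (all_cons pextra9_886 (all_cons pextra9_887 (all_cons pextra9_888 (all_cons pextra9_889 (all_cons pextra9_890 (all_cons pextra9_891 (all_cons pextra9_892 (all_nil)))))))))))))))))))))))))))))))))))))))))))))))))))))))))))))))))))))))))))))))))))))))))))))))))))))))))))))))))))))))))))))))))))))))))))))))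

/-- the further relator number 9 holds for the images of the letters -/
theorem pextra9 : ∀ q < 1539000, wordF WE9 q = (fun q => q) q :=
  eq_of_chunks (f := (fun q => f0 (f0 (f4 (f2 (f0 (f2 (f0 (f2 (f2 (f2 (f0 (f0 (f4 (f3 (f3 (f3 (f1 (f3 (f1 (f3 (f1 (f2 (f0 (f2 (f0 (f2 (f2 (f2 (f0 (f0 (f4 (f3 (f3 (f3 (f1 (f3 (f1 (f3 (f1 (f2 (f0 (f2 (f0 (f2 (f2 (f2 (f0 (f0 (f4 (f3 (f3 (f3 (f1 (f3 (f1 (f3 (f1 (q))))))))))))))))))))))))))))))))))))))))))))))))))))))))))) (g := (fun q => q)) ([(0, 1724), (1724, 1724), (3448, 1724), (5172, 1724), (6896, 1724), (8620, 1724), (10344, 1724), (12068, 1724), (13792, 1724), (15516, 1724), (17240, 1724), (18964, 1724), (20688, 1724), (22412, 1724), (24136, 1724), (25860, 1724), (27584, 1724), (29308, 1724), (31032, 1724), (32756, 1724), (34480, 1724), (36204, 1724), (37928, 1724), (39652, 1724), (41376, 1724), (43100, 1724), (44824, 1724), (46548, 1724), (48272, 1724), (49996, 1724), (51720, 1724), (53444, 1724), (55168, 1724), (56892, 1724), (58616, 1724), (60340, 1724), (62064, 1724), (63788, 1724), (65512, 1724), (67236, 1724), (68960, 1724), (70684,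 1724), (72408, 1724), (74132, 1724), (75856, 1724), (77580, 1724), (79304, 1724), (81028, 1724), (82752, 1724), (84476, 1724), (86200, 1724), (87924, 1724), (89648, 1724), (91372, 1724), (93096, 1724), (94820, 1724), (96544, 1724), (98268, 1724), (99992, 1724), (101716, 1724), (103440, 1724), (105164, 1724), (106888, 1724), (108612, 1724), (110336, 1724), (112060, 1724), (113784, 1724), (115508, 1724), (117232, 1724), (118956, 1724), (120680, 1724), (122404, 1724), (124128, 1724), (125852, 1724), (127576, 1724), (129300, 1724), (131024, 1724), (132748, 1724), (134472, 1724), (136196, 1724), (137920, 1724), (139644, 1724), (141368, 1724), (143092, 1724), (144816, 1724), (146540, 1724), (148264, 1724), (149988, 1724), (151712, 1724), (153436, 1724), (155160, 1724), (156884, 1724), (158608, 1724), (160332, 1724), (162056, 1724), (163780, 1724), (165504, 1724), (167228, 1724), (168952, 1724), (170676, 1724), (172400, 1724), (174124, 1724), (175848, 1724), (177572, 1724), (179296, 1724), (181020, 1724), (182744, 1724), (184468, 1724), (186192, 1724), (187916, 1724), (189640, 1724),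 (191364, 1724), (193088, 1724), (194812, 1724), (196536, 1724), (198260, 1724), (199984, 1724), (201708, 1724), (203432, 1724), (205156, 1724), (206880, 1724), (208604, 1724), (210328, 1724), (212052, 1724), (213776, 1724), (215500, 1724), (217224, 1724), (218948, 1724), (220672, 1724), (222396, 1724), (224120, 1724), (225844, 1724), (227568, 1724), (229292, 1724), (231016, 1724), (232740, 1724), (234464, 1724), (236188, 1724), (237912, 1724), (239636, 1724), (241360, 1724), (243084, 1724), (244808, 1724), (246532, 1724), (248256, 1724), (249980, 1724), (251704, 1724), (253428, 1724), (255152, 1724), (256876, 1724)] ++ [(258600, 1724), (260324, 1724), (262048, 1724), (263772, 1724), (265496, 1724), (267220, 1724), (268944, 1724), (270668, 1724), (272392, 1724), (274116, 1724), (275840, 1724), (277564, 1724), (279288, 1724), (281012, 1724), (282736, 1724), (284460, 1724), (286184, 1724), (287908, 1724), (289632, 1724), (291356, 1724), (293080, 1724), (294804, 1724), (296528, 1724), (298252, 1724), (299976, 1724), (301700, 1724), (303424, 1724), (305148, 1724), (306872, 1724),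 (308596, 1724), (310320, 1724), (312044, 1724), (313768, 1724), (315492, 1724), (317216, 1724), (318940, 1724), (320664, 1724), (322388, 1724), (324112, 1724), (325836, 1724), (327560, 1724), (329284, 1724), (331008, 1724), (332732, 1724), (334456, 1724), (336180, 1724), (337904, 1724), (339628, 1724), (341352, 1724), (343076, 1724), (344800, 1724), (346524, 1724), (348248, 1724), (349972, 1724), (351696, 1724), (353420, 1724), (355144, 1724), (356868, 1724), (358592, 1724), (360316, 1724), (362040, 1724), (363764, 1724), (365488, 1724), (367212, 1724), (368936, 1724), (370660, 1724), (372384, 1724), (374108, 1724), (375832, 1724), (377556, 1724), (379280, 1724), (381004, 1724), (382728, 1724), (384452, 1724), (386176, 1724), (387900, 1724), (389624, 1724), (391348, 1724), (393072, 1724), (394796, 1724), (396520, 1724), (398244, 1724), (399968, 1724), (401692, 1724), (403416, 1724), (405140, 1724), (406864, 1724), (408588, 1724), (410312, 1724), (412036, 1724), (413760, 1724), (415484, 1724), (417208, 1724), (418932, 1724), (420656, 1724), (422380, 1724), (424104, 1724), (425828,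 1724), (427552, 1724), (429276, 1724), (431000, 1724), (432724, 1724), (434448, 1724), (436172, 1724), (437896, 1724), (439620, 1724), (441344, 1724), (443068, 1724), (444792, 1724), (446516, 1724), (448240, 1724), (449964, 1724), (451688, 1724), (453412, 1724), (455136, 1724), (456860, 1724), (458584, 1724), (460308, 1724), (462032, 1724), (463756, 1724), (465480, 1724), (467204, 1724), (468928, 1724), (470652, 1724), (472376, 1724), (474100, 1724), (475824, 1724), (477548, 1724), (479272, 1724), (480996, 1724), (482720, 1724), (484444, 1724), (486168, 1724), (487892, 1724), (489616, 1724), (491340, 1724), (493064, 1724), (494788, 1724), (496512, 1724), (498236, 1724), (499960, 1724), (501684, 1724), (503408, 1724), (505132, 1724), (506856, 1724), (508580, 1724), (510304, 1724), (512028, 1724), (513752, 1724), (515476, 1724)] ++ [(517200, 1724), (518924, 1724), (520648, 1724), (522372, 1724), (524096, 1724), (525820, 1724), (527544, 1724), (529268, 1724), (530992, 1724), (532716, 1724), (534440, 1724), (536164, 1724), (537888, 1724), (539612, 1724), (541336, 1724), (543060,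 1724), (544784, 1724), (546508, 1724), (548232, 1724), (549956, 1724), (551680, 1724), (553404, 1724), (555128, 1724), (556852, 1724), (558576, 1724), (560300, 1724), (562024, 1724), (563748, 1724), (565472, 1724), (567196, 1724), (568920, 1724), (570644, 1724), (572368, 1724), (574092, 1724), (575816, 1724), (577540, 1724), (579264, 1724), (580988, 1724), (582712, 1724), (584436, 1724), (586160, 1724), (587884, 1724), (589608, 1724), (591332, 1724), (593056, 1724), (594780, 1724), (596504, 1724), (598228, 1724), (599952, 1724), (601676, 1724), (603400, 1724), (605124, 1724), (606848, 1724), (608572, 1724), (610296, 1724), (612020, 1724), (613744, 1724), (615468, 1724), (617192, 1724), (618916, 1724), (620640, 1724), (622364, 1724), (624088, 1724), (625812, 1724), (627536, 1724), (629260, 1724), (630984, 1724), (632708, 1724), (634432, 1724), (636156, 1724), (637880, 1724), (639604, 1724), (641328, 1724), (643052, 1724), (644776, 1724), (646500, 1724), (648224, 1724), (649948, 1724), (651672, 1724), (653396, 1724), (655120, 1724), (656844, 1724), (658568, 1724), (660292, 1724),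 (662016, 1724), (663740, 1724), (665464, 1724), (667188, 1724), (668912, 1724), (670636, 1724), (672360, 1724), (674084, 1724), (675808, 1724), (677532, 1724), (679256, 1724), (680980, 1724), (682704, 1724), (684428, 1724), (686152, 1724), (687876, 1724), (689600, 1724), (691324, 1724), (693048, 1724), (694772, 1724), (696496, 1724), (698220, 1724), (699944, 1724), (701668, 1724), (703392, 1724), (705116, 1724), (706840, 1724), (708564, 1724), (710288, 1724), (712012, 1724), (713736, 1724), (715460, 1724), (717184, 1724), (718908, 1724), (720632, 1724), (722356, 1724), (724080, 1724), (725804, 1724), (727528, 1724), (729252, 1724), (730976, 1724), (732700, 1724), (734424, 1724), (736148, 1724), (737872, 1724), (739596, 1724), (741320, 1724), (743044, 1724), (744768, 1724), (746492, 1724), (748216, 1724), (749940, 1724), (751664, 1724), (753388, 1724), (755112, 1724), (756836, 1724), (758560, 1724), (760284, 1724), (762008, 1724), (763732, 1724), (765456, 1724), (767180, 1724), (768904, 1724), (770628, 1724), (772352, 1724), (774076, 1724)] ++ [(775800, 1724), (777524, 1724),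 (779248, 1724), (780972, 1724), (782696, 1724), (784420, 1724), (786144, 1724), (787868, 1724), (789592, 1724), (791316, 1724), (793040, 1724), (794764, 1724), (796488, 1724), (798212, 1724), (799936, 1724), (801660, 1724), (803384, 1724), (805108, 1724), (806832, 1724), (808556, 1724), (810280, 1724), (812004, 1724), (813728, 1724), (815452, 1724), (817176, 1724), (818900, 1724), (820624, 1724), (822348, 1724), (824072, 1724), (825796, 1724), (827520, 1724), (829244, 1724), (830968, 1724), (832692, 1724), (834416, 1724), (836140, 1724), (837864, 1724), (839588, 1724), (841312, 1724), (843036, 1724), (844760, 1724), (846484, 1724), (848208, 1724), (849932, 1724), (851656, 1724), (853380, 1724), (855104, 1724), (856828, 1724), (858552, 1724), (860276, 1724), (862000, 1724), (863724, 1724), (865448, 1724), (867172, 1724), (868896, 1724), (870620, 1724), (872344, 1724), (874068, 1724), (875792, 1724), (877516, 1724), (879240, 1724), (880964, 1724), (882688, 1724), (884412, 1724), (886136, 1724), (887860, 1724), (889584, 1724), (891308, 1724), (893032, 1724), (894756, 1724), (896480,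 1724), (898204, 1724), (899928, 1724), (901652, 1724), (903376, 1724), (905100, 1724), (906824, 1724), (908548, 1724), (910272, 1724), (911996, 1724), (913720, 1724), (915444, 1724), (917168, 1724), (918892, 1724), (920616, 1724), (922340, 1724), (924064, 1724), (925788, 1724), (927512, 1724), (929236, 1724), (930960, 1724), (932684, 1724), (934408, 1724), (936132, 1724), (937856, 1724), (939580, 1724), (941304, 1724), (943028, 1724), (944752, 1724), (946476, 1724), (948200, 1724), (949924, 1724), (951648, 1724), (953372, 1724), (955096, 1724), (956820, 1724), (958544, 1724), (960268, 1724), (961992, 1724), (963716, 1724), (965440, 1724), (967164, 1724), (968888, 1724), (970612, 1724), (972336, 1724), (974060, 1724), (975784, 1724), (977508, 1724), (979232, 1724), (980956, 1724), (982680, 1724), (984404, 1724), (986128, 1724), (987852, 1724), (989576, 1724), (991300, 1724), (993024, 1724), (994748, 1724), (996472, 1724), (998196, 1724), (999920, 1724), (1001644, 1724), (1003368, 1724), (1005092, 1724), (1006816, 1724), (1008540, 1724), (1010264, 1724), (1011988, 1724), (1013712,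 1724), (1015436, 1724), (1017160, 1724), (1018884, 1724), (1020608, 1724), (1022332, 1724), (1024056, 1724), (1025780, 1724), (1027504, 1724), (1029228, 1724), (1030952, 1724), (1032676, 1724)] ++ [(1034400, 1724), (1036124, 1724), (1037848, 1724), (1039572, 1724), (1041296, 1724), (1043020, 1724), (1044744, 1724), (1046468, 1724), (1048192, 1724), (1049916, 1724), (1051640, 1724), (1053364, 1724), (1055088, 1724), (1056812, 1724), (1058536, 1724), (1060260, 1724), (1061984, 1724), (1063708, 1724), (1065432, 1724), (1067156, 1724), (1068880, 1724), (1070604, 1724), (1072328, 1724), (1074052, 1724), (1075776, 1724), (1077500, 1724), (1079224, 1724), (1080948, 1724), (1082672, 1724), (1084396, 1724), (1086120, 1724), (1087844, 1724), (1089568, 1724), (1091292, 1724), (1093016, 1724), (1094740, 1724), (1096464, 1724), (1098188, 1724), (1099912, 1724), (1101636, 1724), (1103360, 1724), (1105084, 1724), (1106808, 1724), (1108532, 1724), (1110256, 1724), (1111980, 1724), (1113704, 1724), (1115428, 1724), (1117152, 1724), (1118876, 1724), (1120600, 1724), (1122324, 1724), (1124048,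 1724), (1125772, 1724), (1127496, 1724), (1129220, 1724), (1130944, 1724), (1132668, 1724), (1134392, 1724), (1136116, 1724), (1137840, 1724), (1139564, 1724), (1141288, 1724), (1143012, 1724), (1144736, 1724), (1146460, 1724), (1148184, 1724), (1149908, 1724), (1151632, 1724), (1153356, 1724), (1155080, 1724), (1156804, 1724), (1158528, 1724), (1160252, 1724), (1161976, 1724), (1163700, 1724), (1165424, 1724), (1167148, 1724), (1168872, 1724), (1170596, 1724), (1172320, 1724), (1174044, 1724), (1175768, 1724), (1177492, 1724), (1179216, 1724), (1180940, 1724), (1182664, 1724), (1184388, 1724), (1186112, 1724), (1187836, 1724), (1189560, 1724), (1191284, 1724), (1193008, 1724), (1194732, 1724), (1196456, 1724), (1198180, 1724), (1199904, 1724), (1201628, 1724), (1203352, 1724), (1205076, 1724), (1206800, 1724), (1208524, 1724), (1210248, 1724), (1211972, 1724), (1213696, 1724), (1215420, 1724), (1217144, 1724), (1218868, 1724), (1220592, 1724), (1222316, 1724), (1224040, 1724), (1225764, 1724), (1227488, 1724), (1229212, 1724), (1230936, 1724), (1232660, 1724), (1234384, 1724),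 (1236108, 1724), (1237832, 1724), (1239556, 1724), (1241280, 1724), (1243004, 1724), (1244728, 1724), (1246452, 1724), (1248176, 1724), (1249900, 1724), (1251624, 1724), (1253348, 1724), (1255072, 1724), (1256796, 1724), (1258520, 1724), (1260244, 1724), (1261968, 1724), (1263692, 1724), (1265416, 1724), (1267140, 1724), (1268864, 1724), (1270588, 1724), (1272312, 1724), (1274036, 1724), (1275760, 1724), (1277484, 1724), (1279208, 1724), (1280932, 1724), (1282656, 1724), (1284380, 1724), (1286104, 1724), (1287828, 1724), (1289552, 1724), (1291276, 1724)] ++ [(1293000, 1724), (1294724, 1724), (1296448, 1724), (1298172, 1724), (1299896, 1724), (1301620, 1724), (1303344, 1724), (1305068, 1724), (1306792, 1724), (1308516, 1724), (1310240, 1724), (1311964, 1724), (1313688, 1724), (1315412, 1724), (1317136, 1724), (1318860, 1724), (1320584, 1724), (1322308, 1724), (1324032, 1724), (1325756, 1724), (1327480, 1724), (1329204, 1724), (1330928, 1724), (1332652, 1724), (1334376, 1724), (1336100, 1724), (1337824, 1724), (1339548, 1724), (1341272, 1724), (1342996, 1724), (1344720, 1724),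 (1346444, 1724), (1348168, 1724), (1349892, 1724), (1351616, 1724), (1353340, 1724), (1355064, 1724), (1356788, 1724), (1358512, 1724), (1360236, 1724), (1361960, 1724), (1363684, 1724), (1365408, 1724), (1367132, 1724), (1368856, 1724), (1370580, 1724), (1372304, 1724), (1374028, 1724), (1375752, 1724), (1377476, 1724), (1379200, 1724), (1380924, 1724), (1382648, 1724), (1384372, 1724), (1386096, 1724), (1387820, 1724), (1389544, 1724), (1391268, 1724), (1392992, 1724), (1394716, 1724), (1396440, 1724), (1398164, 1724), (1399888, 1724), (1401612, 1724), (1403336, 1724), (1405060, 1724), (1406784, 1724), (1408508, 1724), (1410232, 1724), (1411956, 1724), (1413680, 1724), (1415404, 1724), (1417128, 1724), (1418852, 1724), (1420576, 1724), (1422300, 1724), (1424024, 1724), (1425748, 1724), (1427472, 1724), (1429196, 1724), (1430920, 1724), (1432644, 1724), (1434368, 1724), (1436092, 1724), (1437816, 1724), (1439540, 1724), (1441264, 1724), (1442988, 1724), (1444712, 1724), (1446436, 1724), (1448160, 1724), (1449884, 1724), (1451608, 1724), (1453332, 1724), (1455056, 1724), (1456780,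 1724), (1458504, 1724), (1460228, 1724), (1461952, 1724), (1463676, 1724), (1465400, 1724), (1467124, 1724), (1468848, 1724), (1470572, 1724), (1472296, 1724), (1474020, 1724), (1475744, 1724), (1477468, 1724), (1479192, 1724), (1480916, 1724), (1482640, 1724), (1484364, 1724), (1486088, 1724), (1487812, 1724), (1489536, 1724), (1491260, 1724), (1492984, 1724), (1494708, 1724), (1496432, 1724), (1498156, 1724), (1499880, 1724), (1501604, 1724), (1503328, 1724), (1505052, 1724), (1506776, 1724), (1508500, 1724), (1510224, 1724), (1511948, 1724), (1513672, 1724), (1515396, 1724), (1517120, 1724), (1518844, 1724), (1520568, 1724), (1522292, 1724), (1524016, 1724), (1525740, 1724), (1527464, 1724), (1529188, 1724), (1530912, 1724), (1532636, 1724), (1534360, 1724), (1536084, 1724), (1537808, 1192)]) (by decide +kernel) (all_append (all_append (all_append (all_append (all_append (pextra9_grp0) pextra9_grp1) pextra9_grp2) pextra9_grp3) pextra9_grp4) pextra9_grp5)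

end Cfsg.Agent.HNOut
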