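import Cfsg.Agent.Lib.Lead.HNOut.D0
import Cfsg.Agent.Lib.Lead.HNOut.D1
import Cfsg.Agent.Lib.Lead.HNOut.D2
import Cfsg.Agent.Lib.Lead.HNOut.D3
import Cfsg.Agent.Lib.Lead.HNOut.D4
import Cfsg.Agent.Lib.Lead.HNOut.D6
import Cfsg.Agent.Lib.Lead.HNOut.D7

/-! # The outer automorphism group of the Harada–Norton group: the images of the letters 0 and 1, a part (generated) -/

set_option autoImplicit false
set_option maxRecDepth 100000

namespace Cfsg.Agent.HNOut

open Cfsg.Agent.PF Cfsg.Agent.Lib.Helper6 Cfsg.Agent.Lib.Helper6.TC Cfsg.Agent.Lib.Helper6.NatArr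
open Cfsg.Agent.PL (Acts evalF)

theorem pinv0_25 : allR 818625 32745 (fun q => Nat.beq ((fun q => f0 (f1 (q))) q) ((fun q => q) q)) = true := by decide +kernel

theorem pinv0_26 : allR 851370 32745 (fun q => Nat.beq ((fun q => f0 (f1 (q))) q) ((fun q => q) q)) = true := by decide +kernel

theorem pinv0_27 : allR 884115 32745 (fun q => Nat.beq ((fun q => f0 (f1 (q))) q) ((fun q => q) q)) = true := by decide +kernel

theorem pinv0_28 : allR 916860 32745 (fun q => Nat.beq ((fun q => f0 (f1 (q))) q) ((fun q => q) q)) = true := by decide +kernel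

theorem pinv0_29 : allR 949605 32745 (fun q => Nat.beq ((fun q => f0 (f1 (q))) q) ((fun q => q) q)) = true := by decide +kernel

theorem pinv0_30 : allR 982350 32745 (fun q => Nat.beq ((fun q => f0 (f1 (q))) q) ((fun q => q) q)) = true := by decide +kernel

theorem pinv0_31 : allR 1015095 32745 (fun q => Nat.beq ((fun q => f0 (f1 (q))) q) ((fun q => q) q)) = true := by decide +kernel

theorem pinv0_32 : allR 1047840 32745 (fun q => Nat.beq ((fun q => f0 (f1 (q))) q) ((fun q => q) q)) = true := by decide +kernel

theorem pinv0_33 : allR 1080585 32745 (fun q => Nat.beq ((fun q => f0 (f1 (q))) q) ((fun q => q) q)) = true := by decide +kernel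

theorem pinv0_34 : allR 1113330 32745 (fun q => Nat.beq ((fun q => f0 (f1 (q))) q) ((fun q => q) q)) = true := by decide +kernel

theorem pinv0_35 : allR 1146075 32745 (fun q => Nat.beq ((fun q => f0 (f1 (q))) q) ((fun q => q) q)) = true := by decide +kernel

theorem pinv0_36 : allR 1178820 32745 (fun q => Nat.beq ((fun q => f0 (f1 (q))) q) ((fun q => q) q)) = true := by decide +kernel

theorem pinv0_37 : allR 1211565 32745 (fun q => Nat.beq ((fun q => f0 (f1 (q))) q) ((fun q => q) q)) = true := by decide +kernel

theorem pinv0_38 : allR 1244310 32745 (fun q => Nat.beq ((fun q => f0 (f1 (q))) q) ((fun q => q) q)) = true := by decide +kernel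

theorem pinv0_39 : allR 1277055 32745 (fun q => Nat.beq ((fun q => f0 (f1 (q))) q) ((fun q => q) q)) = true := by decide +kernel

theorem pinv0_40 : allR 1309800 32745 (fun q => Nat.beq ((fun q => f0 (f1 (q))) q) ((fun q => q) q)) = true := by decide +kernel

theorem pinv0_41 : allR 1342545 32745 (fun q => Nat.beq ((fun q => f0 (f1 (q))) q) ((fun q => q) q)) = true := by decide +kernel

theorem pinv0_42 : allR 1375290 32745 (fun q => Nat.beq ((fun q => f0 (f1 (q))) q) ((fun q => q) q)) = true := by decide +kernel

theorem pinv0_43 : allR 1408035 32745 (fun q => Nat.beq ((fun q => f0 (f1 (q))) q) ((fun q => q) q)) = true := by decide +kernel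

theorem pinv0_44 : allR 1440780 32745 (fun q => Nat.beq ((fun q => f0 (f1 (q))) q) ((fun q => q) q)) = true := by decide +kernel

theorem pinv0_45 : allR 1473525 32745 (fun q => Nat.beq ((fun q => f0 (f1 (q))) q) ((fun q => q) q)) = true := by decide +kernel

theorem pinv0_46 : allR 1506270 32730 (fun q => Nat.beq ((fun q => f0 (f1 (q))) q) ((fun q => q) q)) = true := by decide +kernel


end Cfsg.Agent.HNOut
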