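import Cfsg.Agent.Lib.Lead.HNOut.D0
import Cfsg.Agent.Lib.Lead.HNOut.D1
import Cfsg.Agent.Lib.Lead.HNOut.D2
import Cfsg.Agent.Lib.Lead.HNOut.D3
import Cfsg.Agent.Lib.Lead.HNOut.D4
import Cfsg.Agent.Lib.Lead.HNOut.D6
import Cfsg.Agent.Lib.Lead.HNOut.D7

/-! # The outer automorphism group of the Harada–Norton group: the images of the letters 6 and 7, a part (generated) -/

set_option autoImplicit false
set_option maxRecDepth 100000

namespace Cfsg.Agent.HNOut

open Cfsg.Agent.PF Cfsg.Agent.Lib.Helper6 Cfsg.Agent.Lib.Helper6.TC Cfsg.Agent.Lib.Helper6.NatArr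
open Cfsg.Agent.PL (Acts evalF)

theorem pinv6_0 : allR 0 19988 (fun q => Nat.beq ((fun q => f6 (f6 (f7 (f7 (q))))) q) ((fun q => q) q)) = true := by decide +kernel

theorem pinv6_1 : allR 19988 19988 (fun q => Nat.beq ((fun q => f6 (f6 (f7 (f7 (q))))) q) ((fun q => q) q)) = true := by decide +kernel

theorem pinv6_2 : allR 39976 19988 (fun q => Nat.beq ((fun q => f6 (f6 (f7 (f7 (q))))) q) ((fun q => q) q)) = true := by decide +kernel

theorem pinv6_3 : allR 59964 19988 (fun q => Nat.beq ((fun q => f6 (f6 (f7 (f7 (q))))) q) ((fun q => q) q)) = true := by decide +kernel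

theorem pinv6_4 : allR 79952 19988 (fun q => Nat.beq ((fun q => f6 (f6 (f7 (f7 (q))))) q) ((fun q => q) q)) = true := by decide +kernel

theorem pinv6_5 : allR 99940 19988 (fun q => Nat.beq ((fun q => f6 (f6 (f7 (f7 (q))))) q) ((fun q => q) q)) = true := by decide +kernel

theorem pinv6_6 : allR 119928 19988 (fun q => Nat.beq ((fun q => f6 (f6 (f7 (f7 (q))))) q) ((fun q => q) q)) = true := by decide +kernel

theorem pinv6_7 : allR 139916 19988 (fun q => Nat.beq ((fun q => f6 (f6 (f7 (f7 (q))))) q) ((fun q => q) q)) = true := by decide +kernel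

theorem pinv6_8 : allR 159904 19988 (fun q => Nat.beq ((fun q => f6 (f6 (f7 (f7 (q))))) q) ((fun q => q) q)) = true := by decide +kernel

theorem pinv6_9 : allR 179892 19988 (fun q => Nat.beq ((fun q => f6 (f6 (f7 (f7 (q))))) q) ((fun q => q) q)) = true := by decide +kernel

theorem pinv6_10 : allR 199880 19988 (fun q => Nat.beq ((fun q => f6 (f6 (f7 (f7 (q))))) q) ((fun q => q) q)) = true := by decide +kernel

theorem pinv6_11 : allR 219868 19988 (fun q => Nat.beq ((fun q => f6 (f6 (f7 (f7 (q))))) q) ((fun q => q) q)) = true := by decide +kernel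

theorem pinv6_12 : allR 239856 19988 (fun q => Nat.beq ((fun q => f6 (f6 (f7 (f7 (q))))) q) ((fun q => q) q)) = true := by decide +kernel

theorem pinv6_13 : allR 259844 19988 (fun q => Nat.beq ((fun q => f6 (f6 (f7 (f7 (q))))) q) ((fun q => q) q)) = true := by decide +kernel

theorem pinv6_14 : allR 279832 19988 (fun q => Nat.beq ((fun q => f6 (f6 (f7 (f7 (q))))) q) ((fun q => q) q)) = true := by decide +kernel

theorem pinv6_15 : allR 299820 19988 (fun q => Nat.beq ((fun q => f6 (f6 (f7 (f7 (q))))) q) ((fun q => q) q)) = true := by decide +kernel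

theorem pinv6_16 : allR 319808 19988 (fun q => Nat.beq ((fun q => f6 (f6 (f7 (f7 (q))))) q) ((fun q => q) q)) = true := by decide +kernel

theorem pinv6_17 : allR 339796 19988 (fun q => Nat.beq ((fun q => f6 (f6 (f7 (f7 (q))))) q) ((fun q => q) q)) = true := by decide +kernel

theorem pinv6_18 : allR 359784 19988 (fun q => Nat.beq ((fun q => f6 (f6 (f7 (f7 (q))))) q) ((fun q => q) q)) = true := by decide +kernel

theorem pinv6_19 : allR 379772 19988 (fun q => Nat.beq ((fun q => f6 (f6 (f7 (f7 (q))))) q) ((fun q => q) q)) = true := by decide +kernel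

theorem pinv6_20 : allR 399760 19988 (fun q => Nat.beq ((fun q => f6 (f6 (f7 (f7 (q))))) q) ((fun q => q) q)) = true := by decide +kernel

theorem pinv6_21 : allR 419748 19988 (fun q => Nat.beq ((fun q => f6 (f6 (f7 (f7 (q))))) q) ((fun q => q) q)) = true := by decide +kernel

theorem pinv6_22 : allR 439736 19988 (fun q => Nat.beq ((fun q => f6 (f6 (f7 (f7 (q))))) q) ((fun q => q) q)) = true := by decide +kernel

theorem pinv6_23 : allR 459724 19988 (fun q => Nat.beq ((fun q => f6 (f6 (f7 (f7 (q))))) q) ((fun q => q) q)) = true := by decide +kernel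

theorem pinv6_24 : allR 479712 19988 (fun q => Nat.beq ((fun q => f6 (f6 (f7 (f7 (q))))) q) ((fun q => q) q)) = true := by decide +kernel


end Cfsg.Agent.HNOut
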