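import Cfsg.Agent.Lib.Lead.HNOut.D0
import Cfsg.Agent.Lib.Lead.HNOut.D1
import Cfsg.Agent.Lib.Lead.HNOut.D2
import Cfsg.Agent.Lib.Lead.HNOut.D3
import Cfsg.Agent.Lib.Lead.HNOut.D4
import Cfsg.Agent.Lib.Lead.HNOut.D6
import Cfsg.Agent.Lib.Lead.HNOut.D7

/-! # The outer automorphism group of the Harada–Norton group: the images of the letters 6 and 7, a part (generated) -/

set_option autoImplicit false
set_option maxRecDepth 100000

namespace Cfsg.Agent.HNOut

open Cfsg.Agent.PF Cfsg.Agent.Lib.Helper6 Cfsg.Agent.Lib.Helper6.TC Cfsg.Agent.Lib.Helper6.NatArr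
open Cfsg.Agent.PL (Acts evalF)

theorem pinv6_25 : allR 499700 19988 (fun q => Nat.beq ((fun q => f6 (f6 (f7 (f7 (q))))) q) ((fun q => q) q)) = true := by decide +kernel

theorem pinv6_26 : allR 519688 19988 (fun q => Nat.beq ((fun q => f6 (f6 (f7 (f7 (q))))) q) ((fun q => q) q)) = true := by decide +kernel

theorem pinv6_27 : allR 539676 19988 (fun q => Nat.beq ((fun q => f6 (f6 (f7 (f7 (q))))) q) ((fun q => q) q)) = true := by decide +kernel

theorem pinv6_28 : allR 559664 19988 (fun q => Nat.beq ((fun q => f6 (f6 (f7 (f7 (q))))) q) ((fun q => q) q)) = true := by decide +kernel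

theorem pinv6_29 : allR 579652 19988 (fun q => Nat.beq ((fun q => f6 (f6 (f7 (f7 (q))))) q) ((fun q => q) q)) = true := by decide +kernel

theorem pinv6_30 : allR 599640 19988 (fun q => Nat.beq ((fun q => f6 (f6 (f7 (f7 (q))))) q) ((fun q => q) q)) = true := by decide +kernel

theorem pinv6_31 : allR 619628 19988 (fun q => Nat.beq ((fun q => f6 (f6 (f7 (f7 (q))))) q) ((fun q => q) q)) = true := by decide +kernel

theorem pinv6_32 : allR 639616 19988 (fun q => Nat.beq ((fun q => f6 (f6 (f7 (f7 (q))))) q) ((fun q => q) q)) = true := by decide +kernel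

theorem pinv6_33 : allR 659604 19988 (fun q => Nat.beq ((fun q => f6 (f6 (f7 (f7 (q))))) q) ((fun q => q) q)) = true := by decide +kernel

theorem pinv6_34 : allR 679592 19988 (fun q => Nat.beq ((fun q => f6 (f6 (f7 (f7 (q))))) q) ((fun q => q) q)) = true := by decide +kernel

theorem pinv6_35 : allR 699580 19988 (fun q => Nat.beq ((fun q => f6 (f6 (f7 (f7 (q))))) q) ((fun q => q) q)) = true := by decide +kernel

theorem pinv6_36 : allR 719568 19988 (fun q => Nat.beq ((fun q => f6 (f6 (f7 (f7 (q))))) q) ((fun q => q) q)) = true := by decide +kernel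

theorem pinv6_37 : allR 739556 19988 (fun q => Nat.beq ((fun q => f6 (f6 (f7 (f7 (q))))) q) ((fun q => q) q)) = true := by decide +kernel

theorem pinv6_38 : allR 759544 19988 (fun q => Nat.beq ((fun q => f6 (f6 (f7 (f7 (q))))) q) ((fun q => q) q)) = true := by decide +kernel

theorem pinv6_39 : allR 779532 19988 (fun q => Nat.beq ((fun q => f6 (f6 (f7 (f7 (q))))) q) ((fun q => q) q)) = true := by decide +kernel

theorem pinv6_40 : allR 799520 19988 (fun q => Nat.beq ((fun q => f6 (f6 (f7 (f7 (q))))) q) ((fun q => q) q)) = true := by decide +kernel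

theorem pinv6_41 : allR 819508 19988 (fun q => Nat.beq ((fun q => f6 (f6 (f7 (f7 (q))))) q) ((fun q => q) q)) = true := by decide +kernel

theorem pinv6_42 : allR 839496 19988 (fun q => Nat.beq ((fun q => f6 (f6 (f7 (f7 (q))))) q) ((fun q => q) q)) = true := by decide +kernel

theorem pinv6_43 : allR 859484 19988 (fun q => Nat.beq ((fun q => f6 (f6 (f7 (f7 (q))))) q) ((fun q => q) q)) = true := by decide +kernel

theorem pinv6_44 : allR 879472 19988 (fun q => Nat.beq ((fun q => f6 (f6 (f7 (f7 (q))))) q) ((fun q => q) q)) = true := by decide +kernel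

theorem pinv6_45 : allR 899460 19988 (fun q => Nat.beq ((fun q => f6 (f6 (f7 (f7 (q))))) q) ((fun q => q) q)) = true := by decide +kernel

theorem pinv6_46 : allR 919448 19988 (fun q => Nat.beq ((fun q => f6 (f6 (f7 (f7 (q))))) q) ((fun q => q) q)) = true := by decide +kernel

theorem pinv6_47 : allR 939436 19988 (fun q => Nat.beq ((fun q => f6 (f6 (f7 (f7 (q))))) q) ((fun q => q) q)) = true := by decide +kernel

theorem pinv6_48 : allR 959424 19988 (fun q => Nat.beq ((fun q => f6 (f6 (f7 (f7 (q))))) q) ((fun q => q) q)) = true := by decide +kernel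

theorem pinv6_49 : allR 979412 19988 (fun q => Nat.beq ((fun q => f6 (f6 (f7 (f7 (q))))) q) ((fun q => q) q)) = true := by decide +kernel


end Cfsg.Agent.HNOut
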