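import Cfsg.Agent.Lib.Lead.HNOut.D0
import Cfsg.Agent.Lib.Lead.HNOut.D1
import Cfsg.Agent.Lib.Lead.HNOut.D2
import Cfsg.Agent.Lib.Lead.HNOut.D3
import Cfsg.Agent.Lib.Lead.HNOut.D4
import Cfsg.Agent.Lib.Lead.HNOut.D6
import Cfsg.Agent.Lib.Lead.HNOut.D7

/-! # The outer automorphism group of the Harada–Norton group: the images of the letters 6 and 7, a part (generated) -/

set_option autoImplicit false
set_option maxRecDepth 100000

namespace Cfsg.Agent.HNOut

open Cfsg.Agent.PF Cfsg.Agent.Lib.Helper6 Cfsg.Agent.Lib.Helper6.TC Cfsg.Agent.Lib.Helper6.NatArr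
open Cfsg.Agent.PL (Acts evalF)

theorem pinv6_50 : allR 999400 19988 (fun q => Nat.beq ((fun q => f6 (f6 (f7 (f7 (q))))) q) ((fun q => q) q)) = true := by decide +kernel

theorem pinv6_51 : allR 1019388 19988 (fun q => Nat.beq ((fun q => f6 (f6 (f7 (f7 (q))))) q) ((fun q => q) q)) = true := by decide +kernel

theorem pinv6_52 : allR 1039376 19988 (fun q => Nat.beq ((fun q => f6 (f6 (f7 (f7 (q))))) q) ((fun q => q) q)) = true := by decide +kernel

theorem pinv6_53 : allR 1059364 19988 (fun q => Nat.beq ((fun q => f6 (f6 (f7 (f7 (q))))) q) ((fun q => q) q)) = true := by decide +kernel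

theorem pinv6_54 : allR 1079352 19988 (fun q => Nat.beq ((fun q => f6 (f6 (f7 (f7 (q))))) q) ((fun q => q) q)) = true := by decide +kernel

theorem pinv6_55 : allR 1099340 19988 (fun q => Nat.beq ((fun q => f6 (f6 (f7 (f7 (q))))) q) ((fun q => q) q)) = true := by decide +kernel

theorem pinv6_56 : allR 1119328 19988 (fun q => Nat.beq ((fun q => f6 (f6 (f7 (f7 (q))))) q) ((fun q => q) q)) = true := by decide +kernel

theorem pinv6_57 : allR 1139316 19988 (fun q => Nat.beq ((fun q => f6 (f6 (f7 (f7 (q))))) q) ((fun q => q) q)) = true := by decide +kernel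

theorem pinv6_58 : allR 1159304 19988 (fun q => Nat.beq ((fun q => f6 (f6 (f7 (f7 (q))))) q) ((fun q => q) q)) = true := by decide +kernel

theorem pinv6_59 : allR 1179292 19988 (fun q => Nat.beq ((fun q => f6 (f6 (f7 (f7 (q))))) q) ((fun q => q) q)) = true := by decide +kernel

theorem pinv6_60 : allR 1199280 19988 (fun q => Nat.beq ((fun q => f6 (f6 (f7 (f7 (q))))) q) ((fun q => q) q)) = true := by decide +kernel

theorem pinv6_61 : allR 1219268 19988 (fun q => Nat.beq ((fun q => f6 (f6 (f7 (f7 (q))))) q) ((fun q => q) q)) = true := by decide +kernel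

theorem pinv6_62 : allR 1239256 19988 (fun q => Nat.beq ((fun q => f6 (f6 (f7 (f7 (q))))) q) ((fun q => q) q)) = true := by decide +kernel

theorem pinv6_63 : allR 1259244 19988 (fun q => Nat.beq ((fun q => f6 (f6 (f7 (f7 (q))))) q) ((fun q => q) q)) = true := by decide +kernel

theorem pinv6_64 : allR 1279232 19988 (fun q => Nat.beq ((fun q => f6 (f6 (f7 (f7 (q))))) q) ((fun q => q) q)) = true := by decide +kernel

theorem pinv6_65 : allR 1299220 19988 (fun q => Nat.beq ((fun q => f6 (f6 (f7 (f7 (q))))) q) ((fun q => q) q)) = true := by decide +kernel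

theorem pinv6_66 : allR 1319208 19988 (fun q => Nat.beq ((fun q => f6 (f6 (f7 (f7 (q))))) q) ((fun q => q) q)) = true := by decide +kernel

theorem pinv6_67 : allR 1339196 19988 (fun q => Nat.beq ((fun q => f6 (f6 (f7 (f7 (q))))) q) ((fun q => q) q)) = true := by decide +kernel

theorem pinv6_68 : allR 1359184 19988 (fun q => Nat.beq ((fun q => f6 (f6 (f7 (f7 (q))))) q) ((fun q => q) q)) = true := by decide +kernel

theorem pinv6_69 : allR 1379172 19988 (fun q => Nat.beq ((fun q => f6 (f6 (f7 (f7 (q))))) q) ((fun q => q) q)) = true := by decide +kernel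

theorem pinv6_70 : allR 1399160 19988 (fun q => Nat.beq ((fun q => f6 (f6 (f7 (f7 (q))))) q) ((fun q => q) q)) = true := by decide +kernel

theorem pinv6_71 : allR 1419148 19988 (fun q => Nat.beq ((fun q => f6 (f6 (f7 (f7 (q))))) q) ((fun q => q) q)) = true := by decide +kernel

theorem pinv6_72 : allR 1439136 19988 (fun q => Nat.beq ((fun q => f6 (f6 (f7 (f7 (q))))) q) ((fun q => q) q)) = true := by decide +kernel

theorem pinv6_73 : allR 1459124 19988 (fun q => Nat.beq ((fun q => f6 (f6 (f7 (f7 (q))))) q) ((fun q => q) q)) = true := by decide +kernel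

theorem pinv6_74 : allR 1479112 19988 (fun q => Nat.beq ((fun q => f6 (f6 (f7 (f7 (q))))) q) ((fun q => q) q)) = true := by decide +kernel


end Cfsg.Agent.HNOut
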