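import Cfsg.Agent.Lib.Lead.HNOut.D0
import Cfsg.Agent.Lib.Lead.HNOut.D1
import Cfsg.Agent.Lib.Lead.HNOut.D2
import Cfsg.Agent.Lib.Lead.HNOut.D3
import Cfsg.Agent.Lib.Lead.HNOut.D4
import Cfsg.Agent.Lib.Lead.HNOut.D6
import Cfsg.Agent.Lib.Lead.HNOut.D7

/-! # The outer automorphism group of the Harada–Norton group: the images of the letters 6 and 7, a part (generated) -/

set_option autoImplicit false
set_option maxRecDepth 100000

namespace Cfsg.Agent.HNOut

open Cfsg.Agent.PF Cfsg.Agent.Lib.Helper6 Cfsg.Agent.Lib.Helper6.TC Cfsg.Agent.Lib.Helper6.NatArr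
open Cfsg.Agent.PL (Acts evalF)

theorem pinv6_75 : allR 1499100 19988 (fun q => Nat.beq ((fun q => f6 (f6 (f7 (f7 (q))))) q) ((fun q => q) q)) = true := by decide +kernel

theorem pinv6_76 : allR 1519088 19912 (fun q => Nat.beq ((fun q => f6 (f6 (f7 (f7 (q))))) q) ((fun q => q) q)) = true := by decide +kernel


end Cfsg.Agent.HNOut
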