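import Cfsg.Agent.Lib.Lead.HNOut.TauInv0x0
import Cfsg.Agent.Lib.Lead.HNOut.TauInv0x1
import Cfsg.Agent.Lib.Lead.HNOut.TauInv1x0
import Cfsg.Agent.Lib.Lead.HNOut.TauInv1x1
import Cfsg.Agent.Lib.Lead.HNOut.TauInv2x0
import Cfsg.Agent.Lib.Lead.HNOut.TauInv2x1
import Cfsg.Agent.Lib.Lead.HNOut.TauInv3x0
import Cfsg.Agent.Lib.Lead.HNOut.TauInv3x1
import Cfsg.Agent.Lib.Lead.HNOut.TauInv4x0
import Cfsg.Agent.Lib.Lead.HNOut.TauInv4x1
import Cfsg.Agent.Lib.Lead.HNOut.TauInv4x2
import Cfsg.Agent.Lib.Lead.HNOut.TauInv4x3
import Cfsg.Agent.Lib.Lead.HNOut.TauInv4x4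
import Cfsg.Agent.Lib.Lead.HNOut.TauInv5x0
import Cfsg.Agent.Lib.Lead.HNOut.TauInv5x1
import Cfsg.Agent.Lib.Lead.HNOut.TauInv5x2
import Cfsg.Agent.Lib.Lead.HNOut.TauInv5x3
import Cfsg.Agent.Lib.Lead.HNOut.TauInv5x4
import Cfsg.Agent.Lib.Lead.HNOut.TauInv6x0
import Cfsg.Agent.Lib.Lead.HNOut.TauInv6x1
import Cfsg.Agent.Lib.Lead.HNOut.TauInv6x2
import Cfsg.Agent.Lib.Lead.HNOut.TauInv6x3
import Cfsg.Agent.Lib.Lead.HNOut.TauInv7x0
import Cfsg.Agent.Lib.Lead.HNOut.TauInv7x1
import Cfsg.Agent.Lib.Lead.HNOut.TauInv7x2
import Cfsg.Agent.Lib.Lead.HNOut.TauInv7x3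
import Cfsg.Agent.Lib.Lead.HNOut.DP

/-! # The outer automorphism group of the Harada–Norton group: the images of inverse letters (generated) -/

set_option autoImplicit false
set_option maxRecDepth 100000

namespace Cfsg.Agent.HNOut

open Cfsg.Agent.PF Cfsg.Agent.Lib.Helper6 Cfsg.Agent.Lib.Helper6.TC Cfsg.Agent.Lib.Helper6.NatArr
open Cfsg.Agent.PL (Acts evalF)

theorem pinv0_grp0 : ∀ c ∈ ([(0, 32745), (32745, 32745), (65490, 32745), (98235, 32745), (130980, 32745), (163725, 32745), (196470, 32745), (229215, 32745), (261960, 32745), (294705, 32745), (327450, 32745), (360195, 32745), (392940, 32745), (425685, 32745), (458430, 32745), (491175, 32745), (523920, 32745), (556665, 32745), (589410, 32745), (622155, 32745), (654900, 32745), (687645, 32745), (720390, 32745), (753135, 32745), (785880, 32745), (818625, 32745), (851370, 32745), (884115, 32745), (916860, 32745), (949605, 32745), (982350, 32745), (1015095, 32745), (1047840, 32745), (1080585, 32745), (1113330, 32745), (1146075, 32745), (1178820, 32745), (1211565, 32745), (1244310, 32745), (1277055, 32745), (1309800,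 32745), (1342545, 32745), (1375290, 32745), (1408035, 32745), (1440780, 32745), (1473525, 32745), (1506270, 32730)] : List (ℕ × ℕ)), allR c.1 c.2 (fun q => Nat.beq ((fun q => f0 (f1 (q))) q) ((fun q => q) q)) = true :=
  all_cons pinv0_0 (all_cons pinv0_1 (all_cons pinv0_2 (all_cons pinv0_3 (all_cons pinv0_4 (all_cons pinv0_5 (all_cons pinv0_6 (all_cons pinv0_7 (all_cons pinv0_8 (all_cons pinv0_9 (all_cons pinv0_10 (all_cons pinv0_11 (all_cons pinv0_12 (all_cons pinv0_13 (all_cons pinv0_14 (all_cons pinv0_15 (all_cons pinv0_16 (all_cons pinv0_17 (all_cons pinv0_18 (all_cons pinv0_19 (all_cons pinv0_20 (all_cons pinv0_21 (all_cons pinv0_22 (all_cons pinv0_23 (all_cons pinv0_24 (all_cons pinv0_25 (all_cons pinv0_26 (all_cons pinv0_27 (all_cons pinv0_28 (all_cons pinv0_29 (all_cons pinv0_30 (all_cons pinv0_31 (all_cons pinv0_32 (all_cons pinv0_33 (all_cons pinv0_34 (all_cons pinv0_35 (all_cons pinv0_36 (all_cons pinv0_37 (all_cons pinv0_38 (all_cons pinv0_39 (all_cons pinv0_40 (all_cons pinv0_41 (all_cons pinv0_42 (all_cons pinv0_43 (all_cons pinv0_44 (all_cons pinv0_45 (all_cons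 pinv0_46 (all_nil)))))))))))))))))))))))))))))))))))))))))))))))

/-- the images of the letters 0 and 1 are inverse to each other -/
theorem pinv0 : ∀ q < 1539000, (fun q => p1 (p0 q)) q = (fun q => q) q :=
  eq_of_chunks (f := (fun q => f0 (f1 (q)))) (g := (fun q => q)) ([(0, 32745), (32745, 32745), (65490, 32745), (98235, 32745), (130980, 32745), (163725, 32745), (196470, 32745), (229215, 32745), (261960, 32745), (294705, 32745), (327450, 32745), (360195, 32745), (392940, 32745), (425685, 32745), (458430, 32745), (491175, 32745), (523920, 32745), (556665, 32745), (589410, 32745), (622155, 32745), (654900, 32745), (687645, 32745), (720390, 32745), (753135, 32745), (785880, 32745), (818625, 32745), (851370, 32745), (884115, 32745), (916860, 32745), (949605, 32745), (982350, 32745), (1015095, 32745), (1047840, 32745), (1080585, 32745), (1113330, 32745), (1146075, 32745), (1178820, 32745), (1211565, 32745), (1244310, 32745), (1277055, 32745), (1309800, 32745), (1342545, 32745), (1375290, 32745), (1408035, 32745), (1440780, 32745), (1473525, 32745), (1506270, 32730)]) (by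 decide +kernel) (pinv0_grp0)

theorem pinv1_grp0 : ∀ c ∈ ([(0, 32745), (32745, 32745), (65490, 32745), (98235, 32745), (130980, 32745), (163725, 32745), (196470, 32745), (229215, 32745), (261960, 32745), (294705, 32745), (327450, 32745), (360195, 32745), (392940, 32745), (425685, 32745), (458430, 32745), (491175, 32745), (523920, 32745), (556665, 32745), (589410, 32745), (622155, 32745), (654900, 32745), (687645, 32745), (720390, 32745), (753135, 32745), (785880, 32745), (818625, 32745), (851370, 32745), (884115, 32745), (916860, 32745), (949605, 32745), (982350, 32745), (1015095, 32745), (1047840, 32745), (1080585, 32745), (1113330, 32745), (1146075, 32745), (1178820, 32745), (1211565, 32745), (1244310, 32745), (1277055, 32745), (1309800, 32745), (1342545, 32745), (1375290, 32745), (1408035, 32745), (1440780, 32745), (1473525, 32745), (1506270, 32730)] : List (ℕ × ℕ)), allR c.1 c.2 (fun q => Nat.beq ((fun q => f1 (f0 (q))) q) ((fun q => q) q)) = true :=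
  all_cons pinv1_0 (all_cons pinv1_1 (all_cons pinv1_2 (all_cons pinv1_3 (all_cons pinv1_4 (all_cons pinv1_5 (all_cons pinv1_6 (all_cons pinv1_7 (all_cons pinv1_8 (all_cons pinv1_9 (all_cons pinv1_10 (all_cons pinv1_11 (all_cons pinv1_12 (all_cons pinv1_13 (all_cons pinv1_14 (all_cons pinv1_15 (all_cons pinv1_16 (all_cons pinv1_17 (all_cons pinv1_18 (all_cons pinv1_19 (all_cons pinv1_20 (all_cons pinv1_21 (all_cons pinv1_22 (all_cons pinv1_23 (all_cons pinv1_24 (all_cons pinv1_25 (all_cons pinv1_26 (all_cons pinv1_27 (all_cons pinv1_28 (all_cons pinv1_29 (all_cons pinv1_30 (all_cons pinv1_31 (all_cons pinv1_32 (all_cons pinv1_33 (all_cons pinv1_34 (all_cons pinv1_35 (all_cons pinv1_36 (all_cons pinv1_37 (all_cons pinv1_38 (all_cons pinv1_39 (all_cons pinv1_40 (all_cons pinv1_41 (all_cons pinv1_42 (all_cons pinv1_43 (all_cons pinv1_44 (all_cons pinv1_45 (all_cons pinv1_46 (all_nil)))))))))))))))))))))))))))))))))))))))))))))))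

/-- the images of the letters 1 and 0 are inverse to each other -/
theorem pinv1 : ∀ q < 1539000, (fun q => p0 (p1 q)) q = (fun q => q) q :=
  eq_of_chunks (f := (fun q => f1 (f0 (q)))) (g := (fun q => q)) ([(0, 32745), (32745, 32745), (65490, 32745), (98235, 32745), (130980, 32745), (163725, 32745), (196470, 32745), (229215, 32745), (261960, 32745), (294705, 32745), (327450, 32745), (360195, 32745), (392940, 32745), (425685, 32745), (458430, 32745), (491175, 32745), (523920, 32745), (556665, 32745), (589410, 32745), (622155, 32745), (654900, 32745), (687645, 32745), (720390, 32745), (753135, 32745), (785880, 32745), (818625, 32745), (851370, 32745), (884115, 32745), (916860, 32745), (949605, 32745), (982350, 32745), (1015095, 32745), (1047840, 32745), (1080585, 32745), (1113330, 32745), (1146075, 32745), (1178820, 32745), (1211565, 32745), (1244310, 32745), (1277055, 32745), (1309800, 32745), (1342545, 32745), (1375290, 32745), (1408035, 32745), (1440780, 32745), (1473525, 32745), (1506270, 32730)]) (by decide +kernel) (pinv1_grp0)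

theorem pinv2_grp0 : ∀ c ∈ ([(0, 32745), (32745, 32745), (65490, 32745), (98235, 32745), (130980, 32745), (163725, 32745), (196470, 32745), (229215, 32745), (261960, 32745), (294705, 32745), (327450, 32745), (360195, 32745), (392940, 32745), (425685, 32745), (458430, 32745), (491175, 32745), (523920, 32745), (556665, 32745), (589410, 32745), (622155, 32745), (654900, 32745), (687645, 32745), (720390, 32745), (753135, 32745), (785880, 32745), (818625, 32745), (851370, 32745), (884115, 32745), (916860, 32745), (949605, 32745), (982350, 32745), (1015095, 32745), (1047840, 32745), (1080585, 32745), (1113330, 32745), (1146075, 32745), (1178820, 32745), (1211565, 32745), (1244310, 32745), (1277055, 32745), (1309800, 32745), (1342545, 32745), (1375290, 32745), (1408035, 32745), (1440780, 32745), (1473525, 32745), (1506270, 32730)] : List (ℕ × ℕ)), allR c.1 c.2 (fun q => Nat.beq ((fun q => f2 (f3 (q))) q) ((fun q => q) q)) = true :=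
  all_cons pinv2_0 (all_cons pinv2_1 (all_cons pinv2_2 (all_cons pinv2_3 (all_cons pinv2_4 (all_cons pinv2_5 (all_cons pinv2_6 (all_cons pinv2_7 (all_cons pinv2_8 (all_cons pinv2_9 (all_cons pinv2_10 (all_cons pinv2_11 (all_cons pinv2_12 (all_cons pinv2_13 (all_cons pinv2_14 (all_cons pinv2_15 (all_cons pinv2_16 (all_cons pinv2_17 (all_cons pinv2_18 (all_cons pinv2_19 (all_cons pinv2_20 (all_cons pinv2_21 (all_cons pinv2_22 (all_cons pinv2_23 (all_cons pinv2_24 (all_cons pinv2_25 (all_cons pinv2_26 (all_cons pinv2_27 (all_cons pinv2_28 (all_cons pinv2_29 (all_cons pinv2_30 (all_cons pinv2_31 (all_cons pinv2_32 (all_cons pinv2_33 (all_cons pinv2_34 (all_cons pinv2_35 (all_cons pinv2_36 (all_cons pinv2_37 (all_cons pinv2_38 (all_cons pinv2_39 (all_cons pinv2_40 (all_cons pinv2_41 (all_cons pinv2_42 (all_cons pinv2_43 (all_cons pinv2_44 (all_cons pinv2_45 (all_cons pinv2_46 (all_nil)))))))))))))))))))))))))))))))))))))))))))))))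

/-- the images of the letters 2 and 3 are inverse to each other -/
theorem pinv2 : ∀ q < 1539000, (fun q => p3 (p2 q)) q = (fun q => q) q :=
  eq_of_chunks (f := (fun q => f2 (f3 (q)))) (g := (fun q => q)) ([(0, 32745), (32745, 32745), (65490, 32745), (98235, 32745), (130980, 32745), (163725, 32745), (196470, 32745), (229215, 32745), (261960, 32745), (294705, 32745), (327450, 32745), (360195, 32745), (392940, 32745), (425685, 32745), (458430, 32745), (491175, 32745), (523920, 32745), (556665, 32745), (589410, 32745), (622155, 32745), (654900, 32745), (687645, 32745), (720390, 32745), (753135, 32745), (785880, 32745), (818625, 32745), (851370, 32745), (884115, 32745), (916860, 32745), (949605, 32745), (982350, 32745), (1015095, 32745), (1047840, 32745), (1080585, 32745), (1113330, 32745), (1146075, 32745), (1178820, 32745), (1211565, 32745), (1244310, 32745), (1277055, 32745), (1309800, 32745), (1342545, 32745), (1375290, 32745), (1408035, 32745), (1440780, 32745), (1473525, 32745), (1506270, 32730)]) (by decide +kernel) (pinv2_grp0)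

theorem pinv3_grp0 : ∀ c ∈ ([(0, 32745), (32745, 32745), (65490, 32745), (98235, 32745), (130980, 32745), (163725, 32745), (196470, 32745), (229215, 32745), (261960, 32745), (294705, 32745), (327450, 32745), (360195, 32745), (392940, 32745), (425685, 32745), (458430, 32745), (491175, 32745), (523920, 32745), (556665, 32745), (589410, 32745), (622155, 32745), (654900, 32745), (687645, 32745), (720390, 32745), (753135, 32745), (785880, 32745), (818625, 32745), (851370, 32745), (884115, 32745), (916860, 32745), (949605, 32745), (982350, 32745), (1015095, 32745), (1047840, 32745), (1080585, 32745), (1113330, 32745), (1146075, 32745), (1178820, 32745), (1211565, 32745), (1244310, 32745), (1277055, 32745), (1309800, 32745), (1342545, 32745), (1375290, 32745), (1408035, 32745), (1440780, 32745), (1473525, 32745), (1506270, 32730)] : List (ℕ × ℕ)), allR c.1 c.2 (fun q => Nat.beq ((fun q => f3 (f2 (q))) q) ((fun q => q) q)) = true :=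
  all_cons pinv3_0 (all_cons pinv3_1 (all_cons pinv3_2 (all_cons pinv3_3 (all_cons pinv3_4 (all_cons pinv3_5 (all_cons pinv3_6 (all_cons pinv3_7 (all_cons pinv3_8 (all_cons pinv3_9 (all_cons pinv3_10 (all_cons pinv3_11 (all_cons pinv3_12 (all_cons pinv3_13 (all_cons pinv3_14 (all_cons pinv3_15 (all_cons pinv3_16 (all_cons pinv3_17 (all_cons pinv3_18 (all_cons pinv3_19 (all_cons pinv3_20 (all_cons pinv3_21 (all_cons pinv3_22 (all_cons pinv3_23 (all_cons pinv3_24 (all_cons pinv3_25 (all_cons pinv3_26 (all_cons pinv3_27 (all_cons pinv3_28 (all_cons pinv3_29 (all_cons pinv3_30 (all_cons pinv3_31 (all_cons pinv3_32 (all_cons pinv3_33 (all_cons pinv3_34 (all_cons pinv3_35 (all_cons pinv3_36 (all_cons pinv3_37 (all_cons pinv3_38 (all_cons pinv3_39 (all_cons pinv3_40 (all_cons pinv3_41 (all_cons pinv3_42 (all_cons pinv3_43 (all_cons pinv3_44 (all_cons pinv3_45 (all_cons pinv3_46 (all_nil)))))))))))))))))))))))))))))))))))))))))))))))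

/-- the images of the letters 3 and 2 are inverse to each other -/
theorem pinv3 : ∀ q < 1539000, (fun q => p2 (p3 q)) q = (fun q => q) q :=
  eq_of_chunks (f := (fun q => f3 (f2 (q)))) (g := (fun q => q)) ([(0, 32745), (32745, 32745), (65490, 32745), (98235, 32745), (130980, 32745), (163725, 32745), (196470, 32745), (229215, 32745), (261960, 32745), (294705, 32745), (327450, 32745), (360195, 32745), (392940, 32745), (425685, 32745), (458430, 32745), (491175, 32745), (523920, 32745), (556665, 32745), (589410, 32745), (622155, 32745), (654900, 32745), (687645, 32745), (720390, 32745), (753135, 32745), (785880, 32745), (818625, 32745), (851370, 32745), (884115, 32745), (916860, 32745), (949605, 32745), (982350, 32745), (1015095, 32745), (1047840, 32745), (1080585, 32745), (1113330, 32745), (1146075, 32745), (1178820, 32745), (1211565, 32745), (1244310, 32745), (1277055, 32745), (1309800, 32745), (1342545, 32745), (1375290, 32745), (1408035, 32745), (1440780, 32745), (1473525, 32745), (1506270, 32730)]) (by decide +kernel) (pinv3_grp0)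

theorem pinv4_grp0 : ∀ c ∈ ([(0, 14250), (14250, 14250), (28500, 14250), (42750, 14250), (57000, 14250), (71250, 14250), (85500, 14250), (99750, 14250), (114000, 14250), (128250, 14250), (142500, 14250), (156750, 14250), (171000, 14250), (185250, 14250), (199500, 14250), (213750, 14250), (228000, 14250), (242250, 14250), (256500, 14250), (270750, 14250), (285000, 14250), (299250, 14250), (313500, 14250), (327750, 14250), (342000, 14250), (356250, 14250), (370500, 14250), (384750, 14250), (399000, 14250), (413250, 14250), (427500, 14250), (441750, 14250), (456000, 14250), (470250, 14250), (484500, 14250), (498750, 14250), (513000, 14250), (527250, 14250), (541500, 14250), (555750, 14250), (570000, 14250), (584250, 14250), (598500, 14250), (612750, 14250), (627000, 14250), (641250, 14250), (655500, 14250), (669750, 14250), (684000, 14250), (698250, 14250), (712500, 14250), (726750, 14250), (741000, 14250), (755250, 14250), (769500, 14250), (783750, 14250), (798000, 14250), (812250, 14250), (826500, 14250), (840750, 14250), (855000, 14250), (869250, 14250), (883500, 14250),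 (897750, 14250), (912000, 14250), (926250, 14250), (940500, 14250), (954750, 14250), (969000, 14250), (983250, 14250), (997500, 14250), (1011750, 14250), (1026000, 14250), (1040250, 14250), (1054500, 14250), (1068750, 14250), (1083000, 14250), (1097250, 14250), (1111500, 14250), (1125750, 14250), (1140000, 14250), (1154250, 14250), (1168500, 14250), (1182750, 14250), (1197000, 14250), (1211250, 14250), (1225500, 14250), (1239750, 14250), (1254000, 14250), (1268250, 14250), (1282500, 14250), (1296750, 14250), (1311000, 14250), (1325250, 14250), (1339500, 14250), (1353750, 14250), (1368000, 14250), (1382250, 14250), (1396500, 14250), (1410750, 14250), (1425000, 14250), (1439250, 14250), (1453500, 14250), (1467750, 14250), (1482000, 14250), (1496250, 14250), (1510500, 14250), (1524750, 14250)] : List (ℕ × ℕ)), allR c.1 c.2 (fun q => Nat.beq ((fun q => f0 (f0 (f4 (f0 (f0 (f4 (q))))))) q) ((fun q => q) q)) = true :=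
  all_cons pinv4_0 (all_cons pinv4_1 (all_cons pinv4_2 (all_cons pinv4_3 (all_cons pinv4_4 (all_cons pinv4_5 (all_cons pinv4_6 (all_cons pinv4_7 (all_cons pinv4_8 (all_cons pinv4_9 (all_cons pinv4_10 (all_cons pinv4_11 (all_cons pinv4_12 (all_cons pinv4_13 (all_cons pinv4_14 (all_cons pinv4_15 (all_cons pinv4_16 (all_cons pinv4_17 (all_cons pinv4_18 (all_cons pinv4_19 (all_cons pinv4_20 (all_cons pinv4_21 (all_cons pinv4_22 (all_cons pinv4_23 (all_cons pinv4_24 (all_cons pinv4_25 (all_cons pinv4_26 (all_cons pinv4_27 (all_cons pinv4_28 (all_cons pinv4_29 (all_cons pinv4_30 (all_cons pinv4_31 (all_cons pinv4_32 (all_cons pinv4_33 (all_cons pinv4_34 (all_cons pinv4_35 (all_cons pinv4_36 (all_cons pinv4_37 (all_cons pinv4_38 (all_cons pinv4_39 (all_cons pinv4_40 (all_cons pinv4_41 (all_cons pinv4_42 (all_cons pinv4_43 (all_cons pinv4_44 (all_cons pinv4_45 (all_cons pinv4_46 (all_cons pinv4_47 (all_cons pinv4_48 (all_cons pinv4_49 (all_cons pinv4_50 (all_cons pinv4_51 (all_cons pinv4_52 (all_cons pinv4_53 (all_cons pinv4_54 (all_cons pinv4_55 (all_cons pinv4_56 (all_cons pinv4_57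 (all_cons pinv4_58 (all_cons pinv4_59 (all_cons pinv4_60 (all_cons pinv4_61 (all_cons pinv4_62 (all_cons pinv4_63 (all_cons pinv4_64 (all_cons pinv4_65 (all_cons pinv4_66 (all_cons pinv4_67 (all_cons pinv4_68 (all_cons pinv4_69 (all_cons pinv4_70 (all_cons pinv4_71 (all_cons pinv4_72 (all_cons pinv4_73 (all_cons pinv4_74 (all_cons pinv4_75 (all_cons pinv4_76 (all_cons pinv4_77 (all_cons pinv4_78 (all_cons pinv4_79 (all_cons pinv4_80 (all_cons pinv4_81 (all_cons pinv4_82 (all_cons pinv4_83 (all_cons pinv4_84 (all_cons pinv4_85 (all_cons pinv4_86 (all_cons pinv4_87 (all_cons pinv4_88 (all_cons pinv4_89 (all_cons pinv4_90 (all_cons pinv4_91 (all_cons pinv4_92 (all_cons pinv4_93 (all_cons pinv4_94 (all_cons pinv4_95 (all_cons pinv4_96 (all_cons pinv4_97 (all_cons pinv4_98 (all_cons pinv4_99 (all_cons pinv4_100 (all_cons pinv4_101 (all_cons pinv4_102 (all_cons pinv4_103 (all_cons pinv4_104 (all_cons pinv4_105 (all_cons pinv4_106 (all_cons pinv4_107 (all_nil))))))))))))))))))))))))))))))))))))))))))))))))))))))))))))))))))))))))))))))))))))))))))))))))))))))))))))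

/-- the images of the letters 4 and 5 are inverse to each other -/
theorem pinv4 : ∀ q < 1539000, (fun q => p5 (p4 q)) q = (fun q => q) q :=
  eq_of_chunks (f := (fun q => f0 (f0 (f4 (f0 (f0 (f4 (q)))))))) (g := (fun q => q)) ([(0, 14250), (14250, 14250), (28500, 14250), (42750, 14250), (57000, 14250), (71250, 14250), (85500, 14250), (99750, 14250), (114000, 14250), (128250, 14250), (142500, 14250), (156750, 14250), (171000, 14250), (185250, 14250), (199500, 14250), (213750, 14250), (228000, 14250), (242250, 14250), (256500, 14250), (270750, 14250), (285000, 14250), (299250, 14250), (313500, 14250), (327750, 14250), (342000, 14250), (356250, 14250), (370500, 14250), (384750, 14250), (399000, 14250), (413250, 14250), (427500, 14250), (441750, 14250), (456000, 14250), (470250, 14250), (484500, 14250), (498750, 14250), (513000, 14250), (527250, 14250), (541500, 14250), (555750, 14250), (570000, 14250), (584250, 14250), (598500, 14250), (612750, 14250), (627000, 14250), (641250, 14250), (655500, 14250), (669750, 14250), (684000, 14250), (698250, 14250), (712500, 14250), (726750,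 14250), (741000, 14250), (755250, 14250), (769500, 14250), (783750, 14250), (798000, 14250), (812250, 14250), (826500, 14250), (840750, 14250), (855000, 14250), (869250, 14250), (883500, 14250), (897750, 14250), (912000, 14250), (926250, 14250), (940500, 14250), (954750, 14250), (969000, 14250), (983250, 14250), (997500, 14250), (1011750, 14250), (1026000, 14250), (1040250, 14250), (1054500, 14250), (1068750, 14250), (1083000, 14250), (1097250, 14250), (1111500, 14250), (1125750, 14250), (1140000, 14250), (1154250, 14250), (1168500, 14250), (1182750, 14250), (1197000, 14250), (1211250, 14250), (1225500, 14250), (1239750, 14250), (1254000, 14250), (1268250, 14250), (1282500, 14250), (1296750, 14250), (1311000, 14250), (1325250, 14250), (1339500, 14250), (1353750, 14250), (1368000, 14250), (1382250, 14250), (1396500, 14250), (1410750, 14250), (1425000, 14250), (1439250, 14250), (1453500, 14250), (1467750, 14250), (1482000, 14250), (1496250, 14250), (1510500, 14250), (1524750, 14250)]) (by decide +kernel) (pinv4_grp0)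

theorem pinv5_grp0 : ∀ c ∈ ([(0, 14250), (14250, 14250), (28500, 14250), (42750, 14250), (57000, 14250), (71250, 14250), (85500, 14250), (99750, 14250), (114000, 14250), (128250, 14250), (142500, 14250), (156750, 14250), (171000, 14250), (185250, 14250), (199500, 14250), (213750, 14250), (228000, 14250), (242250, 14250), (256500, 14250), (270750, 14250), (285000, 14250), (299250, 14250), (313500, 14250), (327750, 14250), (342000, 14250), (356250, 14250), (370500, 14250), (384750, 14250), (399000, 14250), (413250, 14250), (427500, 14250), (441750, 14250), (456000, 14250), (470250, 14250), (484500, 14250), (498750, 14250), (513000, 14250), (527250, 14250), (541500, 14250), (555750, 14250), (570000, 14250), (584250, 14250), (598500, 14250), (612750, 14250), (627000, 14250), (641250, 14250), (655500, 14250), (669750, 14250), (684000, 14250), (698250, 14250), (712500, 14250), (726750, 14250), (741000, 14250), (755250, 14250), (769500, 14250), (783750, 14250), (798000, 14250), (812250, 14250), (826500, 14250), (840750, 14250), (855000, 14250), (869250, 14250), (883500, 14250),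 (897750, 14250), (912000, 14250), (926250, 14250), (940500, 14250), (954750, 14250), (969000, 14250), (983250, 14250), (997500, 14250), (1011750, 14250), (1026000, 14250), (1040250, 14250), (1054500, 14250), (1068750, 14250), (1083000, 14250), (1097250, 14250), (1111500, 14250), (1125750, 14250), (1140000, 14250), (1154250, 14250), (1168500, 14250), (1182750, 14250), (1197000, 14250), (1211250, 14250), (1225500, 14250), (1239750, 14250), (1254000, 14250), (1268250, 14250), (1282500, 14250), (1296750, 14250), (1311000, 14250), (1325250, 14250), (1339500, 14250), (1353750, 14250), (1368000, 14250), (1382250, 14250), (1396500, 14250), (1410750, 14250), (1425000, 14250), (1439250, 14250), (1453500, 14250), (1467750, 14250), (1482000, 14250), (1496250, 14250), (1510500, 14250), (1524750, 14250)] : List (ℕ × ℕ)), allR c.1 c.2 (fun q => Nat.beq ((fun q => f0 (f0 (f4 (f0 (f0 (f4 (q))))))) q) ((fun q => q) q)) = true :=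
  all_cons pinv5_0 (all_cons pinv5_1 (all_cons pinv5_2 (all_cons pinv5_3 (all_cons pinv5_4 (all_cons pinv5_5 (all_cons pinv5_6 (all_cons pinv5_7 (all_cons pinv5_8 (all_cons pinv5_9 (all_cons pinv5_10 (all_cons pinv5_11 (all_cons pinv5_12 (all_cons pinv5_13 (all_cons pinv5_14 (all_cons pinv5_15 (all_cons pinv5_16 (all_cons pinv5_17 (all_cons pinv5_18 (all_cons pinv5_19 (all_cons pinv5_20 (all_cons pinv5_21 (all_cons pinv5_22 (all_cons pinv5_23 (all_cons pinv5_24 (all_cons pinv5_25 (all_cons pinv5_26 (all_cons pinv5_27 (all_cons pinv5_28 (all_cons pinv5_29 (all_cons pinv5_30 (all_cons pinv5_31 (all_cons pinv5_32 (all_cons pinv5_33 (all_cons pinv5_34 (all_cons pinv5_35 (all_cons pinv5_36 (all_cons pinv5_37 (all_cons pinv5_38 (all_cons pinv5_39 (all_cons pinv5_40 (all_cons pinv5_41 (all_cons pinv5_42 (all_cons pinv5_43 (all_cons pinv5_44 (all_cons pinv5_45 (all_cons pinv5_46 (all_cons pinv5_47 (all_cons pinv5_48 (all_cons pinv5_49 (all_cons pinv5_50 (all_cons pinv5_51 (all_cons pinv5_52 (all_cons pinv5_53 (all_cons pinv5_54 (all_cons pinv5_55 (all_cons pinv5_56 (all_cons pinv5_57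 (all_cons pinv5_58 (all_cons pinv5_59 (all_cons pinv5_60 (all_cons pinv5_61 (all_cons pinv5_62 (all_cons pinv5_63 (all_cons pinv5_64 (all_cons pinv5_65 (all_cons pinv5_66 (all_cons pinv5_67 (all_cons pinv5_68 (all_cons pinv5_69 (all_cons pinv5_70 (all_cons pinv5_71 (all_cons pinv5_72 (all_cons pinv5_73 (all_cons pinv5_74 (all_cons pinv5_75 (all_cons pinv5_76 (all_cons pinv5_77 (all_cons pinv5_78 (all_cons pinv5_79 (all_cons pinv5_80 (all_cons pinv5_81 (all_cons pinv5_82 (all_cons pinv5_83 (all_cons pinv5_84 (all_cons pinv5_85 (all_cons pinv5_86 (all_cons pinv5_87 (all_cons pinv5_88 (all_cons pinv5_89 (all_cons pinv5_90 (all_cons pinv5_91 (all_cons pinv5_92 (all_cons pinv5_93 (all_cons pinv5_94 (all_cons pinv5_95 (all_cons pinv5_96 (all_cons pinv5_97 (all_cons pinv5_98 (all_cons pinv5_99 (all_cons pinv5_100 (all_cons pinv5_101 (all_cons pinv5_102 (all_cons pinv5_103 (all_cons pinv5_104 (all_cons pinv5_105 (all_cons pinv5_106 (all_cons pinv5_107 (all_nil))))))))))))))))))))))))))))))))))))))))))))))))))))))))))))))))))))))))))))))))))))))))))))))))))))))))))))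

/-- the images of the letters 5 and 4 are inverse to each other -/
theorem pinv5 : ∀ q < 1539000, (fun q => p4 (p5 q)) q = (fun q => q) q :=
  eq_of_chunks (f := (fun q => f0 (f0 (f4 (f0 (f0 (f4 (q)))))))) (g := (fun q => q)) ([(0, 14250), (14250, 14250), (28500, 14250), (42750, 14250), (57000, 14250), (71250, 14250), (85500, 14250), (99750, 14250), (114000, 14250), (128250, 14250), (142500, 14250), (156750, 14250), (171000, 14250), (185250, 14250), (199500, 14250), (213750, 14250), (228000, 14250), (242250, 14250), (256500, 14250), (270750, 14250), (285000, 14250), (299250, 14250), (313500, 14250), (327750, 14250), (342000, 14250), (356250, 14250), (370500, 14250), (384750, 14250), (399000, 14250), (413250, 14250), (427500, 14250), (441750, 14250), (456000, 14250), (470250, 14250), (484500, 14250), (498750, 14250), (513000, 14250), (527250, 14250), (541500, 14250), (555750, 14250), (570000, 14250), (584250, 14250), (598500, 14250), (612750, 14250), (627000, 14250), (641250, 14250), (655500, 14250), (669750, 14250), (684000, 14250), (698250, 14250), (712500, 14250), (726750,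 14250), (741000, 14250), (755250, 14250), (769500, 14250), (783750, 14250), (798000, 14250), (812250, 14250), (826500, 14250), (840750, 14250), (855000, 14250), (869250, 14250), (883500, 14250), (897750, 14250), (912000, 14250), (926250, 14250), (940500, 14250), (954750, 14250), (969000, 14250), (983250, 14250), (997500, 14250), (1011750, 14250), (1026000, 14250), (1040250, 14250), (1054500, 14250), (1068750, 14250), (1083000, 14250), (1097250, 14250), (1111500, 14250), (1125750, 14250), (1140000, 14250), (1154250, 14250), (1168500, 14250), (1182750, 14250), (1197000, 14250), (1211250, 14250), (1225500, 14250), (1239750, 14250), (1254000, 14250), (1268250, 14250), (1282500, 14250), (1296750, 14250), (1311000, 14250), (1325250, 14250), (1339500, 14250), (1353750, 14250), (1368000, 14250), (1382250, 14250), (1396500, 14250), (1410750, 14250), (1425000, 14250), (1439250, 14250), (1453500, 14250), (1467750, 14250), (1482000, 14250), (1496250, 14250), (1510500, 14250), (1524750, 14250)]) (by decide +kernel) (pinv5_grp0)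

theorem pinv6_grp0 : ∀ c ∈ ([(0, 19988), (19988, 19988), (39976, 19988), (59964, 19988), (79952, 19988), (99940, 19988), (119928, 19988), (139916, 19988), (159904, 19988), (179892, 19988), (199880, 19988), (219868, 19988), (239856, 19988), (259844, 19988), (279832, 19988), (299820, 19988), (319808, 19988), (339796, 19988), (359784, 19988), (379772, 19988), (399760, 19988), (419748, 19988), (439736, 19988), (459724, 19988), (479712, 19988), (499700, 19988), (519688, 19988), (539676, 19988), (559664, 19988), (579652, 19988), (599640, 19988), (619628, 19988), (639616, 19988), (659604, 19988), (679592, 19988), (699580, 19988), (719568, 19988), (739556, 19988), (759544, 19988), (779532, 19988), (799520, 19988), (819508, 19988), (839496, 19988), (859484, 19988), (879472, 19988), (899460, 19988), (919448, 19988), (939436, 19988), (959424, 19988), (979412, 19988), (999400, 19988), (1019388, 19988), (1039376, 19988), (1059364, 19988), (1079352, 19988), (1099340, 19988), (1119328, 19988), (1139316, 19988), (1159304, 19988), (1179292, 19988), (1199280, 19988), (1219268, 19988), (1239256,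 19988), (1259244, 19988), (1279232, 19988), (1299220, 19988), (1319208, 19988), (1339196, 19988), (1359184, 19988), (1379172, 19988), (1399160, 19988), (1419148, 19988), (1439136, 19988), (1459124, 19988), (1479112, 19988), (1499100, 19988), (1519088, 19912)] : List (ℕ × ℕ)), allR c.1 c.2 (fun q => Nat.beq ((fun q => f6 (f6 (f7 (f7 (q))))) q) ((fun q => q) q)) = true :=
  all_cons pinv6_0 (all_cons pinv6_1 (all_cons pinv6_2 (all_cons pinv6_3 (all_cons pinv6_4 (all_cons pinv6_5 (all_cons pinv6_6 (all_cons pinv6_7 (all_cons pinv6_8 (all_cons pinv6_9 (all_cons pinv6_10 (all_cons pinv6_11 (all_cons pinv6_12 (all_cons pinv6_13 (all_cons pinv6_14 (all_cons pinv6_15 (all_cons pinv6_16 (all_cons pinv6_17 (all_cons pinv6_18 (all_cons pinv6_19 (all_cons pinv6_20 (all_cons pinv6_21 (all_cons pinv6_22 (all_cons pinv6_23 (all_cons pinv6_24 (all_cons pinv6_25 (all_cons pinv6_26 (all_cons pinv6_27 (all_cons pinv6_28 (all_cons pinv6_29 (all_cons pinv6_30 (all_cons pinv6_31 (all_cons pinv6_32 (all_cons pinv6_33 (all_cons pinv6_34 (all_cons pinv6_35 (all_cons pinv6_36 (all_cons pinv6_37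 (all_cons pinv6_38 (all_cons pinv6_39 (all_cons pinv6_40 (all_cons pinv6_41 (all_cons pinv6_42 (all_cons pinv6_43 (all_cons pinv6_44 (all_cons pinv6_45 (all_cons pinv6_46 (all_cons pinv6_47 (all_cons pinv6_48 (all_cons pinv6_49 (all_cons pinv6_50 (all_cons pinv6_51 (all_cons pinv6_52 (all_cons pinv6_53 (all_cons pinv6_54 (all_cons pinv6_55 (all_cons pinv6_56 (all_cons pinv6_57 (all_cons pinv6_58 (all_cons pinv6_59 (all_cons pinv6_60 (all_cons pinv6_61 (all_cons pinv6_62 (all_cons pinv6_63 (all_cons pinv6_64 (all_cons pinv6_65 (all_cons pinv6_66 (all_cons pinv6_67 (all_cons pinv6_68 (all_cons pinv6_69 (all_cons pinv6_70 (all_cons pinv6_71 (all_cons pinv6_72 (all_cons pinv6_73 (all_cons pinv6_74 (all_cons pinv6_75 (all_cons pinv6_76 (all_nil)))))))))))))))))))))))))))))))))))))))))))))))))))))))))))))))))))))))))))))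

/-- the images of the letters 6 and 7 are inverse to each other -/
theorem pinv6 : ∀ q < 1539000, (fun q => p7 (p6 q)) q = (fun q => q) q :=
  eq_of_chunks (f := (fun q => f6 (f6 (f7 (f7 (q)))))) (g := (fun q => q)) ([(0, 19988), (19988, 19988), (39976, 19988), (59964, 19988), (79952, 19988), (99940, 19988), (119928, 19988), (139916, 19988), (159904, 19988), (179892, 19988), (199880, 19988), (219868, 19988), (239856, 19988), (259844, 19988), (279832, 19988), (299820, 19988), (319808, 19988), (339796, 19988), (359784, 19988), (379772, 19988), (399760, 19988), (419748, 19988), (439736, 19988), (459724, 19988), (479712, 19988), (499700, 19988), (519688, 19988), (539676, 19988), (559664, 19988), (579652, 19988), (599640, 19988), (619628, 19988), (639616, 19988), (659604, 19988), (679592, 19988), (699580, 19988), (719568, 19988), (739556, 19988), (759544, 19988), (779532, 19988), (799520, 19988), (819508, 19988), (839496, 19988), (859484, 19988), (879472, 19988), (899460, 19988), (919448, 19988), (939436, 19988), (959424, 19988), (979412, 19988), (999400, 19988), (1019388,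 19988), (1039376, 19988), (1059364, 19988), (1079352, 19988), (1099340, 19988), (1119328, 19988), (1139316, 19988), (1159304, 19988), (1179292, 19988), (1199280, 19988), (1219268, 19988), (1239256, 19988), (1259244, 19988), (1279232, 19988), (1299220, 19988), (1319208, 19988), (1339196, 19988), (1359184, 19988), (1379172, 19988), (1399160, 19988), (1419148, 19988), (1439136, 19988), (1459124, 19988), (1479112, 19988), (1499100, 19988), (1519088, 19912)]) (by decide +kernel) (pinv6_grp0)

theorem pinv7_grp0 : ∀ c ∈ ([(0, 19988), (19988, 19988), (39976, 19988), (59964, 19988), (79952, 19988), (99940, 19988), (119928, 19988), (139916, 19988), (159904, 19988), (179892, 19988), (199880, 19988), (219868, 19988), (239856, 19988), (259844, 19988), (279832, 19988), (299820, 19988), (319808, 19988), (339796, 19988), (359784, 19988), (379772, 19988), (399760, 19988), (419748, 19988), (439736, 19988), (459724, 19988), (479712, 19988), (499700, 19988), (519688, 19988), (539676, 19988), (559664, 19988), (579652, 19988), (599640, 19988), (619628, 19988), (639616, 19988), (659604, 19988),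 (679592, 19988), (699580, 19988), (719568, 19988), (739556, 19988), (759544, 19988), (779532, 19988), (799520, 19988), (819508, 19988), (839496, 19988), (859484, 19988), (879472, 19988), (899460, 19988), (919448, 19988), (939436, 19988), (959424, 19988), (979412, 19988), (999400, 19988), (1019388, 19988), (1039376, 19988), (1059364, 19988), (1079352, 19988), (1099340, 19988), (1119328, 19988), (1139316, 19988), (1159304, 19988), (1179292, 19988), (1199280, 19988), (1219268, 19988), (1239256, 19988), (1259244, 19988), (1279232, 19988), (1299220, 19988), (1319208, 19988), (1339196, 19988), (1359184, 19988), (1379172, 19988), (1399160, 19988), (1419148, 19988), (1439136, 19988), (1459124, 19988), (1479112, 19988), (1499100, 19988), (1519088, 19912)] : List (ℕ × ℕ)), allR c.1 c.2 (fun q => Nat.beq ((fun q => f7 (f7 (f6 (f6 (q))))) q) ((fun q => q) q)) = true :=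
  all_cons pinv7_0 (all_cons pinv7_1 (all_cons pinv7_2 (all_cons pinv7_3 (all_cons pinv7_4 (all_cons pinv7_5 (all_cons pinv7_6 (all_cons pinv7_7 (all_cons pinv7_8 (all_cons pinv7_9 (all_cons pinv7_10 (all_cons pinv7_11 (all_cons pinv7_12 (all_cons pinv7_13 (all_cons pinv7_14 (all_cons pinv7_15 (all_cons pinv7_16 (all_cons pinv7_17 (all_cons pinv7_18 (all_cons pinv7_19 (all_cons pinv7_20 (all_cons pinv7_21 (all_cons pinv7_22 (all_cons pinv7_23 (all_cons pinv7_24 (all_cons pinv7_25 (all_cons pinv7_26 (all_cons pinv7_27 (all_cons pinv7_28 (all_cons pinv7_29 (all_cons pinv7_30 (all_cons pinv7_31 (all_cons pinv7_32 (all_cons pinv7_33 (all_cons pinv7_34 (all_cons pinv7_35 (all_cons pinv7_36 (all_cons pinv7_37 (all_cons pinv7_38 (all_cons pinv7_39 (all_cons pinv7_40 (all_cons pinv7_41 (all_cons pinv7_42 (all_cons pinv7_43 (all_cons pinv7_44 (all_cons pinv7_45 (all_cons pinv7_46 (all_cons pinv7_47 (all_cons pinv7_48 (all_cons pinv7_49 (all_cons pinv7_50 (all_cons pinv7_51 (all_cons pinv7_52 (all_cons pinv7_53 (all_cons pinv7_54 (all_cons pinv7_55 (all_cons pinv7_56 (all_cons pinv7_57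 (all_cons pinv7_58 (all_cons pinv7_59 (all_cons pinv7_60 (all_cons pinv7_61 (all_cons pinv7_62 (all_cons pinv7_63 (all_cons pinv7_64 (all_cons pinv7_65 (all_cons pinv7_66 (all_cons pinv7_67 (all_cons pinv7_68 (all_cons pinv7_69 (all_cons pinv7_70 (all_cons pinv7_71 (all_cons pinv7_72 (all_cons pinv7_73 (all_cons pinv7_74 (all_cons pinv7_75 (all_cons pinv7_76 (all_nil)))))))))))))))))))))))))))))))))))))))))))))))))))))))))))))))))))))))))))))

/-- the images of the letters 7 and 6 are inverse to each other -/
theorem pinv7 : ∀ q < 1539000, (fun q => p6 (p7 q)) q = (fun q => q) q :=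
  eq_of_chunks (f := (fun q => f7 (f7 (f6 (f6 (q)))))) (g := (fun q => q)) ([(0, 19988), (19988, 19988), (39976, 19988), (59964, 19988), (79952, 19988), (99940, 19988), (119928, 19988), (139916, 19988), (159904, 19988), (179892, 19988), (199880, 19988), (219868, 19988), (239856, 19988), (259844, 19988), (279832, 19988), (299820, 19988), (319808, 19988), (339796, 19988), (359784, 19988), (379772, 19988), (399760, 19988), (419748, 19988), (439736, 19988), (459724, 19988), (479712, 19988), (499700, 19988), (519688, 19988), (539676, 19988), (559664, 19988), (579652, 19988), (599640, 19988), (619628, 19988), (639616, 19988), (659604, 19988), (679592, 19988), (699580, 19988), (719568, 19988), (739556, 19988), (759544, 19988), (779532, 19988), (799520, 19988), (819508, 19988), (839496, 19988), (859484, 19988), (879472, 19988), (899460, 19988), (919448, 19988), (939436, 19988), (959424, 19988), (979412, 19988), (999400, 19988), (1019388, 19988), (1039376, 19988), (1059364, 19988), (1079352, 19988), (1099340, 19988), (1119328, 19988), (1139316, 19988), (1159304, 19988), (1179292,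 19988), (1199280, 19988), (1219268, 19988), (1239256, 19988), (1259244, 19988), (1279232, 19988), (1299220, 19988), (1319208, 19988), (1339196, 19988), (1359184, 19988), (1379172, 19988), (1399160, 19988), (1419148, 19988), (1439136, 19988), (1459124, 19988), (1479112, 19988), (1499100, 19988), (1519088, 19912)]) (by decide +kernel) (pinv7_grp0)


end Cfsg.Agent.HNOut
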