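import Cfsg.Agent.Lib.Lead.HNOut.Reps
import Cfsg.Agent.Lib.Lead.HNOut.TauInv
import Cfsg.Agent.Lib.Helper8.RelLetters
import Cfsg.Agent.Lib.Lead.HNOut.TauExtra6
import Cfsg.Agent.Lib.Lead.HNOut.TauExtra7
import Cfsg.Agent.Lib.Lead.HNOut.TauExtra8
import Cfsg.Agent.Lib.Lead.HNOut.TauExtra9
import Cfsg.Agent.Lib.Lead.HNOut.TauExtra10
import Cfsg.Agent.Lib.Lead.HNOut.TauExtra11
import Cfsg.Agent.Lib.Lead.HNOut.TauExtra12
import Cfsg.Agent.Lib.Lead.HNOut.TauExtra13

/-! # The outer automorphism group of the Harada–Norton group: the homomorphism given by the images of the letters (generated) -/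

set_option autoImplicit false
set_option maxRecDepth 100000

namespace Cfsg.Agent.HNOut

open Cfsg.Agent.PF Cfsg.Agent.Lib.Helper6 Cfsg.Agent.Lib.Helper6.TC Cfsg.Agent.Lib.Helper6.NatArr
open Cfsg.Agent.PL (Acts evalF)
open Cfsg.Agent.Lib.Helper5 Cfsg.Agent.Lib.Helper8.HNBase Cfsg.Agent.Lib.Lead.HNP

open Cfsg Cfsg.Spor

/-- the maps of the letters -/
noncomputable def fl : ℕ → ℕ → ℕ
  | 0 => f0
  | 1 => f1
  | 2 => f2
  | 3 => f3
  | 4 => f4
  | 5 => f4
  | 6 => f6
  | _ => f7

theorem actsP5 : Acts (gP 5) f4 := Cfsg.Agent.PF.Acts.congr (acts_fgen (i := 5) (by norm_num)) eq5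

theorem hfl : ∀ l, l < HNTC.data.T.g → Acts (HNTC.data.P l) (fl l) := by
  intro l hl
  have hl' : l < 8 := hl
  interval_cases l
  · exact actsP0
  · exact actsP1
  · exact actsP2
  · exact actsP3
  · exact actsP4
  · exact actsP5
  · exact actsP6
  · exact actsP7

/-- the maps of the images of the letters -/
noncomputable def fp : ℕ → ℕ → ℕ
  | 0 => p0
  | 1 => p1
  | 2 => p2
  | 3 => p3
  | 4 => p4
  | 5 => p5
  | 6 => p6
  | _ => p7

theorem repP4 : Rep P p4 :=
  rep_wordF (l := [f0, f0, f4]) (Reps.cons rep0 (Reps.cons rep0 (Reps.cons rep4 (Reps.nil P))))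

theorem repP5 : Rep P p5 :=
  rep_wordF (l := [f0, f0, f4]) (Reps.cons rep0 (Reps.cons rep0 (Reps.cons rep4 (Reps.nil P))))

theorem repP6 : Rep P p6 :=
  rep_wordF (l := [f7, f7]) (Reps.cons rep7 (Reps.cons rep7 (Reps.nil P)))

theorem repP7 : Rep P p7 :=
  rep_wordF (l := [f6, f6]) (Reps.cons rep6 (Reps.cons rep6 (Reps.nil P)))

theorem hrep : ∀ l, l < HNTC.data.T.g → Rep (GenBridge.Prange HNTC.data) (fp l) := by
  intro l hl
  have hl' : l < 8 := hl
  interval_cases l
  · exact rep1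
  · exact rep0
  · exact rep3
  · exact rep2
  · exact repP4
  · exact repP5
  · exact repP6
  · exact repP7

theorem hinv : ∀ l, l < HNTC.data.T.g → ∀ q, q < HNTC.data.T.n →
    fp (TCGS.ivN HNTC.data.ivs l) (fp l q) = q := by
  intro l hl
  have hl' : l < 8 := hl
  interval_cases l
  · exact pinv0
  · exact pinv1
  · exact pinv2
  · exact pinv3
  · exact pinv4
  · exact pinv5
  · exact pinv6
  · exact pinv7

theorem hpair : ∀ i j, i < j → j < HNTC.data.gn → ∀ q, q < HNTC.data.T.n →
    (fun q => fp j (fp i q))^[coxLabel ([] : List (HN.Gen × ℕ × HN.Gen)) (HNTC.data.gen i) (HNTC.data.gen j)] q = q := by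
  intro i j _ hj
  exact absurd hj (Nat.not_lt_zero j)

theorem hextra : ∀ p ∈ HNTC.data.extraPow, ∀ q, q < HNTC.data.T.n →
    wordF (((List.replicate p.2 p.1).flatten).map fp) q = q := by
  intro p hp
  have hp' : p ∈ HNTC.extraPow := hp
  simp only [HNTC.extraPow, List.mem_cons, List.not_mem_nil, or_false] at hp'
  rcases hp' with rfl | rfl | rfl | rfl | rfl | rfl | rfl | rfl | rfl | rfl | rfl | rfl | rfl | rfl
  · exact Cfsg.Agent.Lib.Helper8.RelLetters.hextra_of_agree HNTC.data fp fl hfl hp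
      (by intro l hl; fin_cases hl <;> rfl)
  · exact Cfsg.Agent.Lib.Helper8.RelLetters.hextra_of_agree HNTC.data fp fl hfl hp
      (by intro l hl; fin_cases hl <;> rfl)
  · exact Cfsg.Agent.Lib.Helper8.RelLetters.hextra_of_agree HNTC.data fp fl hfl hp
      (by intro l hl; fin_cases hl <;> rfl)
  · exact Cfsg.Agent.Lib.Helper8.RelLetters.hextra_of_agree HNTC.data fp fl hfl hp
      (by intro l hl; fin_cases hl <;> rfl)
  · exact Cfsg.Agent.Lib.Helper8.RelLetters.hextra_of_agree HNTC.data fp fl hfl hp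
      (by intro l hl; fin_cases hl <;> rfl)
  · exact Cfsg.Agent.Lib.Helper8.RelLetters.hextra_of_agree HNTC.data fp fl hfl hp
      (by intro l hl; fin_cases hl <;> rfl)
  · exact pextra6
  · exact pextra7
  · exact pextra8
  · exact pextra9
  · exact pextra10
  · exact pextra11
  · exact pextra12
  · exact pextra13

/-- the images of the letters under the outer automorphism -/
noncomputable def homData : GenBridge.HomData HNTC.data where
  fp := fp
  hrep := hrep
  hinv := hinv
  hpair := hpair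
  hextra := hextra

theorem fp_ne : fp 0 1 ≠ 1 := by decide +kernel

end Cfsg.Agent.HNOut
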