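import Cfsg.Agent.Lib.Lead.HNOut.Reps
import Cfsg.Agent.Lib.Lead.HNOut.ChkXYW
import Cfsg.Agent.Lib.Lead.HNOut.TV
import Cfsg.Agent.Lib.Lead.HNOut.CntA
import Cfsg.Agent.Lib.Lead.HNOut.CntB
import Cfsg.Agent.Lib.Lead.HNOut.Cent
import Cfsg.Agent.Lib.Lead.HNOut.Kill
import Cfsg.Agent.Lib.Lead.HNOut.Rels
import Cfsg.Agent.Lib.Lead.HNOut.Tau
import Cfsg.Agent.Lib.Lead.HNOut.NInn
import Cfsg.Agent.Lib.Lead.HNOut.DSX

/-! # The outer automorphism group of the Harada–Norton group has order two (generated) -/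

set_option autoImplicit false
set_option maxRecDepth 100000

namespace Cfsg.Agent.HNOut

open Cfsg.Agent.PF Cfsg.Agent.Lib.Helper6 Cfsg.Agent.Lib.Helper6.TC Cfsg.Agent.Lib.Helper6.NatArr
open Cfsg.Agent.PL (Acts evalF)
open Cfsg.Agent.Lib.Helper5 Cfsg.Agent.Lib.Helper8.HNBase Cfsg.Agent.Lib.Lead.HNP

open Cfsg Cfsg.Spor

theorem hR : ∀ k < 19, k ≠ 0 → ∃ j : ℕ, ∃ r ∈ ({1, 2} : Finset ℕ), (k * 4 ^ j) % 19 = r % 19 := by
  have h : ∀ k < 19, k ≠ 0 → ∃ j < 9, (k * 4 ^ j) % 19 = 1 % 19 ∨ (k * 4 ^ j) % 19 = 2 % 19 := by decide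
  intro k hk hk0
  obtain ⟨j, -, e | e⟩ := h k hk hk0
  · exact ⟨j, 1, by simp, e⟩
  · exact ⟨j, 2, by simp, e⟩

theorem hsolve : ∀ i < 19, ∃ a : ℕ, (a + 4 * i) % 19 = (4 * a) % 19 := by
  have h : ∀ i < 19, ∃ a < 19, (a + 4 * i) % 19 = (4 * a) % 19 := by decide
  intro i hi
  obtain ⟨a, -, e⟩ := h i hi
  exact ⟨a, e⟩

/-- the certificate -/
noncomputable def setup : FSetup 1539000 P where
  N := 273030912000000
  hN := card_P
  fuel := 12
  p := 19
  hp := by norm_num
  hp2 := by norm_num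
  m := 4
  s := 8
  r₁ := 2
  hR := hR
  hsolve := hsolve
  x := x
  y := y
  w := w
  hx := hx
  hy := hy
  hw := hw
  fx := f8
  fy := f9
  fw := f10
  fv := f10
  ax := ax
  ay := ay
  aw := aw
  chk_v := chk_v
  q₀ := 5
  hq₀ := by norm_num
  chk_x := chk_x
  chk_x1 := chk_x1
  chk_yx := chk_yx
  chk_wy := chk_wy
  LG := LA0
  LsG := LsA
  hG := hKA
  chk_treeG := chk_treeA
  chk_countsG := chk_countsA
  LA := LA0
  LsA := LsA
  hA := hA
  chk_treeA := chk_treeA
  chk_countsA := chk_countsA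
  chk_cycA := chk_cycA
  tests := [0]
  chk_centX := chk_centX
  LB := LB0
  LsB := LsB
  hB := hB
  chk_treeB := chk_treeB
  chk_countsB := chk_countsB
  chk_cycB := chk_cycB
  kills := kills
  chk_rels := chk_rels
  testsB := [0, 1]

/-- the presented group is finite (the instance for the form in which the certificate names it) -/
instance finite_HN0 : Finite (CoxPresented HN.Gen [] HN.extra) := finite_HN

/-- the presented group is simple (the instance for the form in which the certificate names it) -/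
instance isSimpleGroup_HN0 : IsSimpleGroup (CoxPresented HN.Gen [] HN.extra) := isSimpleGroup_HN

/-- the outer automorphism, on the permutation group -/
theorem exists_σ : ∃ σ : MulAut ↥P, ∀ z : CoxPresented HN.Gen [] HN.extra,
    σ (GenBridge.iso HNTC.data rho_inj z) = homData.φ z :=
  homData.exists_aut rho_inj (l₀ := 0) (q₀ := 1) (by decide) (by decide) fp_ne

/-- the image of `x` under the outer automorphism acts by the map `fsx` -/
theorem acts_σx (σ : MulAut ↥P) (hσ : ∀ z : CoxPresented HN.Gen [] HN.extra,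
    σ (GenBridge.iso HNTC.data rho_inj z) = homData.φ z) :
    Acts (σ setup.xP).1 fsx := by
  have e : setup.xP = GenBridge.iso HNTC.data rho_inj (SimpG.wordG HNTC.data [6, 3, 0, 6, 5, 7, 1, 2, 0, 0, 2, 0, 7]) := Subtype.ext rfl
  rw [e, hσ]
  have h := homData.acts_φ_wordG [6, 3, 0, 6, 5, 7, 1, 2, 0, 0, 2, 0, 7] (by decide)
  exact Cfsg.Agent.PF.Acts.congr h eqsx

/-- the outer automorphism group of the permutation group has order two -/
theorem card_out_P : Nat.card (Cfsg.Out ↥P) = 2 := by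
  obtain ⟨σ, hσ⟩ := exists_σ
  exact setup.card_out_two chk_kill σ (setup.not_inner_of_cand σ (acts_σx σ hσ) chk_ninn)

/-- **The outer automorphism group of the Harada–Norton group has order two.** -/
theorem card_out : Nat.card (Cfsg.Out HN) = 2 := card_out_of_P card_out_P

end Cfsg.Agent.HNOut
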