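import Cfsg.Agent.Lib.Lead.HNOut.D8
import Cfsg.Agent.Lib.Lead.HNOut.D9
import Cfsg.Agent.Lib.Lead.HNOut.D10

/-! # The outer automorphism group of the Harada–Norton group: the relation number 0, a part (generated) -/

set_option autoImplicit false
set_option maxRecDepth 100000

namespace Cfsg.Agent.HNOut

open Cfsg.Agent.PF Cfsg.Agent.Lib.Helper6 Cfsg.Agent.Lib.Helper6.TC Cfsg.Agent.Lib.Helper6.NatArr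
open Cfsg.Agent.PL (Acts evalF)

theorem rel0_25 : allR 30850 1234 (fun q => Nat.beq ((fun q => f8 (f10 (f8 (f10 (f8 (f10 (f8 (f10 (f8 (f10 (f8 (f10 (f8 (f10 (f8 (f10 (f8 (f10 (f8 (f10 (f8 (f10 (f8 (f10 (f8 (f10 (f8 (f10 (f8 (f10 (f8 (f10 (f8 (f10 (f8 (f10 (f8 (f10 (f8 (f10 (f8 (f10 (f8 (f10 (f8 (f10 (f8 (f10 (f8 (f10 (f8 (f10 (f8 (f10 (f8 (f10 (f8 (f10 (f8 (f10 (f8 (f10 (f8 (f10 (f8 (f10 (f8 (f10 (f8 (f10 (f8 (f10 (f8 (f10 (f8 (f10 (f8 (f10 (f8 (f10 (q))))))))))))))))))))))))))))))))))))))))))))))))))))))))))))))))))))))))))))))))) q) ((fun q => q) q)) = true := by decide +kernel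

theorem rel0_26 : allR 32084 1234 (fun q => Nat.beq ((fun q => f8 (f10 (f8 (f10 (f8 (f10 (f8 (f10 (f8 (f10 (f8 (f10 (f8 (f10 (f8 (f10 (f8 (f10 (f8 (f10 (f8 (f10 (f8 (f10 (f8 (f10 (f8 (f10 (f8 (f10 (f8 (f10 (f8 (f10 (f8 (f10 (f8 (f10 (f8 (f10 (f8 (f10 (f8 (f10 (f8 (f10 (f8 (f10 (f8 (f10 (f8 (f10 (f8 (f10 (f8 (f10 (f8 (f10 (f8 (f10 (f8 (f10 (f8 (f10 (f8 (f10 (f8 (f10 (f8 (f10 (f8 (f10 (f8 (f10 (f8 (f10 (f8 (f10 (f8 (f10 (q))))))))))))))))))))))))))))))))))))))))))))))))))))))))))))))))))))))))))))))))) q) ((fun q => q) q)) = true := by decide +kernel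

theorem rel0_27 : allR 33318 1234 (fun q => Nat.beq ((fun q => f8 (f10 (f8 (f10 (f8 (f10 (f8 (f10 (f8 (f10 (f8 (f10 (f8 (f10 (f8 (f10 (f8 (f10 (f8 (f10 (f8 (f10 (f8 (f10 (f8 (f10 (f8 (f10 (f8 (f10 (f8 (f10 (f8 (f10 (f8 (f10 (f8 (f10 (f8 (f10 (f8 (f10 (f8 (f10 (f8 (f10 (f8 (f10 (f8 (f10 (f8 (f10 (f8 (f10 (f8 (f10 (f8 (f10 (f8 (f10 (f8 (f10 (f8 (f10 (f8 (f10 (f8 (f10 (f8 (f10 (f8 (f10 (f8 (f10 (f8 (f10 (f8 (f10 (f8 (f10 (q))))))))))))))))))))))))))))))))))))))))))))))))))))))))))))))))))))))))))))))))) q) ((fun q => q) q)) = true := by decide +kernel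

theorem rel0_28 : allR 34552 1234 (fun q => Nat.beq ((fun q => f8 (f10 (f8 (f10 (f8 (f10 (f8 (f10 (f8 (f10 (f8 (f10 (f8 (f10 (f8 (f10 (f8 (f10 (f8 (f10 (f8 (f10 (f8 (f10 (f8 (f10 (f8 (f10 (f8 (f10 (f8 (f10 (f8 (f10 (f8 (f10 (f8 (f10 (f8 (f10 (f8 (f10 (f8 (f10 (f8 (f10 (f8 (f10 (f8 (f10 (f8 (f10 (f8 (f10 (f8 (f10 (f8 (f10 (f8 (f10 (f8 (f10 (f8 (f10 (f8 (f10 (f8 (f10 (f8 (f10 (f8 (f10 (f8 (f10 (f8 (f10 (f8 (f10 (f8 (f10 (q))))))))))))))))))))))))))))))))))))))))))))))))))))))))))))))))))))))))))))))))) q) ((fun q => q) q)) = true := by decide +kernel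

theorem rel0_29 : allR 35786 1234 (fun q => Nat.beq ((fun q => f8 (f10 (f8 (f10 (f8 (f10 (f8 (f10 (f8 (f10 (f8 (f10 (f8 (f10 (f8 (f10 (f8 (f10 (f8 (f10 (f8 (f10 (f8 (f10 (f8 (f10 (f8 (f10 (f8 (f10 (f8 (f10 (f8 (f10 (f8 (f10 (f8 (f10 (f8 (f10 (f8 (f10 (f8 (f10 (f8 (f10 (f8 (f10 (f8 (f10 (f8 (f10 (f8 (f10 (f8 (f10 (f8 (f10 (f8 (f10 (f8 (f10 (f8 (f10 (f8 (f10 (f8 (f10 (f8 (f10 (f8 (f10 (f8 (f10 (f8 (f10 (f8 (f10 (f8 (f10 (q))))))))))))))))))))))))))))))))))))))))))))))))))))))))))))))))))))))))))))))))) q) ((fun q => q) q)) = true := by decide +kernel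

theorem rel0_30 : allR 37020 1234 (fun q => Nat.beq ((fun q => f8 (f10 (f8 (f10 (f8 (f10 (f8 (f10 (f8 (f10 (f8 (f10 (f8 (f10 (f8 (f10 (f8 (f10 (f8 (f10 (f8 (f10 (f8 (f10 (f8 (f10 (f8 (f10 (f8 (f10 (f8 (f10 (f8 (f10 (f8 (f10 (f8 (f10 (f8 (f10 (f8 (f10 (f8 (f10 (f8 (f10 (f8 (f10 (f8 (f10 (f8 (f10 (f8 (f10 (f8 (f10 (f8 (f10 (f8 (f10 (f8 (f10 (f8 (f10 (f8 (f10 (f8 (f10 (f8 (f10 (f8 (f10 (f8 (f10 (f8 (f10 (f8 (f10 (f8 (f10 (q))))))))))))))))))))))))))))))))))))))))))))))))))))))))))))))))))))))))))))))))) q) ((fun q => q) q)) = true := by decide +kernel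

theorem rel0_31 : allR 38254 1234 (fun q => Nat.beq ((fun q => f8 (f10 (f8 (f10 (f8 (f10 (f8 (f10 (f8 (f10 (f8 (f10 (f8 (f10 (f8 (f10 (f8 (f10 (f8 (f10 (f8 (f10 (f8 (f10 (f8 (f10 (f8 (f10 (f8 (f10 (f8 (f10 (f8 (f10 (f8 (f10 (f8 (f10 (f8 (f10 (f8 (f10 (f8 (f10 (f8 (f10 (f8 (f10 (f8 (f10 (f8 (f10 (f8 (f10 (f8 (f10 (f8 (f10 (f8 (f10 (f8 (f10 (f8 (f10 (f8 (f10 (f8 (f10 (f8 (f10 (f8 (f10 (f8 (f10 (f8 (f10 (f8 (f10 (f8 (f10 (q))))))))))))))))))))))))))))))))))))))))))))))))))))))))))))))))))))))))))))))))) q) ((fun q => q) q)) = true := by decide +kernel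

theorem rel0_32 : allR 39488 1234 (fun q => Nat.beq ((fun q => f8 (f10 (f8 (f10 (f8 (f10 (f8 (f10 (f8 (f10 (f8 (f10 (f8 (f10 (f8 (f10 (f8 (f10 (f8 (f10 (f8 (f10 (f8 (f10 (f8 (f10 (f8 (f10 (f8 (f10 (f8 (f10 (f8 (f10 (f8 (f10 (f8 (f10 (f8 (f10 (f8 (f10 (f8 (f10 (f8 (f10 (f8 (f10 (f8 (f10 (f8 (f10 (f8 (f10 (f8 (f10 (f8 (f10 (f8 (f10 (f8 (f10 (f8 (f10 (f8 (f10 (f8 (f10 (f8 (f10 (f8 (f10 (f8 (f10 (f8 (f10 (f8 (f10 (f8 (f10 (q))))))))))))))))))))))))))))))))))))))))))))))))))))))))))))))))))))))))))))))))) q) ((fun q => q) q)) = true := by decide +kernel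

theorem rel0_33 : allR 40722 1234 (fun q => Nat.beq ((fun q => f8 (f10 (f8 (f10 (f8 (f10 (f8 (f10 (f8 (f10 (f8 (f10 (f8 (f10 (f8 (f10 (f8 (f10 (f8 (f10 (f8 (f10 (f8 (f10 (f8 (f10 (f8 (f10 (f8 (f10 (f8 (f10 (f8 (f10 (f8 (f10 (f8 (f10 (f8 (f10 (f8 (f10 (f8 (f10 (f8 (f10 (f8 (f10 (f8 (f10 (f8 (f10 (f8 (f10 (f8 (f10 (f8 (f10 (f8 (f10 (f8 (f10 (f8 (f10 (f8 (f10 (f8 (f10 (f8 (f10 (f8 (f10 (f8 (f10 (f8 (f10 (f8 (f10 (f8 (f10 (q))))))))))))))))))))))))))))))))))))))))))))))))))))))))))))))))))))))))))))))))) q) ((fun q => q) q)) = true := by decide +kernel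

theorem rel0_34 : allR 41956 1234 (fun q => Nat.beq ((fun q => f8 (f10 (f8 (f10 (f8 (f10 (f8 (f10 (f8 (f10 (f8 (f10 (f8 (f10 (f8 (f10 (f8 (f10 (f8 (f10 (f8 (f10 (f8 (f10 (f8 (f10 (f8 (f10 (f8 (f10 (f8 (f10 (f8 (f10 (f8 (f10 (f8 (f10 (f8 (f10 (f8 (f10 (f8 (f10 (f8 (f10 (f8 (f10 (f8 (f10 (f8 (f10 (f8 (f10 (f8 (f10 (f8 (f10 (f8 (f10 (f8 (f10 (f8 (f10 (f8 (f10 (f8 (f10 (f8 (f10 (f8 (f10 (f8 (f10 (f8 (f10 (f8 (f10 (f8 (f10 (q))))))))))))))))))))))))))))))))))))))))))))))))))))))))))))))))))))))))))))))))) q) ((fun q => q) q)) = true := by decide +kernel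

theorem rel0_35 : allR 43190 1234 (fun q => Nat.beq ((fun q => f8 (f10 (f8 (f10 (f8 (f10 (f8 (f10 (f8 (f10 (f8 (f10 (f8 (f10 (f8 (f10 (f8 (f10 (f8 (f10 (f8 (f10 (f8 (f10 (f8 (f10 (f8 (f10 (f8 (f10 (f8 (f10 (f8 (f10 (f8 (f10 (f8 (f10 (f8 (f10 (f8 (f10 (f8 (f10 (f8 (f10 (f8 (f10 (f8 (f10 (f8 (f10 (f8 (f10 (f8 (f10 (f8 (f10 (f8 (f10 (f8 (f10 (f8 (f10 (f8 (f10 (f8 (f10 (f8 (f10 (f8 (f10 (f8 (f10 (f8 (f10 (f8 (f10 (f8 (f10 (q))))))))))))))))))))))))))))))))))))))))))))))))))))))))))))))))))))))))))))))))) q) ((fun q => q) q)) = true := by decide +kernel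

theorem rel0_36 : allR 44424 1234 (fun q => Nat.beq ((fun q => f8 (f10 (f8 (f10 (f8 (f10 (f8 (f10 (f8 (f10 (f8 (f10 (f8 (f10 (f8 (f10 (f8 (f10 (f8 (f10 (f8 (f10 (f8 (f10 (f8 (f10 (f8 (f10 (f8 (f10 (f8 (f10 (f8 (f10 (f8 (f10 (f8 (f10 (f8 (f10 (f8 (f10 (f8 (f10 (f8 (f10 (f8 (f10 (f8 (f10 (f8 (f10 (f8 (f10 (f8 (f10 (f8 (f10 (f8 (f10 (f8 (f10 (f8 (f10 (f8 (f10 (f8 (f10 (f8 (f10 (f8 (f10 (f8 (f10 (f8 (f10 (f8 (f10 (f8 (f10 (q))))))))))))))))))))))))))))))))))))))))))))))))))))))))))))))))))))))))))))))))) q) ((fun q => q) q)) = true := by decide +kernel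

theorem rel0_37 : allR 45658 1234 (fun q => Nat.beq ((fun q => f8 (f10 (f8 (f10 (f8 (f10 (f8 (f10 (f8 (f10 (f8 (f10 (f8 (f10 (f8 (f10 (f8 (f10 (f8 (f10 (f8 (f10 (f8 (f10 (f8 (f10 (f8 (f10 (f8 (f10 (f8 (f10 (f8 (f10 (f8 (f10 (f8 (f10 (f8 (f10 (f8 (f10 (f8 (f10 (f8 (f10 (f8 (f10 (f8 (f10 (f8 (f10 (f8 (f10 (f8 (f10 (f8 (f10 (f8 (f10 (f8 (f10 (f8 (f10 (f8 (f10 (f8 (f10 (f8 (f10 (f8 (f10 (f8 (f10 (f8 (f10 (f8 (f10 (f8 (f10 (q))))))))))))))))))))))))))))))))))))))))))))))))))))))))))))))))))))))))))))))))) q) ((fun q => q) q)) = true := by decide +kernel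

theorem rel0_38 : allR 46892 1234 (fun q => Nat.beq ((fun q => f8 (f10 (f8 (f10 (f8 (f10 (f8 (f10 (f8 (f10 (f8 (f10 (f8 (f10 (f8 (f10 (f8 (f10 (f8 (f10 (f8 (f10 (f8 (f10 (f8 (f10 (f8 (f10 (f8 (f10 (f8 (f10 (f8 (f10 (f8 (f10 (f8 (f10 (f8 (f10 (f8 (f10 (f8 (f10 (f8 (f10 (f8 (f10 (f8 (f10 (f8 (f10 (f8 (f10 (f8 (f10 (f8 (f10 (f8 (f10 (f8 (f10 (f8 (f10 (f8 (f10 (f8 (f10 (f8 (f10 (f8 (f10 (f8 (f10 (f8 (f10 (f8 (f10 (f8 (f10 (q))))))))))))))))))))))))))))))))))))))))))))))))))))))))))))))))))))))))))))))))) q) ((fun q => q) q)) = true := by decide +kernel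

theorem rel0_39 : allR 48126 1234 (fun q => Nat.beq ((fun q => f8 (f10 (f8 (f10 (f8 (f10 (f8 (f10 (f8 (f10 (f8 (f10 (f8 (f10 (f8 (f10 (f8 (f10 (f8 (f10 (f8 (f10 (f8 (f10 (f8 (f10 (f8 (f10 (f8 (f10 (f8 (f10 (f8 (f10 (f8 (f10 (f8 (f10 (f8 (f10 (f8 (f10 (f8 (f10 (f8 (f10 (f8 (f10 (f8 (f10 (f8 (f10 (f8 (f10 (f8 (f10 (f8 (f10 (f8 (f10 (f8 (f10 (f8 (f10 (f8 (f10 (f8 (f10 (f8 (f10 (f8 (f10 (f8 (f10 (f8 (f10 (f8 (f10 (f8 (f10 (q))))))))))))))))))))))))))))))))))))))))))))))))))))))))))))))))))))))))))))))))) q) ((fun q => q) q)) = true := by decide +kernel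

theorem rel0_40 : allR 49360 1234 (fun q => Nat.beq ((fun q => f8 (f10 (f8 (f10 (f8 (f10 (f8 (f10 (f8 (f10 (f8 (f10 (f8 (f10 (f8 (f10 (f8 (f10 (f8 (f10 (f8 (f10 (f8 (f10 (f8 (f10 (f8 (f10 (f8 (f10 (f8 (f10 (f8 (f10 (f8 (f10 (f8 (f10 (f8 (f10 (f8 (f10 (f8 (f10 (f8 (f10 (f8 (f10 (f8 (f10 (f8 (f10 (f8 (f10 (f8 (f10 (f8 (f10 (f8 (f10 (f8 (f10 (f8 (f10 (f8 (f10 (f8 (f10 (f8 (f10 (f8 (f10 (f8 (f10 (f8 (f10 (f8 (f10 (f8 (f10 (q))))))))))))))))))))))))))))))))))))))))))))))))))))))))))))))))))))))))))))))))) q) ((fun q => q) q)) = true := by decide +kernel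

theorem rel0_41 : allR 50594 1234 (fun q => Nat.beq ((fun q => f8 (f10 (f8 (f10 (f8 (f10 (f8 (f10 (f8 (f10 (f8 (f10 (f8 (f10 (f8 (f10 (f8 (f10 (f8 (f10 (f8 (f10 (f8 (f10 (f8 (f10 (f8 (f10 (f8 (f10 (f8 (f10 (f8 (f10 (f8 (f10 (f8 (f10 (f8 (f10 (f8 (f10 (f8 (f10 (f8 (f10 (f8 (f10 (f8 (f10 (f8 (f10 (f8 (f10 (f8 (f10 (f8 (f10 (f8 (f10 (f8 (f10 (f8 (f10 (f8 (f10 (f8 (f10 (f8 (f10 (f8 (f10 (f8 (f10 (f8 (f10 (f8 (f10 (f8 (f10 (q))))))))))))))))))))))))))))))))))))))))))))))))))))))))))))))))))))))))))))))))) q) ((fun q => q) q)) = true := by decide +kernel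

theorem rel0_42 : allR 51828 1234 (fun q => Nat.beq ((fun q => f8 (f10 (f8 (f10 (f8 (f10 (f8 (f10 (f8 (f10 (f8 (f10 (f8 (f10 (f8 (f10 (f8 (f10 (f8 (f10 (f8 (f10 (f8 (f10 (f8 (f10 (f8 (f10 (f8 (f10 (f8 (f10 (f8 (f10 (f8 (f10 (f8 (f10 (f8 (f10 (f8 (f10 (f8 (f10 (f8 (f10 (f8 (f10 (f8 (f10 (f8 (f10 (f8 (f10 (f8 (f10 (f8 (f10 (f8 (f10 (f8 (f10 (f8 (f10 (f8 (f10 (f8 (f10 (f8 (f10 (f8 (f10 (f8 (f10 (f8 (f10 (f8 (f10 (f8 (f10 (q))))))))))))))))))))))))))))))))))))))))))))))))))))))))))))))))))))))))))))))))) q) ((fun q => q) q)) = true := by decide +kernel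

theorem rel0_43 : allR 53062 1234 (fun q => Nat.beq ((fun q => f8 (f10 (f8 (f10 (f8 (f10 (f8 (f10 (f8 (f10 (f8 (f10 (f8 (f10 (f8 (f10 (f8 (f10 (f8 (f10 (f8 (f10 (f8 (f10 (f8 (f10 (f8 (f10 (f8 (f10 (f8 (f10 (f8 (f10 (f8 (f10 (f8 (f10 (f8 (f10 (f8 (f10 (f8 (f10 (f8 (f10 (f8 (f10 (f8 (f10 (f8 (f10 (f8 (f10 (f8 (f10 (f8 (f10 (f8 (f10 (f8 (f10 (f8 (f10 (f8 (f10 (f8 (f10 (f8 (f10 (f8 (f10 (f8 (f10 (f8 (f10 (f8 (f10 (f8 (f10 (q))))))))))))))))))))))))))))))))))))))))))))))))))))))))))))))))))))))))))))))))) q) ((fun q => q) q)) = true := by decide +kernel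

theorem rel0_44 : allR 54296 1234 (fun q => Nat.beq ((fun q => f8 (f10 (f8 (f10 (f8 (f10 (f8 (f10 (f8 (f10 (f8 (f10 (f8 (f10 (f8 (f10 (f8 (f10 (f8 (f10 (f8 (f10 (f8 (f10 (f8 (f10 (f8 (f10 (f8 (f10 (f8 (f10 (f8 (f10 (f8 (f10 (f8 (f10 (f8 (f10 (f8 (f10 (f8 (f10 (f8 (f10 (f8 (f10 (f8 (f10 (f8 (f10 (f8 (f10 (f8 (f10 (f8 (f10 (f8 (f10 (f8 (f10 (f8 (f10 (f8 (f10 (f8 (f10 (f8 (f10 (f8 (f10 (f8 (f10 (f8 (f10 (f8 (f10 (f8 (f10 (q))))))))))))))))))))))))))))))))))))))))))))))))))))))))))))))))))))))))))))))))) q) ((fun q => q) q)) = true := by decide +kernel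

theorem rel0_45 : allR 55530 1234 (fun q => Nat.beq ((fun q => f8 (f10 (f8 (f10 (f8 (f10 (f8 (f10 (f8 (f10 (f8 (f10 (f8 (f10 (f8 (f10 (f8 (f10 (f8 (f10 (f8 (f10 (f8 (f10 (f8 (f10 (f8 (f10 (f8 (f10 (f8 (f10 (f8 (f10 (f8 (f10 (f8 (f10 (f8 (f10 (f8 (f10 (f8 (f10 (f8 (f10 (f8 (f10 (f8 (f10 (f8 (f10 (f8 (f10 (f8 (f10 (f8 (f10 (f8 (f10 (f8 (f10 (f8 (f10 (f8 (f10 (f8 (f10 (f8 (f10 (f8 (f10 (f8 (f10 (f8 (f10 (f8 (f10 (f8 (f10 (q))))))))))))))))))))))))))))))))))))))))))))))))))))))))))))))))))))))))))))))))) q) ((fun q => q) q)) = true := by decide +kernel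

theorem rel0_46 : allR 56764 1234 (fun q => Nat.beq ((fun q => f8 (f10 (f8 (f10 (f8 (f10 (f8 (f10 (f8 (f10 (f8 (f10 (f8 (f10 (f8 (f10 (f8 (f10 (f8 (f10 (f8 (f10 (f8 (f10 (f8 (f10 (f8 (f10 (f8 (f10 (f8 (f10 (f8 (f10 (f8 (f10 (f8 (f10 (f8 (f10 (f8 (f10 (f8 (f10 (f8 (f10 (f8 (f10 (f8 (f10 (f8 (f10 (f8 (f10 (f8 (f10 (f8 (f10 (f8 (f10 (f8 (f10 (f8 (f10 (f8 (f10 (f8 (f10 (f8 (f10 (f8 (f10 (f8 (f10 (f8 (f10 (f8 (f10 (f8 (f10 (q))))))))))))))))))))))))))))))))))))))))))))))))))))))))))))))))))))))))))))))))) q) ((fun q => q) q)) = true := by decide +kernel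

theorem rel0_47 : allR 57998 1234 (fun q => Nat.beq ((fun q => f8 (f10 (f8 (f10 (f8 (f10 (f8 (f10 (f8 (f10 (f8 (f10 (f8 (f10 (f8 (f10 (f8 (f10 (f8 (f10 (f8 (f10 (f8 (f10 (f8 (f10 (f8 (f10 (f8 (f10 (f8 (f10 (f8 (f10 (f8 (f10 (f8 (f10 (f8 (f10 (f8 (f10 (f8 (f10 (f8 (f10 (f8 (f10 (f8 (f10 (f8 (f10 (f8 (f10 (f8 (f10 (f8 (f10 (f8 (f10 (f8 (f10 (f8 (f10 (f8 (f10 (f8 (f10 (f8 (f10 (f8 (f10 (f8 (f10 (f8 (f10 (f8 (f10 (f8 (f10 (q))))))))))))))))))))))))))))))))))))))))))))))))))))))))))))))))))))))))))))))))) q) ((fun q => q) q)) = true := by decide +kernel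

theorem rel0_48 : allR 59232 1234 (fun q => Nat.beq ((fun q => f8 (f10 (f8 (f10 (f8 (f10 (f8 (f10 (f8 (f10 (f8 (f10 (f8 (f10 (f8 (f10 (f8 (f10 (f8 (f10 (f8 (f10 (f8 (f10 (f8 (f10 (f8 (f10 (f8 (f10 (f8 (f10 (f8 (f10 (f8 (f10 (f8 (f10 (f8 (f10 (f8 (f10 (f8 (f10 (f8 (f10 (f8 (f10 (f8 (f10 (f8 (f10 (f8 (f10 (f8 (f10 (f8 (f10 (f8 (f10 (f8 (f10 (f8 (f10 (f8 (f10 (f8 (f10 (f8 (f10 (f8 (f10 (f8 (f10 (f8 (f10 (f8 (f10 (f8 (f10 (q))))))))))))))))))))))))))))))))))))))))))))))))))))))))))))))))))))))))))))))))) q) ((fun q => q) q)) = true := by decide +kernel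

theorem rel0_49 : allR 60466 1234 (fun q => Nat.beq ((fun q => f8 (f10 (f8 (f10 (f8 (f10 (f8 (f10 (f8 (f10 (f8 (f10 (f8 (f10 (f8 (f10 (f8 (f10 (f8 (f10 (f8 (f10 (f8 (f10 (f8 (f10 (f8 (f10 (f8 (f10 (f8 (f10 (f8 (f10 (f8 (f10 (f8 (f10 (f8 (f10 (f8 (f10 (f8 (f10 (f8 (f10 (f8 (f10 (f8 (f10 (f8 (f10 (f8 (f10 (f8 (f10 (f8 (f10 (f8 (f10 (f8 (f10 (f8 (f10 (f8 (f10 (f8 (f10 (f8 (f10 (f8 (f10 (f8 (f10 (f8 (f10 (f8 (f10 (f8 (f10 (q))))))))))))))))))))))))))))))))))))))))))))))))))))))))))))))))))))))))))))))))) q) ((fun q => q) q)) = true := by decide +kernel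


end Cfsg.Agent.HNOut
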