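import Cfsg.Agent.Lib.Lead.HNOut.D8
import Cfsg.Agent.Lib.Lead.HNOut.D9
import Cfsg.Agent.Lib.Lead.HNOut.D10

/-! # The outer automorphism group of the Harada–Norton group: the relation number 0, a part (generated) -/

set_option autoImplicit false
set_option maxRecDepth 100000

namespace Cfsg.Agent.HNOut

open Cfsg.Agent.PF Cfsg.Agent.Lib.Helper6 Cfsg.Agent.Lib.Helper6.TC Cfsg.Agent.Lib.Helper6.NatArr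
open Cfsg.Agent.PL (Acts evalF)

theorem rel0_250 : allR 308500 1234 (fun q => Nat.beq ((fun q => f8 (f10 (f8 (f10 (f8 (f10 (f8 (f10 (f8 (f10 (f8 (f10 (f8 (f10 (f8 (f10 (f8 (f10 (f8 (f10 (f8 (f10 (f8 (f10 (f8 (f10 (f8 (f10 (f8 (f10 (f8 (f10 (f8 (f10 (f8 (f10 (f8 (f10 (f8 (f10 (f8 (f10 (f8 (f10 (f8 (f10 (f8 (f10 (f8 (f10 (f8 (f10 (f8 (f10 (f8 (f10 (f8 (f10 (f8 (f10 (f8 (f10 (f8 (f10 (f8 (f10 (f8 (f10 (f8 (f10 (f8 (f10 (f8 (f10 (f8 (f10 (f8 (f10 (f8 (f10 (q))))))))))))))))))))))))))))))))))))))))))))))))))))))))))))))))))))))))))))))))) q) ((fun q => q) q)) = true := by decide +kernel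

theorem rel0_251 : allR 309734 1234 (fun q => Nat.beq ((fun q => f8 (f10 (f8 (f10 (f8 (f10 (f8 (f10 (f8 (f10 (f8 (f10 (f8 (f10 (f8 (f10 (f8 (f10 (f8 (f10 (f8 (f10 (f8 (f10 (f8 (f10 (f8 (f10 (f8 (f10 (f8 (f10 (f8 (f10 (f8 (f10 (f8 (f10 (f8 (f10 (f8 (f10 (f8 (f10 (f8 (f10 (f8 (f10 (f8 (f10 (f8 (f10 (f8 (f10 (f8 (f10 (f8 (f10 (f8 (f10 (f8 (f10 (f8 (f10 (f8 (f10 (f8 (f10 (f8 (f10 (f8 (f10 (f8 (f10 (f8 (f10 (f8 (f10 (f8 (f10 (q))))))))))))))))))))))))))))))))))))))))))))))))))))))))))))))))))))))))))))))))) q) ((fun q => q) q)) = true := by decide +kernel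

theorem rel0_252 : allR 310968 1234 (fun q => Nat.beq ((fun q => f8 (f10 (f8 (f10 (f8 (f10 (f8 (f10 (f8 (f10 (f8 (f10 (f8 (f10 (f8 (f10 (f8 (f10 (f8 (f10 (f8 (f10 (f8 (f10 (f8 (f10 (f8 (f10 (f8 (f10 (f8 (f10 (f8 (f10 (f8 (f10 (f8 (f10 (f8 (f10 (f8 (f10 (f8 (f10 (f8 (f10 (f8 (f10 (f8 (f10 (f8 (f10 (f8 (f10 (f8 (f10 (f8 (f10 (f8 (f10 (f8 (f10 (f8 (f10 (f8 (f10 (f8 (f10 (f8 (f10 (f8 (f10 (f8 (f10 (f8 (f10 (f8 (f10 (f8 (f10 (q))))))))))))))))))))))))))))))))))))))))))))))))))))))))))))))))))))))))))))))))) q) ((fun q => q) q)) = true := by decide +kernel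

theorem rel0_253 : allR 312202 1234 (fun q => Nat.beq ((fun q => f8 (f10 (f8 (f10 (f8 (f10 (f8 (f10 (f8 (f10 (f8 (f10 (f8 (f10 (f8 (f10 (f8 (f10 (f8 (f10 (f8 (f10 (f8 (f10 (f8 (f10 (f8 (f10 (f8 (f10 (f8 (f10 (f8 (f10 (f8 (f10 (f8 (f10 (f8 (f10 (f8 (f10 (f8 (f10 (f8 (f10 (f8 (f10 (f8 (f10 (f8 (f10 (f8 (f10 (f8 (f10 (f8 (f10 (f8 (f10 (f8 (f10 (f8 (f10 (f8 (f10 (f8 (f10 (f8 (f10 (f8 (f10 (f8 (f10 (f8 (f10 (f8 (f10 (f8 (f10 (q))))))))))))))))))))))))))))))))))))))))))))))))))))))))))))))))))))))))))))))))) q) ((fun q => q) q)) = true := by decide +kernel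

theorem rel0_254 : allR 313436 1234 (fun q => Nat.beq ((fun q => f8 (f10 (f8 (f10 (f8 (f10 (f8 (f10 (f8 (f10 (f8 (f10 (f8 (f10 (f8 (f10 (f8 (f10 (f8 (f10 (f8 (f10 (f8 (f10 (f8 (f10 (f8 (f10 (f8 (f10 (f8 (f10 (f8 (f10 (f8 (f10 (f8 (f10 (f8 (f10 (f8 (f10 (f8 (f10 (f8 (f10 (f8 (f10 (f8 (f10 (f8 (f10 (f8 (f10 (f8 (f10 (f8 (f10 (f8 (f10 (f8 (f10 (f8 (f10 (f8 (f10 (f8 (f10 (f8 (f10 (f8 (f10 (f8 (f10 (f8 (f10 (f8 (f10 (f8 (f10 (q))))))))))))))))))))))))))))))))))))))))))))))))))))))))))))))))))))))))))))))))) q) ((fun q => q) q)) = true := by decide +kernel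

theorem rel0_255 : allR 314670 1234 (fun q => Nat.beq ((fun q => f8 (f10 (f8 (f10 (f8 (f10 (f8 (f10 (f8 (f10 (f8 (f10 (f8 (f10 (f8 (f10 (f8 (f10 (f8 (f10 (f8 (f10 (f8 (f10 (f8 (f10 (f8 (f10 (f8 (f10 (f8 (f10 (f8 (f10 (f8 (f10 (f8 (f10 (f8 (f10 (f8 (f10 (f8 (f10 (f8 (f10 (f8 (f10 (f8 (f10 (f8 (f10 (f8 (f10 (f8 (f10 (f8 (f10 (f8 (f10 (f8 (f10 (f8 (f10 (f8 (f10 (f8 (f10 (f8 (f10 (f8 (f10 (f8 (f10 (f8 (f10 (f8 (f10 (f8 (f10 (q))))))))))))))))))))))))))))))))))))))))))))))))))))))))))))))))))))))))))))))))) q) ((fun q => q) q)) = true := by decide +kernel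

theorem rel0_256 : allR 315904 1234 (fun q => Nat.beq ((fun q => f8 (f10 (f8 (f10 (f8 (f10 (f8 (f10 (f8 (f10 (f8 (f10 (f8 (f10 (f8 (f10 (f8 (f10 (f8 (f10 (f8 (f10 (f8 (f10 (f8 (f10 (f8 (f10 (f8 (f10 (f8 (f10 (f8 (f10 (f8 (f10 (f8 (f10 (f8 (f10 (f8 (f10 (f8 (f10 (f8 (f10 (f8 (f10 (f8 (f10 (f8 (f10 (f8 (f10 (f8 (f10 (f8 (f10 (f8 (f10 (f8 (f10 (f8 (f10 (f8 (f10 (f8 (f10 (f8 (f10 (f8 (f10 (f8 (f10 (f8 (f10 (f8 (f10 (f8 (f10 (q))))))))))))))))))))))))))))))))))))))))))))))))))))))))))))))))))))))))))))))))) q) ((fun q => q) q)) = true := by decide +kernel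

theorem rel0_257 : allR 317138 1234 (fun q => Nat.beq ((fun q => f8 (f10 (f8 (f10 (f8 (f10 (f8 (f10 (f8 (f10 (f8 (f10 (f8 (f10 (f8 (f10 (f8 (f10 (f8 (f10 (f8 (f10 (f8 (f10 (f8 (f10 (f8 (f10 (f8 (f10 (f8 (f10 (f8 (f10 (f8 (f10 (f8 (f10 (f8 (f10 (f8 (f10 (f8 (f10 (f8 (f10 (f8 (f10 (f8 (f10 (f8 (f10 (f8 (f10 (f8 (f10 (f8 (f10 (f8 (f10 (f8 (f10 (f8 (f10 (f8 (f10 (f8 (f10 (f8 (f10 (f8 (f10 (f8 (f10 (f8 (f10 (f8 (f10 (f8 (f10 (q))))))))))))))))))))))))))))))))))))))))))))))))))))))))))))))))))))))))))))))))) q) ((fun q => q) q)) = true := by decide +kernel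

theorem rel0_258 : allR 318372 1234 (fun q => Nat.beq ((fun q => f8 (f10 (f8 (f10 (f8 (f10 (f8 (f10 (f8 (f10 (f8 (f10 (f8 (f10 (f8 (f10 (f8 (f10 (f8 (f10 (f8 (f10 (f8 (f10 (f8 (f10 (f8 (f10 (f8 (f10 (f8 (f10 (f8 (f10 (f8 (f10 (f8 (f10 (f8 (f10 (f8 (f10 (f8 (f10 (f8 (f10 (f8 (f10 (f8 (f10 (f8 (f10 (f8 (f10 (f8 (f10 (f8 (f10 (f8 (f10 (f8 (f10 (f8 (f10 (f8 (f10 (f8 (f10 (f8 (f10 (f8 (f10 (f8 (f10 (f8 (f10 (f8 (f10 (f8 (f10 (q))))))))))))))))))))))))))))))))))))))))))))))))))))))))))))))))))))))))))))))))) q) ((fun q => q) q)) = true := by decide +kernel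

theorem rel0_259 : allR 319606 1234 (fun q => Nat.beq ((fun q => f8 (f10 (f8 (f10 (f8 (f10 (f8 (f10 (f8 (f10 (f8 (f10 (f8 (f10 (f8 (f10 (f8 (f10 (f8 (f10 (f8 (f10 (f8 (f10 (f8 (f10 (f8 (f10 (f8 (f10 (f8 (f10 (f8 (f10 (f8 (f10 (f8 (f10 (f8 (f10 (f8 (f10 (f8 (f10 (f8 (f10 (f8 (f10 (f8 (f10 (f8 (f10 (f8 (f10 (f8 (f10 (f8 (f10 (f8 (f10 (f8 (f10 (f8 (f10 (f8 (f10 (f8 (f10 (f8 (f10 (f8 (f10 (f8 (f10 (f8 (f10 (f8 (f10 (f8 (f10 (q))))))))))))))))))))))))))))))))))))))))))))))))))))))))))))))))))))))))))))))))) q) ((fun q => q) q)) = true := by decide +kernel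

theorem rel0_260 : allR 320840 1234 (fun q => Nat.beq ((fun q => f8 (f10 (f8 (f10 (f8 (f10 (f8 (f10 (f8 (f10 (f8 (f10 (f8 (f10 (f8 (f10 (f8 (f10 (f8 (f10 (f8 (f10 (f8 (f10 (f8 (f10 (f8 (f10 (f8 (f10 (f8 (f10 (f8 (f10 (f8 (f10 (f8 (f10 (f8 (f10 (f8 (f10 (f8 (f10 (f8 (f10 (f8 (f10 (f8 (f10 (f8 (f10 (f8 (f10 (f8 (f10 (f8 (f10 (f8 (f10 (f8 (f10 (f8 (f10 (f8 (f10 (f8 (f10 (f8 (f10 (f8 (f10 (f8 (f10 (f8 (f10 (f8 (f10 (f8 (f10 (q))))))))))))))))))))))))))))))))))))))))))))))))))))))))))))))))))))))))))))))))) q) ((fun q => q) q)) = true := by decide +kernel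

theorem rel0_261 : allR 322074 1234 (fun q => Nat.beq ((fun q => f8 (f10 (f8 (f10 (f8 (f10 (f8 (f10 (f8 (f10 (f8 (f10 (f8 (f10 (f8 (f10 (f8 (f10 (f8 (f10 (f8 (f10 (f8 (f10 (f8 (f10 (f8 (f10 (f8 (f10 (f8 (f10 (f8 (f10 (f8 (f10 (f8 (f10 (f8 (f10 (f8 (f10 (f8 (f10 (f8 (f10 (f8 (f10 (f8 (f10 (f8 (f10 (f8 (f10 (f8 (f10 (f8 (f10 (f8 (f10 (f8 (f10 (f8 (f10 (f8 (f10 (f8 (f10 (f8 (f10 (f8 (f10 (f8 (f10 (f8 (f10 (f8 (f10 (f8 (f10 (q))))))))))))))))))))))))))))))))))))))))))))))))))))))))))))))))))))))))))))))))) q) ((fun q => q) q)) = true := by decide +kernel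

theorem rel0_262 : allR 323308 1234 (fun q => Nat.beq ((fun q => f8 (f10 (f8 (f10 (f8 (f10 (f8 (f10 (f8 (f10 (f8 (f10 (f8 (f10 (f8 (f10 (f8 (f10 (f8 (f10 (f8 (f10 (f8 (f10 (f8 (f10 (f8 (f10 (f8 (f10 (f8 (f10 (f8 (f10 (f8 (f10 (f8 (f10 (f8 (f10 (f8 (f10 (f8 (f10 (f8 (f10 (f8 (f10 (f8 (f10 (f8 (f10 (f8 (f10 (f8 (f10 (f8 (f10 (f8 (f10 (f8 (f10 (f8 (f10 (f8 (f10 (f8 (f10 (f8 (f10 (f8 (f10 (f8 (f10 (f8 (f10 (f8 (f10 (f8 (f10 (q))))))))))))))))))))))))))))))))))))))))))))))))))))))))))))))))))))))))))))))))) q) ((fun q => q) q)) = true := by decide +kernel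

theorem rel0_263 : allR 324542 1234 (fun q => Nat.beq ((fun q => f8 (f10 (f8 (f10 (f8 (f10 (f8 (f10 (f8 (f10 (f8 (f10 (f8 (f10 (f8 (f10 (f8 (f10 (f8 (f10 (f8 (f10 (f8 (f10 (f8 (f10 (f8 (f10 (f8 (f10 (f8 (f10 (f8 (f10 (f8 (f10 (f8 (f10 (f8 (f10 (f8 (f10 (f8 (f10 (f8 (f10 (f8 (f10 (f8 (f10 (f8 (f10 (f8 (f10 (f8 (f10 (f8 (f10 (f8 (f10 (f8 (f10 (f8 (f10 (f8 (f10 (f8 (f10 (f8 (f10 (f8 (f10 (f8 (f10 (f8 (f10 (f8 (f10 (f8 (f10 (q))))))))))))))))))))))))))))))))))))))))))))))))))))))))))))))))))))))))))))))))) q) ((fun q => q) q)) = true := by decide +kernel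

theorem rel0_264 : allR 325776 1234 (fun q => Nat.beq ((fun q => f8 (f10 (f8 (f10 (f8 (f10 (f8 (f10 (f8 (f10 (f8 (f10 (f8 (f10 (f8 (f10 (f8 (f10 (f8 (f10 (f8 (f10 (f8 (f10 (f8 (f10 (f8 (f10 (f8 (f10 (f8 (f10 (f8 (f10 (f8 (f10 (f8 (f10 (f8 (f10 (f8 (f10 (f8 (f10 (f8 (f10 (f8 (f10 (f8 (f10 (f8 (f10 (f8 (f10 (f8 (f10 (f8 (f10 (f8 (f10 (f8 (f10 (f8 (f10 (f8 (f10 (f8 (f10 (f8 (f10 (f8 (f10 (f8 (f10 (f8 (f10 (f8 (f10 (f8 (f10 (q))))))))))))))))))))))))))))))))))))))))))))))))))))))))))))))))))))))))))))))))) q) ((fun q => q) q)) = true := by decide +kernel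

theorem rel0_265 : allR 327010 1234 (fun q => Nat.beq ((fun q => f8 (f10 (f8 (f10 (f8 (f10 (f8 (f10 (f8 (f10 (f8 (f10 (f8 (f10 (f8 (f10 (f8 (f10 (f8 (f10 (f8 (f10 (f8 (f10 (f8 (f10 (f8 (f10 (f8 (f10 (f8 (f10 (f8 (f10 (f8 (f10 (f8 (f10 (f8 (f10 (f8 (f10 (f8 (f10 (f8 (f10 (f8 (f10 (f8 (f10 (f8 (f10 (f8 (f10 (f8 (f10 (f8 (f10 (f8 (f10 (f8 (f10 (f8 (f10 (f8 (f10 (f8 (f10 (f8 (f10 (f8 (f10 (f8 (f10 (f8 (f10 (f8 (f10 (f8 (f10 (q))))))))))))))))))))))))))))))))))))))))))))))))))))))))))))))))))))))))))))))))) q) ((fun q => q) q)) = true := by decide +kernel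

theorem rel0_266 : allR 328244 1234 (fun q => Nat.beq ((fun q => f8 (f10 (f8 (f10 (f8 (f10 (f8 (f10 (f8 (f10 (f8 (f10 (f8 (f10 (f8 (f10 (f8 (f10 (f8 (f10 (f8 (f10 (f8 (f10 (f8 (f10 (f8 (f10 (f8 (f10 (f8 (f10 (f8 (f10 (f8 (f10 (f8 (f10 (f8 (f10 (f8 (f10 (f8 (f10 (f8 (f10 (f8 (f10 (f8 (f10 (f8 (f10 (f8 (f10 (f8 (f10 (f8 (f10 (f8 (f10 (f8 (f10 (f8 (f10 (f8 (f10 (f8 (f10 (f8 (f10 (f8 (f10 (f8 (f10 (f8 (f10 (f8 (f10 (f8 (f10 (q))))))))))))))))))))))))))))))))))))))))))))))))))))))))))))))))))))))))))))))))) q) ((fun q => q) q)) = true := by decide +kernel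

theorem rel0_267 : allR 329478 1234 (fun q => Nat.beq ((fun q => f8 (f10 (f8 (f10 (f8 (f10 (f8 (f10 (f8 (f10 (f8 (f10 (f8 (f10 (f8 (f10 (f8 (f10 (f8 (f10 (f8 (f10 (f8 (f10 (f8 (f10 (f8 (f10 (f8 (f10 (f8 (f10 (f8 (f10 (f8 (f10 (f8 (f10 (f8 (f10 (f8 (f10 (f8 (f10 (f8 (f10 (f8 (f10 (f8 (f10 (f8 (f10 (f8 (f10 (f8 (f10 (f8 (f10 (f8 (f10 (f8 (f10 (f8 (f10 (f8 (f10 (f8 (f10 (f8 (f10 (f8 (f10 (f8 (f10 (f8 (f10 (f8 (f10 (f8 (f10 (q))))))))))))))))))))))))))))))))))))))))))))))))))))))))))))))))))))))))))))))))) q) ((fun q => q) q)) = true := by decide +kernel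

theorem rel0_268 : allR 330712 1234 (fun q => Nat.beq ((fun q => f8 (f10 (f8 (f10 (f8 (f10 (f8 (f10 (f8 (f10 (f8 (f10 (f8 (f10 (f8 (f10 (f8 (f10 (f8 (f10 (f8 (f10 (f8 (f10 (f8 (f10 (f8 (f10 (f8 (f10 (f8 (f10 (f8 (f10 (f8 (f10 (f8 (f10 (f8 (f10 (f8 (f10 (f8 (f10 (f8 (f10 (f8 (f10 (f8 (f10 (f8 (f10 (f8 (f10 (f8 (f10 (f8 (f10 (f8 (f10 (f8 (f10 (f8 (f10 (f8 (f10 (f8 (f10 (f8 (f10 (f8 (f10 (f8 (f10 (f8 (f10 (f8 (f10 (f8 (f10 (q))))))))))))))))))))))))))))))))))))))))))))))))))))))))))))))))))))))))))))))))) q) ((fun q => q) q)) = true := by decide +kernel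

theorem rel0_269 : allR 331946 1234 (fun q => Nat.beq ((fun q => f8 (f10 (f8 (f10 (f8 (f10 (f8 (f10 (f8 (f10 (f8 (f10 (f8 (f10 (f8 (f10 (f8 (f10 (f8 (f10 (f8 (f10 (f8 (f10 (f8 (f10 (f8 (f10 (f8 (f10 (f8 (f10 (f8 (f10 (f8 (f10 (f8 (f10 (f8 (f10 (f8 (f10 (f8 (f10 (f8 (f10 (f8 (f10 (f8 (f10 (f8 (f10 (f8 (f10 (f8 (f10 (f8 (f10 (f8 (f10 (f8 (f10 (f8 (f10 (f8 (f10 (f8 (f10 (f8 (f10 (f8 (f10 (f8 (f10 (f8 (f10 (f8 (f10 (f8 (f10 (q))))))))))))))))))))))))))))))))))))))))))))))))))))))))))))))))))))))))))))))))) q) ((fun q => q) q)) = true := by decide +kernel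

theorem rel0_270 : allR 333180 1234 (fun q => Nat.beq ((fun q => f8 (f10 (f8 (f10 (f8 (f10 (f8 (f10 (f8 (f10 (f8 (f10 (f8 (f10 (f8 (f10 (f8 (f10 (f8 (f10 (f8 (f10 (f8 (f10 (f8 (f10 (f8 (f10 (f8 (f10 (f8 (f10 (f8 (f10 (f8 (f10 (f8 (f10 (f8 (f10 (f8 (f10 (f8 (f10 (f8 (f10 (f8 (f10 (f8 (f10 (f8 (f10 (f8 (f10 (f8 (f10 (f8 (f10 (f8 (f10 (f8 (f10 (f8 (f10 (f8 (f10 (f8 (f10 (f8 (f10 (f8 (f10 (f8 (f10 (f8 (f10 (f8 (f10 (f8 (f10 (q))))))))))))))))))))))))))))))))))))))))))))))))))))))))))))))))))))))))))))))))) q) ((fun q => q) q)) = true := by decide +kernel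

theorem rel0_271 : allR 334414 1234 (fun q => Nat.beq ((fun q => f8 (f10 (f8 (f10 (f8 (f10 (f8 (f10 (f8 (f10 (f8 (f10 (f8 (f10 (f8 (f10 (f8 (f10 (f8 (f10 (f8 (f10 (f8 (f10 (f8 (f10 (f8 (f10 (f8 (f10 (f8 (f10 (f8 (f10 (f8 (f10 (f8 (f10 (f8 (f10 (f8 (f10 (f8 (f10 (f8 (f10 (f8 (f10 (f8 (f10 (f8 (f10 (f8 (f10 (f8 (f10 (f8 (f10 (f8 (f10 (f8 (f10 (f8 (f10 (f8 (f10 (f8 (f10 (f8 (f10 (f8 (f10 (f8 (f10 (f8 (f10 (f8 (f10 (f8 (f10 (q))))))))))))))))))))))))))))))))))))))))))))))))))))))))))))))))))))))))))))))))) q) ((fun q => q) q)) = true := by decide +kernel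

theorem rel0_272 : allR 335648 1234 (fun q => Nat.beq ((fun q => f8 (f10 (f8 (f10 (f8 (f10 (f8 (f10 (f8 (f10 (f8 (f10 (f8 (f10 (f8 (f10 (f8 (f10 (f8 (f10 (f8 (f10 (f8 (f10 (f8 (f10 (f8 (f10 (f8 (f10 (f8 (f10 (f8 (f10 (f8 (f10 (f8 (f10 (f8 (f10 (f8 (f10 (f8 (f10 (f8 (f10 (f8 (f10 (f8 (f10 (f8 (f10 (f8 (f10 (f8 (f10 (f8 (f10 (f8 (f10 (f8 (f10 (f8 (f10 (f8 (f10 (f8 (f10 (f8 (f10 (f8 (f10 (f8 (f10 (f8 (f10 (f8 (f10 (f8 (f10 (q))))))))))))))))))))))))))))))))))))))))))))))))))))))))))))))))))))))))))))))))) q) ((fun q => q) q)) = true := by decide +kernel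

theorem rel0_273 : allR 336882 1234 (fun q => Nat.beq ((fun q => f8 (f10 (f8 (f10 (f8 (f10 (f8 (f10 (f8 (f10 (f8 (f10 (f8 (f10 (f8 (f10 (f8 (f10 (f8 (f10 (f8 (f10 (f8 (f10 (f8 (f10 (f8 (f10 (f8 (f10 (f8 (f10 (f8 (f10 (f8 (f10 (f8 (f10 (f8 (f10 (f8 (f10 (f8 (f10 (f8 (f10 (f8 (f10 (f8 (f10 (f8 (f10 (f8 (f10 (f8 (f10 (f8 (f10 (f8 (f10 (f8 (f10 (f8 (f10 (f8 (f10 (f8 (f10 (f8 (f10 (f8 (f10 (f8 (f10 (f8 (f10 (f8 (f10 (f8 (f10 (q))))))))))))))))))))))))))))))))))))))))))))))))))))))))))))))))))))))))))))))))) q) ((fun q => q) q)) = true := by decide +kernel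

theorem rel0_274 : allR 338116 1234 (fun q => Nat.beq ((fun q => f8 (f10 (f8 (f10 (f8 (f10 (f8 (f10 (f8 (f10 (f8 (f10 (f8 (f10 (f8 (f10 (f8 (f10 (f8 (f10 (f8 (f10 (f8 (f10 (f8 (f10 (f8 (f10 (f8 (f10 (f8 (f10 (f8 (f10 (f8 (f10 (f8 (f10 (f8 (f10 (f8 (f10 (f8 (f10 (f8 (f10 (f8 (f10 (f8 (f10 (f8 (f10 (f8 (f10 (f8 (f10 (f8 (f10 (f8 (f10 (f8 (f10 (f8 (f10 (f8 (f10 (f8 (f10 (f8 (f10 (f8 (f10 (f8 (f10 (f8 (f10 (f8 (f10 (f8 (f10 (q))))))))))))))))))))))))))))))))))))))))))))))))))))))))))))))))))))))))))))))))) q) ((fun q => q) q)) = true := by decide +kernel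


end Cfsg.Agent.HNOut
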