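import Cfsg.Agent.Lib.Lead.HNOut.D8
import Cfsg.Agent.Lib.Lead.HNOut.D9
import Cfsg.Agent.Lib.Lead.HNOut.D10

/-! # The outer automorphism group of the Harada–Norton group: the relation number 0, a part (generated) -/

set_option autoImplicit false
set_option maxRecDepth 100000

namespace Cfsg.Agent.HNOut

open Cfsg.Agent.PF Cfsg.Agent.Lib.Helper6 Cfsg.Agent.Lib.Helper6.TC Cfsg.Agent.Lib.Helper6.NatArr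
open Cfsg.Agent.PL (Acts evalF)

theorem rel0_275 : allR 339350 1234 (fun q => Nat.beq ((fun q => f8 (f10 (f8 (f10 (f8 (f10 (f8 (f10 (f8 (f10 (f8 (f10 (f8 (f10 (f8 (f10 (f8 (f10 (f8 (f10 (f8 (f10 (f8 (f10 (f8 (f10 (f8 (f10 (f8 (f10 (f8 (f10 (f8 (f10 (f8 (f10 (f8 (f10 (f8 (f10 (f8 (f10 (f8 (f10 (f8 (f10 (f8 (f10 (f8 (f10 (f8 (f10 (f8 (f10 (f8 (f10 (f8 (f10 (f8 (f10 (f8 (f10 (f8 (f10 (f8 (f10 (f8 (f10 (f8 (f10 (f8 (f10 (f8 (f10 (f8 (f10 (f8 (f10 (f8 (f10 (q))))))))))))))))))))))))))))))))))))))))))))))))))))))))))))))))))))))))))))))))) q) ((fun q => q) q)) = true := by decide +kernel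

theorem rel0_276 : allR 340584 1234 (fun q => Nat.beq ((fun q => f8 (f10 (f8 (f10 (f8 (f10 (f8 (f10 (f8 (f10 (f8 (f10 (f8 (f10 (f8 (f10 (f8 (f10 (f8 (f10 (f8 (f10 (f8 (f10 (f8 (f10 (f8 (f10 (f8 (f10 (f8 (f10 (f8 (f10 (f8 (f10 (f8 (f10 (f8 (f10 (f8 (f10 (f8 (f10 (f8 (f10 (f8 (f10 (f8 (f10 (f8 (f10 (f8 (f10 (f8 (f10 (f8 (f10 (f8 (f10 (f8 (f10 (f8 (f10 (f8 (f10 (f8 (f10 (f8 (f10 (f8 (f10 (f8 (f10 (f8 (f10 (f8 (f10 (f8 (f10 (q))))))))))))))))))))))))))))))))))))))))))))))))))))))))))))))))))))))))))))))))) q) ((fun q => q) q)) = true := by decide +kernel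

theorem rel0_277 : allR 341818 1234 (fun q => Nat.beq ((fun q => f8 (f10 (f8 (f10 (f8 (f10 (f8 (f10 (f8 (f10 (f8 (f10 (f8 (f10 (f8 (f10 (f8 (f10 (f8 (f10 (f8 (f10 (f8 (f10 (f8 (f10 (f8 (f10 (f8 (f10 (f8 (f10 (f8 (f10 (f8 (f10 (f8 (f10 (f8 (f10 (f8 (f10 (f8 (f10 (f8 (f10 (f8 (f10 (f8 (f10 (f8 (f10 (f8 (f10 (f8 (f10 (f8 (f10 (f8 (f10 (f8 (f10 (f8 (f10 (f8 (f10 (f8 (f10 (f8 (f10 (f8 (f10 (f8 (f10 (f8 (f10 (f8 (f10 (f8 (f10 (q))))))))))))))))))))))))))))))))))))))))))))))))))))))))))))))))))))))))))))))))) q) ((fun q => q) q)) = true := by decide +kernel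

theorem rel0_278 : allR 343052 1234 (fun q => Nat.beq ((fun q => f8 (f10 (f8 (f10 (f8 (f10 (f8 (f10 (f8 (f10 (f8 (f10 (f8 (f10 (f8 (f10 (f8 (f10 (f8 (f10 (f8 (f10 (f8 (f10 (f8 (f10 (f8 (f10 (f8 (f10 (f8 (f10 (f8 (f10 (f8 (f10 (f8 (f10 (f8 (f10 (f8 (f10 (f8 (f10 (f8 (f10 (f8 (f10 (f8 (f10 (f8 (f10 (f8 (f10 (f8 (f10 (f8 (f10 (f8 (f10 (f8 (f10 (f8 (f10 (f8 (f10 (f8 (f10 (f8 (f10 (f8 (f10 (f8 (f10 (f8 (f10 (f8 (f10 (f8 (f10 (q))))))))))))))))))))))))))))))))))))))))))))))))))))))))))))))))))))))))))))))))) q) ((fun q => q) q)) = true := by decide +kernel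

theorem rel0_279 : allR 344286 1234 (fun q => Nat.beq ((fun q => f8 (f10 (f8 (f10 (f8 (f10 (f8 (f10 (f8 (f10 (f8 (f10 (f8 (f10 (f8 (f10 (f8 (f10 (f8 (f10 (f8 (f10 (f8 (f10 (f8 (f10 (f8 (f10 (f8 (f10 (f8 (f10 (f8 (f10 (f8 (f10 (f8 (f10 (f8 (f10 (f8 (f10 (f8 (f10 (f8 (f10 (f8 (f10 (f8 (f10 (f8 (f10 (f8 (f10 (f8 (f10 (f8 (f10 (f8 (f10 (f8 (f10 (f8 (f10 (f8 (f10 (f8 (f10 (f8 (f10 (f8 (f10 (f8 (f10 (f8 (f10 (f8 (f10 (f8 (f10 (q))))))))))))))))))))))))))))))))))))))))))))))))))))))))))))))))))))))))))))))))) q) ((fun q => q) q)) = true := by decide +kernel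

theorem rel0_280 : allR 345520 1234 (fun q => Nat.beq ((fun q => f8 (f10 (f8 (f10 (f8 (f10 (f8 (f10 (f8 (f10 (f8 (f10 (f8 (f10 (f8 (f10 (f8 (f10 (f8 (f10 (f8 (f10 (f8 (f10 (f8 (f10 (f8 (f10 (f8 (f10 (f8 (f10 (f8 (f10 (f8 (f10 (f8 (f10 (f8 (f10 (f8 (f10 (f8 (f10 (f8 (f10 (f8 (f10 (f8 (f10 (f8 (f10 (f8 (f10 (f8 (f10 (f8 (f10 (f8 (f10 (f8 (f10 (f8 (f10 (f8 (f10 (f8 (f10 (f8 (f10 (f8 (f10 (f8 (f10 (f8 (f10 (f8 (f10 (f8 (f10 (q))))))))))))))))))))))))))))))))))))))))))))))))))))))))))))))))))))))))))))))))) q) ((fun q => q) q)) = true := by decide +kernel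

theorem rel0_281 : allR 346754 1234 (fun q => Nat.beq ((fun q => f8 (f10 (f8 (f10 (f8 (f10 (f8 (f10 (f8 (f10 (f8 (f10 (f8 (f10 (f8 (f10 (f8 (f10 (f8 (f10 (f8 (f10 (f8 (f10 (f8 (f10 (f8 (f10 (f8 (f10 (f8 (f10 (f8 (f10 (f8 (f10 (f8 (f10 (f8 (f10 (f8 (f10 (f8 (f10 (f8 (f10 (f8 (f10 (f8 (f10 (f8 (f10 (f8 (f10 (f8 (f10 (f8 (f10 (f8 (f10 (f8 (f10 (f8 (f10 (f8 (f10 (f8 (f10 (f8 (f10 (f8 (f10 (f8 (f10 (f8 (f10 (f8 (f10 (f8 (f10 (q))))))))))))))))))))))))))))))))))))))))))))))))))))))))))))))))))))))))))))))))) q) ((fun q => q) q)) = true := by decide +kernel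

theorem rel0_282 : allR 347988 1234 (fun q => Nat.beq ((fun q => f8 (f10 (f8 (f10 (f8 (f10 (f8 (f10 (f8 (f10 (f8 (f10 (f8 (f10 (f8 (f10 (f8 (f10 (f8 (f10 (f8 (f10 (f8 (f10 (f8 (f10 (f8 (f10 (f8 (f10 (f8 (f10 (f8 (f10 (f8 (f10 (f8 (f10 (f8 (f10 (f8 (f10 (f8 (f10 (f8 (f10 (f8 (f10 (f8 (f10 (f8 (f10 (f8 (f10 (f8 (f10 (f8 (f10 (f8 (f10 (f8 (f10 (f8 (f10 (f8 (f10 (f8 (f10 (f8 (f10 (f8 (f10 (f8 (f10 (f8 (f10 (f8 (f10 (f8 (f10 (q))))))))))))))))))))))))))))))))))))))))))))))))))))))))))))))))))))))))))))))))) q) ((fun q => q) q)) = true := by decide +kernel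

theorem rel0_283 : allR 349222 1234 (fun q => Nat.beq ((fun q => f8 (f10 (f8 (f10 (f8 (f10 (f8 (f10 (f8 (f10 (f8 (f10 (f8 (f10 (f8 (f10 (f8 (f10 (f8 (f10 (f8 (f10 (f8 (f10 (f8 (f10 (f8 (f10 (f8 (f10 (f8 (f10 (f8 (f10 (f8 (f10 (f8 (f10 (f8 (f10 (f8 (f10 (f8 (f10 (f8 (f10 (f8 (f10 (f8 (f10 (f8 (f10 (f8 (f10 (f8 (f10 (f8 (f10 (f8 (f10 (f8 (f10 (f8 (f10 (f8 (f10 (f8 (f10 (f8 (f10 (f8 (f10 (f8 (f10 (f8 (f10 (f8 (f10 (f8 (f10 (q))))))))))))))))))))))))))))))))))))))))))))))))))))))))))))))))))))))))))))))))) q) ((fun q => q) q)) = true := by decide +kernel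

theorem rel0_284 : allR 350456 1234 (fun q => Nat.beq ((fun q => f8 (f10 (f8 (f10 (f8 (f10 (f8 (f10 (f8 (f10 (f8 (f10 (f8 (f10 (f8 (f10 (f8 (f10 (f8 (f10 (f8 (f10 (f8 (f10 (f8 (f10 (f8 (f10 (f8 (f10 (f8 (f10 (f8 (f10 (f8 (f10 (f8 (f10 (f8 (f10 (f8 (f10 (f8 (f10 (f8 (f10 (f8 (f10 (f8 (f10 (f8 (f10 (f8 (f10 (f8 (f10 (f8 (f10 (f8 (f10 (f8 (f10 (f8 (f10 (f8 (f10 (f8 (f10 (f8 (f10 (f8 (f10 (f8 (f10 (f8 (f10 (f8 (f10 (f8 (f10 (q))))))))))))))))))))))))))))))))))))))))))))))))))))))))))))))))))))))))))))))))) q) ((fun q => q) q)) = true := by decide +kernel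

theorem rel0_285 : allR 351690 1234 (fun q => Nat.beq ((fun q => f8 (f10 (f8 (f10 (f8 (f10 (f8 (f10 (f8 (f10 (f8 (f10 (f8 (f10 (f8 (f10 (f8 (f10 (f8 (f10 (f8 (f10 (f8 (f10 (f8 (f10 (f8 (f10 (f8 (f10 (f8 (f10 (f8 (f10 (f8 (f10 (f8 (f10 (f8 (f10 (f8 (f10 (f8 (f10 (f8 (f10 (f8 (f10 (f8 (f10 (f8 (f10 (f8 (f10 (f8 (f10 (f8 (f10 (f8 (f10 (f8 (f10 (f8 (f10 (f8 (f10 (f8 (f10 (f8 (f10 (f8 (f10 (f8 (f10 (f8 (f10 (f8 (f10 (f8 (f10 (q))))))))))))))))))))))))))))))))))))))))))))))))))))))))))))))))))))))))))))))))) q) ((fun q => q) q)) = true := by decide +kernel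

theorem rel0_286 : allR 352924 1234 (fun q => Nat.beq ((fun q => f8 (f10 (f8 (f10 (f8 (f10 (f8 (f10 (f8 (f10 (f8 (f10 (f8 (f10 (f8 (f10 (f8 (f10 (f8 (f10 (f8 (f10 (f8 (f10 (f8 (f10 (f8 (f10 (f8 (f10 (f8 (f10 (f8 (f10 (f8 (f10 (f8 (f10 (f8 (f10 (f8 (f10 (f8 (f10 (f8 (f10 (f8 (f10 (f8 (f10 (f8 (f10 (f8 (f10 (f8 (f10 (f8 (f10 (f8 (f10 (f8 (f10 (f8 (f10 (f8 (f10 (f8 (f10 (f8 (f10 (f8 (f10 (f8 (f10 (f8 (f10 (f8 (f10 (f8 (f10 (q))))))))))))))))))))))))))))))))))))))))))))))))))))))))))))))))))))))))))))))))) q) ((fun q => q) q)) = true := by decide +kernel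

theorem rel0_287 : allR 354158 1234 (fun q => Nat.beq ((fun q => f8 (f10 (f8 (f10 (f8 (f10 (f8 (f10 (f8 (f10 (f8 (f10 (f8 (f10 (f8 (f10 (f8 (f10 (f8 (f10 (f8 (f10 (f8 (f10 (f8 (f10 (f8 (f10 (f8 (f10 (f8 (f10 (f8 (f10 (f8 (f10 (f8 (f10 (f8 (f10 (f8 (f10 (f8 (f10 (f8 (f10 (f8 (f10 (f8 (f10 (f8 (f10 (f8 (f10 (f8 (f10 (f8 (f10 (f8 (f10 (f8 (f10 (f8 (f10 (f8 (f10 (f8 (f10 (f8 (f10 (f8 (f10 (f8 (f10 (f8 (f10 (f8 (f10 (f8 (f10 (q))))))))))))))))))))))))))))))))))))))))))))))))))))))))))))))))))))))))))))))))) q) ((fun q => q) q)) = true := by decide +kernel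

theorem rel0_288 : allR 355392 1234 (fun q => Nat.beq ((fun q => f8 (f10 (f8 (f10 (f8 (f10 (f8 (f10 (f8 (f10 (f8 (f10 (f8 (f10 (f8 (f10 (f8 (f10 (f8 (f10 (f8 (f10 (f8 (f10 (f8 (f10 (f8 (f10 (f8 (f10 (f8 (f10 (f8 (f10 (f8 (f10 (f8 (f10 (f8 (f10 (f8 (f10 (f8 (f10 (f8 (f10 (f8 (f10 (f8 (f10 (f8 (f10 (f8 (f10 (f8 (f10 (f8 (f10 (f8 (f10 (f8 (f10 (f8 (f10 (f8 (f10 (f8 (f10 (f8 (f10 (f8 (f10 (f8 (f10 (f8 (f10 (f8 (f10 (f8 (f10 (q))))))))))))))))))))))))))))))))))))))))))))))))))))))))))))))))))))))))))))))))) q) ((fun q => q) q)) = true := by decide +kernel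

theorem rel0_289 : allR 356626 1234 (fun q => Nat.beq ((fun q => f8 (f10 (f8 (f10 (f8 (f10 (f8 (f10 (f8 (f10 (f8 (f10 (f8 (f10 (f8 (f10 (f8 (f10 (f8 (f10 (f8 (f10 (f8 (f10 (f8 (f10 (f8 (f10 (f8 (f10 (f8 (f10 (f8 (f10 (f8 (f10 (f8 (f10 (f8 (f10 (f8 (f10 (f8 (f10 (f8 (f10 (f8 (f10 (f8 (f10 (f8 (f10 (f8 (f10 (f8 (f10 (f8 (f10 (f8 (f10 (f8 (f10 (f8 (f10 (f8 (f10 (f8 (f10 (f8 (f10 (f8 (f10 (f8 (f10 (f8 (f10 (f8 (f10 (f8 (f10 (q))))))))))))))))))))))))))))))))))))))))))))))))))))))))))))))))))))))))))))))))) q) ((fun q => q) q)) = true := by decide +kernel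

theorem rel0_290 : allR 357860 1234 (fun q => Nat.beq ((fun q => f8 (f10 (f8 (f10 (f8 (f10 (f8 (f10 (f8 (f10 (f8 (f10 (f8 (f10 (f8 (f10 (f8 (f10 (f8 (f10 (f8 (f10 (f8 (f10 (f8 (f10 (f8 (f10 (f8 (f10 (f8 (f10 (f8 (f10 (f8 (f10 (f8 (f10 (f8 (f10 (f8 (f10 (f8 (f10 (f8 (f10 (f8 (f10 (f8 (f10 (f8 (f10 (f8 (f10 (f8 (f10 (f8 (f10 (f8 (f10 (f8 (f10 (f8 (f10 (f8 (f10 (f8 (f10 (f8 (f10 (f8 (f10 (f8 (f10 (f8 (f10 (f8 (f10 (f8 (f10 (q))))))))))))))))))))))))))))))))))))))))))))))))))))))))))))))))))))))))))))))))) q) ((fun q => q) q)) = true := by decide +kernel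

theorem rel0_291 : allR 359094 1234 (fun q => Nat.beq ((fun q => f8 (f10 (f8 (f10 (f8 (f10 (f8 (f10 (f8 (f10 (f8 (f10 (f8 (f10 (f8 (f10 (f8 (f10 (f8 (f10 (f8 (f10 (f8 (f10 (f8 (f10 (f8 (f10 (f8 (f10 (f8 (f10 (f8 (f10 (f8 (f10 (f8 (f10 (f8 (f10 (f8 (f10 (f8 (f10 (f8 (f10 (f8 (f10 (f8 (f10 (f8 (f10 (f8 (f10 (f8 (f10 (f8 (f10 (f8 (f10 (f8 (f10 (f8 (f10 (f8 (f10 (f8 (f10 (f8 (f10 (f8 (f10 (f8 (f10 (f8 (f10 (f8 (f10 (f8 (f10 (q))))))))))))))))))))))))))))))))))))))))))))))))))))))))))))))))))))))))))))))))) q) ((fun q => q) q)) = true := by decide +kernel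

theorem rel0_292 : allR 360328 1234 (fun q => Nat.beq ((fun q => f8 (f10 (f8 (f10 (f8 (f10 (f8 (f10 (f8 (f10 (f8 (f10 (f8 (f10 (f8 (f10 (f8 (f10 (f8 (f10 (f8 (f10 (f8 (f10 (f8 (f10 (f8 (f10 (f8 (f10 (f8 (f10 (f8 (f10 (f8 (f10 (f8 (f10 (f8 (f10 (f8 (f10 (f8 (f10 (f8 (f10 (f8 (f10 (f8 (f10 (f8 (f10 (f8 (f10 (f8 (f10 (f8 (f10 (f8 (f10 (f8 (f10 (f8 (f10 (f8 (f10 (f8 (f10 (f8 (f10 (f8 (f10 (f8 (f10 (f8 (f10 (f8 (f10 (f8 (f10 (q))))))))))))))))))))))))))))))))))))))))))))))))))))))))))))))))))))))))))))))))) q) ((fun q => q) q)) = true := by decide +kernel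

theorem rel0_293 : allR 361562 1234 (fun q => Nat.beq ((fun q => f8 (f10 (f8 (f10 (f8 (f10 (f8 (f10 (f8 (f10 (f8 (f10 (f8 (f10 (f8 (f10 (f8 (f10 (f8 (f10 (f8 (f10 (f8 (f10 (f8 (f10 (f8 (f10 (f8 (f10 (f8 (f10 (f8 (f10 (f8 (f10 (f8 (f10 (f8 (f10 (f8 (f10 (f8 (f10 (f8 (f10 (f8 (f10 (f8 (f10 (f8 (f10 (f8 (f10 (f8 (f10 (f8 (f10 (f8 (f10 (f8 (f10 (f8 (f10 (f8 (f10 (f8 (f10 (f8 (f10 (f8 (f10 (f8 (f10 (f8 (f10 (f8 (f10 (f8 (f10 (q))))))))))))))))))))))))))))))))))))))))))))))))))))))))))))))))))))))))))))))))) q) ((fun q => q) q)) = true := by decide +kernel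

theorem rel0_294 : allR 362796 1234 (fun q => Nat.beq ((fun q => f8 (f10 (f8 (f10 (f8 (f10 (f8 (f10 (f8 (f10 (f8 (f10 (f8 (f10 (f8 (f10 (f8 (f10 (f8 (f10 (f8 (f10 (f8 (f10 (f8 (f10 (f8 (f10 (f8 (f10 (f8 (f10 (f8 (f10 (f8 (f10 (f8 (f10 (f8 (f10 (f8 (f10 (f8 (f10 (f8 (f10 (f8 (f10 (f8 (f10 (f8 (f10 (f8 (f10 (f8 (f10 (f8 (f10 (f8 (f10 (f8 (f10 (f8 (f10 (f8 (f10 (f8 (f10 (f8 (f10 (f8 (f10 (f8 (f10 (f8 (f10 (f8 (f10 (f8 (f10 (q))))))))))))))))))))))))))))))))))))))))))))))))))))))))))))))))))))))))))))))))) q) ((fun q => q) q)) = true := by decide +kernel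

theorem rel0_295 : allR 364030 1234 (fun q => Nat.beq ((fun q => f8 (f10 (f8 (f10 (f8 (f10 (f8 (f10 (f8 (f10 (f8 (f10 (f8 (f10 (f8 (f10 (f8 (f10 (f8 (f10 (f8 (f10 (f8 (f10 (f8 (f10 (f8 (f10 (f8 (f10 (f8 (f10 (f8 (f10 (f8 (f10 (f8 (f10 (f8 (f10 (f8 (f10 (f8 (f10 (f8 (f10 (f8 (f10 (f8 (f10 (f8 (f10 (f8 (f10 (f8 (f10 (f8 (f10 (f8 (f10 (f8 (f10 (f8 (f10 (f8 (f10 (f8 (f10 (f8 (f10 (f8 (f10 (f8 (f10 (f8 (f10 (f8 (f10 (f8 (f10 (q))))))))))))))))))))))))))))))))))))))))))))))))))))))))))))))))))))))))))))))))) q) ((fun q => q) q)) = true := by decide +kernel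

theorem rel0_296 : allR 365264 1234 (fun q => Nat.beq ((fun q => f8 (f10 (f8 (f10 (f8 (f10 (f8 (f10 (f8 (f10 (f8 (f10 (f8 (f10 (f8 (f10 (f8 (f10 (f8 (f10 (f8 (f10 (f8 (f10 (f8 (f10 (f8 (f10 (f8 (f10 (f8 (f10 (f8 (f10 (f8 (f10 (f8 (f10 (f8 (f10 (f8 (f10 (f8 (f10 (f8 (f10 (f8 (f10 (f8 (f10 (f8 (f10 (f8 (f10 (f8 (f10 (f8 (f10 (f8 (f10 (f8 (f10 (f8 (f10 (f8 (f10 (f8 (f10 (f8 (f10 (f8 (f10 (f8 (f10 (f8 (f10 (f8 (f10 (f8 (f10 (q))))))))))))))))))))))))))))))))))))))))))))))))))))))))))))))))))))))))))))))))) q) ((fun q => q) q)) = true := by decide +kernel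

theorem rel0_297 : allR 366498 1234 (fun q => Nat.beq ((fun q => f8 (f10 (f8 (f10 (f8 (f10 (f8 (f10 (f8 (f10 (f8 (f10 (f8 (f10 (f8 (f10 (f8 (f10 (f8 (f10 (f8 (f10 (f8 (f10 (f8 (f10 (f8 (f10 (f8 (f10 (f8 (f10 (f8 (f10 (f8 (f10 (f8 (f10 (f8 (f10 (f8 (f10 (f8 (f10 (f8 (f10 (f8 (f10 (f8 (f10 (f8 (f10 (f8 (f10 (f8 (f10 (f8 (f10 (f8 (f10 (f8 (f10 (f8 (f10 (f8 (f10 (f8 (f10 (f8 (f10 (f8 (f10 (f8 (f10 (f8 (f10 (f8 (f10 (f8 (f10 (q))))))))))))))))))))))))))))))))))))))))))))))))))))))))))))))))))))))))))))))))) q) ((fun q => q) q)) = true := by decide +kernel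

theorem rel0_298 : allR 367732 1234 (fun q => Nat.beq ((fun q => f8 (f10 (f8 (f10 (f8 (f10 (f8 (f10 (f8 (f10 (f8 (f10 (f8 (f10 (f8 (f10 (f8 (f10 (f8 (f10 (f8 (f10 (f8 (f10 (f8 (f10 (f8 (f10 (f8 (f10 (f8 (f10 (f8 (f10 (f8 (f10 (f8 (f10 (f8 (f10 (f8 (f10 (f8 (f10 (f8 (f10 (f8 (f10 (f8 (f10 (f8 (f10 (f8 (f10 (f8 (f10 (f8 (f10 (f8 (f10 (f8 (f10 (f8 (f10 (f8 (f10 (f8 (f10 (f8 (f10 (f8 (f10 (f8 (f10 (f8 (f10 (f8 (f10 (f8 (f10 (q))))))))))))))))))))))))))))))))))))))))))))))))))))))))))))))))))))))))))))))))) q) ((fun q => q) q)) = true := by decide +kernel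

theorem rel0_299 : allR 368966 1234 (fun q => Nat.beq ((fun q => f8 (f10 (f8 (f10 (f8 (f10 (f8 (f10 (f8 (f10 (f8 (f10 (f8 (f10 (f8 (f10 (f8 (f10 (f8 (f10 (f8 (f10 (f8 (f10 (f8 (f10 (f8 (f10 (f8 (f10 (f8 (f10 (f8 (f10 (f8 (f10 (f8 (f10 (f8 (f10 (f8 (f10 (f8 (f10 (f8 (f10 (f8 (f10 (f8 (f10 (f8 (f10 (f8 (f10 (f8 (f10 (f8 (f10 (f8 (f10 (f8 (f10 (f8 (f10 (f8 (f10 (f8 (f10 (f8 (f10 (f8 (f10 (f8 (f10 (f8 (f10 (f8 (f10 (f8 (f10 (q))))))))))))))))))))))))))))))))))))))))))))))))))))))))))))))))))))))))))))))))) q) ((fun q => q) q)) = true := by decide +kernel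


end Cfsg.Agent.HNOut
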