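import Cfsg.Agent.Lib.Lead.HNOut.Rel0x0
import Cfsg.Agent.Lib.Lead.HNOut.Rel0x1
import Cfsg.Agent.Lib.Lead.HNOut.Rel0x2
import Cfsg.Agent.Lib.Lead.HNOut.Rel0x3
import Cfsg.Agent.Lib.Lead.HNOut.Rel0x4
import Cfsg.Agent.Lib.Lead.HNOut.Rel0x5
import Cfsg.Agent.Lib.Lead.HNOut.Rel0x6
import Cfsg.Agent.Lib.Lead.HNOut.Rel0x7
import Cfsg.Agent.Lib.Lead.HNOut.Rel0x8
import Cfsg.Agent.Lib.Lead.HNOut.Rel0x9
import Cfsg.Agent.Lib.Lead.HNOut.Rel0x10
import Cfsg.Agent.Lib.Lead.HNOut.Rel0x11
import Cfsg.Agent.Lib.Lead.HNOut.Rel0x12
import Cfsg.Agent.Lib.Lead.HNOut.Rel0x13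
import Cfsg.Agent.Lib.Lead.HNOut.Rel0x14
import Cfsg.Agent.Lib.Lead.HNOut.Rel0x15
import Cfsg.Agent.Lib.Lead.HNOut.Rel0x16
import Cfsg.Agent.Lib.Lead.HNOut.Rel0x17
import Cfsg.Agent.Lib.Lead.HNOut.Rel0x18
import Cfsg.Agent.Lib.Lead.HNOut.Rel0x19
import Cfsg.Agent.Lib.Lead.HNOut.Rel0x20
import Cfsg.Agent.Lib.Lead.HNOut.Rel0x21
import Cfsg.Agent.Lib.Lead.HNOut.Rel0x22
import Cfsg.Agent.Lib.Lead.HNOut.Rel0x23
import Cfsg.Agent.Lib.Lead.HNOut.Rel0x24
import Cfsg.Agent.Lib.Lead.HNOut.Rel0x25
import Cfsg.Agent.Lib.Lead.HNOut.Rel0x26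
import Cfsg.Agent.Lib.Lead.HNOut.Rel0x27
import Cfsg.Agent.Lib.Lead.HNOut.Rel0x28
import Cfsg.Agent.Lib.Lead.HNOut.Rel0x29
import Cfsg.Agent.Lib.Lead.HNOut.Rel0x30
import Cfsg.Agent.Lib.Lead.HNOut.Rel0x31
import Cfsg.Agent.Lib.Lead.HNOut.Rel0x32
import Cfsg.Agent.Lib.Lead.HNOut.Rel0x33
import Cfsg.Agent.Lib.Lead.HNOut.Rel0x34
import Cfsg.Agent.Lib.Lead.HNOut.Rel0x35
import Cfsg.Agent.Lib.Lead.HNOut.Rel0x36
import Cfsg.Agent.Lib.Lead.HNOut.Rel0x37
import Cfsg.Agent.Lib.Lead.HNOut.Rel0x38
import Cfsg.Agent.Lib.Lead.HNOut.Rel0x39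
import Cfsg.Agent.Lib.Lead.HNOut.Rel0x40
import Cfsg.Agent.Lib.Lead.HNOut.Rel0x41
import Cfsg.Agent.Lib.Lead.HNOut.Rel0x42
import Cfsg.Agent.Lib.Lead.HNOut.Rel0x43
import Cfsg.Agent.Lib.Lead.HNOut.Rel0x44
import Cfsg.Agent.Lib.Lead.HNOut.Rel0x45
import Cfsg.Agent.Lib.Lead.HNOut.Rel0x46
import Cfsg.Agent.Lib.Lead.HNOut.Rel0x47
import Cfsg.Agent.Lib.Lead.HNOut.Rel0x48
import Cfsg.Agent.Lib.Lead.HNOut.Rel0x49
import Cfsg.Agent.Lib.Lead.HNOut.Kills

/-! # The outer automorphism group of the Harada–Norton group: the relation number 0 (generated) -/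

set_option autoImplicit false
set_option maxRecDepth 100000

namespace Cfsg.Agent.HNOut

open Cfsg.Agent.PF Cfsg.Agent.Lib.Helper6 Cfsg.Agent.Lib.Helper6.TC Cfsg.Agent.Lib.Helper6.NatArr
open Cfsg.Agent.PL (Acts evalF)

theorem rel0_grp0 : ∀ c ∈ ([(0, 1234), (1234, 1234), (2468, 1234), (3702, 1234), (4936, 1234), (6170, 1234), (7404, 1234), (8638, 1234), (9872, 1234), (11106, 1234), (12340, 1234), (13574, 1234), (14808, 1234), (16042, 1234), (17276, 1234), (18510, 1234), (19744, 1234), (20978, 1234), (22212, 1234), (23446, 1234), (24680, 1234), (25914, 1234), (27148, 1234), (28382, 1234), (29616, 1234), (30850, 1234), (32084, 1234), (33318, 1234), (34552, 1234), (35786, 1234), (37020, 1234), (38254, 1234), (39488, 1234), (40722, 1234), (41956, 1234), (43190, 1234), (44424, 1234), (45658, 1234), (46892, 1234), (48126, 1234), (49360, 1234), (50594, 1234), (51828, 1234), (53062, 1234), (54296, 1234), (55530, 1234), (56764, 1234), (57998, 1234), (59232, 1234), (60466, 1234), (61700, 1234), (62934, 1234), (64168, 1234), (65402, 1234), (66636, 1234), (67870,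 1234), (69104, 1234), (70338, 1234), (71572, 1234), (72806, 1234), (74040, 1234), (75274, 1234), (76508, 1234), (77742, 1234), (78976, 1234), (80210, 1234), (81444, 1234), (82678, 1234), (83912, 1234), (85146, 1234), (86380, 1234), (87614, 1234), (88848, 1234), (90082, 1234), (91316, 1234), (92550, 1234), (93784, 1234), (95018, 1234), (96252, 1234), (97486, 1234), (98720, 1234), (99954, 1234), (101188, 1234), (102422, 1234), (103656, 1234), (104890, 1234), (106124, 1234), (107358, 1234), (108592, 1234), (109826, 1234), (111060, 1234), (112294, 1234), (113528, 1234), (114762, 1234), (115996, 1234), (117230, 1234), (118464, 1234), (119698, 1234), (120932, 1234), (122166, 1234), (123400, 1234), (124634, 1234), (125868, 1234), (127102, 1234), (128336, 1234), (129570, 1234), (130804, 1234), (132038, 1234), (133272, 1234), (134506, 1234), (135740, 1234), (136974, 1234), (138208, 1234), (139442, 1234), (140676, 1234), (141910, 1234), (143144, 1234), (144378, 1234), (145612, 1234), (146846, 1234), (148080, 1234), (149314, 1234), (150548, 1234), (151782, 1234),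 (153016, 1234), (154250, 1234), (155484, 1234), (156718, 1234), (157952, 1234), (159186, 1234), (160420, 1234), (161654, 1234), (162888, 1234), (164122, 1234), (165356, 1234), (166590, 1234), (167824, 1234), (169058, 1234), (170292, 1234), (171526, 1234), (172760, 1234), (173994, 1234), (175228, 1234), (176462, 1234), (177696, 1234), (178930, 1234), (180164, 1234), (181398, 1234), (182632, 1234), (183866, 1234)] : List (ℕ × ℕ)), allR c.1 c.2 (fun q => Nat.beq ((fun q => f8 (f10 (f8 (f10 (f8 (f10 (f8 (f10 (f8 (f10 (f8 (f10 (f8 (f10 (f8 (f10 (f8 (f10 (f8 (f10 (f8 (f10 (f8 (f10 (f8 (f10 (f8 (f10 (f8 (f10 (f8 (f10 (f8 (f10 (f8 (f10 (f8 (f10 (f8 (f10 (f8 (f10 (f8 (f10 (f8 (f10 (f8 (f10 (f8 (f10 (f8 (f10 (f8 (f10 (f8 (f10 (f8 (f10 (f8 (f10 (f8 (f10 (f8 (f10 (f8 (f10 (f8 (f10 (f8 (f10 (f8 (f10 (f8 (f10 (f8 (f10 (f8 (f10 (f8 (f10 (q))))))))))))))))))))))))))))))))))))))))))))))))))))))))))))))))))))))))))))))))) q) ((fun q => q) q)) = true :=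
  all_cons rel0_0 (all_cons rel0_1 (all_cons rel0_2 (all_cons rel0_3 (all_cons rel0_4 (all_cons rel0_5 (all_cons rel0_6 (all_cons rel0_7 (all_cons rel0_8 (all_cons rel0_9 (all_cons rel0_10 (all_cons rel0_11 (all_cons rel0_12 (all_cons rel0_13 (all_cons rel0_14 (all_cons rel0_15 (all_cons rel0_16 (all_cons rel0_17 (all_cons rel0_18 (all_cons rel0_19 (all_cons rel0_20 (all_cons rel0_21 (all_cons rel0_22 (all_cons rel0_23 (all_cons rel0_24 (all_cons rel0_25 (all_cons rel0_26 (all_cons rel0_27 (all_cons rel0_28 (all_cons rel0_29 (all_cons rel0_30 (all_cons rel0_31 (all_cons rel0_32 (all_cons rel0_33 (all_cons rel0_34 (all_cons rel0_35 (all_cons rel0_36 (all_cons rel0_37 (all_cons rel0_38 (all_cons rel0_39 (all_cons rel0_40 (all_cons rel0_41 (all_cons rel0_42 (all_cons rel0_43 (all_cons rel0_44 (all_cons rel0_45 (all_cons rel0_46 (all_cons rel0_47 (all_cons rel0_48 (all_cons rel0_49 (all_cons rel0_50 (all_cons rel0_51 (all_cons rel0_52 (all_cons rel0_53 (all_cons rel0_54 (all_cons rel0_55 (all_cons rel0_56 (all_cons rel0_57 (all_cons rel0_58 (all_cons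 rel0_59 (all_cons rel0_60 (all_cons rel0_61 (all_cons rel0_62 (all_cons rel0_63 (all_cons rel0_64 (all_cons rel0_65 (all_cons rel0_66 (all_cons rel0_67 (all_cons rel0_68 (all_cons rel0_69 (all_cons rel0_70 (all_cons rel0_71 (all_cons rel0_72 (all_cons rel0_73 (all_cons rel0_74 (all_cons rel0_75 (all_cons rel0_76 (all_cons rel0_77 (all_cons rel0_78 (all_cons rel0_79 (all_cons rel0_80 (all_cons rel0_81 (all_cons rel0_82 (all_cons rel0_83 (all_cons rel0_84 (all_cons rel0_85 (all_cons rel0_86 (all_cons rel0_87 (all_cons rel0_88 (all_cons rel0_89 (all_cons rel0_90 (all_cons rel0_91 (all_cons rel0_92 (all_cons rel0_93 (all_cons rel0_94 (all_cons rel0_95 (all_cons rel0_96 (all_cons rel0_97 (all_cons rel0_98 (all_cons rel0_99 (all_cons rel0_100 (all_cons rel0_101 (all_cons rel0_102 (all_cons rel0_103 (all_cons rel0_104 (all_cons rel0_105 (all_cons rel0_106 (all_cons rel0_107 (all_cons rel0_108 (all_cons rel0_109 (all_cons rel0_110 (all_cons rel0_111 (all_cons rel0_112 (all_cons rel0_113 (all_cons rel0_114 (all_cons rel0_115 (all_cons rel0_116 (all_cons rel0_117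 (all_cons rel0_118 (all_cons rel0_119 (all_cons rel0_120 (all_cons rel0_121 (all_cons rel0_122 (all_cons rel0_123 (all_cons rel0_124 (all_cons rel0_125 (all_cons rel0_126 (all_cons rel0_127 (all_cons rel0_128 (all_cons rel0_129 (all_cons rel0_130 (all_cons rel0_131 (all_cons rel0_132 (all_cons rel0_133 (all_cons rel0_134 (all_cons rel0_135 (all_cons rel0_136 (all_cons rel0_137 (all_cons rel0_138 (all_cons rel0_139 (all_cons rel0_140 (all_cons rel0_141 (all_cons rel0_142 (all_cons rel0_143 (all_cons rel0_144 (all_cons rel0_145 (all_cons rel0_146 (all_cons rel0_147 (all_cons rel0_148 (all_cons rel0_149 (all_nil))))))))))))))))))))))))))))))))))))))))))))))))))))))))))))))))))))))))))))))))))))))))))))))))))))))))))))))))))))))))))))))))))))))))))))))))))))))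

theorem rel0_grp1 : ∀ c ∈ ([(185100, 1234), (186334, 1234), (187568, 1234), (188802, 1234), (190036, 1234), (191270, 1234), (192504, 1234), (193738, 1234), (194972, 1234), (196206, 1234), (197440, 1234), (198674, 1234), (199908, 1234), (201142, 1234), (202376, 1234), (203610, 1234), (204844, 1234), (206078, 1234), (207312, 1234), (208546, 1234), (209780, 1234), (211014, 1234), (212248, 1234), (213482, 1234), (214716, 1234), (215950, 1234), (217184, 1234), (218418, 1234), (219652, 1234), (220886, 1234), (222120, 1234), (223354, 1234), (224588, 1234), (225822, 1234), (227056, 1234), (228290, 1234), (229524, 1234), (230758, 1234), (231992, 1234), (233226, 1234), (234460, 1234), (235694, 1234), (236928, 1234), (238162, 1234), (239396, 1234), (240630, 1234), (241864, 1234), (243098, 1234), (244332, 1234), (245566, 1234), (246800, 1234), (248034, 1234), (249268, 1234), (250502, 1234), (251736, 1234), (252970, 1234), (254204, 1234), (255438, 1234), (256672, 1234), (257906, 1234), (259140, 1234), (260374, 1234), (261608, 1234), (262842, 1234), (264076, 1234),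 (265310, 1234), (266544, 1234), (267778, 1234), (269012, 1234), (270246, 1234), (271480, 1234), (272714, 1234), (273948, 1234), (275182, 1234), (276416, 1234), (277650, 1234), (278884, 1234), (280118, 1234), (281352, 1234), (282586, 1234), (283820, 1234), (285054, 1234), (286288, 1234), (287522, 1234), (288756, 1234), (289990, 1234), (291224, 1234), (292458, 1234), (293692, 1234), (294926, 1234), (296160, 1234), (297394, 1234), (298628, 1234), (299862, 1234), (301096, 1234), (302330, 1234), (303564, 1234), (304798, 1234), (306032, 1234), (307266, 1234), (308500, 1234), (309734, 1234), (310968, 1234), (312202, 1234), (313436, 1234), (314670, 1234), (315904, 1234), (317138, 1234), (318372, 1234), (319606, 1234), (320840, 1234), (322074, 1234), (323308, 1234), (324542, 1234), (325776, 1234), (327010, 1234), (328244, 1234), (329478, 1234), (330712, 1234), (331946, 1234), (333180, 1234), (334414, 1234), (335648, 1234), (336882, 1234), (338116, 1234), (339350, 1234), (340584, 1234), (341818, 1234), (343052, 1234), (344286, 1234), (345520, 1234), (346754,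 1234), (347988, 1234), (349222, 1234), (350456, 1234), (351690, 1234), (352924, 1234), (354158, 1234), (355392, 1234), (356626, 1234), (357860, 1234), (359094, 1234), (360328, 1234), (361562, 1234), (362796, 1234), (364030, 1234), (365264, 1234), (366498, 1234), (367732, 1234), (368966, 1234)] : List (ℕ × ℕ)), allR c.1 c.2 (fun q => Nat.beq ((fun q => f8 (f10 (f8 (f10 (f8 (f10 (f8 (f10 (f8 (f10 (f8 (f10 (f8 (f10 (f8 (f10 (f8 (f10 (f8 (f10 (f8 (f10 (f8 (f10 (f8 (f10 (f8 (f10 (f8 (f10 (f8 (f10 (f8 (f10 (f8 (f10 (f8 (f10 (f8 (f10 (f8 (f10 (f8 (f10 (f8 (f10 (f8 (f10 (f8 (f10 (f8 (f10 (f8 (f10 (f8 (f10 (f8 (f10 (f8 (f10 (f8 (f10 (f8 (f10 (f8 (f10 (f8 (f10 (f8 (f10 (f8 (f10 (f8 (f10 (f8 (f10 (f8 (f10 (f8 (f10 (q))))))))))))))))))))))))))))))))))))))))))))))))))))))))))))))))))))))))))))))))) q) ((fun q => q) q)) = true :=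
  all_cons rel0_150 (all_cons rel0_151 (all_cons rel0_152 (all_cons rel0_153 (all_cons rel0_154 (all_cons rel0_155 (all_cons rel0_156 (all_cons rel0_157 (all_cons rel0_158 (all_cons rel0_159 (all_cons rel0_160 (all_cons rel0_161 (all_cons rel0_162 (all_cons rel0_163 (all_cons rel0_164 (all_cons rel0_165 (all_cons rel0_166 (all_cons rel0_167 (all_cons rel0_168 (all_cons rel0_169 (all_cons rel0_170 (all_cons rel0_171 (all_cons rel0_172 (all_cons rel0_173 (all_cons rel0_174 (all_cons rel0_175 (all_cons rel0_176 (all_cons rel0_177 (all_cons rel0_178 (all_cons rel0_179 (all_cons rel0_180 (all_cons rel0_181 (all_cons rel0_182 (all_cons rel0_183 (all_cons rel0_184 (all_cons rel0_185 (all_cons rel0_186 (all_cons rel0_187 (all_cons rel0_188 (all_cons rel0_189 (all_cons rel0_190 (all_cons rel0_191 (all_cons rel0_192 (all_cons rel0_193 (all_cons rel0_194 (all_cons rel0_195 (all_cons rel0_196 (all_cons rel0_197 (all_cons rel0_198 (all_cons rel0_199 (all_cons rel0_200 (all_cons rel0_201 (all_cons rel0_202 (all_cons rel0_203 (all_cons rel0_204 (all_cons rel0_205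 (all_cons rel0_206 (all_cons rel0_207 (all_cons rel0_208 (all_cons rel0_209 (all_cons rel0_210 (all_cons rel0_211 (all_cons rel0_212 (all_cons rel0_213 (all_cons rel0_214 (all_cons rel0_215 (all_cons rel0_216 (all_cons rel0_217 (all_cons rel0_218 (all_cons rel0_219 (all_cons rel0_220 (all_cons rel0_221 (all_cons rel0_222 (all_cons rel0_223 (all_cons rel0_224 (all_cons rel0_225 (all_cons rel0_226 (all_cons rel0_227 (all_cons rel0_228 (all_cons rel0_229 (all_cons rel0_230 (all_cons rel0_231 (all_cons rel0_232 (all_cons rel0_233 (all_cons rel0_234 (all_cons rel0_235 (all_cons rel0_236 (all_cons rel0_237 (all_cons rel0_238 (all_cons rel0_239 (all_cons rel0_240 (all_cons rel0_241 (all_cons rel0_242 (all_cons rel0_243 (all_cons rel0_244 (all_cons rel0_245 (all_cons rel0_246 (all_cons rel0_247 (all_cons rel0_248 (all_cons rel0_249 (all_cons rel0_250 (all_cons rel0_251 (all_cons rel0_252 (all_cons rel0_253 (all_cons rel0_254 (all_cons rel0_255 (all_cons rel0_256 (all_cons rel0_257 (all_cons rel0_258 (all_cons rel0_259 (all_cons rel0_260 (all_cons rel0_261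 (all_cons rel0_262 (all_cons rel0_263 (all_cons rel0_264 (all_cons rel0_265 (all_cons rel0_266 (all_cons rel0_267 (all_cons rel0_268 (all_cons rel0_269 (all_cons rel0_270 (all_cons rel0_271 (all_cons rel0_272 (all_cons rel0_273 (all_cons rel0_274 (all_cons rel0_275 (all_cons rel0_276 (all_cons rel0_277 (all_cons rel0_278 (all_cons rel0_279 (all_cons rel0_280 (all_cons rel0_281 (all_cons rel0_282 (all_cons rel0_283 (all_cons rel0_284 (all_cons rel0_285 (all_cons rel0_286 (all_cons rel0_287 (all_cons rel0_288 (all_cons rel0_289 (all_cons rel0_290 (all_cons rel0_291 (all_cons rel0_292 (all_cons rel0_293 (all_cons rel0_294 (all_cons rel0_295 (all_cons rel0_296 (all_cons rel0_297 (all_cons rel0_298 (all_cons rel0_299 (all_nil))))))))))))))))))))))))))))))))))))))))))))))))))))))))))))))))))))))))))))))))))))))))))))))))))))))))))))))))))))))))))))))))))))))))))))))))))))))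

theorem rel0_grp2 : ∀ c ∈ ([(370200, 1234), (371434, 1234), (372668, 1234), (373902, 1234), (375136, 1234), (376370, 1234), (377604, 1234), (378838, 1234), (380072, 1234), (381306, 1234), (382540, 1234), (383774, 1234), (385008, 1234), (386242, 1234), (387476, 1234), (388710, 1234), (389944, 1234), (391178, 1234), (392412, 1234), (393646, 1234), (394880, 1234), (396114, 1234), (397348, 1234), (398582, 1234), (399816, 1234), (401050, 1234), (402284, 1234), (403518, 1234), (404752, 1234), (405986, 1234), (407220, 1234), (408454, 1234), (409688, 1234), (410922, 1234), (412156, 1234), (413390, 1234), (414624, 1234), (415858, 1234), (417092, 1234), (418326, 1234), (419560, 1234), (420794, 1234), (422028, 1234), (423262, 1234), (424496, 1234), (425730, 1234), (426964, 1234), (428198, 1234), (429432, 1234), (430666, 1234), (431900, 1234), (433134, 1234), (434368, 1234), (435602, 1234), (436836, 1234), (438070, 1234), (439304, 1234), (440538, 1234), (441772, 1234), (443006, 1234), (444240, 1234), (445474, 1234), (446708, 1234), (447942, 1234), (449176, 1234),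 (450410, 1234), (451644, 1234), (452878, 1234), (454112, 1234), (455346, 1234), (456580, 1234), (457814, 1234), (459048, 1234), (460282, 1234), (461516, 1234), (462750, 1234), (463984, 1234), (465218, 1234), (466452, 1234), (467686, 1234), (468920, 1234), (470154, 1234), (471388, 1234), (472622, 1234), (473856, 1234), (475090, 1234), (476324, 1234), (477558, 1234), (478792, 1234), (480026, 1234), (481260, 1234), (482494, 1234), (483728, 1234), (484962, 1234), (486196, 1234), (487430, 1234), (488664, 1234), (489898, 1234), (491132, 1234), (492366, 1234), (493600, 1234), (494834, 1234), (496068, 1234), (497302, 1234), (498536, 1234), (499770, 1234), (501004, 1234), (502238, 1234), (503472, 1234), (504706, 1234), (505940, 1234), (507174, 1234), (508408, 1234), (509642, 1234), (510876, 1234), (512110, 1234), (513344, 1234), (514578, 1234), (515812, 1234), (517046, 1234), (518280, 1234), (519514, 1234), (520748, 1234), (521982, 1234), (523216, 1234), (524450, 1234), (525684, 1234), (526918, 1234), (528152, 1234), (529386, 1234), (530620, 1234), (531854,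 1234), (533088, 1234), (534322, 1234), (535556, 1234), (536790, 1234), (538024, 1234), (539258, 1234), (540492, 1234), (541726, 1234), (542960, 1234), (544194, 1234), (545428, 1234), (546662, 1234), (547896, 1234), (549130, 1234), (550364, 1234), (551598, 1234), (552832, 1234), (554066, 1234)] : List (ℕ × ℕ)), allR c.1 c.2 (fun q => Nat.beq ((fun q => f8 (f10 (f8 (f10 (f8 (f10 (f8 (f10 (f8 (f10 (f8 (f10 (f8 (f10 (f8 (f10 (f8 (f10 (f8 (f10 (f8 (f10 (f8 (f10 (f8 (f10 (f8 (f10 (f8 (f10 (f8 (f10 (f8 (f10 (f8 (f10 (f8 (f10 (f8 (f10 (f8 (f10 (f8 (f10 (f8 (f10 (f8 (f10 (f8 (f10 (f8 (f10 (f8 (f10 (f8 (f10 (f8 (f10 (f8 (f10 (f8 (f10 (f8 (f10 (f8 (f10 (f8 (f10 (f8 (f10 (f8 (f10 (f8 (f10 (f8 (f10 (f8 (f10 (f8 (f10 (q))))))))))))))))))))))))))))))))))))))))))))))))))))))))))))))))))))))))))))))))) q) ((fun q => q) q)) = true :=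
  all_cons rel0_300 (all_cons rel0_301 (all_cons rel0_302 (all_cons rel0_303 (all_cons rel0_304 (all_cons rel0_305 (all_cons rel0_306 (all_cons rel0_307 (all_cons rel0_308 (all_cons rel0_309 (all_cons rel0_310 (all_cons rel0_311 (all_cons rel0_312 (all_cons rel0_313 (all_cons rel0_314 (all_cons rel0_315 (all_cons rel0_316 (all_cons rel0_317 (all_cons rel0_318 (all_cons rel0_319 (all_cons rel0_320 (all_cons rel0_321 (all_cons rel0_322 (all_cons rel0_323 (all_cons rel0_324 (all_cons rel0_325 (all_cons rel0_326 (all_cons rel0_327 (all_cons rel0_328 (all_cons rel0_329 (all_cons rel0_330 (all_cons rel0_331 (all_cons rel0_332 (all_cons rel0_333 (all_cons rel0_334 (all_cons rel0_335 (all_cons rel0_336 (all_cons rel0_337 (all_cons rel0_338 (all_cons rel0_339 (all_cons rel0_340 (all_cons rel0_341 (all_cons rel0_342 (all_cons rel0_343 (all_cons rel0_344 (all_cons rel0_345 (all_cons rel0_346 (all_cons rel0_347 (all_cons rel0_348 (all_cons rel0_349 (all_cons rel0_350 (all_cons rel0_351 (all_cons rel0_352 (all_cons rel0_353 (all_cons rel0_354 (all_cons rel0_355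 (all_cons rel0_356 (all_cons rel0_357 (all_cons rel0_358 (all_cons rel0_359 (all_cons rel0_360 (all_cons rel0_361 (all_cons rel0_362 (all_cons rel0_363 (all_cons rel0_364 (all_cons rel0_365 (all_cons rel0_366 (all_cons rel0_367 (all_cons rel0_368 (all_cons rel0_369 (all_cons rel0_370 (all_cons rel0_371 (all_cons rel0_372 (all_cons rel0_373 (all_cons rel0_374 (all_cons rel0_375 (all_cons rel0_376 (all_cons rel0_377 (all_cons rel0_378 (all_cons rel0_379 (all_cons rel0_380 (all_cons rel0_381 (all_cons rel0_382 (all_cons rel0_383 (all_cons rel0_384 (all_cons rel0_385 (all_cons rel0_386 (all_cons rel0_387 (all_cons rel0_388 (all_cons rel0_389 (all_cons rel0_390 (all_cons rel0_391 (all_cons rel0_392 (all_cons rel0_393 (all_cons rel0_394 (all_cons rel0_395 (all_cons rel0_396 (all_cons rel0_397 (all_cons rel0_398 (all_cons rel0_399 (all_cons rel0_400 (all_cons rel0_401 (all_cons rel0_402 (all_cons rel0_403 (all_cons rel0_404 (all_cons rel0_405 (all_cons rel0_406 (all_cons rel0_407 (all_cons rel0_408 (all_cons rel0_409 (all_cons rel0_410 (all_cons rel0_411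 (all_cons rel0_412 (all_cons rel0_413 (all_cons rel0_414 (all_cons rel0_415 (all_cons rel0_416 (all_cons rel0_417 (all_cons rel0_418 (all_cons rel0_419 (all_cons rel0_420 (all_cons rel0_421 (all_cons rel0_422 (all_cons rel0_423 (all_cons rel0_424 (all_cons rel0_425 (all_cons rel0_426 (all_cons rel0_427 (all_cons rel0_428 (all_cons rel0_429 (all_cons rel0_430 (all_cons rel0_431 (all_cons rel0_432 (all_cons rel0_433 (all_cons rel0_434 (all_cons rel0_435 (all_cons rel0_436 (all_cons rel0_437 (all_cons rel0_438 (all_cons rel0_439 (all_cons rel0_440 (all_cons rel0_441 (all_cons rel0_442 (all_cons rel0_443 (all_cons rel0_444 (all_cons rel0_445 (all_cons rel0_446 (all_cons rel0_447 (all_cons rel0_448 (all_cons rel0_449 (all_nil))))))))))))))))))))))))))))))))))))))))))))))))))))))))))))))))))))))))))))))))))))))))))))))))))))))))))))))))))))))))))))))))))))))))))))))))))))))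

theorem rel0_grp3 : ∀ c ∈ ([(555300, 1234), (556534, 1234), (557768, 1234), (559002, 1234), (560236, 1234), (561470, 1234), (562704, 1234), (563938, 1234), (565172, 1234), (566406, 1234), (567640, 1234), (568874, 1234), (570108, 1234), (571342, 1234), (572576, 1234), (573810, 1234), (575044, 1234), (576278, 1234), (577512, 1234), (578746, 1234), (579980, 1234), (581214, 1234), (582448, 1234), (583682, 1234), (584916, 1234), (586150, 1234), (587384, 1234), (588618, 1234), (589852, 1234), (591086, 1234), (592320, 1234), (593554, 1234), (594788, 1234), (596022, 1234), (597256, 1234), (598490, 1234), (599724, 1234), (600958, 1234), (602192, 1234), (603426, 1234), (604660, 1234), (605894, 1234), (607128, 1234), (608362, 1234), (609596, 1234), (610830, 1234), (612064, 1234), (613298, 1234), (614532, 1234), (615766, 1234), (617000, 1234), (618234, 1234), (619468, 1234), (620702, 1234), (621936, 1234), (623170, 1234), (624404, 1234), (625638, 1234), (626872, 1234), (628106, 1234), (629340, 1234), (630574, 1234), (631808, 1234), (633042, 1234), (634276, 1234),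 (635510, 1234), (636744, 1234), (637978, 1234), (639212, 1234), (640446, 1234), (641680, 1234), (642914, 1234), (644148, 1234), (645382, 1234), (646616, 1234), (647850, 1234), (649084, 1234), (650318, 1234), (651552, 1234), (652786, 1234), (654020, 1234), (655254, 1234), (656488, 1234), (657722, 1234), (658956, 1234), (660190, 1234), (661424, 1234), (662658, 1234), (663892, 1234), (665126, 1234), (666360, 1234), (667594, 1234), (668828, 1234), (670062, 1234), (671296, 1234), (672530, 1234), (673764, 1234), (674998, 1234), (676232, 1234), (677466, 1234), (678700, 1234), (679934, 1234), (681168, 1234), (682402, 1234), (683636, 1234), (684870, 1234), (686104, 1234), (687338, 1234), (688572, 1234), (689806, 1234), (691040, 1234), (692274, 1234), (693508, 1234), (694742, 1234), (695976, 1234), (697210, 1234), (698444, 1234), (699678, 1234), (700912, 1234), (702146, 1234), (703380, 1234), (704614, 1234), (705848, 1234), (707082, 1234), (708316, 1234), (709550, 1234), (710784, 1234), (712018, 1234), (713252, 1234), (714486, 1234), (715720, 1234), (716954,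 1234), (718188, 1234), (719422, 1234), (720656, 1234), (721890, 1234), (723124, 1234), (724358, 1234), (725592, 1234), (726826, 1234), (728060, 1234), (729294, 1234), (730528, 1234), (731762, 1234), (732996, 1234), (734230, 1234), (735464, 1234), (736698, 1234), (737932, 1234), (739166, 1234)] : List (ℕ × ℕ)), allR c.1 c.2 (fun q => Nat.beq ((fun q => f8 (f10 (f8 (f10 (f8 (f10 (f8 (f10 (f8 (f10 (f8 (f10 (f8 (f10 (f8 (f10 (f8 (f10 (f8 (f10 (f8 (f10 (f8 (f10 (f8 (f10 (f8 (f10 (f8 (f10 (f8 (f10 (f8 (f10 (f8 (f10 (f8 (f10 (f8 (f10 (f8 (f10 (f8 (f10 (f8 (f10 (f8 (f10 (f8 (f10 (f8 (f10 (f8 (f10 (f8 (f10 (f8 (f10 (f8 (f10 (f8 (f10 (f8 (f10 (f8 (f10 (f8 (f10 (f8 (f10 (f8 (f10 (f8 (f10 (f8 (f10 (f8 (f10 (f8 (f10 (q))))))))))))))))))))))))))))))))))))))))))))))))))))))))))))))))))))))))))))))))) q) ((fun q => q) q)) = true :=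
  all_cons rel0_450 (all_cons rel0_451 (all_cons rel0_452 (all_cons rel0_453 (all_cons rel0_454 (all_cons rel0_455 (all_cons rel0_456 (all_cons rel0_457 (all_cons rel0_458 (all_cons rel0_459 (all_cons rel0_460 (all_cons rel0_461 (all_cons rel0_462 (all_cons rel0_463 (all_cons rel0_464 (all_cons rel0_465 (all_cons rel0_466 (all_cons rel0_467 (all_cons rel0_468 (all_cons rel0_469 (all_cons rel0_470 (all_cons rel0_471 (all_cons rel0_472 (all_cons rel0_473 (all_cons rel0_474 (all_cons rel0_475 (all_cons rel0_476 (all_cons rel0_477 (all_cons rel0_478 (all_cons rel0_479 (all_cons rel0_480 (all_cons rel0_481 (all_cons rel0_482 (all_cons rel0_483 (all_cons rel0_484 (all_cons rel0_485 (all_cons rel0_486 (all_cons rel0_487 (all_cons rel0_488 (all_cons rel0_489 (all_cons rel0_490 (all_cons rel0_491 (all_cons rel0_492 (all_cons rel0_493 (all_cons rel0_494 (all_cons rel0_495 (all_cons rel0_496 (all_cons rel0_497 (all_cons rel0_498 (all_cons rel0_499 (all_cons rel0_500 (all_cons rel0_501 (all_cons rel0_502 (all_cons rel0_503 (all_cons rel0_504 (all_cons rel0_505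 (all_cons rel0_506 (all_cons rel0_507 (all_cons rel0_508 (all_cons rel0_509 (all_cons rel0_510 (all_cons rel0_511 (all_cons rel0_512 (all_cons rel0_513 (all_cons rel0_514 (all_cons rel0_515 (all_cons rel0_516 (all_cons rel0_517 (all_cons rel0_518 (all_cons rel0_519 (all_cons rel0_520 (all_cons rel0_521 (all_cons rel0_522 (all_cons rel0_523 (all_cons rel0_524 (all_cons rel0_525 (all_cons rel0_526 (all_cons rel0_527 (all_cons rel0_528 (all_cons rel0_529 (all_cons rel0_530 (all_cons rel0_531 (all_cons rel0_532 (all_cons rel0_533 (all_cons rel0_534 (all_cons rel0_535 (all_cons rel0_536 (all_cons rel0_537 (all_cons rel0_538 (all_cons rel0_539 (all_cons rel0_540 (all_cons rel0_541 (all_cons rel0_542 (all_cons rel0_543 (all_cons rel0_544 (all_cons rel0_545 (all_cons rel0_546 (all_cons rel0_547 (all_cons rel0_548 (all_cons rel0_549 (all_cons rel0_550 (all_cons rel0_551 (all_cons rel0_552 (all_cons rel0_553 (all_cons rel0_554 (all_cons rel0_555 (all_cons rel0_556 (all_cons rel0_557 (all_cons rel0_558 (all_cons rel0_559 (all_cons rel0_560 (all_cons rel0_561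 (all_cons rel0_562 (all_cons rel0_563 (all_cons rel0_564 (all_cons rel0_565 (all_cons rel0_566 (all_cons rel0_567 (all_cons rel0_568 (all_cons rel0_569 (all_cons rel0_570 (all_cons rel0_571 (all_cons rel0_572 (all_cons rel0_573 (all_cons rel0_574 (all_cons rel0_575 (all_cons rel0_576 (all_cons rel0_577 (all_cons rel0_578 (all_cons rel0_579 (all_cons rel0_580 (all_cons rel0_581 (all_cons rel0_582 (all_cons rel0_583 (all_cons rel0_584 (all_cons rel0_585 (all_cons rel0_586 (all_cons rel0_587 (all_cons rel0_588 (all_cons rel0_589 (all_cons rel0_590 (all_cons rel0_591 (all_cons rel0_592 (all_cons rel0_593 (all_cons rel0_594 (all_cons rel0_595 (all_cons rel0_596 (all_cons rel0_597 (all_cons rel0_598 (all_cons rel0_599 (all_nil))))))))))))))))))))))))))))))))))))))))))))))))))))))))))))))))))))))))))))))))))))))))))))))))))))))))))))))))))))))))))))))))))))))))))))))))))))))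

theorem rel0_grp4 : ∀ c ∈ ([(740400, 1234), (741634, 1234), (742868, 1234), (744102, 1234), (745336, 1234), (746570, 1234), (747804, 1234), (749038, 1234), (750272, 1234), (751506, 1234), (752740, 1234), (753974, 1234), (755208, 1234), (756442, 1234), (757676, 1234), (758910, 1234), (760144, 1234), (761378, 1234), (762612, 1234), (763846, 1234), (765080, 1234), (766314, 1234), (767548, 1234), (768782, 1234), (770016, 1234), (771250, 1234), (772484, 1234), (773718, 1234), (774952, 1234), (776186, 1234), (777420, 1234), (778654, 1234), (779888, 1234), (781122, 1234), (782356, 1234), (783590, 1234), (784824, 1234), (786058, 1234), (787292, 1234), (788526, 1234), (789760, 1234), (790994, 1234), (792228, 1234), (793462, 1234), (794696, 1234), (795930, 1234), (797164, 1234), (798398, 1234), (799632, 1234), (800866, 1234), (802100, 1234), (803334, 1234), (804568, 1234), (805802, 1234), (807036, 1234), (808270, 1234), (809504, 1234), (810738, 1234), (811972, 1234), (813206, 1234), (814440, 1234), (815674, 1234), (816908, 1234), (818142, 1234), (819376, 1234),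 (820610, 1234), (821844, 1234), (823078, 1234), (824312, 1234), (825546, 1234), (826780, 1234), (828014, 1234), (829248, 1234), (830482, 1234), (831716, 1234), (832950, 1234), (834184, 1234), (835418, 1234), (836652, 1234), (837886, 1234), (839120, 1234), (840354, 1234), (841588, 1234), (842822, 1234), (844056, 1234), (845290, 1234), (846524, 1234), (847758, 1234), (848992, 1234), (850226, 1234), (851460, 1234), (852694, 1234), (853928, 1234), (855162, 1234), (856396, 1234), (857630, 1234), (858864, 1234), (860098, 1234), (861332, 1234), (862566, 1234), (863800, 1234), (865034, 1234), (866268, 1234), (867502, 1234), (868736, 1234), (869970, 1234), (871204, 1234), (872438, 1234), (873672, 1234), (874906, 1234), (876140, 1234), (877374, 1234), (878608, 1234), (879842, 1234), (881076, 1234), (882310, 1234), (883544, 1234), (884778, 1234), (886012, 1234), (887246, 1234), (888480, 1234), (889714, 1234), (890948, 1234), (892182, 1234), (893416, 1234), (894650, 1234), (895884, 1234), (897118, 1234), (898352, 1234), (899586, 1234), (900820, 1234), (902054,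 1234), (903288, 1234), (904522, 1234), (905756, 1234), (906990, 1234), (908224, 1234), (909458, 1234), (910692, 1234), (911926, 1234), (913160, 1234), (914394, 1234), (915628, 1234), (916862, 1234), (918096, 1234), (919330, 1234), (920564, 1234), (921798, 1234), (923032, 1234), (924266, 1234)] : List (ℕ × ℕ)), allR c.1 c.2 (fun q => Nat.beq ((fun q => f8 (f10 (f8 (f10 (f8 (f10 (f8 (f10 (f8 (f10 (f8 (f10 (f8 (f10 (f8 (f10 (f8 (f10 (f8 (f10 (f8 (f10 (f8 (f10 (f8 (f10 (f8 (f10 (f8 (f10 (f8 (f10 (f8 (f10 (f8 (f10 (f8 (f10 (f8 (f10 (f8 (f10 (f8 (f10 (f8 (f10 (f8 (f10 (f8 (f10 (f8 (f10 (f8 (f10 (f8 (f10 (f8 (f10 (f8 (f10 (f8 (f10 (f8 (f10 (f8 (f10 (f8 (f10 (f8 (f10 (f8 (f10 (f8 (f10 (f8 (f10 (f8 (f10 (f8 (f10 (q))))))))))))))))))))))))))))))))))))))))))))))))))))))))))))))))))))))))))))))))) q) ((fun q => q) q)) = true :=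
  all_cons rel0_600 (all_cons rel0_601 (all_cons rel0_602 (all_cons rel0_603 (all_cons rel0_604 (all_cons rel0_605 (all_cons rel0_606 (all_cons rel0_607 (all_cons rel0_608 (all_cons rel0_609 (all_cons rel0_610 (all_cons rel0_611 (all_cons rel0_612 (all_cons rel0_613 (all_cons rel0_614 (all_cons rel0_615 (all_cons rel0_616 (all_cons rel0_617 (all_cons rel0_618 (all_cons rel0_619 (all_cons rel0_620 (all_cons rel0_621 (all_cons rel0_622 (all_cons rel0_623 (all_cons rel0_624 (all_cons rel0_625 (all_cons rel0_626 (all_cons rel0_627 (all_cons rel0_628 (all_cons rel0_629 (all_cons rel0_630 (all_cons rel0_631 (all_cons rel0_632 (all_cons rel0_633 (all_cons rel0_634 (all_cons rel0_635 (all_cons rel0_636 (all_cons rel0_637 (all_cons rel0_638 (all_cons rel0_639 (all_cons rel0_640 (all_cons rel0_641 (all_cons rel0_642 (all_cons rel0_643 (all_cons rel0_644 (all_cons rel0_645 (all_cons rel0_646 (all_cons rel0_647 (all_cons rel0_648 (all_cons rel0_649 (all_cons rel0_650 (all_cons rel0_651 (all_cons rel0_652 (all_cons rel0_653 (all_cons rel0_654 (all_cons rel0_655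 (all_cons rel0_656 (all_cons rel0_657 (all_cons rel0_658 (all_cons rel0_659 (all_cons rel0_660 (all_cons rel0_661 (all_cons rel0_662 (all_cons rel0_663 (all_cons rel0_664 (all_cons rel0_665 (all_cons rel0_666 (all_cons rel0_667 (all_cons rel0_668 (all_cons rel0_669 (all_cons rel0_670 (all_cons rel0_671 (all_cons rel0_672 (all_cons rel0_673 (all_cons rel0_674 (all_cons rel0_675 (all_cons rel0_676 (all_cons rel0_677 (all_cons rel0_678 (all_cons rel0_679 (all_cons rel0_680 (all_cons rel0_681 (all_cons rel0_682 (all_cons rel0_683 (all_cons rel0_684 (all_cons rel0_685 (all_cons rel0_686 (all_cons rel0_687 (all_cons rel0_688 (all_cons rel0_689 (all_cons rel0_690 (all_cons rel0_691 (all_cons rel0_692 (all_cons rel0_693 (all_cons rel0_694 (all_cons rel0_695 (all_cons rel0_696 (all_cons rel0_697 (all_cons rel0_698 (all_cons rel0_699 (all_cons rel0_700 (all_cons rel0_701 (all_cons rel0_702 (all_cons rel0_703 (all_cons rel0_704 (all_cons rel0_705 (all_cons rel0_706 (all_cons rel0_707 (all_cons rel0_708 (all_cons rel0_709 (all_cons rel0_710 (all_cons rel0_711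 (all_cons rel0_712 (all_cons rel0_713 (all_cons rel0_714 (all_cons rel0_715 (all_cons rel0_716 (all_cons rel0_717 (all_cons rel0_718 (all_cons rel0_719 (all_cons rel0_720 (all_cons rel0_721 (all_cons rel0_722 (all_cons rel0_723 (all_cons rel0_724 (all_cons rel0_725 (all_cons rel0_726 (all_cons rel0_727 (all_cons rel0_728 (all_cons rel0_729 (all_cons rel0_730 (all_cons rel0_731 (all_cons rel0_732 (all_cons rel0_733 (all_cons rel0_734 (all_cons rel0_735 (all_cons rel0_736 (all_cons rel0_737 (all_cons rel0_738 (all_cons rel0_739 (all_cons rel0_740 (all_cons rel0_741 (all_cons rel0_742 (all_cons rel0_743 (all_cons rel0_744 (all_cons rel0_745 (all_cons rel0_746 (all_cons rel0_747 (all_cons rel0_748 (all_cons rel0_749 (all_nil))))))))))))))))))))))))))))))))))))))))))))))))))))))))))))))))))))))))))))))))))))))))))))))))))))))))))))))))))))))))))))))))))))))))))))))))))))))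

theorem rel0_grp5 : ∀ c ∈ ([(925500, 1234), (926734, 1234), (927968, 1234), (929202, 1234), (930436, 1234), (931670, 1234), (932904, 1234), (934138, 1234), (935372, 1234), (936606, 1234), (937840, 1234), (939074, 1234), (940308, 1234), (941542, 1234), (942776, 1234), (944010, 1234), (945244, 1234), (946478, 1234), (947712, 1234), (948946, 1234), (950180, 1234), (951414, 1234), (952648, 1234), (953882, 1234), (955116, 1234), (956350, 1234), (957584, 1234), (958818, 1234), (960052, 1234), (961286, 1234), (962520, 1234), (963754, 1234), (964988, 1234), (966222, 1234), (967456, 1234), (968690, 1234), (969924, 1234), (971158, 1234), (972392, 1234), (973626, 1234), (974860, 1234), (976094, 1234), (977328, 1234), (978562, 1234), (979796, 1234), (981030, 1234), (982264, 1234), (983498, 1234), (984732, 1234), (985966, 1234), (987200, 1234), (988434, 1234), (989668, 1234), (990902, 1234), (992136, 1234), (993370, 1234), (994604, 1234), (995838, 1234), (997072, 1234), (998306, 1234), (999540, 1234), (1000774, 1234), (1002008, 1234), (1003242, 1234), (1004476,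 1234), (1005710, 1234), (1006944, 1234), (1008178, 1234), (1009412, 1234), (1010646, 1234), (1011880, 1234), (1013114, 1234), (1014348, 1234), (1015582, 1234), (1016816, 1234), (1018050, 1234), (1019284, 1234), (1020518, 1234), (1021752, 1234), (1022986, 1234), (1024220, 1234), (1025454, 1234), (1026688, 1234), (1027922, 1234), (1029156, 1234), (1030390, 1234), (1031624, 1234), (1032858, 1234), (1034092, 1234), (1035326, 1234), (1036560, 1234), (1037794, 1234), (1039028, 1234), (1040262, 1234), (1041496, 1234), (1042730, 1234), (1043964, 1234), (1045198, 1234), (1046432, 1234), (1047666, 1234), (1048900, 1234), (1050134, 1234), (1051368, 1234), (1052602, 1234), (1053836, 1234), (1055070, 1234), (1056304, 1234), (1057538, 1234), (1058772, 1234), (1060006, 1234), (1061240, 1234), (1062474, 1234), (1063708, 1234), (1064942, 1234), (1066176, 1234), (1067410, 1234), (1068644, 1234), (1069878, 1234), (1071112, 1234), (1072346, 1234), (1073580, 1234), (1074814, 1234), (1076048, 1234), (1077282, 1234), (1078516, 1234), (1079750, 1234), (1080984, 1234), (1082218,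 1234), (1083452, 1234), (1084686, 1234), (1085920, 1234), (1087154, 1234), (1088388, 1234), (1089622, 1234), (1090856, 1234), (1092090, 1234), (1093324, 1234), (1094558, 1234), (1095792, 1234), (1097026, 1234), (1098260, 1234), (1099494, 1234), (1100728, 1234), (1101962, 1234), (1103196, 1234), (1104430, 1234), (1105664, 1234), (1106898, 1234), (1108132, 1234), (1109366, 1234)] : List (ℕ × ℕ)), allR c.1 c.2 (fun q => Nat.beq ((fun q => f8 (f10 (f8 (f10 (f8 (f10 (f8 (f10 (f8 (f10 (f8 (f10 (f8 (f10 (f8 (f10 (f8 (f10 (f8 (f10 (f8 (f10 (f8 (f10 (f8 (f10 (f8 (f10 (f8 (f10 (f8 (f10 (f8 (f10 (f8 (f10 (f8 (f10 (f8 (f10 (f8 (f10 (f8 (f10 (f8 (f10 (f8 (f10 (f8 (f10 (f8 (f10 (f8 (f10 (f8 (f10 (f8 (f10 (f8 (f10 (f8 (f10 (f8 (f10 (f8 (f10 (f8 (f10 (f8 (f10 (f8 (f10 (f8 (f10 (f8 (f10 (f8 (f10 (f8 (f10 (q))))))))))))))))))))))))))))))))))))))))))))))))))))))))))))))))))))))))))))))))) q) ((fun q => q) q)) = true :=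
  all_cons rel0_750 (all_cons rel0_751 (all_cons rel0_752 (all_cons rel0_753 (all_cons rel0_754 (all_cons rel0_755 (all_cons rel0_756 (all_cons rel0_757 (all_cons rel0_758 (all_cons rel0_759 (all_cons rel0_760 (all_cons rel0_761 (all_cons rel0_762 (all_cons rel0_763 (all_cons rel0_764 (all_cons rel0_765 (all_cons rel0_766 (all_cons rel0_767 (all_cons rel0_768 (all_cons rel0_769 (all_cons rel0_770 (all_cons rel0_771 (all_cons rel0_772 (all_cons rel0_773 (all_cons rel0_774 (all_cons rel0_775 (all_cons rel0_776 (all_cons rel0_777 (all_cons rel0_778 (all_cons rel0_779 (all_cons rel0_780 (all_cons rel0_781 (all_cons rel0_782 (all_cons rel0_783 (all_cons rel0_784 (all_cons rel0_785 (all_cons rel0_786 (all_cons rel0_787 (all_cons rel0_788 (all_cons rel0_789 (all_cons rel0_790 (all_cons rel0_791 (all_cons rel0_792 (all_cons rel0_793 (all_cons rel0_794 (all_cons rel0_795 (all_cons rel0_796 (all_cons rel0_797 (all_cons rel0_798 (all_cons rel0_799 (all_cons rel0_800 (all_cons rel0_801 (all_cons rel0_802 (all_cons rel0_803 (all_cons rel0_804 (all_cons rel0_805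 (all_cons rel0_806 (all_cons rel0_807 (all_cons rel0_808 (all_cons rel0_809 (all_cons rel0_810 (all_cons rel0_811 (all_cons rel0_812 (all_cons rel0_813 (all_cons rel0_814 (all_cons rel0_815 (all_cons rel0_816 (all_cons rel0_817 (all_cons rel0_818 (all_cons rel0_819 (all_cons rel0_820 (all_cons rel0_821 (all_cons rel0_822 (all_cons rel0_823 (all_cons rel0_824 (all_cons rel0_825 (all_cons rel0_826 (all_cons rel0_827 (all_cons rel0_828 (all_cons rel0_829 (all_cons rel0_830 (all_cons rel0_831 (all_cons rel0_832 (all_cons rel0_833 (all_cons rel0_834 (all_cons rel0_835 (all_cons rel0_836 (all_cons rel0_837 (all_cons rel0_838 (all_cons rel0_839 (all_cons rel0_840 (all_cons rel0_841 (all_cons rel0_842 (all_cons rel0_843 (all_cons rel0_844 (all_cons rel0_845 (all_cons rel0_846 (all_cons rel0_847 (all_cons rel0_848 (all_cons rel0_849 (all_cons rel0_850 (all_cons rel0_851 (all_cons rel0_852 (all_cons rel0_853 (all_cons rel0_854 (all_cons rel0_855 (all_cons rel0_856 (all_cons rel0_857 (all_cons rel0_858 (all_cons rel0_859 (all_cons rel0_860 (all_cons rel0_861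 (all_cons rel0_862 (all_cons rel0_863 (all_cons rel0_864 (all_cons rel0_865 (all_cons rel0_866 (all_cons rel0_867 (all_cons rel0_868 (all_cons rel0_869 (all_cons rel0_870 (all_cons rel0_871 (all_cons rel0_872 (all_cons rel0_873 (all_cons rel0_874 (all_cons rel0_875 (all_cons rel0_876 (all_cons rel0_877 (all_cons rel0_878 (all_cons rel0_879 (all_cons rel0_880 (all_cons rel0_881 (all_cons rel0_882 (all_cons rel0_883 (all_cons rel0_884 (all_cons rel0_885 (all_cons rel0_886 (all_cons rel0_887 (all_cons rel0_888 (all_cons rel0_889 (all_cons rel0_890 (all_cons rel0_891 (all_cons rel0_892 (all_cons rel0_893 (all_cons rel0_894 (all_cons rel0_895 (all_cons rel0_896 (all_cons rel0_897 (all_cons rel0_898 (all_cons rel0_899 (all_nil))))))))))))))))))))))))))))))))))))))))))))))))))))))))))))))))))))))))))))))))))))))))))))))))))))))))))))))))))))))))))))))))))))))))))))))))))))))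

theorem rel0_grp6 : ∀ c ∈ ([(1110600, 1234), (1111834, 1234), (1113068, 1234), (1114302, 1234), (1115536, 1234), (1116770, 1234), (1118004, 1234), (1119238, 1234), (1120472, 1234), (1121706, 1234), (1122940, 1234), (1124174, 1234), (1125408, 1234), (1126642, 1234), (1127876, 1234), (1129110, 1234), (1130344, 1234), (1131578, 1234), (1132812, 1234), (1134046, 1234), (1135280, 1234), (1136514, 1234), (1137748, 1234), (1138982, 1234), (1140216, 1234), (1141450, 1234), (1142684, 1234), (1143918, 1234), (1145152, 1234), (1146386, 1234), (1147620, 1234), (1148854, 1234), (1150088, 1234), (1151322, 1234), (1152556, 1234), (1153790, 1234), (1155024, 1234), (1156258, 1234), (1157492, 1234), (1158726, 1234), (1159960, 1234), (1161194, 1234), (1162428, 1234), (1163662, 1234), (1164896, 1234), (1166130, 1234), (1167364, 1234), (1168598, 1234), (1169832, 1234), (1171066, 1234), (1172300, 1234), (1173534, 1234), (1174768, 1234), (1176002, 1234), (1177236, 1234), (1178470, 1234), (1179704, 1234), (1180938, 1234), (1182172, 1234), (1183406, 1234), (1184640, 1234),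 (1185874, 1234), (1187108, 1234), (1188342, 1234), (1189576, 1234), (1190810, 1234), (1192044, 1234), (1193278, 1234), (1194512, 1234), (1195746, 1234), (1196980, 1234), (1198214, 1234), (1199448, 1234), (1200682, 1234), (1201916, 1234), (1203150, 1234), (1204384, 1234), (1205618, 1234), (1206852, 1234), (1208086, 1234), (1209320, 1234), (1210554, 1234), (1211788, 1234), (1213022, 1234), (1214256, 1234), (1215490, 1234), (1216724, 1234), (1217958, 1234), (1219192, 1234), (1220426, 1234), (1221660, 1234), (1222894, 1234), (1224128, 1234), (1225362, 1234), (1226596, 1234), (1227830, 1234), (1229064, 1234), (1230298, 1234), (1231532, 1234), (1232766, 1234), (1234000, 1234), (1235234, 1234), (1236468, 1234), (1237702, 1234), (1238936, 1234), (1240170, 1234), (1241404, 1234), (1242638, 1234), (1243872, 1234), (1245106, 1234), (1246340, 1234), (1247574, 1234), (1248808, 1234), (1250042, 1234), (1251276, 1234), (1252510, 1234), (1253744, 1234), (1254978, 1234), (1256212, 1234), (1257446, 1234), (1258680, 1234), (1259914, 1234), (1261148, 1234), (1262382,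 1234), (1263616, 1234), (1264850, 1234), (1266084, 1234), (1267318, 1234), (1268552, 1234), (1269786, 1234), (1271020, 1234), (1272254, 1234), (1273488, 1234), (1274722, 1234), (1275956, 1234), (1277190, 1234), (1278424, 1234), (1279658, 1234), (1280892, 1234), (1282126, 1234), (1283360, 1234), (1284594, 1234), (1285828, 1234), (1287062, 1234), (1288296, 1234), (1289530, 1234), (1290764, 1234), (1291998, 1234), (1293232, 1234), (1294466, 1234)] : List (ℕ × ℕ)), allR c.1 c.2 (fun q => Nat.beq ((fun q => f8 (f10 (f8 (f10 (f8 (f10 (f8 (f10 (f8 (f10 (f8 (f10 (f8 (f10 (f8 (f10 (f8 (f10 (f8 (f10 (f8 (f10 (f8 (f10 (f8 (f10 (f8 (f10 (f8 (f10 (f8 (f10 (f8 (f10 (f8 (f10 (f8 (f10 (f8 (f10 (f8 (f10 (f8 (f10 (f8 (f10 (f8 (f10 (f8 (f10 (f8 (f10 (f8 (f10 (f8 (f10 (f8 (f10 (f8 (f10 (f8 (f10 (f8 (f10 (f8 (f10 (f8 (f10 (f8 (f10 (f8 (f10 (f8 (f10 (f8 (f10 (f8 (f10 (f8 (f10 (q))))))))))))))))))))))))))))))))))))))))))))))))))))))))))))))))))))))))))))))))) q) ((fun q => q) q)) = true :=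
  all_cons rel0_900 (all_cons rel0_901 (all_cons rel0_902 (all_cons rel0_903 (all_cons rel0_904 (all_cons rel0_905 (all_cons rel0_906 (all_cons rel0_907 (all_cons rel0_908 (all_cons rel0_909 (all_cons rel0_910 (all_cons rel0_911 (all_cons rel0_912 (all_cons rel0_913 (all_cons rel0_914 (all_cons rel0_915 (all_cons rel0_916 (all_cons rel0_917 (all_cons rel0_918 (all_cons rel0_919 (all_cons rel0_920 (all_cons rel0_921 (all_cons rel0_922 (all_cons rel0_923 (all_cons rel0_924 (all_cons rel0_925 (all_cons rel0_926 (all_cons rel0_927 (all_cons rel0_928 (all_cons rel0_929 (all_cons rel0_930 (all_cons rel0_931 (all_cons rel0_932 (all_cons rel0_933 (all_cons rel0_934 (all_cons rel0_935 (all_cons rel0_936 (all_cons rel0_937 (all_cons rel0_938 (all_cons rel0_939 (all_cons rel0_940 (all_cons rel0_941 (all_cons rel0_942 (all_cons rel0_943 (all_cons rel0_944 (all_cons rel0_945 (all_cons rel0_946 (all_cons rel0_947 (all_cons rel0_948 (all_cons rel0_949 (all_cons rel0_950 (all_cons rel0_951 (all_cons rel0_952 (all_cons rel0_953 (all_cons rel0_954 (all_cons rel0_955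 (all_cons rel0_956 (all_cons rel0_957 (all_cons rel0_958 (all_cons rel0_959 (all_cons rel0_960 (all_cons rel0_961 (all_cons rel0_962 (all_cons rel0_963 (all_cons rel0_964 (all_cons rel0_965 (all_cons rel0_966 (all_cons rel0_967 (all_cons rel0_968 (all_cons rel0_969 (all_cons rel0_970 (all_cons rel0_971 (all_cons rel0_972 (all_cons rel0_973 (all_cons rel0_974 (all_cons rel0_975 (all_cons rel0_976 (all_cons rel0_977 (all_cons rel0_978 (all_cons rel0_979 (all_cons rel0_980 (all_cons rel0_981 (all_cons rel0_982 (all_cons rel0_983 (all_cons rel0_984 (all_cons rel0_985 (all_cons rel0_986 (all_cons rel0_987 (all_cons rel0_988 (all_cons rel0_989 (all_cons rel0_990 (all_cons rel0_991 (all_cons rel0_992 (all_cons rel0_993 (all_cons rel0_994 (all_cons rel0_995 (all_cons rel0_996 (all_cons rel0_997 (all_cons rel0_998 (all_cons rel0_999 (all_cons rel0_1000 (all_cons rel0_1001 (all_cons rel0_1002 (all_cons rel0_1003 (all_cons rel0_1004 (all_cons rel0_1005 (all_cons rel0_1006 (all_cons rel0_1007 (all_cons rel0_1008 (all_cons rel0_1009 (all_cons rel0_1010 (all_cons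 rel0_1011 (all_cons rel0_1012 (all_cons rel0_1013 (all_cons rel0_1014 (all_cons rel0_1015 (all_cons rel0_1016 (all_cons rel0_1017 (all_cons rel0_1018 (all_cons rel0_1019 (all_cons rel0_1020 (all_cons rel0_1021 (all_cons rel0_1022 (all_cons rel0_1023 (all_cons rel0_1024 (all_cons rel0_1025 (all_cons rel0_1026 (all_cons rel0_1027 (all_cons rel0_1028 (all_cons rel0_1029 (all_cons rel0_1030 (all_cons rel0_1031 (all_cons rel0_1032 (all_cons rel0_1033 (all_cons rel0_1034 (all_cons rel0_1035 (all_cons rel0_1036 (all_cons rel0_1037 (all_cons rel0_1038 (all_cons rel0_1039 (all_cons rel0_1040 (all_cons rel0_1041 (all_cons rel0_1042 (all_cons rel0_1043 (all_cons rel0_1044 (all_cons rel0_1045 (all_cons rel0_1046 (all_cons rel0_1047 (all_cons rel0_1048 (all_cons rel0_1049 (all_nil))))))))))))))))))))))))))))))))))))))))))))))))))))))))))))))))))))))))))))))))))))))))))))))))))))))))))))))))))))))))))))))))))))))))))))))))))))))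

theorem rel0_grp7 : ∀ c ∈ ([(1295700, 1234), (1296934, 1234), (1298168, 1234), (1299402, 1234), (1300636, 1234), (1301870, 1234), (1303104, 1234), (1304338, 1234), (1305572, 1234), (1306806, 1234), (1308040, 1234), (1309274, 1234), (1310508, 1234), (1311742, 1234), (1312976, 1234), (1314210, 1234), (1315444, 1234), (1316678, 1234), (1317912, 1234), (1319146, 1234), (1320380, 1234), (1321614, 1234), (1322848, 1234), (1324082, 1234), (1325316, 1234), (1326550, 1234), (1327784, 1234), (1329018, 1234), (1330252, 1234), (1331486, 1234), (1332720, 1234), (1333954, 1234), (1335188, 1234), (1336422, 1234), (1337656, 1234), (1338890, 1234), (1340124, 1234), (1341358, 1234), (1342592, 1234), (1343826, 1234), (1345060, 1234), (1346294, 1234), (1347528, 1234), (1348762, 1234), (1349996, 1234), (1351230, 1234), (1352464, 1234), (1353698, 1234), (1354932, 1234), (1356166, 1234), (1357400, 1234), (1358634, 1234), (1359868, 1234), (1361102, 1234), (1362336, 1234), (1363570, 1234), (1364804, 1234), (1366038, 1234), (1367272, 1234), (1368506, 1234), (1369740, 1234),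 (1370974, 1234), (1372208, 1234), (1373442, 1234), (1374676, 1234), (1375910, 1234), (1377144, 1234), (1378378, 1234), (1379612, 1234), (1380846, 1234), (1382080, 1234), (1383314, 1234), (1384548, 1234), (1385782, 1234), (1387016, 1234), (1388250, 1234), (1389484, 1234), (1390718, 1234), (1391952, 1234), (1393186, 1234), (1394420, 1234), (1395654, 1234), (1396888, 1234), (1398122, 1234), (1399356, 1234), (1400590, 1234), (1401824, 1234), (1403058, 1234), (1404292, 1234), (1405526, 1234), (1406760, 1234), (1407994, 1234), (1409228, 1234), (1410462, 1234), (1411696, 1234), (1412930, 1234), (1414164, 1234), (1415398, 1234), (1416632, 1234), (1417866, 1234), (1419100, 1234), (1420334, 1234), (1421568, 1234), (1422802, 1234), (1424036, 1234), (1425270, 1234), (1426504, 1234), (1427738, 1234), (1428972, 1234), (1430206, 1234), (1431440, 1234), (1432674, 1234), (1433908, 1234), (1435142, 1234), (1436376, 1234), (1437610, 1234), (1438844, 1234), (1440078, 1234), (1441312, 1234), (1442546, 1234), (1443780, 1234), (1445014, 1234), (1446248, 1234), (1447482,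 1234), (1448716, 1234), (1449950, 1234), (1451184, 1234), (1452418, 1234), (1453652, 1234), (1454886, 1234), (1456120, 1234), (1457354, 1234), (1458588, 1234), (1459822, 1234), (1461056, 1234), (1462290, 1234), (1463524, 1234), (1464758, 1234), (1465992, 1234), (1467226, 1234), (1468460, 1234), (1469694, 1234), (1470928, 1234), (1472162, 1234), (1473396, 1234), (1474630, 1234), (1475864, 1234), (1477098, 1234), (1478332, 1234), (1479566, 1234)] : List (ℕ × ℕ)), allR c.1 c.2 (fun q => Nat.beq ((fun q => f8 (f10 (f8 (f10 (f8 (f10 (f8 (f10 (f8 (f10 (f8 (f10 (f8 (f10 (f8 (f10 (f8 (f10 (f8 (f10 (f8 (f10 (f8 (f10 (f8 (f10 (f8 (f10 (f8 (f10 (f8 (f10 (f8 (f10 (f8 (f10 (f8 (f10 (f8 (f10 (f8 (f10 (f8 (f10 (f8 (f10 (f8 (f10 (f8 (f10 (f8 (f10 (f8 (f10 (f8 (f10 (f8 (f10 (f8 (f10 (f8 (f10 (f8 (f10 (f8 (f10 (f8 (f10 (f8 (f10 (f8 (f10 (f8 (f10 (f8 (f10 (f8 (f10 (f8 (f10 (q))))))))))))))))))))))))))))))))))))))))))))))))))))))))))))))))))))))))))))))))) q) ((fun q => q) q)) = true :=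
  all_cons rel0_1050 (all_cons rel0_1051 (all_cons rel0_1052 (all_cons rel0_1053 (all_cons rel0_1054 (all_cons rel0_1055 (all_cons rel0_1056 (all_cons rel0_1057 (all_cons rel0_1058 (all_cons rel0_1059 (all_cons rel0_1060 (all_cons rel0_1061 (all_cons rel0_1062 (all_cons rel0_1063 (all_cons rel0_1064 (all_cons rel0_1065 (all_cons rel0_1066 (all_cons rel0_1067 (all_cons rel0_1068 (all_cons rel0_1069 (all_cons rel0_1070 (all_cons rel0_1071 (all_cons rel0_1072 (all_cons rel0_1073 (all_cons rel0_1074 (all_cons rel0_1075 (all_cons rel0_1076 (all_cons rel0_1077 (all_cons rel0_1078 (all_cons rel0_1079 (all_cons rel0_1080 (all_cons rel0_1081 (all_cons rel0_1082 (all_cons rel0_1083 (all_cons rel0_1084 (all_cons rel0_1085 (all_cons rel0_1086 (all_cons rel0_1087 (all_cons rel0_1088 (all_cons rel0_1089 (all_cons rel0_1090 (all_cons rel0_1091 (all_cons rel0_1092 (all_cons rel0_1093 (all_cons rel0_1094 (all_cons rel0_1095 (all_cons rel0_1096 (all_cons rel0_1097 (all_cons rel0_1098 (all_cons rel0_1099 (all_cons rel0_1100 (all_cons rel0_1101 (all_cons rel0_1102 (all_cons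 rel0_1103 (all_cons rel0_1104 (all_cons rel0_1105 (all_cons rel0_1106 (all_cons rel0_1107 (all_cons rel0_1108 (all_cons rel0_1109 (all_cons rel0_1110 (all_cons rel0_1111 (all_cons rel0_1112 (all_cons rel0_1113 (all_cons rel0_1114 (all_cons rel0_1115 (all_cons rel0_1116 (all_cons rel0_1117 (all_cons rel0_1118 (all_cons rel0_1119 (all_cons rel0_1120 (all_cons rel0_1121 (all_cons rel0_1122 (all_cons rel0_1123 (all_cons rel0_1124 (all_cons rel0_1125 (all_cons rel0_1126 (all_cons rel0_1127 (all_cons rel0_1128 (all_cons rel0_1129 (all_cons rel0_1130 (all_cons rel0_1131 (all_cons rel0_1132 (all_cons rel0_1133 (all_cons rel0_1134 (all_cons rel0_1135 (all_cons rel0_1136 (all_cons rel0_1137 (all_cons rel0_1138 (all_cons rel0_1139 (all_cons rel0_1140 (all_cons rel0_1141 (all_cons rel0_1142 (all_cons rel0_1143 (all_cons rel0_1144 (all_cons rel0_1145 (all_cons rel0_1146 (all_cons rel0_1147 (all_cons rel0_1148 (all_cons rel0_1149 (all_cons rel0_1150 (all_cons rel0_1151 (all_cons rel0_1152 (all_cons rel0_1153 (all_cons rel0_1154 (all_cons rel0_1155 (all_cons rel0_1156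 (all_cons rel0_1157 (all_cons rel0_1158 (all_cons rel0_1159 (all_cons rel0_1160 (all_cons rel0_1161 (all_cons rel0_1162 (all_cons rel0_1163 (all_cons rel0_1164 (all_cons rel0_1165 (all_cons rel0_1166 (all_cons rel0_1167 (all_cons rel0_1168 (all_cons rel0_1169 (all_cons rel0_1170 (all_cons rel0_1171 (all_cons rel0_1172 (all_cons rel0_1173 (all_cons rel0_1174 (all_cons rel0_1175 (all_cons rel0_1176 (all_cons rel0_1177 (all_cons rel0_1178 (all_cons rel0_1179 (all_cons rel0_1180 (all_cons rel0_1181 (all_cons rel0_1182 (all_cons rel0_1183 (all_cons rel0_1184 (all_cons rel0_1185 (all_cons rel0_1186 (all_cons rel0_1187 (all_cons rel0_1188 (all_cons rel0_1189 (all_cons rel0_1190 (all_cons rel0_1191 (all_cons rel0_1192 (all_cons rel0_1193 (all_cons rel0_1194 (all_cons rel0_1195 (all_cons rel0_1196 (all_cons rel0_1197 (all_cons rel0_1198 (all_cons rel0_1199 (all_nil))))))))))))))))))))))))))))))))))))))))))))))))))))))))))))))))))))))))))))))))))))))))))))))))))))))))))))))))))))))))))))))))))))))))))))))))))))))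

theorem rel0_grp8 : ∀ c ∈ ([(1480800, 1234), (1482034, 1234), (1483268, 1234), (1484502, 1234), (1485736, 1234), (1486970, 1234), (1488204, 1234), (1489438, 1234), (1490672, 1234), (1491906, 1234), (1493140, 1234), (1494374, 1234), (1495608, 1234), (1496842, 1234), (1498076, 1234), (1499310, 1234), (1500544, 1234), (1501778, 1234), (1503012, 1234), (1504246, 1234), (1505480, 1234), (1506714, 1234), (1507948, 1234), (1509182, 1234), (1510416, 1234), (1511650, 1234), (1512884, 1234), (1514118, 1234), (1515352, 1234), (1516586, 1234), (1517820, 1234), (1519054, 1234), (1520288, 1234), (1521522, 1234), (1522756, 1234), (1523990, 1234), (1525224, 1234), (1526458, 1234), (1527692, 1234), (1528926, 1234), (1530160, 1234), (1531394, 1234), (1532628, 1234), (1533862, 1234), (1535096, 1234), (1536330, 1234), (1537564, 1234), (1538798, 202)] : List (ℕ × ℕ)), allR c.1 c.2 (fun q => Nat.beq ((fun q => f8 (f10 (f8 (f10 (f8 (f10 (f8 (f10 (f8 (f10 (f8 (f10 (f8 (f10 (f8 (f10 (f8 (f10 (f8 (f10 (f8 (f10 (f8 (f10 (f8 (f10 (f8 (f10 (f8 (f10 (f8 (f10 (f8 (f10 (f8 (f10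 (f8 (f10 (f8 (f10 (f8 (f10 (f8 (f10 (f8 (f10 (f8 (f10 (f8 (f10 (f8 (f10 (f8 (f10 (f8 (f10 (f8 (f10 (f8 (f10 (f8 (f10 (f8 (f10 (f8 (f10 (f8 (f10 (f8 (f10 (f8 (f10 (f8 (f10 (f8 (f10 (f8 (f10 (f8 (f10 (q))))))))))))))))))))))))))))))))))))))))))))))))))))))))))))))))))))))))))))))))) q) ((fun q => q) q)) = true :=
  all_cons rel0_1200 (all_cons rel0_1201 (all_cons rel0_1202 (all_cons rel0_1203 (all_cons rel0_1204 (all_cons rel0_1205 (all_cons rel0_1206 (all_cons rel0_1207 (all_cons rel0_1208 (all_cons rel0_1209 (all_cons rel0_1210 (all_cons rel0_1211 (all_cons rel0_1212 (all_cons rel0_1213 (all_cons rel0_1214 (all_cons rel0_1215 (all_cons rel0_1216 (all_cons rel0_1217 (all_cons rel0_1218 (all_cons rel0_1219 (all_cons rel0_1220 (all_cons rel0_1221 (all_cons rel0_1222 (all_cons rel0_1223 (all_cons rel0_1224 (all_cons rel0_1225 (all_cons rel0_1226 (all_cons rel0_1227 (all_cons rel0_1228 (all_cons rel0_1229 (all_cons rel0_1230 (all_cons rel0_1231 (all_cons rel0_1232 (all_cons rel0_1233 (all_cons rel0_1234 (all_cons rel0_1235 (all_cons rel0_1236 (all_cons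 rel0_1237 (all_cons rel0_1238 (all_cons rel0_1239 (all_cons rel0_1240 (all_cons rel0_1241 (all_cons rel0_1242 (all_cons rel0_1243 (all_cons rel0_1244 (all_cons rel0_1245 (all_cons rel0_1246 (all_cons rel0_1247 (all_nil))))))))))))))))))))))))))))))))))))))))))))))))

/-- a relation -/
theorem rel0 : ∀ q < 1539000, (evalF f8 f9 f10 [0, 2])^[40] q = (fun q => q) q :=
  eq_of_chunks (f := (fun q => f8 (f10 (f8 (f10 (f8 (f10 (f8 (f10 (f8 (f10 (f8 (f10 (f8 (f10 (f8 (f10 (f8 (f10 (f8 (f10 (f8 (f10 (f8 (f10 (f8 (f10 (f8 (f10 (f8 (f10 (f8 (f10 (f8 (f10 (f8 (f10 (f8 (f10 (f8 (f10 (f8 (f10 (f8 (f10 (f8 (f10 (f8 (f10 (f8 (f10 (f8 (f10 (f8 (f10 (f8 (f10 (f8 (f10 (f8 (f10 (f8 (f10 (f8 (f10 (f8 (f10 (f8 (f10 (f8 (f10 (f8 (f10 (f8 (f10 (f8 (f10 (f8 (f10 (f8 (f10 (q)))))))))))))))))))))))))))))))))))))))))))))))))))))))))))))))))))))))))))))))))) (g := (fun q => q)) ([(0, 1234), (1234, 1234), (2468, 1234), (3702, 1234), (4936, 1234), (6170, 1234), (7404, 1234), (8638, 1234), (9872, 1234), (11106, 1234), (12340, 1234), (13574, 1234), (14808, 1234), (16042, 1234),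 (17276, 1234), (18510, 1234), (19744, 1234), (20978, 1234), (22212, 1234), (23446, 1234), (24680, 1234), (25914, 1234), (27148, 1234), (28382, 1234), (29616, 1234), (30850, 1234), (32084, 1234), (33318, 1234), (34552, 1234), (35786, 1234), (37020, 1234), (38254, 1234), (39488, 1234), (40722, 1234), (41956, 1234), (43190, 1234), (44424, 1234), (45658, 1234), (46892, 1234), (48126, 1234), (49360, 1234), (50594, 1234), (51828, 1234), (53062, 1234), (54296, 1234), (55530, 1234), (56764, 1234), (57998, 1234), (59232, 1234), (60466, 1234), (61700, 1234), (62934, 1234), (64168, 1234), (65402, 1234), (66636, 1234), (67870, 1234), (69104, 1234), (70338, 1234), (71572, 1234), (72806, 1234), (74040, 1234), (75274, 1234), (76508, 1234), (77742, 1234), (78976, 1234), (80210, 1234), (81444, 1234), (82678, 1234), (83912, 1234), (85146, 1234), (86380, 1234), (87614, 1234), (88848, 1234), (90082, 1234), (91316, 1234), (92550, 1234), (93784, 1234), (95018, 1234), (96252, 1234), (97486, 1234), (98720, 1234), (99954, 1234), (101188, 1234), (102422, 1234), (103656, 1234),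 (104890, 1234), (106124, 1234), (107358, 1234), (108592, 1234), (109826, 1234), (111060, 1234), (112294, 1234), (113528, 1234), (114762, 1234), (115996, 1234), (117230, 1234), (118464, 1234), (119698, 1234), (120932, 1234), (122166, 1234), (123400, 1234), (124634, 1234), (125868, 1234), (127102, 1234), (128336, 1234), (129570, 1234), (130804, 1234), (132038, 1234), (133272, 1234), (134506, 1234), (135740, 1234), (136974, 1234), (138208, 1234), (139442, 1234), (140676, 1234), (141910, 1234), (143144, 1234), (144378, 1234), (145612, 1234), (146846, 1234), (148080, 1234), (149314, 1234), (150548, 1234), (151782, 1234), (153016, 1234), (154250, 1234), (155484, 1234), (156718, 1234), (157952, 1234), (159186, 1234), (160420, 1234), (161654, 1234), (162888, 1234), (164122, 1234), (165356, 1234), (166590, 1234), (167824, 1234), (169058, 1234), (170292, 1234), (171526, 1234), (172760, 1234), (173994, 1234), (175228, 1234), (176462, 1234), (177696, 1234), (178930, 1234), (180164, 1234), (181398, 1234), (182632, 1234), (183866, 1234)] ++ [(185100, 1234), (186334,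 1234), (187568, 1234), (188802, 1234), (190036, 1234), (191270, 1234), (192504, 1234), (193738, 1234), (194972, 1234), (196206, 1234), (197440, 1234), (198674, 1234), (199908, 1234), (201142, 1234), (202376, 1234), (203610, 1234), (204844, 1234), (206078, 1234), (207312, 1234), (208546, 1234), (209780, 1234), (211014, 1234), (212248, 1234), (213482, 1234), (214716, 1234), (215950, 1234), (217184, 1234), (218418, 1234), (219652, 1234), (220886, 1234), (222120, 1234), (223354, 1234), (224588, 1234), (225822, 1234), (227056, 1234), (228290, 1234), (229524, 1234), (230758, 1234), (231992, 1234), (233226, 1234), (234460, 1234), (235694, 1234), (236928, 1234), (238162, 1234), (239396, 1234), (240630, 1234), (241864, 1234), (243098, 1234), (244332, 1234), (245566, 1234), (246800, 1234), (248034, 1234), (249268, 1234), (250502, 1234), (251736, 1234), (252970, 1234), (254204, 1234), (255438, 1234), (256672, 1234), (257906, 1234), (259140, 1234), (260374, 1234), (261608, 1234), (262842, 1234), (264076, 1234), (265310, 1234), (266544, 1234), (267778, 1234),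 (269012, 1234), (270246, 1234), (271480, 1234), (272714, 1234), (273948, 1234), (275182, 1234), (276416, 1234), (277650, 1234), (278884, 1234), (280118, 1234), (281352, 1234), (282586, 1234), (283820, 1234), (285054, 1234), (286288, 1234), (287522, 1234), (288756, 1234), (289990, 1234), (291224, 1234), (292458, 1234), (293692, 1234), (294926, 1234), (296160, 1234), (297394, 1234), (298628, 1234), (299862, 1234), (301096, 1234), (302330, 1234), (303564, 1234), (304798, 1234), (306032, 1234), (307266, 1234), (308500, 1234), (309734, 1234), (310968, 1234), (312202, 1234), (313436, 1234), (314670, 1234), (315904, 1234), (317138, 1234), (318372, 1234), (319606, 1234), (320840, 1234), (322074, 1234), (323308, 1234), (324542, 1234), (325776, 1234), (327010, 1234), (328244, 1234), (329478, 1234), (330712, 1234), (331946, 1234), (333180, 1234), (334414, 1234), (335648, 1234), (336882, 1234), (338116, 1234), (339350, 1234), (340584, 1234), (341818, 1234), (343052, 1234), (344286, 1234), (345520, 1234), (346754, 1234), (347988, 1234), (349222, 1234), (350456,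 1234), (351690, 1234), (352924, 1234), (354158, 1234), (355392, 1234), (356626, 1234), (357860, 1234), (359094, 1234), (360328, 1234), (361562, 1234), (362796, 1234), (364030, 1234), (365264, 1234), (366498, 1234), (367732, 1234), (368966, 1234)] ++ [(370200, 1234), (371434, 1234), (372668, 1234), (373902, 1234), (375136, 1234), (376370, 1234), (377604, 1234), (378838, 1234), (380072, 1234), (381306, 1234), (382540, 1234), (383774, 1234), (385008, 1234), (386242, 1234), (387476, 1234), (388710, 1234), (389944, 1234), (391178, 1234), (392412, 1234), (393646, 1234), (394880, 1234), (396114, 1234), (397348, 1234), (398582, 1234), (399816, 1234), (401050, 1234), (402284, 1234), (403518, 1234), (404752, 1234), (405986, 1234), (407220, 1234), (408454, 1234), (409688, 1234), (410922, 1234), (412156, 1234), (413390, 1234), (414624, 1234), (415858, 1234), (417092, 1234), (418326, 1234), (419560, 1234), (420794, 1234), (422028, 1234), (423262, 1234), (424496, 1234), (425730, 1234), (426964, 1234), (428198, 1234), (429432, 1234), (430666, 1234), (431900, 1234),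 (433134, 1234), (434368, 1234), (435602, 1234), (436836, 1234), (438070, 1234), (439304, 1234), (440538, 1234), (441772, 1234), (443006, 1234), (444240, 1234), (445474, 1234), (446708, 1234), (447942, 1234), (449176, 1234), (450410, 1234), (451644, 1234), (452878, 1234), (454112, 1234), (455346, 1234), (456580, 1234), (457814, 1234), (459048, 1234), (460282, 1234), (461516, 1234), (462750, 1234), (463984, 1234), (465218, 1234), (466452, 1234), (467686, 1234), (468920, 1234), (470154, 1234), (471388, 1234), (472622, 1234), (473856, 1234), (475090, 1234), (476324, 1234), (477558, 1234), (478792, 1234), (480026, 1234), (481260, 1234), (482494, 1234), (483728, 1234), (484962, 1234), (486196, 1234), (487430, 1234), (488664, 1234), (489898, 1234), (491132, 1234), (492366, 1234), (493600, 1234), (494834, 1234), (496068, 1234), (497302, 1234), (498536, 1234), (499770, 1234), (501004, 1234), (502238, 1234), (503472, 1234), (504706, 1234), (505940, 1234), (507174, 1234), (508408, 1234), (509642, 1234), (510876, 1234), (512110, 1234), (513344, 1234), (514578,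 1234), (515812, 1234), (517046, 1234), (518280, 1234), (519514, 1234), (520748, 1234), (521982, 1234), (523216, 1234), (524450, 1234), (525684, 1234), (526918, 1234), (528152, 1234), (529386, 1234), (530620, 1234), (531854, 1234), (533088, 1234), (534322, 1234), (535556, 1234), (536790, 1234), (538024, 1234), (539258, 1234), (540492, 1234), (541726, 1234), (542960, 1234), (544194, 1234), (545428, 1234), (546662, 1234), (547896, 1234), (549130, 1234), (550364, 1234), (551598, 1234), (552832, 1234), (554066, 1234)] ++ [(555300, 1234), (556534, 1234), (557768, 1234), (559002, 1234), (560236, 1234), (561470, 1234), (562704, 1234), (563938, 1234), (565172, 1234), (566406, 1234), (567640, 1234), (568874, 1234), (570108, 1234), (571342, 1234), (572576, 1234), (573810, 1234), (575044, 1234), (576278, 1234), (577512, 1234), (578746, 1234), (579980, 1234), (581214, 1234), (582448, 1234), (583682, 1234), (584916, 1234), (586150, 1234), (587384, 1234), (588618, 1234), (589852, 1234), (591086, 1234), (592320, 1234), (593554, 1234), (594788, 1234), (596022, 1234),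 (597256, 1234), (598490, 1234), (599724, 1234), (600958, 1234), (602192, 1234), (603426, 1234), (604660, 1234), (605894, 1234), (607128, 1234), (608362, 1234), (609596, 1234), (610830, 1234), (612064, 1234), (613298, 1234), (614532, 1234), (615766, 1234), (617000, 1234), (618234, 1234), (619468, 1234), (620702, 1234), (621936, 1234), (623170, 1234), (624404, 1234), (625638, 1234), (626872, 1234), (628106, 1234), (629340, 1234), (630574, 1234), (631808, 1234), (633042, 1234), (634276, 1234), (635510, 1234), (636744, 1234), (637978, 1234), (639212, 1234), (640446, 1234), (641680, 1234), (642914, 1234), (644148, 1234), (645382, 1234), (646616, 1234), (647850, 1234), (649084, 1234), (650318, 1234), (651552, 1234), (652786, 1234), (654020, 1234), (655254, 1234), (656488, 1234), (657722, 1234), (658956, 1234), (660190, 1234), (661424, 1234), (662658, 1234), (663892, 1234), (665126, 1234), (666360, 1234), (667594, 1234), (668828, 1234), (670062, 1234), (671296, 1234), (672530, 1234), (673764, 1234), (674998, 1234), (676232, 1234), (677466, 1234), (678700,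 1234), (679934, 1234), (681168, 1234), (682402, 1234), (683636, 1234), (684870, 1234), (686104, 1234), (687338, 1234), (688572, 1234), (689806, 1234), (691040, 1234), (692274, 1234), (693508, 1234), (694742, 1234), (695976, 1234), (697210, 1234), (698444, 1234), (699678, 1234), (700912, 1234), (702146, 1234), (703380, 1234), (704614, 1234), (705848, 1234), (707082, 1234), (708316, 1234), (709550, 1234), (710784, 1234), (712018, 1234), (713252, 1234), (714486, 1234), (715720, 1234), (716954, 1234), (718188, 1234), (719422, 1234), (720656, 1234), (721890, 1234), (723124, 1234), (724358, 1234), (725592, 1234), (726826, 1234), (728060, 1234), (729294, 1234), (730528, 1234), (731762, 1234), (732996, 1234), (734230, 1234), (735464, 1234), (736698, 1234), (737932, 1234), (739166, 1234)] ++ [(740400, 1234), (741634, 1234), (742868, 1234), (744102, 1234), (745336, 1234), (746570, 1234), (747804, 1234), (749038, 1234), (750272, 1234), (751506, 1234), (752740, 1234), (753974, 1234), (755208, 1234), (756442, 1234), (757676, 1234), (758910, 1234), (760144, 1234),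 (761378, 1234), (762612, 1234), (763846, 1234), (765080, 1234), (766314, 1234), (767548, 1234), (768782, 1234), (770016, 1234), (771250, 1234), (772484, 1234), (773718, 1234), (774952, 1234), (776186, 1234), (777420, 1234), (778654, 1234), (779888, 1234), (781122, 1234), (782356, 1234), (783590, 1234), (784824, 1234), (786058, 1234), (787292, 1234), (788526, 1234), (789760, 1234), (790994, 1234), (792228, 1234), (793462, 1234), (794696, 1234), (795930, 1234), (797164, 1234), (798398, 1234), (799632, 1234), (800866, 1234), (802100, 1234), (803334, 1234), (804568, 1234), (805802, 1234), (807036, 1234), (808270, 1234), (809504, 1234), (810738, 1234), (811972, 1234), (813206, 1234), (814440, 1234), (815674, 1234), (816908, 1234), (818142, 1234), (819376, 1234), (820610, 1234), (821844, 1234), (823078, 1234), (824312, 1234), (825546, 1234), (826780, 1234), (828014, 1234), (829248, 1234), (830482, 1234), (831716, 1234), (832950, 1234), (834184, 1234), (835418, 1234), (836652, 1234), (837886, 1234), (839120, 1234), (840354, 1234), (841588, 1234), (842822,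 1234), (844056, 1234), (845290, 1234), (846524, 1234), (847758, 1234), (848992, 1234), (850226, 1234), (851460, 1234), (852694, 1234), (853928, 1234), (855162, 1234), (856396, 1234), (857630, 1234), (858864, 1234), (860098, 1234), (861332, 1234), (862566, 1234), (863800, 1234), (865034, 1234), (866268, 1234), (867502, 1234), (868736, 1234), (869970, 1234), (871204, 1234), (872438, 1234), (873672, 1234), (874906, 1234), (876140, 1234), (877374, 1234), (878608, 1234), (879842, 1234), (881076, 1234), (882310, 1234), (883544, 1234), (884778, 1234), (886012, 1234), (887246, 1234), (888480, 1234), (889714, 1234), (890948, 1234), (892182, 1234), (893416, 1234), (894650, 1234), (895884, 1234), (897118, 1234), (898352, 1234), (899586, 1234), (900820, 1234), (902054, 1234), (903288, 1234), (904522, 1234), (905756, 1234), (906990, 1234), (908224, 1234), (909458, 1234), (910692, 1234), (911926, 1234), (913160, 1234), (914394, 1234), (915628, 1234), (916862, 1234), (918096, 1234), (919330, 1234), (920564, 1234), (921798, 1234), (923032, 1234), (924266, 1234)]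 ++ [(925500, 1234), (926734, 1234), (927968, 1234), (929202, 1234), (930436, 1234), (931670, 1234), (932904, 1234), (934138, 1234), (935372, 1234), (936606, 1234), (937840, 1234), (939074, 1234), (940308, 1234), (941542, 1234), (942776, 1234), (944010, 1234), (945244, 1234), (946478, 1234), (947712, 1234), (948946, 1234), (950180, 1234), (951414, 1234), (952648, 1234), (953882, 1234), (955116, 1234), (956350, 1234), (957584, 1234), (958818, 1234), (960052, 1234), (961286, 1234), (962520, 1234), (963754, 1234), (964988, 1234), (966222, 1234), (967456, 1234), (968690, 1234), (969924, 1234), (971158, 1234), (972392, 1234), (973626, 1234), (974860, 1234), (976094, 1234), (977328, 1234), (978562, 1234), (979796, 1234), (981030, 1234), (982264, 1234), (983498, 1234), (984732, 1234), (985966, 1234), (987200, 1234), (988434, 1234), (989668, 1234), (990902, 1234), (992136, 1234), (993370, 1234), (994604, 1234), (995838, 1234), (997072, 1234), (998306, 1234), (999540, 1234), (1000774, 1234), (1002008, 1234), (1003242, 1234), (1004476, 1234), (1005710, 1234),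 (1006944, 1234), (1008178, 1234), (1009412, 1234), (1010646, 1234), (1011880, 1234), (1013114, 1234), (1014348, 1234), (1015582, 1234), (1016816, 1234), (1018050, 1234), (1019284, 1234), (1020518, 1234), (1021752, 1234), (1022986, 1234), (1024220, 1234), (1025454, 1234), (1026688, 1234), (1027922, 1234), (1029156, 1234), (1030390, 1234), (1031624, 1234), (1032858, 1234), (1034092, 1234), (1035326, 1234), (1036560, 1234), (1037794, 1234), (1039028, 1234), (1040262, 1234), (1041496, 1234), (1042730, 1234), (1043964, 1234), (1045198, 1234), (1046432, 1234), (1047666, 1234), (1048900, 1234), (1050134, 1234), (1051368, 1234), (1052602, 1234), (1053836, 1234), (1055070, 1234), (1056304, 1234), (1057538, 1234), (1058772, 1234), (1060006, 1234), (1061240, 1234), (1062474, 1234), (1063708, 1234), (1064942, 1234), (1066176, 1234), (1067410, 1234), (1068644, 1234), (1069878, 1234), (1071112, 1234), (1072346, 1234), (1073580, 1234), (1074814, 1234), (1076048, 1234), (1077282, 1234), (1078516, 1234), (1079750, 1234), (1080984, 1234), (1082218, 1234), (1083452,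 1234), (1084686, 1234), (1085920, 1234), (1087154, 1234), (1088388, 1234), (1089622, 1234), (1090856, 1234), (1092090, 1234), (1093324, 1234), (1094558, 1234), (1095792, 1234), (1097026, 1234), (1098260, 1234), (1099494, 1234), (1100728, 1234), (1101962, 1234), (1103196, 1234), (1104430, 1234), (1105664, 1234), (1106898, 1234), (1108132, 1234), (1109366, 1234)] ++ [(1110600, 1234), (1111834, 1234), (1113068, 1234), (1114302, 1234), (1115536, 1234), (1116770, 1234), (1118004, 1234), (1119238, 1234), (1120472, 1234), (1121706, 1234), (1122940, 1234), (1124174, 1234), (1125408, 1234), (1126642, 1234), (1127876, 1234), (1129110, 1234), (1130344, 1234), (1131578, 1234), (1132812, 1234), (1134046, 1234), (1135280, 1234), (1136514, 1234), (1137748, 1234), (1138982, 1234), (1140216, 1234), (1141450, 1234), (1142684, 1234), (1143918, 1234), (1145152, 1234), (1146386, 1234), (1147620, 1234), (1148854, 1234), (1150088, 1234), (1151322, 1234), (1152556, 1234), (1153790, 1234), (1155024, 1234), (1156258, 1234), (1157492, 1234), (1158726, 1234), (1159960, 1234),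 (1161194, 1234), (1162428, 1234), (1163662, 1234), (1164896, 1234), (1166130, 1234), (1167364, 1234), (1168598, 1234), (1169832, 1234), (1171066, 1234), (1172300, 1234), (1173534, 1234), (1174768, 1234), (1176002, 1234), (1177236, 1234), (1178470, 1234), (1179704, 1234), (1180938, 1234), (1182172, 1234), (1183406, 1234), (1184640, 1234), (1185874, 1234), (1187108, 1234), (1188342, 1234), (1189576, 1234), (1190810, 1234), (1192044, 1234), (1193278, 1234), (1194512, 1234), (1195746, 1234), (1196980, 1234), (1198214, 1234), (1199448, 1234), (1200682, 1234), (1201916, 1234), (1203150, 1234), (1204384, 1234), (1205618, 1234), (1206852, 1234), (1208086, 1234), (1209320, 1234), (1210554, 1234), (1211788, 1234), (1213022, 1234), (1214256, 1234), (1215490, 1234), (1216724, 1234), (1217958, 1234), (1219192, 1234), (1220426, 1234), (1221660, 1234), (1222894, 1234), (1224128, 1234), (1225362, 1234), (1226596, 1234), (1227830, 1234), (1229064, 1234), (1230298, 1234), (1231532, 1234), (1232766, 1234), (1234000, 1234), (1235234, 1234), (1236468, 1234), (1237702,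 1234), (1238936, 1234), (1240170, 1234), (1241404, 1234), (1242638, 1234), (1243872, 1234), (1245106, 1234), (1246340, 1234), (1247574, 1234), (1248808, 1234), (1250042, 1234), (1251276, 1234), (1252510, 1234), (1253744, 1234), (1254978, 1234), (1256212, 1234), (1257446, 1234), (1258680, 1234), (1259914, 1234), (1261148, 1234), (1262382, 1234), (1263616, 1234), (1264850, 1234), (1266084, 1234), (1267318, 1234), (1268552, 1234), (1269786, 1234), (1271020, 1234), (1272254, 1234), (1273488, 1234), (1274722, 1234), (1275956, 1234), (1277190, 1234), (1278424, 1234), (1279658, 1234), (1280892, 1234), (1282126, 1234), (1283360, 1234), (1284594, 1234), (1285828, 1234), (1287062, 1234), (1288296, 1234), (1289530, 1234), (1290764, 1234), (1291998, 1234), (1293232, 1234), (1294466, 1234)] ++ [(1295700, 1234), (1296934, 1234), (1298168, 1234), (1299402, 1234), (1300636, 1234), (1301870, 1234), (1303104, 1234), (1304338, 1234), (1305572, 1234), (1306806, 1234), (1308040, 1234), (1309274, 1234), (1310508, 1234), (1311742, 1234), (1312976, 1234), (1314210, 1234),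 (1315444, 1234), (1316678, 1234), (1317912, 1234), (1319146, 1234), (1320380, 1234), (1321614, 1234), (1322848, 1234), (1324082, 1234), (1325316, 1234), (1326550, 1234), (1327784, 1234), (1329018, 1234), (1330252, 1234), (1331486, 1234), (1332720, 1234), (1333954, 1234), (1335188, 1234), (1336422, 1234), (1337656, 1234), (1338890, 1234), (1340124, 1234), (1341358, 1234), (1342592, 1234), (1343826, 1234), (1345060, 1234), (1346294, 1234), (1347528, 1234), (1348762, 1234), (1349996, 1234), (1351230, 1234), (1352464, 1234), (1353698, 1234), (1354932, 1234), (1356166, 1234), (1357400, 1234), (1358634, 1234), (1359868, 1234), (1361102, 1234), (1362336, 1234), (1363570, 1234), (1364804, 1234), (1366038, 1234), (1367272, 1234), (1368506, 1234), (1369740, 1234), (1370974, 1234), (1372208, 1234), (1373442, 1234), (1374676, 1234), (1375910, 1234), (1377144, 1234), (1378378, 1234), (1379612, 1234), (1380846, 1234), (1382080, 1234), (1383314, 1234), (1384548, 1234), (1385782, 1234), (1387016, 1234), (1388250, 1234), (1389484, 1234), (1390718, 1234), (1391952,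 1234), (1393186, 1234), (1394420, 1234), (1395654, 1234), (1396888, 1234), (1398122, 1234), (1399356, 1234), (1400590, 1234), (1401824, 1234), (1403058, 1234), (1404292, 1234), (1405526, 1234), (1406760, 1234), (1407994, 1234), (1409228, 1234), (1410462, 1234), (1411696, 1234), (1412930, 1234), (1414164, 1234), (1415398, 1234), (1416632, 1234), (1417866, 1234), (1419100, 1234), (1420334, 1234), (1421568, 1234), (1422802, 1234), (1424036, 1234), (1425270, 1234), (1426504, 1234), (1427738, 1234), (1428972, 1234), (1430206, 1234), (1431440, 1234), (1432674, 1234), (1433908, 1234), (1435142, 1234), (1436376, 1234), (1437610, 1234), (1438844, 1234), (1440078, 1234), (1441312, 1234), (1442546, 1234), (1443780, 1234), (1445014, 1234), (1446248, 1234), (1447482, 1234), (1448716, 1234), (1449950, 1234), (1451184, 1234), (1452418, 1234), (1453652, 1234), (1454886, 1234), (1456120, 1234), (1457354, 1234), (1458588, 1234), (1459822, 1234), (1461056, 1234), (1462290, 1234), (1463524, 1234), (1464758, 1234), (1465992, 1234), (1467226, 1234), (1468460, 1234), (1469694,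 1234), (1470928, 1234), (1472162, 1234), (1473396, 1234), (1474630, 1234), (1475864, 1234), (1477098, 1234), (1478332, 1234), (1479566, 1234)] ++ [(1480800, 1234), (1482034, 1234), (1483268, 1234), (1484502, 1234), (1485736, 1234), (1486970, 1234), (1488204, 1234), (1489438, 1234), (1490672, 1234), (1491906, 1234), (1493140, 1234), (1494374, 1234), (1495608, 1234), (1496842, 1234), (1498076, 1234), (1499310, 1234), (1500544, 1234), (1501778, 1234), (1503012, 1234), (1504246, 1234), (1505480, 1234), (1506714, 1234), (1507948, 1234), (1509182, 1234), (1510416, 1234), (1511650, 1234), (1512884, 1234), (1514118, 1234), (1515352, 1234), (1516586, 1234), (1517820, 1234), (1519054, 1234), (1520288, 1234), (1521522, 1234), (1522756, 1234), (1523990, 1234), (1525224, 1234), (1526458, 1234), (1527692, 1234), (1528926, 1234), (1530160, 1234), (1531394, 1234), (1532628, 1234), (1533862, 1234), (1535096, 1234), (1536330, 1234), (1537564, 1234), (1538798, 202)]) (by decide +kernel) (all_append (all_append (all_append (all_append (all_append (all_append (all_append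 (all_append (rel0_grp0) rel0_grp1) rel0_grp2) rel0_grp3) rel0_grp4) rel0_grp5) rel0_grp6) rel0_grp7) rel0_grp8)

end Cfsg.Agent.HNOut
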