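import Cfsg.Agent.Lib.Lead.HNOut.D8
import Cfsg.Agent.Lib.Lead.HNOut.D9
import Cfsg.Agent.Lib.Lead.HNOut.D10

/-! # The outer automorphism group of the Harada–Norton group: the relation number 0, a part (generated) -/

set_option autoImplicit false
set_option maxRecDepth 100000

namespace Cfsg.Agent.HNOut

open Cfsg.Agent.PF Cfsg.Agent.Lib.Helper6 Cfsg.Agent.Lib.Helper6.TC Cfsg.Agent.Lib.Helper6.NatArr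
open Cfsg.Agent.PL (Acts evalF)

theorem rel0_0 : allR 0 1234 (fun q => Nat.beq ((fun q => f8 (f10 (f8 (f10 (f8 (f10 (f8 (f10 (f8 (f10 (f8 (f10 (f8 (f10 (f8 (f10 (f8 (f10 (f8 (f10 (f8 (f10 (f8 (f10 (f8 (f10 (f8 (f10 (f8 (f10 (f8 (f10 (f8 (f10 (f8 (f10 (f8 (f10 (f8 (f10 (f8 (f10 (f8 (f10 (f8 (f10 (f8 (f10 (f8 (f10 (f8 (f10 (f8 (f10 (f8 (f10 (f8 (f10 (f8 (f10 (f8 (f10 (f8 (f10 (f8 (f10 (f8 (f10 (f8 (f10 (f8 (f10 (f8 (f10 (f8 (f10 (f8 (f10 (f8 (f10 (q))))))))))))))))))))))))))))))))))))))))))))))))))))))))))))))))))))))))))))))))) q) ((fun q => q) q)) = true := by decide +kernel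

theorem rel0_1 : allR 1234 1234 (fun q => Nat.beq ((fun q => f8 (f10 (f8 (f10 (f8 (f10 (f8 (f10 (f8 (f10 (f8 (f10 (f8 (f10 (f8 (f10 (f8 (f10 (f8 (f10 (f8 (f10 (f8 (f10 (f8 (f10 (f8 (f10 (f8 (f10 (f8 (f10 (f8 (f10 (f8 (f10 (f8 (f10 (f8 (f10 (f8 (f10 (f8 (f10 (f8 (f10 (f8 (f10 (f8 (f10 (f8 (f10 (f8 (f10 (f8 (f10 (f8 (f10 (f8 (f10 (f8 (f10 (f8 (f10 (f8 (f10 (f8 (f10 (f8 (f10 (f8 (f10 (f8 (f10 (f8 (f10 (f8 (f10 (f8 (f10 (q))))))))))))))))))))))))))))))))))))))))))))))))))))))))))))))))))))))))))))))))) q) ((fun q => q) q)) = true := by decide +kernel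

theorem rel0_2 : allR 2468 1234 (fun q => Nat.beq ((fun q => f8 (f10 (f8 (f10 (f8 (f10 (f8 (f10 (f8 (f10 (f8 (f10 (f8 (f10 (f8 (f10 (f8 (f10 (f8 (f10 (f8 (f10 (f8 (f10 (f8 (f10 (f8 (f10 (f8 (f10 (f8 (f10 (f8 (f10 (f8 (f10 (f8 (f10 (f8 (f10 (f8 (f10 (f8 (f10 (f8 (f10 (f8 (f10 (f8 (f10 (f8 (f10 (f8 (f10 (f8 (f10 (f8 (f10 (f8 (f10 (f8 (f10 (f8 (f10 (f8 (f10 (f8 (f10 (f8 (f10 (f8 (f10 (f8 (f10 (f8 (f10 (f8 (f10 (f8 (f10 (q))))))))))))))))))))))))))))))))))))))))))))))))))))))))))))))))))))))))))))))))) q) ((fun q => q) q)) = true := by decide +kernel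

theorem rel0_3 : allR 3702 1234 (fun q => Nat.beq ((fun q => f8 (f10 (f8 (f10 (f8 (f10 (f8 (f10 (f8 (f10 (f8 (f10 (f8 (f10 (f8 (f10 (f8 (f10 (f8 (f10 (f8 (f10 (f8 (f10 (f8 (f10 (f8 (f10 (f8 (f10 (f8 (f10 (f8 (f10 (f8 (f10 (f8 (f10 (f8 (f10 (f8 (f10 (f8 (f10 (f8 (f10 (f8 (f10 (f8 (f10 (f8 (f10 (f8 (f10 (f8 (f10 (f8 (f10 (f8 (f10 (f8 (f10 (f8 (f10 (f8 (f10 (f8 (f10 (f8 (f10 (f8 (f10 (f8 (f10 (f8 (f10 (f8 (f10 (f8 (f10 (q))))))))))))))))))))))))))))))))))))))))))))))))))))))))))))))))))))))))))))))))) q) ((fun q => q) q)) = true := by decide +kernel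

theorem rel0_4 : allR 4936 1234 (fun q => Nat.beq ((fun q => f8 (f10 (f8 (f10 (f8 (f10 (f8 (f10 (f8 (f10 (f8 (f10 (f8 (f10 (f8 (f10 (f8 (f10 (f8 (f10 (f8 (f10 (f8 (f10 (f8 (f10 (f8 (f10 (f8 (f10 (f8 (f10 (f8 (f10 (f8 (f10 (f8 (f10 (f8 (f10 (f8 (f10 (f8 (f10 (f8 (f10 (f8 (f10 (f8 (f10 (f8 (f10 (f8 (f10 (f8 (f10 (f8 (f10 (f8 (f10 (f8 (f10 (f8 (f10 (f8 (f10 (f8 (f10 (f8 (f10 (f8 (f10 (f8 (f10 (f8 (f10 (f8 (f10 (f8 (f10 (q))))))))))))))))))))))))))))))))))))))))))))))))))))))))))))))))))))))))))))))))) q) ((fun q => q) q)) = true := by decide +kernel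

theorem rel0_5 : allR 6170 1234 (fun q => Nat.beq ((fun q => f8 (f10 (f8 (f10 (f8 (f10 (f8 (f10 (f8 (f10 (f8 (f10 (f8 (f10 (f8 (f10 (f8 (f10 (f8 (f10 (f8 (f10 (f8 (f10 (f8 (f10 (f8 (f10 (f8 (f10 (f8 (f10 (f8 (f10 (f8 (f10 (f8 (f10 (f8 (f10 (f8 (f10 (f8 (f10 (f8 (f10 (f8 (f10 (f8 (f10 (f8 (f10 (f8 (f10 (f8 (f10 (f8 (f10 (f8 (f10 (f8 (f10 (f8 (f10 (f8 (f10 (f8 (f10 (f8 (f10 (f8 (f10 (f8 (f10 (f8 (f10 (f8 (f10 (f8 (f10 (q))))))))))))))))))))))))))))))))))))))))))))))))))))))))))))))))))))))))))))))))) q) ((fun q => q) q)) = true := by decide +kernel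

theorem rel0_6 : allR 7404 1234 (fun q => Nat.beq ((fun q => f8 (f10 (f8 (f10 (f8 (f10 (f8 (f10 (f8 (f10 (f8 (f10 (f8 (f10 (f8 (f10 (f8 (f10 (f8 (f10 (f8 (f10 (f8 (f10 (f8 (f10 (f8 (f10 (f8 (f10 (f8 (f10 (f8 (f10 (f8 (f10 (f8 (f10 (f8 (f10 (f8 (f10 (f8 (f10 (f8 (f10 (f8 (f10 (f8 (f10 (f8 (f10 (f8 (f10 (f8 (f10 (f8 (f10 (f8 (f10 (f8 (f10 (f8 (f10 (f8 (f10 (f8 (f10 (f8 (f10 (f8 (f10 (f8 (f10 (f8 (f10 (f8 (f10 (f8 (f10 (q))))))))))))))))))))))))))))))))))))))))))))))))))))))))))))))))))))))))))))))))) q) ((fun q => q) q)) = true := by decide +kernel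

theorem rel0_7 : allR 8638 1234 (fun q => Nat.beq ((fun q => f8 (f10 (f8 (f10 (f8 (f10 (f8 (f10 (f8 (f10 (f8 (f10 (f8 (f10 (f8 (f10 (f8 (f10 (f8 (f10 (f8 (f10 (f8 (f10 (f8 (f10 (f8 (f10 (f8 (f10 (f8 (f10 (f8 (f10 (f8 (f10 (f8 (f10 (f8 (f10 (f8 (f10 (f8 (f10 (f8 (f10 (f8 (f10 (f8 (f10 (f8 (f10 (f8 (f10 (f8 (f10 (f8 (f10 (f8 (f10 (f8 (f10 (f8 (f10 (f8 (f10 (f8 (f10 (f8 (f10 (f8 (f10 (f8 (f10 (f8 (f10 (f8 (f10 (f8 (f10 (q))))))))))))))))))))))))))))))))))))))))))))))))))))))))))))))))))))))))))))))))) q) ((fun q => q) q)) = true := by decide +kernel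

theorem rel0_8 : allR 9872 1234 (fun q => Nat.beq ((fun q => f8 (f10 (f8 (f10 (f8 (f10 (f8 (f10 (f8 (f10 (f8 (f10 (f8 (f10 (f8 (f10 (f8 (f10 (f8 (f10 (f8 (f10 (f8 (f10 (f8 (f10 (f8 (f10 (f8 (f10 (f8 (f10 (f8 (f10 (f8 (f10 (f8 (f10 (f8 (f10 (f8 (f10 (f8 (f10 (f8 (f10 (f8 (f10 (f8 (f10 (f8 (f10 (f8 (f10 (f8 (f10 (f8 (f10 (f8 (f10 (f8 (f10 (f8 (f10 (f8 (f10 (f8 (f10 (f8 (f10 (f8 (f10 (f8 (f10 (f8 (f10 (f8 (f10 (f8 (f10 (q))))))))))))))))))))))))))))))))))))))))))))))))))))))))))))))))))))))))))))))))) q) ((fun q => q) q)) = true := by decide +kernel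

theorem rel0_9 : allR 11106 1234 (fun q => Nat.beq ((fun q => f8 (f10 (f8 (f10 (f8 (f10 (f8 (f10 (f8 (f10 (f8 (f10 (f8 (f10 (f8 (f10 (f8 (f10 (f8 (f10 (f8 (f10 (f8 (f10 (f8 (f10 (f8 (f10 (f8 (f10 (f8 (f10 (f8 (f10 (f8 (f10 (f8 (f10 (f8 (f10 (f8 (f10 (f8 (f10 (f8 (f10 (f8 (f10 (f8 (f10 (f8 (f10 (f8 (f10 (f8 (f10 (f8 (f10 (f8 (f10 (f8 (f10 (f8 (f10 (f8 (f10 (f8 (f10 (f8 (f10 (f8 (f10 (f8 (f10 (f8 (f10 (f8 (f10 (f8 (f10 (q))))))))))))))))))))))))))))))))))))))))))))))))))))))))))))))))))))))))))))))))) q) ((fun q => q) q)) = true := by decide +kernel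

theorem rel0_10 : allR 12340 1234 (fun q => Nat.beq ((fun q => f8 (f10 (f8 (f10 (f8 (f10 (f8 (f10 (f8 (f10 (f8 (f10 (f8 (f10 (f8 (f10 (f8 (f10 (f8 (f10 (f8 (f10 (f8 (f10 (f8 (f10 (f8 (f10 (f8 (f10 (f8 (f10 (f8 (f10 (f8 (f10 (f8 (f10 (f8 (f10 (f8 (f10 (f8 (f10 (f8 (f10 (f8 (f10 (f8 (f10 (f8 (f10 (f8 (f10 (f8 (f10 (f8 (f10 (f8 (f10 (f8 (f10 (f8 (f10 (f8 (f10 (f8 (f10 (f8 (f10 (f8 (f10 (f8 (f10 (f8 (f10 (f8 (f10 (f8 (f10 (q))))))))))))))))))))))))))))))))))))))))))))))))))))))))))))))))))))))))))))))))) q) ((fun q => q) q)) = true := by decide +kernel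

theorem rel0_11 : allR 13574 1234 (fun q => Nat.beq ((fun q => f8 (f10 (f8 (f10 (f8 (f10 (f8 (f10 (f8 (f10 (f8 (f10 (f8 (f10 (f8 (f10 (f8 (f10 (f8 (f10 (f8 (f10 (f8 (f10 (f8 (f10 (f8 (f10 (f8 (f10 (f8 (f10 (f8 (f10 (f8 (f10 (f8 (f10 (f8 (f10 (f8 (f10 (f8 (f10 (f8 (f10 (f8 (f10 (f8 (f10 (f8 (f10 (f8 (f10 (f8 (f10 (f8 (f10 (f8 (f10 (f8 (f10 (f8 (f10 (f8 (f10 (f8 (f10 (f8 (f10 (f8 (f10 (f8 (f10 (f8 (f10 (f8 (f10 (f8 (f10 (q))))))))))))))))))))))))))))))))))))))))))))))))))))))))))))))))))))))))))))))))) q) ((fun q => q) q)) = true := by decide +kernel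

theorem rel0_12 : allR 14808 1234 (fun q => Nat.beq ((fun q => f8 (f10 (f8 (f10 (f8 (f10 (f8 (f10 (f8 (f10 (f8 (f10 (f8 (f10 (f8 (f10 (f8 (f10 (f8 (f10 (f8 (f10 (f8 (f10 (f8 (f10 (f8 (f10 (f8 (f10 (f8 (f10 (f8 (f10 (f8 (f10 (f8 (f10 (f8 (f10 (f8 (f10 (f8 (f10 (f8 (f10 (f8 (f10 (f8 (f10 (f8 (f10 (f8 (f10 (f8 (f10 (f8 (f10 (f8 (f10 (f8 (f10 (f8 (f10 (f8 (f10 (f8 (f10 (f8 (f10 (f8 (f10 (f8 (f10 (f8 (f10 (f8 (f10 (f8 (f10 (q))))))))))))))))))))))))))))))))))))))))))))))))))))))))))))))))))))))))))))))))) q) ((fun q => q) q)) = true := by decide +kernel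

theorem rel0_13 : allR 16042 1234 (fun q => Nat.beq ((fun q => f8 (f10 (f8 (f10 (f8 (f10 (f8 (f10 (f8 (f10 (f8 (f10 (f8 (f10 (f8 (f10 (f8 (f10 (f8 (f10 (f8 (f10 (f8 (f10 (f8 (f10 (f8 (f10 (f8 (f10 (f8 (f10 (f8 (f10 (f8 (f10 (f8 (f10 (f8 (f10 (f8 (f10 (f8 (f10 (f8 (f10 (f8 (f10 (f8 (f10 (f8 (f10 (f8 (f10 (f8 (f10 (f8 (f10 (f8 (f10 (f8 (f10 (f8 (f10 (f8 (f10 (f8 (f10 (f8 (f10 (f8 (f10 (f8 (f10 (f8 (f10 (f8 (f10 (f8 (f10 (q))))))))))))))))))))))))))))))))))))))))))))))))))))))))))))))))))))))))))))))))) q) ((fun q => q) q)) = true := by decide +kernel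

theorem rel0_14 : allR 17276 1234 (fun q => Nat.beq ((fun q => f8 (f10 (f8 (f10 (f8 (f10 (f8 (f10 (f8 (f10 (f8 (f10 (f8 (f10 (f8 (f10 (f8 (f10 (f8 (f10 (f8 (f10 (f8 (f10 (f8 (f10 (f8 (f10 (f8 (f10 (f8 (f10 (f8 (f10 (f8 (f10 (f8 (f10 (f8 (f10 (f8 (f10 (f8 (f10 (f8 (f10 (f8 (f10 (f8 (f10 (f8 (f10 (f8 (f10 (f8 (f10 (f8 (f10 (f8 (f10 (f8 (f10 (f8 (f10 (f8 (f10 (f8 (f10 (f8 (f10 (f8 (f10 (f8 (f10 (f8 (f10 (f8 (f10 (f8 (f10 (q))))))))))))))))))))))))))))))))))))))))))))))))))))))))))))))))))))))))))))))))) q) ((fun q => q) q)) = true := by decide +kernel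

theorem rel0_15 : allR 18510 1234 (fun q => Nat.beq ((fun q => f8 (f10 (f8 (f10 (f8 (f10 (f8 (f10 (f8 (f10 (f8 (f10 (f8 (f10 (f8 (f10 (f8 (f10 (f8 (f10 (f8 (f10 (f8 (f10 (f8 (f10 (f8 (f10 (f8 (f10 (f8 (f10 (f8 (f10 (f8 (f10 (f8 (f10 (f8 (f10 (f8 (f10 (f8 (f10 (f8 (f10 (f8 (f10 (f8 (f10 (f8 (f10 (f8 (f10 (f8 (f10 (f8 (f10 (f8 (f10 (f8 (f10 (f8 (f10 (f8 (f10 (f8 (f10 (f8 (f10 (f8 (f10 (f8 (f10 (f8 (f10 (f8 (f10 (f8 (f10 (q))))))))))))))))))))))))))))))))))))))))))))))))))))))))))))))))))))))))))))))))) q) ((fun q => q) q)) = true := by decide +kernel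

theorem rel0_16 : allR 19744 1234 (fun q => Nat.beq ((fun q => f8 (f10 (f8 (f10 (f8 (f10 (f8 (f10 (f8 (f10 (f8 (f10 (f8 (f10 (f8 (f10 (f8 (f10 (f8 (f10 (f8 (f10 (f8 (f10 (f8 (f10 (f8 (f10 (f8 (f10 (f8 (f10 (f8 (f10 (f8 (f10 (f8 (f10 (f8 (f10 (f8 (f10 (f8 (f10 (f8 (f10 (f8 (f10 (f8 (f10 (f8 (f10 (f8 (f10 (f8 (f10 (f8 (f10 (f8 (f10 (f8 (f10 (f8 (f10 (f8 (f10 (f8 (f10 (f8 (f10 (f8 (f10 (f8 (f10 (f8 (f10 (f8 (f10 (f8 (f10 (q))))))))))))))))))))))))))))))))))))))))))))))))))))))))))))))))))))))))))))))))) q) ((fun q => q) q)) = true := by decide +kernel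

theorem rel0_17 : allR 20978 1234 (fun q => Nat.beq ((fun q => f8 (f10 (f8 (f10 (f8 (f10 (f8 (f10 (f8 (f10 (f8 (f10 (f8 (f10 (f8 (f10 (f8 (f10 (f8 (f10 (f8 (f10 (f8 (f10 (f8 (f10 (f8 (f10 (f8 (f10 (f8 (f10 (f8 (f10 (f8 (f10 (f8 (f10 (f8 (f10 (f8 (f10 (f8 (f10 (f8 (f10 (f8 (f10 (f8 (f10 (f8 (f10 (f8 (f10 (f8 (f10 (f8 (f10 (f8 (f10 (f8 (f10 (f8 (f10 (f8 (f10 (f8 (f10 (f8 (f10 (f8 (f10 (f8 (f10 (f8 (f10 (f8 (f10 (f8 (f10 (q))))))))))))))))))))))))))))))))))))))))))))))))))))))))))))))))))))))))))))))))) q) ((fun q => q) q)) = true := by decide +kernel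

theorem rel0_18 : allR 22212 1234 (fun q => Nat.beq ((fun q => f8 (f10 (f8 (f10 (f8 (f10 (f8 (f10 (f8 (f10 (f8 (f10 (f8 (f10 (f8 (f10 (f8 (f10 (f8 (f10 (f8 (f10 (f8 (f10 (f8 (f10 (f8 (f10 (f8 (f10 (f8 (f10 (f8 (f10 (f8 (f10 (f8 (f10 (f8 (f10 (f8 (f10 (f8 (f10 (f8 (f10 (f8 (f10 (f8 (f10 (f8 (f10 (f8 (f10 (f8 (f10 (f8 (f10 (f8 (f10 (f8 (f10 (f8 (f10 (f8 (f10 (f8 (f10 (f8 (f10 (f8 (f10 (f8 (f10 (f8 (f10 (f8 (f10 (f8 (f10 (q))))))))))))))))))))))))))))))))))))))))))))))))))))))))))))))))))))))))))))))))) q) ((fun q => q) q)) = true := by decide +kernel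

theorem rel0_19 : allR 23446 1234 (fun q => Nat.beq ((fun q => f8 (f10 (f8 (f10 (f8 (f10 (f8 (f10 (f8 (f10 (f8 (f10 (f8 (f10 (f8 (f10 (f8 (f10 (f8 (f10 (f8 (f10 (f8 (f10 (f8 (f10 (f8 (f10 (f8 (f10 (f8 (f10 (f8 (f10 (f8 (f10 (f8 (f10 (f8 (f10 (f8 (f10 (f8 (f10 (f8 (f10 (f8 (f10 (f8 (f10 (f8 (f10 (f8 (f10 (f8 (f10 (f8 (f10 (f8 (f10 (f8 (f10 (f8 (f10 (f8 (f10 (f8 (f10 (f8 (f10 (f8 (f10 (f8 (f10 (f8 (f10 (f8 (f10 (f8 (f10 (q))))))))))))))))))))))))))))))))))))))))))))))))))))))))))))))))))))))))))))))))) q) ((fun q => q) q)) = true := by decide +kernel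

theorem rel0_20 : allR 24680 1234 (fun q => Nat.beq ((fun q => f8 (f10 (f8 (f10 (f8 (f10 (f8 (f10 (f8 (f10 (f8 (f10 (f8 (f10 (f8 (f10 (f8 (f10 (f8 (f10 (f8 (f10 (f8 (f10 (f8 (f10 (f8 (f10 (f8 (f10 (f8 (f10 (f8 (f10 (f8 (f10 (f8 (f10 (f8 (f10 (f8 (f10 (f8 (f10 (f8 (f10 (f8 (f10 (f8 (f10 (f8 (f10 (f8 (f10 (f8 (f10 (f8 (f10 (f8 (f10 (f8 (f10 (f8 (f10 (f8 (f10 (f8 (f10 (f8 (f10 (f8 (f10 (f8 (f10 (f8 (f10 (f8 (f10 (f8 (f10 (q))))))))))))))))))))))))))))))))))))))))))))))))))))))))))))))))))))))))))))))))) q) ((fun q => q) q)) = true := by decide +kernel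

theorem rel0_21 : allR 25914 1234 (fun q => Nat.beq ((fun q => f8 (f10 (f8 (f10 (f8 (f10 (f8 (f10 (f8 (f10 (f8 (f10 (f8 (f10 (f8 (f10 (f8 (f10 (f8 (f10 (f8 (f10 (f8 (f10 (f8 (f10 (f8 (f10 (f8 (f10 (f8 (f10 (f8 (f10 (f8 (f10 (f8 (f10 (f8 (f10 (f8 (f10 (f8 (f10 (f8 (f10 (f8 (f10 (f8 (f10 (f8 (f10 (f8 (f10 (f8 (f10 (f8 (f10 (f8 (f10 (f8 (f10 (f8 (f10 (f8 (f10 (f8 (f10 (f8 (f10 (f8 (f10 (f8 (f10 (f8 (f10 (f8 (f10 (f8 (f10 (q))))))))))))))))))))))))))))))))))))))))))))))))))))))))))))))))))))))))))))))))) q) ((fun q => q) q)) = true := by decide +kernel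

theorem rel0_22 : allR 27148 1234 (fun q => Nat.beq ((fun q => f8 (f10 (f8 (f10 (f8 (f10 (f8 (f10 (f8 (f10 (f8 (f10 (f8 (f10 (f8 (f10 (f8 (f10 (f8 (f10 (f8 (f10 (f8 (f10 (f8 (f10 (f8 (f10 (f8 (f10 (f8 (f10 (f8 (f10 (f8 (f10 (f8 (f10 (f8 (f10 (f8 (f10 (f8 (f10 (f8 (f10 (f8 (f10 (f8 (f10 (f8 (f10 (f8 (f10 (f8 (f10 (f8 (f10 (f8 (f10 (f8 (f10 (f8 (f10 (f8 (f10 (f8 (f10 (f8 (f10 (f8 (f10 (f8 (f10 (f8 (f10 (f8 (f10 (f8 (f10 (q))))))))))))))))))))))))))))))))))))))))))))))))))))))))))))))))))))))))))))))))) q) ((fun q => q) q)) = true := by decide +kernel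

theorem rel0_23 : allR 28382 1234 (fun q => Nat.beq ((fun q => f8 (f10 (f8 (f10 (f8 (f10 (f8 (f10 (f8 (f10 (f8 (f10 (f8 (f10 (f8 (f10 (f8 (f10 (f8 (f10 (f8 (f10 (f8 (f10 (f8 (f10 (f8 (f10 (f8 (f10 (f8 (f10 (f8 (f10 (f8 (f10 (f8 (f10 (f8 (f10 (f8 (f10 (f8 (f10 (f8 (f10 (f8 (f10 (f8 (f10 (f8 (f10 (f8 (f10 (f8 (f10 (f8 (f10 (f8 (f10 (f8 (f10 (f8 (f10 (f8 (f10 (f8 (f10 (f8 (f10 (f8 (f10 (f8 (f10 (f8 (f10 (f8 (f10 (f8 (f10 (q))))))))))))))))))))))))))))))))))))))))))))))))))))))))))))))))))))))))))))))))) q) ((fun q => q) q)) = true := by decide +kernel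

theorem rel0_24 : allR 29616 1234 (fun q => Nat.beq ((fun q => f8 (f10 (f8 (f10 (f8 (f10 (f8 (f10 (f8 (f10 (f8 (f10 (f8 (f10 (f8 (f10 (f8 (f10 (f8 (f10 (f8 (f10 (f8 (f10 (f8 (f10 (f8 (f10 (f8 (f10 (f8 (f10 (f8 (f10 (f8 (f10 (f8 (f10 (f8 (f10 (f8 (f10 (f8 (f10 (f8 (f10 (f8 (f10 (f8 (f10 (f8 (f10 (f8 (f10 (f8 (f10 (f8 (f10 (f8 (f10 (f8 (f10 (f8 (f10 (f8 (f10 (f8 (f10 (f8 (f10 (f8 (f10 (f8 (f10 (f8 (f10 (f8 (f10 (f8 (f10 (q))))))))))))))))))))))))))))))))))))))))))))))))))))))))))))))))))))))))))))))))) q) ((fun q => q) q)) = true := by decide +kernel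


end Cfsg.Agent.HNOut
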