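import Cfsg.Agent.Lib.Lead.HNOut.D8
import Cfsg.Agent.Lib.Lead.HNOut.D9
import Cfsg.Agent.Lib.Lead.HNOut.D10

/-! # The outer automorphism group of the Harada–Norton group: the relation number 2, a part (generated) -/

set_option autoImplicit false
set_option maxRecDepth 100000

namespace Cfsg.Agent.HNOut

open Cfsg.Agent.PF Cfsg.Agent.Lib.Helper6 Cfsg.Agent.Lib.Helper6.TC Cfsg.Agent.Lib.Helper6.NatArr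
open Cfsg.Agent.PL (Acts evalF)

theorem rel2_0 : allR 0 1724 (fun q => Nat.beq ((fun q => f8 (f8 (f10 (f8 (f8 (f10 (f8 (f8 (f10 (f8 (f8 (f10 (f8 (f8 (f10 (f8 (f8 (f10 (f8 (f8 (f10 (f8 (f8 (f10 (f8 (f8 (f10 (f8 (f8 (f10 (f8 (f8 (f10 (f8 (f8 (f10 (f8 (f8 (f10 (f8 (f8 (f10 (f8 (f8 (f10 (f8 (f8 (f10 (f8 (f8 (f10 (f8 (f8 (f10 (f8 (f8 (f10 (q)))))))))))))))))))))))))))))))))))))))))))))))))))))))))) q) ((fun q => q) q)) = true := by decide +kernel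

theorem rel2_1 : allR 1724 1724 (fun q => Nat.beq ((fun q => f8 (f8 (f10 (f8 (f8 (f10 (f8 (f8 (f10 (f8 (f8 (f10 (f8 (f8 (f10 (f8 (f8 (f10 (f8 (f8 (f10 (f8 (f8 (f10 (f8 (f8 (f10 (f8 (f8 (f10 (f8 (f8 (f10 (f8 (f8 (f10 (f8 (f8 (f10 (f8 (f8 (f10 (f8 (f8 (f10 (f8 (f8 (f10 (f8 (f8 (f10 (f8 (f8 (f10 (f8 (f8 (f10 (q)))))))))))))))))))))))))))))))))))))))))))))))))))))))))) q) ((fun q => q) q)) = true := by decide +kernel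

theorem rel2_2 : allR 3448 1724 (fun q => Nat.beq ((fun q => f8 (f8 (f10 (f8 (f8 (f10 (f8 (f8 (f10 (f8 (f8 (f10 (f8 (f8 (f10 (f8 (f8 (f10 (f8 (f8 (f10 (f8 (f8 (f10 (f8 (f8 (f10 (f8 (f8 (f10 (f8 (f8 (f10 (f8 (f8 (f10 (f8 (f8 (f10 (f8 (f8 (f10 (f8 (f8 (f10 (f8 (f8 (f10 (f8 (f8 (f10 (f8 (f8 (f10 (f8 (f8 (f10 (q)))))))))))))))))))))))))))))))))))))))))))))))))))))))))) q) ((fun q => q) q)) = true := by decide +kernel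

theorem rel2_3 : allR 5172 1724 (fun q => Nat.beq ((fun q => f8 (f8 (f10 (f8 (f8 (f10 (f8 (f8 (f10 (f8 (f8 (f10 (f8 (f8 (f10 (f8 (f8 (f10 (f8 (f8 (f10 (f8 (f8 (f10 (f8 (f8 (f10 (f8 (f8 (f10 (f8 (f8 (f10 (f8 (f8 (f10 (f8 (f8 (f10 (f8 (f8 (f10 (f8 (f8 (f10 (f8 (f8 (f10 (f8 (f8 (f10 (f8 (f8 (f10 (f8 (f8 (f10 (q)))))))))))))))))))))))))))))))))))))))))))))))))))))))))) q) ((fun q => q) q)) = true := by decide +kernel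

theorem rel2_4 : allR 6896 1724 (fun q => Nat.beq ((fun q => f8 (f8 (f10 (f8 (f8 (f10 (f8 (f8 (f10 (f8 (f8 (f10 (f8 (f8 (f10 (f8 (f8 (f10 (f8 (f8 (f10 (f8 (f8 (f10 (f8 (f8 (f10 (f8 (f8 (f10 (f8 (f8 (f10 (f8 (f8 (f10 (f8 (f8 (f10 (f8 (f8 (f10 (f8 (f8 (f10 (f8 (f8 (f10 (f8 (f8 (f10 (f8 (f8 (f10 (f8 (f8 (f10 (q)))))))))))))))))))))))))))))))))))))))))))))))))))))))))) q) ((fun q => q) q)) = true := by decide +kernel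

theorem rel2_5 : allR 8620 1724 (fun q => Nat.beq ((fun q => f8 (f8 (f10 (f8 (f8 (f10 (f8 (f8 (f10 (f8 (f8 (f10 (f8 (f8 (f10 (f8 (f8 (f10 (f8 (f8 (f10 (f8 (f8 (f10 (f8 (f8 (f10 (f8 (f8 (f10 (f8 (f8 (f10 (f8 (f8 (f10 (f8 (f8 (f10 (f8 (f8 (f10 (f8 (f8 (f10 (f8 (f8 (f10 (f8 (f8 (f10 (f8 (f8 (f10 (f8 (f8 (f10 (q)))))))))))))))))))))))))))))))))))))))))))))))))))))))))) q) ((fun q => q) q)) = true := by decide +kernel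

theorem rel2_6 : allR 10344 1724 (fun q => Nat.beq ((fun q => f8 (f8 (f10 (f8 (f8 (f10 (f8 (f8 (f10 (f8 (f8 (f10 (f8 (f8 (f10 (f8 (f8 (f10 (f8 (f8 (f10 (f8 (f8 (f10 (f8 (f8 (f10 (f8 (f8 (f10 (f8 (f8 (f10 (f8 (f8 (f10 (f8 (f8 (f10 (f8 (f8 (f10 (f8 (f8 (f10 (f8 (f8 (f10 (f8 (f8 (f10 (f8 (f8 (f10 (f8 (f8 (f10 (q)))))))))))))))))))))))))))))))))))))))))))))))))))))))))) q) ((fun q => q) q)) = true := by decide +kernel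

theorem rel2_7 : allR 12068 1724 (fun q => Nat.beq ((fun q => f8 (f8 (f10 (f8 (f8 (f10 (f8 (f8 (f10 (f8 (f8 (f10 (f8 (f8 (f10 (f8 (f8 (f10 (f8 (f8 (f10 (f8 (f8 (f10 (f8 (f8 (f10 (f8 (f8 (f10 (f8 (f8 (f10 (f8 (f8 (f10 (f8 (f8 (f10 (f8 (f8 (f10 (f8 (f8 (f10 (f8 (f8 (f10 (f8 (f8 (f10 (f8 (f8 (f10 (f8 (f8 (f10 (q)))))))))))))))))))))))))))))))))))))))))))))))))))))))))) q) ((fun q => q) q)) = true := by decide +kernel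

theorem rel2_8 : allR 13792 1724 (fun q => Nat.beq ((fun q => f8 (f8 (f10 (f8 (f8 (f10 (f8 (f8 (f10 (f8 (f8 (f10 (f8 (f8 (f10 (f8 (f8 (f10 (f8 (f8 (f10 (f8 (f8 (f10 (f8 (f8 (f10 (f8 (f8 (f10 (f8 (f8 (f10 (f8 (f8 (f10 (f8 (f8 (f10 (f8 (f8 (f10 (f8 (f8 (f10 (f8 (f8 (f10 (f8 (f8 (f10 (f8 (f8 (f10 (f8 (f8 (f10 (q)))))))))))))))))))))))))))))))))))))))))))))))))))))))))) q) ((fun q => q) q)) = true := by decide +kernel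

theorem rel2_9 : allR 15516 1724 (fun q => Nat.beq ((fun q => f8 (f8 (f10 (f8 (f8 (f10 (f8 (f8 (f10 (f8 (f8 (f10 (f8 (f8 (f10 (f8 (f8 (f10 (f8 (f8 (f10 (f8 (f8 (f10 (f8 (f8 (f10 (f8 (f8 (f10 (f8 (f8 (f10 (f8 (f8 (f10 (f8 (f8 (f10 (f8 (f8 (f10 (f8 (f8 (f10 (f8 (f8 (f10 (f8 (f8 (f10 (f8 (f8 (f10 (f8 (f8 (f10 (q)))))))))))))))))))))))))))))))))))))))))))))))))))))))))) q) ((fun q => q) q)) = true := by decide +kernel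

theorem rel2_10 : allR 17240 1724 (fun q => Nat.beq ((fun q => f8 (f8 (f10 (f8 (f8 (f10 (f8 (f8 (f10 (f8 (f8 (f10 (f8 (f8 (f10 (f8 (f8 (f10 (f8 (f8 (f10 (f8 (f8 (f10 (f8 (f8 (f10 (f8 (f8 (f10 (f8 (f8 (f10 (f8 (f8 (f10 (f8 (f8 (f10 (f8 (f8 (f10 (f8 (f8 (f10 (f8 (f8 (f10 (f8 (f8 (f10 (f8 (f8 (f10 (f8 (f8 (f10 (q)))))))))))))))))))))))))))))))))))))))))))))))))))))))))) q) ((fun q => q) q)) = true := by decide +kernel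

theorem rel2_11 : allR 18964 1724 (fun q => Nat.beq ((fun q => f8 (f8 (f10 (f8 (f8 (f10 (f8 (f8 (f10 (f8 (f8 (f10 (f8 (f8 (f10 (f8 (f8 (f10 (f8 (f8 (f10 (f8 (f8 (f10 (f8 (f8 (f10 (f8 (f8 (f10 (f8 (f8 (f10 (f8 (f8 (f10 (f8 (f8 (f10 (f8 (f8 (f10 (f8 (f8 (f10 (f8 (f8 (f10 (f8 (f8 (f10 (f8 (f8 (f10 (f8 (f8 (f10 (q)))))))))))))))))))))))))))))))))))))))))))))))))))))))))) q) ((fun q => q) q)) = true := by decide +kernel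

theorem rel2_12 : allR 20688 1724 (fun q => Nat.beq ((fun q => f8 (f8 (f10 (f8 (f8 (f10 (f8 (f8 (f10 (f8 (f8 (f10 (f8 (f8 (f10 (f8 (f8 (f10 (f8 (f8 (f10 (f8 (f8 (f10 (f8 (f8 (f10 (f8 (f8 (f10 (f8 (f8 (f10 (f8 (f8 (f10 (f8 (f8 (f10 (f8 (f8 (f10 (f8 (f8 (f10 (f8 (f8 (f10 (f8 (f8 (f10 (f8 (f8 (f10 (f8 (f8 (f10 (q)))))))))))))))))))))))))))))))))))))))))))))))))))))))))) q) ((fun q => q) q)) = true := by decide +kernel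

theorem rel2_13 : allR 22412 1724 (fun q => Nat.beq ((fun q => f8 (f8 (f10 (f8 (f8 (f10 (f8 (f8 (f10 (f8 (f8 (f10 (f8 (f8 (f10 (f8 (f8 (f10 (f8 (f8 (f10 (f8 (f8 (f10 (f8 (f8 (f10 (f8 (f8 (f10 (f8 (f8 (f10 (f8 (f8 (f10 (f8 (f8 (f10 (f8 (f8 (f10 (f8 (f8 (f10 (f8 (f8 (f10 (f8 (f8 (f10 (f8 (f8 (f10 (f8 (f8 (f10 (q)))))))))))))))))))))))))))))))))))))))))))))))))))))))))) q) ((fun q => q) q)) = true := by decide +kernel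

theorem rel2_14 : allR 24136 1724 (fun q => Nat.beq ((fun q => f8 (f8 (f10 (f8 (f8 (f10 (f8 (f8 (f10 (f8 (f8 (f10 (f8 (f8 (f10 (f8 (f8 (f10 (f8 (f8 (f10 (f8 (f8 (f10 (f8 (f8 (f10 (f8 (f8 (f10 (f8 (f8 (f10 (f8 (f8 (f10 (f8 (f8 (f10 (f8 (f8 (f10 (f8 (f8 (f10 (f8 (f8 (f10 (f8 (f8 (f10 (f8 (f8 (f10 (f8 (f8 (f10 (q)))))))))))))))))))))))))))))))))))))))))))))))))))))))))) q) ((fun q => q) q)) = true := by decide +kernel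

theorem rel2_15 : allR 25860 1724 (fun q => Nat.beq ((fun q => f8 (f8 (f10 (f8 (f8 (f10 (f8 (f8 (f10 (f8 (f8 (f10 (f8 (f8 (f10 (f8 (f8 (f10 (f8 (f8 (f10 (f8 (f8 (f10 (f8 (f8 (f10 (f8 (f8 (f10 (f8 (f8 (f10 (f8 (f8 (f10 (f8 (f8 (f10 (f8 (f8 (f10 (f8 (f8 (f10 (f8 (f8 (f10 (f8 (f8 (f10 (f8 (f8 (f10 (f8 (f8 (f10 (q)))))))))))))))))))))))))))))))))))))))))))))))))))))))))) q) ((fun q => q) q)) = true := by decide +kernel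

theorem rel2_16 : allR 27584 1724 (fun q => Nat.beq ((fun q => f8 (f8 (f10 (f8 (f8 (f10 (f8 (f8 (f10 (f8 (f8 (f10 (f8 (f8 (f10 (f8 (f8 (f10 (f8 (f8 (f10 (f8 (f8 (f10 (f8 (f8 (f10 (f8 (f8 (f10 (f8 (f8 (f10 (f8 (f8 (f10 (f8 (f8 (f10 (f8 (f8 (f10 (f8 (f8 (f10 (f8 (f8 (f10 (f8 (f8 (f10 (f8 (f8 (f10 (f8 (f8 (f10 (q)))))))))))))))))))))))))))))))))))))))))))))))))))))))))) q) ((fun q => q) q)) = true := by decide +kernel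

theorem rel2_17 : allR 29308 1724 (fun q => Nat.beq ((fun q => f8 (f8 (f10 (f8 (f8 (f10 (f8 (f8 (f10 (f8 (f8 (f10 (f8 (f8 (f10 (f8 (f8 (f10 (f8 (f8 (f10 (f8 (f8 (f10 (f8 (f8 (f10 (f8 (f8 (f10 (f8 (f8 (f10 (f8 (f8 (f10 (f8 (f8 (f10 (f8 (f8 (f10 (f8 (f8 (f10 (f8 (f8 (f10 (f8 (f8 (f10 (f8 (f8 (f10 (f8 (f8 (f10 (q)))))))))))))))))))))))))))))))))))))))))))))))))))))))))) q) ((fun q => q) q)) = true := by decide +kernel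

theorem rel2_18 : allR 31032 1724 (fun q => Nat.beq ((fun q => f8 (f8 (f10 (f8 (f8 (f10 (f8 (f8 (f10 (f8 (f8 (f10 (f8 (f8 (f10 (f8 (f8 (f10 (f8 (f8 (f10 (f8 (f8 (f10 (f8 (f8 (f10 (f8 (f8 (f10 (f8 (f8 (f10 (f8 (f8 (f10 (f8 (f8 (f10 (f8 (f8 (f10 (f8 (f8 (f10 (f8 (f8 (f10 (f8 (f8 (f10 (f8 (f8 (f10 (f8 (f8 (f10 (q)))))))))))))))))))))))))))))))))))))))))))))))))))))))))) q) ((fun q => q) q)) = true := by decide +kernel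

theorem rel2_19 : allR 32756 1724 (fun q => Nat.beq ((fun q => f8 (f8 (f10 (f8 (f8 (f10 (f8 (f8 (f10 (f8 (f8 (f10 (f8 (f8 (f10 (f8 (f8 (f10 (f8 (f8 (f10 (f8 (f8 (f10 (f8 (f8 (f10 (f8 (f8 (f10 (f8 (f8 (f10 (f8 (f8 (f10 (f8 (f8 (f10 (f8 (f8 (f10 (f8 (f8 (f10 (f8 (f8 (f10 (f8 (f8 (f10 (f8 (f8 (f10 (f8 (f8 (f10 (q)))))))))))))))))))))))))))))))))))))))))))))))))))))))))) q) ((fun q => q) q)) = true := by decide +kernel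

theorem rel2_20 : allR 34480 1724 (fun q => Nat.beq ((fun q => f8 (f8 (f10 (f8 (f8 (f10 (f8 (f8 (f10 (f8 (f8 (f10 (f8 (f8 (f10 (f8 (f8 (f10 (f8 (f8 (f10 (f8 (f8 (f10 (f8 (f8 (f10 (f8 (f8 (f10 (f8 (f8 (f10 (f8 (f8 (f10 (f8 (f8 (f10 (f8 (f8 (f10 (f8 (f8 (f10 (f8 (f8 (f10 (f8 (f8 (f10 (f8 (f8 (f10 (f8 (f8 (f10 (q)))))))))))))))))))))))))))))))))))))))))))))))))))))))))) q) ((fun q => q) q)) = true := by decide +kernel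

theorem rel2_21 : allR 36204 1724 (fun q => Nat.beq ((fun q => f8 (f8 (f10 (f8 (f8 (f10 (f8 (f8 (f10 (f8 (f8 (f10 (f8 (f8 (f10 (f8 (f8 (f10 (f8 (f8 (f10 (f8 (f8 (f10 (f8 (f8 (f10 (f8 (f8 (f10 (f8 (f8 (f10 (f8 (f8 (f10 (f8 (f8 (f10 (f8 (f8 (f10 (f8 (f8 (f10 (f8 (f8 (f10 (f8 (f8 (f10 (f8 (f8 (f10 (f8 (f8 (f10 (q)))))))))))))))))))))))))))))))))))))))))))))))))))))))))) q) ((fun q => q) q)) = true := by decide +kernel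

theorem rel2_22 : allR 37928 1724 (fun q => Nat.beq ((fun q => f8 (f8 (f10 (f8 (f8 (f10 (f8 (f8 (f10 (f8 (f8 (f10 (f8 (f8 (f10 (f8 (f8 (f10 (f8 (f8 (f10 (f8 (f8 (f10 (f8 (f8 (f10 (f8 (f8 (f10 (f8 (f8 (f10 (f8 (f8 (f10 (f8 (f8 (f10 (f8 (f8 (f10 (f8 (f8 (f10 (f8 (f8 (f10 (f8 (f8 (f10 (f8 (f8 (f10 (f8 (f8 (f10 (q)))))))))))))))))))))))))))))))))))))))))))))))))))))))))) q) ((fun q => q) q)) = true := by decide +kernel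

theorem rel2_23 : allR 39652 1724 (fun q => Nat.beq ((fun q => f8 (f8 (f10 (f8 (f8 (f10 (f8 (f8 (f10 (f8 (f8 (f10 (f8 (f8 (f10 (f8 (f8 (f10 (f8 (f8 (f10 (f8 (f8 (f10 (f8 (f8 (f10 (f8 (f8 (f10 (f8 (f8 (f10 (f8 (f8 (f10 (f8 (f8 (f10 (f8 (f8 (f10 (f8 (f8 (f10 (f8 (f8 (f10 (f8 (f8 (f10 (f8 (f8 (f10 (f8 (f8 (f10 (q)))))))))))))))))))))))))))))))))))))))))))))))))))))))))) q) ((fun q => q) q)) = true := by decide +kernel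

theorem rel2_24 : allR 41376 1724 (fun q => Nat.beq ((fun q => f8 (f8 (f10 (f8 (f8 (f10 (f8 (f8 (f10 (f8 (f8 (f10 (f8 (f8 (f10 (f8 (f8 (f10 (f8 (f8 (f10 (f8 (f8 (f10 (f8 (f8 (f10 (f8 (f8 (f10 (f8 (f8 (f10 (f8 (f8 (f10 (f8 (f8 (f10 (f8 (f8 (f10 (f8 (f8 (f10 (f8 (f8 (f10 (f8 (f8 (f10 (f8 (f8 (f10 (f8 (f8 (f10 (q)))))))))))))))))))))))))))))))))))))))))))))))))))))))))) q) ((fun q => q) q)) = true := by decide +kernel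


end Cfsg.Agent.HNOut
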