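import Cfsg.Agent.Lib.Lead.HNOut.D8
import Cfsg.Agent.Lib.Lead.HNOut.D9
import Cfsg.Agent.Lib.Lead.HNOut.D10

/-! # The outer automorphism group of the Harada–Norton group: the relation number 3, a part (generated) -/

set_option autoImplicit false
set_option maxRecDepth 100000

namespace Cfsg.Agent.HNOut

open Cfsg.Agent.PF Cfsg.Agent.Lib.Helper6 Cfsg.Agent.Lib.Helper6.TC Cfsg.Agent.Lib.Helper6.NatArr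
open Cfsg.Agent.PL (Acts evalF)

theorem rel3_0 : allR 0 1492 (fun q => Nat.beq ((fun q => f8 (f9 (f10 (f8 (f9 (f10 (f8 (f9 (f10 (f8 (f9 (f10 (f8 (f9 (f10 (f8 (f9 (f10 (f8 (f9 (f10 (f8 (f9 (f10 (f8 (f9 (f10 (f8 (f9 (f10 (f8 (f9 (f10 (f8 (f9 (f10 (f8 (f9 (f10 (f8 (f9 (f10 (f8 (f9 (f10 (f8 (f9 (f10 (f8 (f9 (f10 (f8 (f9 (f10 (f8 (f9 (f10 (f8 (f9 (f10 (f8 (f9 (f10 (f8 (f9 (f10 (q))))))))))))))))))))))))))))))))))))))))))))))))))))))))))))))))))) q) ((fun q => q) q)) = true := by decide +kernel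

theorem rel3_1 : allR 1492 1492 (fun q => Nat.beq ((fun q => f8 (f9 (f10 (f8 (f9 (f10 (f8 (f9 (f10 (f8 (f9 (f10 (f8 (f9 (f10 (f8 (f9 (f10 (f8 (f9 (f10 (f8 (f9 (f10 (f8 (f9 (f10 (f8 (f9 (f10 (f8 (f9 (f10 (f8 (f9 (f10 (f8 (f9 (f10 (f8 (f9 (f10 (f8 (f9 (f10 (f8 (f9 (f10 (f8 (f9 (f10 (f8 (f9 (f10 (f8 (f9 (f10 (f8 (f9 (f10 (f8 (f9 (f10 (f8 (f9 (f10 (q))))))))))))))))))))))))))))))))))))))))))))))))))))))))))))))))))) q) ((fun q => q) q)) = true := by decide +kernel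

theorem rel3_2 : allR 2984 1492 (fun q => Nat.beq ((fun q => f8 (f9 (f10 (f8 (f9 (f10 (f8 (f9 (f10 (f8 (f9 (f10 (f8 (f9 (f10 (f8 (f9 (f10 (f8 (f9 (f10 (f8 (f9 (f10 (f8 (f9 (f10 (f8 (f9 (f10 (f8 (f9 (f10 (f8 (f9 (f10 (f8 (f9 (f10 (f8 (f9 (f10 (f8 (f9 (f10 (f8 (f9 (f10 (f8 (f9 (f10 (f8 (f9 (f10 (f8 (f9 (f10 (f8 (f9 (f10 (f8 (f9 (f10 (f8 (f9 (f10 (q))))))))))))))))))))))))))))))))))))))))))))))))))))))))))))))))))) q) ((fun q => q) q)) = true := by decide +kernel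

theorem rel3_3 : allR 4476 1492 (fun q => Nat.beq ((fun q => f8 (f9 (f10 (f8 (f9 (f10 (f8 (f9 (f10 (f8 (f9 (f10 (f8 (f9 (f10 (f8 (f9 (f10 (f8 (f9 (f10 (f8 (f9 (f10 (f8 (f9 (f10 (f8 (f9 (f10 (f8 (f9 (f10 (f8 (f9 (f10 (f8 (f9 (f10 (f8 (f9 (f10 (f8 (f9 (f10 (f8 (f9 (f10 (f8 (f9 (f10 (f8 (f9 (f10 (f8 (f9 (f10 (f8 (f9 (f10 (f8 (f9 (f10 (f8 (f9 (f10 (q))))))))))))))))))))))))))))))))))))))))))))))))))))))))))))))))))) q) ((fun q => q) q)) = true := by decide +kernel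

theorem rel3_4 : allR 5968 1492 (fun q => Nat.beq ((fun q => f8 (f9 (f10 (f8 (f9 (f10 (f8 (f9 (f10 (f8 (f9 (f10 (f8 (f9 (f10 (f8 (f9 (f10 (f8 (f9 (f10 (f8 (f9 (f10 (f8 (f9 (f10 (f8 (f9 (f10 (f8 (f9 (f10 (f8 (f9 (f10 (f8 (f9 (f10 (f8 (f9 (f10 (f8 (f9 (f10 (f8 (f9 (f10 (f8 (f9 (f10 (f8 (f9 (f10 (f8 (f9 (f10 (f8 (f9 (f10 (f8 (f9 (f10 (f8 (f9 (f10 (q))))))))))))))))))))))))))))))))))))))))))))))))))))))))))))))))))) q) ((fun q => q) q)) = true := by decide +kernel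

theorem rel3_5 : allR 7460 1492 (fun q => Nat.beq ((fun q => f8 (f9 (f10 (f8 (f9 (f10 (f8 (f9 (f10 (f8 (f9 (f10 (f8 (f9 (f10 (f8 (f9 (f10 (f8 (f9 (f10 (f8 (f9 (f10 (f8 (f9 (f10 (f8 (f9 (f10 (f8 (f9 (f10 (f8 (f9 (f10 (f8 (f9 (f10 (f8 (f9 (f10 (f8 (f9 (f10 (f8 (f9 (f10 (f8 (f9 (f10 (f8 (f9 (f10 (f8 (f9 (f10 (f8 (f9 (f10 (f8 (f9 (f10 (f8 (f9 (f10 (q))))))))))))))))))))))))))))))))))))))))))))))))))))))))))))))))))) q) ((fun q => q) q)) = true := by decide +kernel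

theorem rel3_6 : allR 8952 1492 (fun q => Nat.beq ((fun q => f8 (f9 (f10 (f8 (f9 (f10 (f8 (f9 (f10 (f8 (f9 (f10 (f8 (f9 (f10 (f8 (f9 (f10 (f8 (f9 (f10 (f8 (f9 (f10 (f8 (f9 (f10 (f8 (f9 (f10 (f8 (f9 (f10 (f8 (f9 (f10 (f8 (f9 (f10 (f8 (f9 (f10 (f8 (f9 (f10 (f8 (f9 (f10 (f8 (f9 (f10 (f8 (f9 (f10 (f8 (f9 (f10 (f8 (f9 (f10 (f8 (f9 (f10 (f8 (f9 (f10 (q))))))))))))))))))))))))))))))))))))))))))))))))))))))))))))))))))) q) ((fun q => q) q)) = true := by decide +kernel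

theorem rel3_7 : allR 10444 1492 (fun q => Nat.beq ((fun q => f8 (f9 (f10 (f8 (f9 (f10 (f8 (f9 (f10 (f8 (f9 (f10 (f8 (f9 (f10 (f8 (f9 (f10 (f8 (f9 (f10 (f8 (f9 (f10 (f8 (f9 (f10 (f8 (f9 (f10 (f8 (f9 (f10 (f8 (f9 (f10 (f8 (f9 (f10 (f8 (f9 (f10 (f8 (f9 (f10 (f8 (f9 (f10 (f8 (f9 (f10 (f8 (f9 (f10 (f8 (f9 (f10 (f8 (f9 (f10 (f8 (f9 (f10 (f8 (f9 (f10 (q))))))))))))))))))))))))))))))))))))))))))))))))))))))))))))))))))) q) ((fun q => q) q)) = true := by decide +kernel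

theorem rel3_8 : allR 11936 1492 (fun q => Nat.beq ((fun q => f8 (f9 (f10 (f8 (f9 (f10 (f8 (f9 (f10 (f8 (f9 (f10 (f8 (f9 (f10 (f8 (f9 (f10 (f8 (f9 (f10 (f8 (f9 (f10 (f8 (f9 (f10 (f8 (f9 (f10 (f8 (f9 (f10 (f8 (f9 (f10 (f8 (f9 (f10 (f8 (f9 (f10 (f8 (f9 (f10 (f8 (f9 (f10 (f8 (f9 (f10 (f8 (f9 (f10 (f8 (f9 (f10 (f8 (f9 (f10 (f8 (f9 (f10 (f8 (f9 (f10 (q))))))))))))))))))))))))))))))))))))))))))))))))))))))))))))))))))) q) ((fun q => q) q)) = true := by decide +kernel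

theorem rel3_9 : allR 13428 1492 (fun q => Nat.beq ((fun q => f8 (f9 (f10 (f8 (f9 (f10 (f8 (f9 (f10 (f8 (f9 (f10 (f8 (f9 (f10 (f8 (f9 (f10 (f8 (f9 (f10 (f8 (f9 (f10 (f8 (f9 (f10 (f8 (f9 (f10 (f8 (f9 (f10 (f8 (f9 (f10 (f8 (f9 (f10 (f8 (f9 (f10 (f8 (f9 (f10 (f8 (f9 (f10 (f8 (f9 (f10 (f8 (f9 (f10 (f8 (f9 (f10 (f8 (f9 (f10 (f8 (f9 (f10 (f8 (f9 (f10 (q))))))))))))))))))))))))))))))))))))))))))))))))))))))))))))))))))) q) ((fun q => q) q)) = true := by decide +kernel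

theorem rel3_10 : allR 14920 1492 (fun q => Nat.beq ((fun q => f8 (f9 (f10 (f8 (f9 (f10 (f8 (f9 (f10 (f8 (f9 (f10 (f8 (f9 (f10 (f8 (f9 (f10 (f8 (f9 (f10 (f8 (f9 (f10 (f8 (f9 (f10 (f8 (f9 (f10 (f8 (f9 (f10 (f8 (f9 (f10 (f8 (f9 (f10 (f8 (f9 (f10 (f8 (f9 (f10 (f8 (f9 (f10 (f8 (f9 (f10 (f8 (f9 (f10 (f8 (f9 (f10 (f8 (f9 (f10 (f8 (f9 (f10 (f8 (f9 (f10 (q))))))))))))))))))))))))))))))))))))))))))))))))))))))))))))))))))) q) ((fun q => q) q)) = true := by decide +kernel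

theorem rel3_11 : allR 16412 1492 (fun q => Nat.beq ((fun q => f8 (f9 (f10 (f8 (f9 (f10 (f8 (f9 (f10 (f8 (f9 (f10 (f8 (f9 (f10 (f8 (f9 (f10 (f8 (f9 (f10 (f8 (f9 (f10 (f8 (f9 (f10 (f8 (f9 (f10 (f8 (f9 (f10 (f8 (f9 (f10 (f8 (f9 (f10 (f8 (f9 (f10 (f8 (f9 (f10 (f8 (f9 (f10 (f8 (f9 (f10 (f8 (f9 (f10 (f8 (f9 (f10 (f8 (f9 (f10 (f8 (f9 (f10 (f8 (f9 (f10 (q))))))))))))))))))))))))))))))))))))))))))))))))))))))))))))))))))) q) ((fun q => q) q)) = true := by decide +kernel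

theorem rel3_12 : allR 17904 1492 (fun q => Nat.beq ((fun q => f8 (f9 (f10 (f8 (f9 (f10 (f8 (f9 (f10 (f8 (f9 (f10 (f8 (f9 (f10 (f8 (f9 (f10 (f8 (f9 (f10 (f8 (f9 (f10 (f8 (f9 (f10 (f8 (f9 (f10 (f8 (f9 (f10 (f8 (f9 (f10 (f8 (f9 (f10 (f8 (f9 (f10 (f8 (f9 (f10 (f8 (f9 (f10 (f8 (f9 (f10 (f8 (f9 (f10 (f8 (f9 (f10 (f8 (f9 (f10 (f8 (f9 (f10 (f8 (f9 (f10 (q))))))))))))))))))))))))))))))))))))))))))))))))))))))))))))))))))) q) ((fun q => q) q)) = true := by decide +kernel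

theorem rel3_13 : allR 19396 1492 (fun q => Nat.beq ((fun q => f8 (f9 (f10 (f8 (f9 (f10 (f8 (f9 (f10 (f8 (f9 (f10 (f8 (f9 (f10 (f8 (f9 (f10 (f8 (f9 (f10 (f8 (f9 (f10 (f8 (f9 (f10 (f8 (f9 (f10 (f8 (f9 (f10 (f8 (f9 (f10 (f8 (f9 (f10 (f8 (f9 (f10 (f8 (f9 (f10 (f8 (f9 (f10 (f8 (f9 (f10 (f8 (f9 (f10 (f8 (f9 (f10 (f8 (f9 (f10 (f8 (f9 (f10 (f8 (f9 (f10 (q))))))))))))))))))))))))))))))))))))))))))))))))))))))))))))))))))) q) ((fun q => q) q)) = true := by decide +kernel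

theorem rel3_14 : allR 20888 1492 (fun q => Nat.beq ((fun q => f8 (f9 (f10 (f8 (f9 (f10 (f8 (f9 (f10 (f8 (f9 (f10 (f8 (f9 (f10 (f8 (f9 (f10 (f8 (f9 (f10 (f8 (f9 (f10 (f8 (f9 (f10 (f8 (f9 (f10 (f8 (f9 (f10 (f8 (f9 (f10 (f8 (f9 (f10 (f8 (f9 (f10 (f8 (f9 (f10 (f8 (f9 (f10 (f8 (f9 (f10 (f8 (f9 (f10 (f8 (f9 (f10 (f8 (f9 (f10 (f8 (f9 (f10 (f8 (f9 (f10 (q))))))))))))))))))))))))))))))))))))))))))))))))))))))))))))))))))) q) ((fun q => q) q)) = true := by decide +kernel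

theorem rel3_15 : allR 22380 1492 (fun q => Nat.beq ((fun q => f8 (f9 (f10 (f8 (f9 (f10 (f8 (f9 (f10 (f8 (f9 (f10 (f8 (f9 (f10 (f8 (f9 (f10 (f8 (f9 (f10 (f8 (f9 (f10 (f8 (f9 (f10 (f8 (f9 (f10 (f8 (f9 (f10 (f8 (f9 (f10 (f8 (f9 (f10 (f8 (f9 (f10 (f8 (f9 (f10 (f8 (f9 (f10 (f8 (f9 (f10 (f8 (f9 (f10 (f8 (f9 (f10 (f8 (f9 (f10 (f8 (f9 (f10 (f8 (f9 (f10 (q))))))))))))))))))))))))))))))))))))))))))))))))))))))))))))))))))) q) ((fun q => q) q)) = true := by decide +kernel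

theorem rel3_16 : allR 23872 1492 (fun q => Nat.beq ((fun q => f8 (f9 (f10 (f8 (f9 (f10 (f8 (f9 (f10 (f8 (f9 (f10 (f8 (f9 (f10 (f8 (f9 (f10 (f8 (f9 (f10 (f8 (f9 (f10 (f8 (f9 (f10 (f8 (f9 (f10 (f8 (f9 (f10 (f8 (f9 (f10 (f8 (f9 (f10 (f8 (f9 (f10 (f8 (f9 (f10 (f8 (f9 (f10 (f8 (f9 (f10 (f8 (f9 (f10 (f8 (f9 (f10 (f8 (f9 (f10 (f8 (f9 (f10 (f8 (f9 (f10 (q))))))))))))))))))))))))))))))))))))))))))))))))))))))))))))))))))) q) ((fun q => q) q)) = true := by decide +kernel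

theorem rel3_17 : allR 25364 1492 (fun q => Nat.beq ((fun q => f8 (f9 (f10 (f8 (f9 (f10 (f8 (f9 (f10 (f8 (f9 (f10 (f8 (f9 (f10 (f8 (f9 (f10 (f8 (f9 (f10 (f8 (f9 (f10 (f8 (f9 (f10 (f8 (f9 (f10 (f8 (f9 (f10 (f8 (f9 (f10 (f8 (f9 (f10 (f8 (f9 (f10 (f8 (f9 (f10 (f8 (f9 (f10 (f8 (f9 (f10 (f8 (f9 (f10 (f8 (f9 (f10 (f8 (f9 (f10 (f8 (f9 (f10 (f8 (f9 (f10 (q))))))))))))))))))))))))))))))))))))))))))))))))))))))))))))))))))) q) ((fun q => q) q)) = true := by decide +kernel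

theorem rel3_18 : allR 26856 1492 (fun q => Nat.beq ((fun q => f8 (f9 (f10 (f8 (f9 (f10 (f8 (f9 (f10 (f8 (f9 (f10 (f8 (f9 (f10 (f8 (f9 (f10 (f8 (f9 (f10 (f8 (f9 (f10 (f8 (f9 (f10 (f8 (f9 (f10 (f8 (f9 (f10 (f8 (f9 (f10 (f8 (f9 (f10 (f8 (f9 (f10 (f8 (f9 (f10 (f8 (f9 (f10 (f8 (f9 (f10 (f8 (f9 (f10 (f8 (f9 (f10 (f8 (f9 (f10 (f8 (f9 (f10 (f8 (f9 (f10 (q))))))))))))))))))))))))))))))))))))))))))))))))))))))))))))))))))) q) ((fun q => q) q)) = true := by decide +kernel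

theorem rel3_19 : allR 28348 1492 (fun q => Nat.beq ((fun q => f8 (f9 (f10 (f8 (f9 (f10 (f8 (f9 (f10 (f8 (f9 (f10 (f8 (f9 (f10 (f8 (f9 (f10 (f8 (f9 (f10 (f8 (f9 (f10 (f8 (f9 (f10 (f8 (f9 (f10 (f8 (f9 (f10 (f8 (f9 (f10 (f8 (f9 (f10 (f8 (f9 (f10 (f8 (f9 (f10 (f8 (f9 (f10 (f8 (f9 (f10 (f8 (f9 (f10 (f8 (f9 (f10 (f8 (f9 (f10 (f8 (f9 (f10 (f8 (f9 (f10 (q))))))))))))))))))))))))))))))))))))))))))))))))))))))))))))))))))) q) ((fun q => q) q)) = true := by decide +kernel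

theorem rel3_20 : allR 29840 1492 (fun q => Nat.beq ((fun q => f8 (f9 (f10 (f8 (f9 (f10 (f8 (f9 (f10 (f8 (f9 (f10 (f8 (f9 (f10 (f8 (f9 (f10 (f8 (f9 (f10 (f8 (f9 (f10 (f8 (f9 (f10 (f8 (f9 (f10 (f8 (f9 (f10 (f8 (f9 (f10 (f8 (f9 (f10 (f8 (f9 (f10 (f8 (f9 (f10 (f8 (f9 (f10 (f8 (f9 (f10 (f8 (f9 (f10 (f8 (f9 (f10 (f8 (f9 (f10 (f8 (f9 (f10 (f8 (f9 (f10 (q))))))))))))))))))))))))))))))))))))))))))))))))))))))))))))))))))) q) ((fun q => q) q)) = true := by decide +kernel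

theorem rel3_21 : allR 31332 1492 (fun q => Nat.beq ((fun q => f8 (f9 (f10 (f8 (f9 (f10 (f8 (f9 (f10 (f8 (f9 (f10 (f8 (f9 (f10 (f8 (f9 (f10 (f8 (f9 (f10 (f8 (f9 (f10 (f8 (f9 (f10 (f8 (f9 (f10 (f8 (f9 (f10 (f8 (f9 (f10 (f8 (f9 (f10 (f8 (f9 (f10 (f8 (f9 (f10 (f8 (f9 (f10 (f8 (f9 (f10 (f8 (f9 (f10 (f8 (f9 (f10 (f8 (f9 (f10 (f8 (f9 (f10 (f8 (f9 (f10 (q))))))))))))))))))))))))))))))))))))))))))))))))))))))))))))))))))) q) ((fun q => q) q)) = true := by decide +kernel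

theorem rel3_22 : allR 32824 1492 (fun q => Nat.beq ((fun q => f8 (f9 (f10 (f8 (f9 (f10 (f8 (f9 (f10 (f8 (f9 (f10 (f8 (f9 (f10 (f8 (f9 (f10 (f8 (f9 (f10 (f8 (f9 (f10 (f8 (f9 (f10 (f8 (f9 (f10 (f8 (f9 (f10 (f8 (f9 (f10 (f8 (f9 (f10 (f8 (f9 (f10 (f8 (f9 (f10 (f8 (f9 (f10 (f8 (f9 (f10 (f8 (f9 (f10 (f8 (f9 (f10 (f8 (f9 (f10 (f8 (f9 (f10 (f8 (f9 (f10 (q))))))))))))))))))))))))))))))))))))))))))))))))))))))))))))))))))) q) ((fun q => q) q)) = true := by decide +kernel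

theorem rel3_23 : allR 34316 1492 (fun q => Nat.beq ((fun q => f8 (f9 (f10 (f8 (f9 (f10 (f8 (f9 (f10 (f8 (f9 (f10 (f8 (f9 (f10 (f8 (f9 (f10 (f8 (f9 (f10 (f8 (f9 (f10 (f8 (f9 (f10 (f8 (f9 (f10 (f8 (f9 (f10 (f8 (f9 (f10 (f8 (f9 (f10 (f8 (f9 (f10 (f8 (f9 (f10 (f8 (f9 (f10 (f8 (f9 (f10 (f8 (f9 (f10 (f8 (f9 (f10 (f8 (f9 (f10 (f8 (f9 (f10 (f8 (f9 (f10 (q))))))))))))))))))))))))))))))))))))))))))))))))))))))))))))))))))) q) ((fun q => q) q)) = true := by decide +kernel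

theorem rel3_24 : allR 35808 1492 (fun q => Nat.beq ((fun q => f8 (f9 (f10 (f8 (f9 (f10 (f8 (f9 (f10 (f8 (f9 (f10 (f8 (f9 (f10 (f8 (f9 (f10 (f8 (f9 (f10 (f8 (f9 (f10 (f8 (f9 (f10 (f8 (f9 (f10 (f8 (f9 (f10 (f8 (f9 (f10 (f8 (f9 (f10 (f8 (f9 (f10 (f8 (f9 (f10 (f8 (f9 (f10 (f8 (f9 (f10 (f8 (f9 (f10 (f8 (f9 (f10 (f8 (f9 (f10 (f8 (f9 (f10 (f8 (f9 (f10 (q))))))))))))))))))))))))))))))))))))))))))))))))))))))))))))))))))) q) ((fun q => q) q)) = true := by decide +kernel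


end Cfsg.Agent.HNOut
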