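import Cfsg.Agent.Lib.Lead.HNOut.C0x0
import Cfsg.Agent.Lib.Lead.HNOut.C0x1
import Cfsg.Agent.Lib.Lead.HNOut.C0x2
import Cfsg.Agent.Lib.Lead.HNOut.C0x3
import Cfsg.Agent.Lib.Lead.HNOut.C0x4
import Cfsg.Agent.Lib.Lead.HNOut.C0x5
import Cfsg.Agent.Lib.Lead.HNOut.C0x6
import Cfsg.Agent.Lib.Lead.HNOut.C0x7
import Cfsg.Agent.Lib.Lead.HNOut.C0x8
import Cfsg.Agent.Lib.Lead.HNOut.C0x9
import Cfsg.Agent.Lib.Lead.HNOut.C0x10
import Cfsg.Agent.Lib.Lead.HNOut.C0x11
import Cfsg.Agent.Lib.Lead.HNOut.C0x12
import Cfsg.Agent.Lib.Lead.HNOut.C0x13
import Cfsg.Agent.Lib.Lead.HNOut.C0x14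
import Cfsg.Agent.Lib.Lead.HNOut.C0x15
import Cfsg.Agent.Lib.Lead.HNOut.C0x16
import Cfsg.Agent.Lib.Lead.HNOut.C0x17

/-! # The outer automorphism group of the Harada–Norton group: the element number 0 (generated) -/

set_option autoImplicit false
set_option maxRecDepth 100000

namespace Cfsg.Agent.HNOut

open Cfsg.Agent.PF Cfsg.Agent.Lib.Helper6 Cfsg.Agent.Lib.Helper6.TC Cfsg.Agent.Lib.Helper6.NatArr
open Cfsg.Agent.PL (Acts evalF)

theorem eq0_grp0 : ∀ c ∈ ([(0, 3571), (3571, 3571), (7142, 3571), (10713, 3571), (14284, 3571), (17855, 3571), (21426, 3571), (24997, 3571), (28568, 3571), (32139, 3571), (35710, 3571), (39281, 3571), (42852, 3571), (46423, 3571), (49994, 3571), (53565, 3571), (57136, 3571), (60707, 3571), (64278, 3571), (67849, 3571), (71420, 3571), (74991, 3571), (78562, 3571), (82133, 3571), (85704, 3571), (89275, 3571), (92846, 3571), (96417, 3571), (99988, 3571), (103559, 3571), (107130, 3571), (110701, 3571), (114272, 3571), (117843, 3571), (121414, 3571), (124985, 3571), (128556, 3571), (132127, 3571), (135698, 3571), (139269, 3571), (142840,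 3571), (146411, 3571), (149982, 3571), (153553, 3571), (157124, 3571), (160695, 3571), (164266, 3571), (167837, 3571), (171408, 3571), (174979, 3571), (178550, 3571), (182121, 3571), (185692, 3571), (189263, 3571), (192834, 3571), (196405, 3571), (199976, 3571), (203547, 3571), (207118, 3571), (210689, 3571), (214260, 3571), (217831, 3571), (221402, 3571), (224973, 3571), (228544, 3571), (232115, 3571), (235686, 3571), (239257, 3571), (242828, 3571), (246399, 3571), (249970, 3571), (253541, 3571), (257112, 3571), (260683, 3571), (264254, 3571), (267825, 3571), (271396, 3571), (274967, 3571), (278538, 3571), (282109, 3571), (285680, 3571), (289251, 3571), (292822, 3571), (296393, 3571), (299964, 3571), (303535, 3571), (307106, 3571), (310677, 3571), (314248, 3571), (317819, 3571), (321390, 3571), (324961, 3571), (328532, 3571), (332103, 3571), (335674, 3571), (339245, 3571), (342816, 3571), (346387, 3571), (349958, 3571), (353529, 3571), (357100, 3571), (360671, 3571), (364242, 3571), (367813, 3571), (371384, 3571), (374955, 3571), (378526, 3571), (382097, 3571),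 (385668, 3571), (389239, 3571), (392810, 3571), (396381, 3571), (399952, 3571), (403523, 3571), (407094, 3571), (410665, 3571), (414236, 3571), (417807, 3571), (421378, 3571), (424949, 3571), (428520, 3571), (432091, 3571), (435662, 3571), (439233, 3571), (442804, 3571), (446375, 3571), (449946, 3571), (453517, 3571), (457088, 3571), (460659, 3571), (464230, 3571), (467801, 3571), (471372, 3571), (474943, 3571), (478514, 3571), (482085, 3571), (485656, 3571), (489227, 3571), (492798, 3571), (496369, 3571), (499940, 3571), (503511, 3571), (507082, 3571), (510653, 3571), (514224, 3571), (517795, 3571), (521366, 3571), (524937, 3571), (528508, 3571), (532079, 3571)] : List (ℕ × ℕ)), allR c.1 c.2 (fun q => Nat.beq (f0 q) (fgen 0 q)) = true :=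
  all_cons eq0_0 (all_cons eq0_1 (all_cons eq0_2 (all_cons eq0_3 (all_cons eq0_4 (all_cons eq0_5 (all_cons eq0_6 (all_cons eq0_7 (all_cons eq0_8 (all_cons eq0_9 (all_cons eq0_10 (all_cons eq0_11 (all_cons eq0_12 (all_cons eq0_13 (all_cons eq0_14 (all_cons eq0_15 (all_cons eq0_16 (all_cons eq0_17 (all_cons eq0_18 (all_cons eq0_19 (all_cons eq0_20 (all_cons eq0_21 (all_cons eq0_22 (all_cons eq0_23 (all_cons eq0_24 (all_cons eq0_25 (all_cons eq0_26 (all_cons eq0_27 (all_cons eq0_28 (all_cons eq0_29 (all_cons eq0_30 (all_cons eq0_31 (all_cons eq0_32 (all_cons eq0_33 (all_cons eq0_34 (all_cons eq0_35 (all_cons eq0_36 (all_cons eq0_37 (all_cons eq0_38 (all_cons eq0_39 (all_cons eq0_40 (all_cons eq0_41 (all_cons eq0_42 (all_cons eq0_43 (all_cons eq0_44 (all_cons eq0_45 (all_cons eq0_46 (all_cons eq0_47 (all_cons eq0_48 (all_cons eq0_49 (all_cons eq0_50 (all_cons eq0_51 (all_cons eq0_52 (all_cons eq0_53 (all_cons eq0_54 (all_cons eq0_55 (all_cons eq0_56 (all_cons eq0_57 (all_cons eq0_58 (all_cons eq0_59 (all_cons eq0_60 (all_cons eq0_61 (all_cons eq0_62 (all_cons eq0_63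 (all_cons eq0_64 (all_cons eq0_65 (all_cons eq0_66 (all_cons eq0_67 (all_cons eq0_68 (all_cons eq0_69 (all_cons eq0_70 (all_cons eq0_71 (all_cons eq0_72 (all_cons eq0_73 (all_cons eq0_74 (all_cons eq0_75 (all_cons eq0_76 (all_cons eq0_77 (all_cons eq0_78 (all_cons eq0_79 (all_cons eq0_80 (all_cons eq0_81 (all_cons eq0_82 (all_cons eq0_83 (all_cons eq0_84 (all_cons eq0_85 (all_cons eq0_86 (all_cons eq0_87 (all_cons eq0_88 (all_cons eq0_89 (all_cons eq0_90 (all_cons eq0_91 (all_cons eq0_92 (all_cons eq0_93 (all_cons eq0_94 (all_cons eq0_95 (all_cons eq0_96 (all_cons eq0_97 (all_cons eq0_98 (all_cons eq0_99 (all_cons eq0_100 (all_cons eq0_101 (all_cons eq0_102 (all_cons eq0_103 (all_cons eq0_104 (all_cons eq0_105 (all_cons eq0_106 (all_cons eq0_107 (all_cons eq0_108 (all_cons eq0_109 (all_cons eq0_110 (all_cons eq0_111 (all_cons eq0_112 (all_cons eq0_113 (all_cons eq0_114 (all_cons eq0_115 (all_cons eq0_116 (all_cons eq0_117 (all_cons eq0_118 (all_cons eq0_119 (all_cons eq0_120 (all_cons eq0_121 (all_cons eq0_122 (all_cons eq0_123 (all_cons eq0_124 (all_cons eq0_125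 (all_cons eq0_126 (all_cons eq0_127 (all_cons eq0_128 (all_cons eq0_129 (all_cons eq0_130 (all_cons eq0_131 (all_cons eq0_132 (all_cons eq0_133 (all_cons eq0_134 (all_cons eq0_135 (all_cons eq0_136 (all_cons eq0_137 (all_cons eq0_138 (all_cons eq0_139 (all_cons eq0_140 (all_cons eq0_141 (all_cons eq0_142 (all_cons eq0_143 (all_cons eq0_144 (all_cons eq0_145 (all_cons eq0_146 (all_cons eq0_147 (all_cons eq0_148 (all_cons eq0_149 (all_nil))))))))))))))))))))))))))))))))))))))))))))))))))))))))))))))))))))))))))))))))))))))))))))))))))))))))))))))))))))))))))))))))))))))))))))))))))))))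

theorem eq0_grp1 : ∀ c ∈ ([(535650, 3571), (539221, 3571), (542792, 3571), (546363, 3571), (549934, 3571), (553505, 3571), (557076, 3571), (560647, 3571), (564218, 3571), (567789, 3571), (571360, 3571), (574931, 3571), (578502, 3571), (582073, 3571), (585644, 3571), (589215, 3571), (592786, 3571), (596357, 3571), (599928, 3571), (603499, 3571), (607070, 3571), (610641, 3571), (614212, 3571), (617783, 3571), (621354, 3571), (624925, 3571), (628496, 3571), (632067, 3571), (635638, 3571), (639209, 3571), (642780, 3571), (646351, 3571), (649922, 3571), (653493, 3571), (657064, 3571), (660635, 3571), (664206, 3571), (667777, 3571), (671348, 3571), (674919, 3571), (678490, 3571), (682061, 3571), (685632, 3571), (689203, 3571), (692774, 3571), (696345, 3571), (699916, 3571), (703487, 3571), (707058, 3571), (710629, 3571), (714200, 3571), (717771, 3571), (721342, 3571), (724913, 3571), (728484, 3571), (732055, 3571), (735626, 3571), (739197, 3571), (742768, 3571), (746339, 3571), (749910, 3571), (753481, 3571), (757052, 3571), (760623, 3571), (764194, 3571), (767765,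 3571), (771336, 3571), (774907, 3571), (778478, 3571), (782049, 3571), (785620, 3571), (789191, 3571), (792762, 3571), (796333, 3571), (799904, 3571), (803475, 3571), (807046, 3571), (810617, 3571), (814188, 3571), (817759, 3571), (821330, 3571), (824901, 3571), (828472, 3571), (832043, 3571), (835614, 3571), (839185, 3571), (842756, 3571), (846327, 3571), (849898, 3571), (853469, 3571), (857040, 3571), (860611, 3571), (864182, 3571), (867753, 3571), (871324, 3571), (874895, 3571), (878466, 3571), (882037, 3571), (885608, 3571), (889179, 3571), (892750, 3571), (896321, 3571), (899892, 3571), (903463, 3571), (907034, 3571), (910605, 3571), (914176, 3571), (917747, 3571), (921318, 3571), (924889, 3571), (928460, 3571), (932031, 3571), (935602, 3571), (939173, 3571), (942744, 3571), (946315, 3571), (949886, 3571), (953457, 3571), (957028, 3571), (960599, 3571), (964170, 3571), (967741, 3571), (971312, 3571), (974883, 3571), (978454, 3571), (982025, 3571), (985596, 3571), (989167, 3571), (992738, 3571), (996309, 3571), (999880, 3571), (1003451, 3571), (1007022,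 3571), (1010593, 3571), (1014164, 3571), (1017735, 3571), (1021306, 3571), (1024877, 3571), (1028448, 3571), (1032019, 3571), (1035590, 3571), (1039161, 3571), (1042732, 3571), (1046303, 3571), (1049874, 3571), (1053445, 3571), (1057016, 3571), (1060587, 3571), (1064158, 3571), (1067729, 3571)] : List (ℕ × ℕ)), allR c.1 c.2 (fun q => Nat.beq (f0 q) (fgen 0 q)) = true :=
  all_cons eq0_150 (all_cons eq0_151 (all_cons eq0_152 (all_cons eq0_153 (all_cons eq0_154 (all_cons eq0_155 (all_cons eq0_156 (all_cons eq0_157 (all_cons eq0_158 (all_cons eq0_159 (all_cons eq0_160 (all_cons eq0_161 (all_cons eq0_162 (all_cons eq0_163 (all_cons eq0_164 (all_cons eq0_165 (all_cons eq0_166 (all_cons eq0_167 (all_cons eq0_168 (all_cons eq0_169 (all_cons eq0_170 (all_cons eq0_171 (all_cons eq0_172 (all_cons eq0_173 (all_cons eq0_174 (all_cons eq0_175 (all_cons eq0_176 (all_cons eq0_177 (all_cons eq0_178 (all_cons eq0_179 (all_cons eq0_180 (all_cons eq0_181 (all_cons eq0_182 (all_cons eq0_183 (all_cons eq0_184 (all_cons eq0_185 (all_cons eq0_186 (all_cons eq0_187 (all_cons eq0_188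 (all_cons eq0_189 (all_cons eq0_190 (all_cons eq0_191 (all_cons eq0_192 (all_cons eq0_193 (all_cons eq0_194 (all_cons eq0_195 (all_cons eq0_196 (all_cons eq0_197 (all_cons eq0_198 (all_cons eq0_199 (all_cons eq0_200 (all_cons eq0_201 (all_cons eq0_202 (all_cons eq0_203 (all_cons eq0_204 (all_cons eq0_205 (all_cons eq0_206 (all_cons eq0_207 (all_cons eq0_208 (all_cons eq0_209 (all_cons eq0_210 (all_cons eq0_211 (all_cons eq0_212 (all_cons eq0_213 (all_cons eq0_214 (all_cons eq0_215 (all_cons eq0_216 (all_cons eq0_217 (all_cons eq0_218 (all_cons eq0_219 (all_cons eq0_220 (all_cons eq0_221 (all_cons eq0_222 (all_cons eq0_223 (all_cons eq0_224 (all_cons eq0_225 (all_cons eq0_226 (all_cons eq0_227 (all_cons eq0_228 (all_cons eq0_229 (all_cons eq0_230 (all_cons eq0_231 (all_cons eq0_232 (all_cons eq0_233 (all_cons eq0_234 (all_cons eq0_235 (all_cons eq0_236 (all_cons eq0_237 (all_cons eq0_238 (all_cons eq0_239 (all_cons eq0_240 (all_cons eq0_241 (all_cons eq0_242 (all_cons eq0_243 (all_cons eq0_244 (all_cons eq0_245 (all_cons eq0_246 (all_cons eq0_247 (all_cons eq0_248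 (all_cons eq0_249 (all_cons eq0_250 (all_cons eq0_251 (all_cons eq0_252 (all_cons eq0_253 (all_cons eq0_254 (all_cons eq0_255 (all_cons eq0_256 (all_cons eq0_257 (all_cons eq0_258 (all_cons eq0_259 (all_cons eq0_260 (all_cons eq0_261 (all_cons eq0_262 (all_cons eq0_263 (all_cons eq0_264 (all_cons eq0_265 (all_cons eq0_266 (all_cons eq0_267 (all_cons eq0_268 (all_cons eq0_269 (all_cons eq0_270 (all_cons eq0_271 (all_cons eq0_272 (all_cons eq0_273 (all_cons eq0_274 (all_cons eq0_275 (all_cons eq0_276 (all_cons eq0_277 (all_cons eq0_278 (all_cons eq0_279 (all_cons eq0_280 (all_cons eq0_281 (all_cons eq0_282 (all_cons eq0_283 (all_cons eq0_284 (all_cons eq0_285 (all_cons eq0_286 (all_cons eq0_287 (all_cons eq0_288 (all_cons eq0_289 (all_cons eq0_290 (all_cons eq0_291 (all_cons eq0_292 (all_cons eq0_293 (all_cons eq0_294 (all_cons eq0_295 (all_cons eq0_296 (all_cons eq0_297 (all_cons eq0_298 (all_cons eq0_299 (all_nil))))))))))))))))))))))))))))))))))))))))))))))))))))))))))))))))))))))))))))))))))))))))))))))))))))))))))))))))))))))))))))))))))))))))))))))))))))))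

theorem eq0_grp2 : ∀ c ∈ ([(1071300, 3571), (1074871, 3571), (1078442, 3571), (1082013, 3571), (1085584, 3571), (1089155, 3571), (1092726, 3571), (1096297, 3571), (1099868, 3571), (1103439, 3571), (1107010, 3571), (1110581, 3571), (1114152, 3571), (1117723, 3571), (1121294, 3571), (1124865, 3571), (1128436, 3571), (1132007, 3571), (1135578, 3571), (1139149, 3571), (1142720, 3571), (1146291, 3571), (1149862, 3571), (1153433, 3571), (1157004, 3571), (1160575, 3571), (1164146, 3571), (1167717, 3571), (1171288, 3571), (1174859, 3571), (1178430, 3571), (1182001, 3571), (1185572, 3571), (1189143, 3571), (1192714, 3571), (1196285, 3571), (1199856, 3571), (1203427, 3571), (1206998, 3571), (1210569, 3571), (1214140, 3571), (1217711, 3571), (1221282, 3571), (1224853, 3571), (1228424, 3571), (1231995, 3571), (1235566, 3571), (1239137, 3571), (1242708, 3571), (1246279, 3571), (1249850, 3571), (1253421, 3571), (1256992, 3571), (1260563, 3571), (1264134, 3571), (1267705, 3571), (1271276, 3571), (1274847, 3571), (1278418, 3571), (1281989, 3571), (1285560, 3571), (1289131,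 3571), (1292702, 3571), (1296273, 3571), (1299844, 3571), (1303415, 3571), (1306986, 3571), (1310557, 3571), (1314128, 3571), (1317699, 3571), (1321270, 3571), (1324841, 3571), (1328412, 3571), (1331983, 3571), (1335554, 3571), (1339125, 3571), (1342696, 3571), (1346267, 3571), (1349838, 3571), (1353409, 3571), (1356980, 3571), (1360551, 3571), (1364122, 3571), (1367693, 3571), (1371264, 3571), (1374835, 3571), (1378406, 3571), (1381977, 3571), (1385548, 3571), (1389119, 3571), (1392690, 3571), (1396261, 3571), (1399832, 3571), (1403403, 3571), (1406974, 3571), (1410545, 3571), (1414116, 3571), (1417687, 3571), (1421258, 3571), (1424829, 3571), (1428400, 3571), (1431971, 3571), (1435542, 3571), (1439113, 3571), (1442684, 3571), (1446255, 3571), (1449826, 3571), (1453397, 3571), (1456968, 3571), (1460539, 3571), (1464110, 3571), (1467681, 3571), (1471252, 3571), (1474823, 3571), (1478394, 3571), (1481965, 3571), (1485536, 3571), (1489107, 3571), (1492678, 3571), (1496249, 3571), (1499820, 3571), (1503391, 3571), (1506962, 3571), (1510533, 3571), (1514104, 3571),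 (1517675, 3571), (1521246, 3571), (1524817, 3571), (1528388, 3571), (1531959, 3571), (1535530, 3470)] : List (ℕ × ℕ)), allR c.1 c.2 (fun q => Nat.beq (f0 q) (fgen 0 q)) = true :=
  all_cons eq0_300 (all_cons eq0_301 (all_cons eq0_302 (all_cons eq0_303 (all_cons eq0_304 (all_cons eq0_305 (all_cons eq0_306 (all_cons eq0_307 (all_cons eq0_308 (all_cons eq0_309 (all_cons eq0_310 (all_cons eq0_311 (all_cons eq0_312 (all_cons eq0_313 (all_cons eq0_314 (all_cons eq0_315 (all_cons eq0_316 (all_cons eq0_317 (all_cons eq0_318 (all_cons eq0_319 (all_cons eq0_320 (all_cons eq0_321 (all_cons eq0_322 (all_cons eq0_323 (all_cons eq0_324 (all_cons eq0_325 (all_cons eq0_326 (all_cons eq0_327 (all_cons eq0_328 (all_cons eq0_329 (all_cons eq0_330 (all_cons eq0_331 (all_cons eq0_332 (all_cons eq0_333 (all_cons eq0_334 (all_cons eq0_335 (all_cons eq0_336 (all_cons eq0_337 (all_cons eq0_338 (all_cons eq0_339 (all_cons eq0_340 (all_cons eq0_341 (all_cons eq0_342 (all_cons eq0_343 (all_cons eq0_344 (all_cons eq0_345 (all_cons eq0_346 (all_cons eq0_347 (all_cons eq0_348 (all_cons eq0_349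 (all_cons eq0_350 (all_cons eq0_351 (all_cons eq0_352 (all_cons eq0_353 (all_cons eq0_354 (all_cons eq0_355 (all_cons eq0_356 (all_cons eq0_357 (all_cons eq0_358 (all_cons eq0_359 (all_cons eq0_360 (all_cons eq0_361 (all_cons eq0_362 (all_cons eq0_363 (all_cons eq0_364 (all_cons eq0_365 (all_cons eq0_366 (all_cons eq0_367 (all_cons eq0_368 (all_cons eq0_369 (all_cons eq0_370 (all_cons eq0_371 (all_cons eq0_372 (all_cons eq0_373 (all_cons eq0_374 (all_cons eq0_375 (all_cons eq0_376 (all_cons eq0_377 (all_cons eq0_378 (all_cons eq0_379 (all_cons eq0_380 (all_cons eq0_381 (all_cons eq0_382 (all_cons eq0_383 (all_cons eq0_384 (all_cons eq0_385 (all_cons eq0_386 (all_cons eq0_387 (all_cons eq0_388 (all_cons eq0_389 (all_cons eq0_390 (all_cons eq0_391 (all_cons eq0_392 (all_cons eq0_393 (all_cons eq0_394 (all_cons eq0_395 (all_cons eq0_396 (all_cons eq0_397 (all_cons eq0_398 (all_cons eq0_399 (all_cons eq0_400 (all_cons eq0_401 (all_cons eq0_402 (all_cons eq0_403 (all_cons eq0_404 (all_cons eq0_405 (all_cons eq0_406 (all_cons eq0_407 (all_cons eq0_408 (all_cons eq0_409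 (all_cons eq0_410 (all_cons eq0_411 (all_cons eq0_412 (all_cons eq0_413 (all_cons eq0_414 (all_cons eq0_415 (all_cons eq0_416 (all_cons eq0_417 (all_cons eq0_418 (all_cons eq0_419 (all_cons eq0_420 (all_cons eq0_421 (all_cons eq0_422 (all_cons eq0_423 (all_cons eq0_424 (all_cons eq0_425 (all_cons eq0_426 (all_cons eq0_427 (all_cons eq0_428 (all_cons eq0_429 (all_cons eq0_430 (all_nil)))))))))))))))))))))))))))))))))))))))))))))))))))))))))))))))))))))))))))))))))))))))))))))))))))))))))))))))))))))))))))))))))))

/-- the table agrees with the column of the coset table -/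
theorem eq0 : ∀ q < 1539000, f0 q = fgen 0 q :=
  eq_of_chunks (f := f0) (g := fgen 0) ([(0, 3571), (3571, 3571), (7142, 3571), (10713, 3571), (14284, 3571), (17855, 3571), (21426, 3571), (24997, 3571), (28568, 3571), (32139, 3571), (35710, 3571), (39281, 3571), (42852, 3571), (46423, 3571), (49994, 3571), (53565, 3571), (57136, 3571), (60707, 3571), (64278, 3571), (67849, 3571), (71420, 3571), (74991, 3571), (78562, 3571), (82133, 3571), (85704, 3571), (89275, 3571), (92846, 3571), (96417, 3571), (99988, 3571), (103559, 3571), (107130, 3571), (110701, 3571), (114272, 3571), (117843, 3571), (121414, 3571), (124985, 3571), (128556, 3571), (132127, 3571), (135698, 3571), (139269, 3571), (142840, 3571), (146411, 3571), (149982, 3571), (153553, 3571), (157124, 3571), (160695, 3571), (164266, 3571), (167837, 3571), (171408, 3571), (174979, 3571), (178550, 3571), (182121, 3571), (185692, 3571), (189263, 3571), (192834, 3571), (196405, 3571), (199976, 3571), (203547, 3571), (207118, 3571), (210689, 3571), (214260, 3571), (217831, 3571), (221402, 3571), (224973, 3571),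 (228544, 3571), (232115, 3571), (235686, 3571), (239257, 3571), (242828, 3571), (246399, 3571), (249970, 3571), (253541, 3571), (257112, 3571), (260683, 3571), (264254, 3571), (267825, 3571), (271396, 3571), (274967, 3571), (278538, 3571), (282109, 3571), (285680, 3571), (289251, 3571), (292822, 3571), (296393, 3571), (299964, 3571), (303535, 3571), (307106, 3571), (310677, 3571), (314248, 3571), (317819, 3571), (321390, 3571), (324961, 3571), (328532, 3571), (332103, 3571), (335674, 3571), (339245, 3571), (342816, 3571), (346387, 3571), (349958, 3571), (353529, 3571), (357100, 3571), (360671, 3571), (364242, 3571), (367813, 3571), (371384, 3571), (374955, 3571), (378526, 3571), (382097, 3571), (385668, 3571), (389239, 3571), (392810, 3571), (396381, 3571), (399952, 3571), (403523, 3571), (407094, 3571), (410665, 3571), (414236, 3571), (417807, 3571), (421378, 3571), (424949, 3571), (428520, 3571), (432091, 3571), (435662, 3571), (439233, 3571), (442804, 3571), (446375, 3571), (449946, 3571), (453517, 3571), (457088, 3571), (460659, 3571), (464230, 3571), (467801,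 3571), (471372, 3571), (474943, 3571), (478514, 3571), (482085, 3571), (485656, 3571), (489227, 3571), (492798, 3571), (496369, 3571), (499940, 3571), (503511, 3571), (507082, 3571), (510653, 3571), (514224, 3571), (517795, 3571), (521366, 3571), (524937, 3571), (528508, 3571), (532079, 3571)] ++ [(535650, 3571), (539221, 3571), (542792, 3571), (546363, 3571), (549934, 3571), (553505, 3571), (557076, 3571), (560647, 3571), (564218, 3571), (567789, 3571), (571360, 3571), (574931, 3571), (578502, 3571), (582073, 3571), (585644, 3571), (589215, 3571), (592786, 3571), (596357, 3571), (599928, 3571), (603499, 3571), (607070, 3571), (610641, 3571), (614212, 3571), (617783, 3571), (621354, 3571), (624925, 3571), (628496, 3571), (632067, 3571), (635638, 3571), (639209, 3571), (642780, 3571), (646351, 3571), (649922, 3571), (653493, 3571), (657064, 3571), (660635, 3571), (664206, 3571), (667777, 3571), (671348, 3571), (674919, 3571), (678490, 3571), (682061, 3571), (685632, 3571), (689203, 3571), (692774, 3571), (696345, 3571), (699916, 3571), (703487, 3571), (707058,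 3571), (710629, 3571), (714200, 3571), (717771, 3571), (721342, 3571), (724913, 3571), (728484, 3571), (732055, 3571), (735626, 3571), (739197, 3571), (742768, 3571), (746339, 3571), (749910, 3571), (753481, 3571), (757052, 3571), (760623, 3571), (764194, 3571), (767765, 3571), (771336, 3571), (774907, 3571), (778478, 3571), (782049, 3571), (785620, 3571), (789191, 3571), (792762, 3571), (796333, 3571), (799904, 3571), (803475, 3571), (807046, 3571), (810617, 3571), (814188, 3571), (817759, 3571), (821330, 3571), (824901, 3571), (828472, 3571), (832043, 3571), (835614, 3571), (839185, 3571), (842756, 3571), (846327, 3571), (849898, 3571), (853469, 3571), (857040, 3571), (860611, 3571), (864182, 3571), (867753, 3571), (871324, 3571), (874895, 3571), (878466, 3571), (882037, 3571), (885608, 3571), (889179, 3571), (892750, 3571), (896321, 3571), (899892, 3571), (903463, 3571), (907034, 3571), (910605, 3571), (914176, 3571), (917747, 3571), (921318, 3571), (924889, 3571), (928460, 3571), (932031, 3571), (935602, 3571), (939173, 3571), (942744, 3571), (946315, 3571),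 (949886, 3571), (953457, 3571), (957028, 3571), (960599, 3571), (964170, 3571), (967741, 3571), (971312, 3571), (974883, 3571), (978454, 3571), (982025, 3571), (985596, 3571), (989167, 3571), (992738, 3571), (996309, 3571), (999880, 3571), (1003451, 3571), (1007022, 3571), (1010593, 3571), (1014164, 3571), (1017735, 3571), (1021306, 3571), (1024877, 3571), (1028448, 3571), (1032019, 3571), (1035590, 3571), (1039161, 3571), (1042732, 3571), (1046303, 3571), (1049874, 3571), (1053445, 3571), (1057016, 3571), (1060587, 3571), (1064158, 3571), (1067729, 3571)] ++ [(1071300, 3571), (1074871, 3571), (1078442, 3571), (1082013, 3571), (1085584, 3571), (1089155, 3571), (1092726, 3571), (1096297, 3571), (1099868, 3571), (1103439, 3571), (1107010, 3571), (1110581, 3571), (1114152, 3571), (1117723, 3571), (1121294, 3571), (1124865, 3571), (1128436, 3571), (1132007, 3571), (1135578, 3571), (1139149, 3571), (1142720, 3571), (1146291, 3571), (1149862, 3571), (1153433, 3571), (1157004, 3571), (1160575, 3571), (1164146, 3571), (1167717, 3571), (1171288, 3571), (1174859, 3571),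 (1178430, 3571), (1182001, 3571), (1185572, 3571), (1189143, 3571), (1192714, 3571), (1196285, 3571), (1199856, 3571), (1203427, 3571), (1206998, 3571), (1210569, 3571), (1214140, 3571), (1217711, 3571), (1221282, 3571), (1224853, 3571), (1228424, 3571), (1231995, 3571), (1235566, 3571), (1239137, 3571), (1242708, 3571), (1246279, 3571), (1249850, 3571), (1253421, 3571), (1256992, 3571), (1260563, 3571), (1264134, 3571), (1267705, 3571), (1271276, 3571), (1274847, 3571), (1278418, 3571), (1281989, 3571), (1285560, 3571), (1289131, 3571), (1292702, 3571), (1296273, 3571), (1299844, 3571), (1303415, 3571), (1306986, 3571), (1310557, 3571), (1314128, 3571), (1317699, 3571), (1321270, 3571), (1324841, 3571), (1328412, 3571), (1331983, 3571), (1335554, 3571), (1339125, 3571), (1342696, 3571), (1346267, 3571), (1349838, 3571), (1353409, 3571), (1356980, 3571), (1360551, 3571), (1364122, 3571), (1367693, 3571), (1371264, 3571), (1374835, 3571), (1378406, 3571), (1381977, 3571), (1385548, 3571), (1389119, 3571), (1392690, 3571), (1396261, 3571), (1399832, 3571), (1403403,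 3571), (1406974, 3571), (1410545, 3571), (1414116, 3571), (1417687, 3571), (1421258, 3571), (1424829, 3571), (1428400, 3571), (1431971, 3571), (1435542, 3571), (1439113, 3571), (1442684, 3571), (1446255, 3571), (1449826, 3571), (1453397, 3571), (1456968, 3571), (1460539, 3571), (1464110, 3571), (1467681, 3571), (1471252, 3571), (1474823, 3571), (1478394, 3571), (1481965, 3571), (1485536, 3571), (1489107, 3571), (1492678, 3571), (1496249, 3571), (1499820, 3571), (1503391, 3571), (1506962, 3571), (1510533, 3571), (1514104, 3571), (1517675, 3571), (1521246, 3571), (1524817, 3571), (1528388, 3571), (1531959, 3571), (1535530, 3470)]) (by decide +kernel) (all_append (all_append (eq0_grp0) eq0_grp1) eq0_grp2)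

end Cfsg.Agent.HNOut
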