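import Cfsg.Agent.Lib.Lead.HNOut.C10x0
import Cfsg.Agent.Lib.Lead.HNOut.C10x1
import Cfsg.Agent.Lib.Lead.HNOut.C10x2
import Cfsg.Agent.Lib.Lead.HNOut.C10x3
import Cfsg.Agent.Lib.Lead.HNOut.C10x4
import Cfsg.Agent.Lib.Lead.HNOut.C10x5
import Cfsg.Agent.Lib.Lead.HNOut.C10x6
import Cfsg.Agent.Lib.Lead.HNOut.C10x7
import Cfsg.Agent.Lib.Lead.HNOut.C10x8
import Cfsg.Agent.Lib.Lead.HNOut.C10x9
import Cfsg.Agent.Lib.Lead.HNOut.C10x10
import Cfsg.Agent.Lib.Lead.HNOut.C10x11
import Cfsg.Agent.Lib.Lead.HNOut.C10x12
import Cfsg.Agent.Lib.Lead.HNOut.C10x13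
import Cfsg.Agent.Lib.Lead.HNOut.C10x14
import Cfsg.Agent.Lib.Lead.HNOut.C10x15
import Cfsg.Agent.Lib.Lead.HNOut.C10x16
import Cfsg.Agent.Lib.Lead.HNOut.C10x17
import Cfsg.Agent.Lib.Lead.HNOut.C10x18
import Cfsg.Agent.Lib.Lead.HNOut.C10x19
import Cfsg.Agent.Lib.Lead.HNOut.C10x20
import Cfsg.Agent.Lib.Lead.HNOut.C10x21
import Cfsg.Agent.Lib.Lead.HNOut.C10x22
import Cfsg.Agent.Lib.Lead.HNOut.C10x23
import Cfsg.Agent.Lib.Lead.HNOut.C10x24

/-! # The outer automorphism group of the Harada–Norton group: the element number 10 (generated) -/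

set_option autoImplicit false
set_option maxRecDepth 100000

namespace Cfsg.Agent.HNOut

open Cfsg.Agent.PF Cfsg.Agent.Lib.Helper6 Cfsg.Agent.Lib.Helper6.TC Cfsg.Agent.Lib.Helper6.NatArr
open Cfsg.Agent.PL (Acts evalF)

theorem eq10_grp0 : ∀ c ∈ ([(0, 2561), (2561, 2561), (5122, 2561), (7683, 2561), (10244, 2561), (12805, 2561), (15366, 2561), (17927, 2561), (20488, 2561), (23049, 2561), (25610, 2561), (28171, 2561), (30732, 2561), (33293, 2561), (35854, 2561), (38415, 2561), (40976, 2561), (43537, 2561), (46098, 2561), (48659, 2561), (51220, 2561), (53781, 2561), (56342, 2561), (58903, 2561), (61464, 2561), (64025, 2561), (66586, 2561), (69147, 2561), (71708, 2561), (74269, 2561), (76830, 2561), (79391, 2561), (81952, 2561), (84513, 2561), (87074, 2561), (89635, 2561), (92196, 2561), (94757, 2561), (97318, 2561), (99879, 2561), (102440, 2561), (105001, 2561), (107562, 2561), (110123, 2561), (112684, 2561), (115245, 2561), (117806, 2561), (120367, 2561), (122928, 2561), (125489, 2561), (128050, 2561), (130611, 2561), (133172, 2561), (135733, 2561), (138294,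 2561), (140855, 2561), (143416, 2561), (145977, 2561), (148538, 2561), (151099, 2561), (153660, 2561), (156221, 2561), (158782, 2561), (161343, 2561), (163904, 2561), (166465, 2561), (169026, 2561), (171587, 2561), (174148, 2561), (176709, 2561), (179270, 2561), (181831, 2561), (184392, 2561), (186953, 2561), (189514, 2561), (192075, 2561), (194636, 2561), (197197, 2561), (199758, 2561), (202319, 2561), (204880, 2561), (207441, 2561), (210002, 2561), (212563, 2561), (215124, 2561), (217685, 2561), (220246, 2561), (222807, 2561), (225368, 2561), (227929, 2561), (230490, 2561), (233051, 2561), (235612, 2561), (238173, 2561), (240734, 2561), (243295, 2561), (245856, 2561), (248417, 2561), (250978, 2561), (253539, 2561), (256100, 2561), (258661, 2561), (261222, 2561), (263783, 2561), (266344, 2561), (268905, 2561), (271466, 2561), (274027, 2561), (276588, 2561), (279149, 2561), (281710, 2561), (284271, 2561), (286832, 2561), (289393, 2561), (291954, 2561), (294515, 2561), (297076, 2561), (299637, 2561), (302198, 2561), (304759, 2561), (307320, 2561), (309881, 2561),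 (312442, 2561), (315003, 2561), (317564, 2561), (320125, 2561), (322686, 2561), (325247, 2561), (327808, 2561), (330369, 2561), (332930, 2561), (335491, 2561), (338052, 2561), (340613, 2561), (343174, 2561), (345735, 2561), (348296, 2561), (350857, 2561), (353418, 2561), (355979, 2561), (358540, 2561), (361101, 2561), (363662, 2561), (366223, 2561), (368784, 2561), (371345, 2561), (373906, 2561), (376467, 2561), (379028, 2561), (381589, 2561)] : List (ℕ × ℕ)), allR c.1 c.2 (fun q => Nat.beq (f10 q) ((fun q => f4 (f3 (f6 (f4 (f2 (f0 (f2 (f4 (f2 (f0 (f6 (f4 (f2 (f4 (f2 (f4 (f6 (f4 (f3 (f1 (f2 (f4 (f0 (f2 (f2 (f0 (f3 (f4 (f3 (f3 (f1 (f2 (f4 (f2 (f1 (f4 (f2 (f1 (q))))))))))))))))))))))))))))))))))))))) q)) = true :=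
  all_cons eq10_0 (all_cons eq10_1 (all_cons eq10_2 (all_cons eq10_3 (all_cons eq10_4 (all_cons eq10_5 (all_cons eq10_6 (all_cons eq10_7 (all_cons eq10_8 (all_cons eq10_9 (all_cons eq10_10 (all_cons eq10_11 (all_cons eq10_12 (all_cons eq10_13 (all_cons eq10_14 (all_cons eq10_15 (all_cons eq10_16 (all_cons eq10_17 (all_cons eq10_18 (all_cons eq10_19 (all_cons eq10_20 (all_cons eq10_21 (all_cons eq10_22 (all_cons eq10_23 (all_cons eq10_24 (all_cons eq10_25 (all_cons eq10_26 (all_cons eq10_27 (all_cons eq10_28 (all_cons eq10_29 (all_cons eq10_30 (all_cons eq10_31 (all_cons eq10_32 (all_cons eq10_33 (all_cons eq10_34 (all_cons eq10_35 (all_cons eq10_36 (all_cons eq10_37 (all_cons eq10_38 (all_cons eq10_39 (all_cons eq10_40 (all_cons eq10_41 (all_cons eq10_42 (all_cons eq10_43 (all_cons eq10_44 (all_cons eq10_45 (all_cons eq10_46 (all_cons eq10_47 (all_cons eq10_48 (all_cons eq10_49 (all_cons eq10_50 (all_cons eq10_51 (all_cons eq10_52 (all_cons eq10_53 (all_cons eq10_54 (all_cons eq10_55 (all_cons eq10_56 (all_cons eq10_57 (all_cons eq10_58 (all_cons eq10_59 (all_cons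 eq10_60 (all_cons eq10_61 (all_cons eq10_62 (all_cons eq10_63 (all_cons eq10_64 (all_cons eq10_65 (all_cons eq10_66 (all_cons eq10_67 (all_cons eq10_68 (all_cons eq10_69 (all_cons eq10_70 (all_cons eq10_71 (all_cons eq10_72 (all_cons eq10_73 (all_cons eq10_74 (all_cons eq10_75 (all_cons eq10_76 (all_cons eq10_77 (all_cons eq10_78 (all_cons eq10_79 (all_cons eq10_80 (all_cons eq10_81 (all_cons eq10_82 (all_cons eq10_83 (all_cons eq10_84 (all_cons eq10_85 (all_cons eq10_86 (all_cons eq10_87 (all_cons eq10_88 (all_cons eq10_89 (all_cons eq10_90 (all_cons eq10_91 (all_cons eq10_92 (all_cons eq10_93 (all_cons eq10_94 (all_cons eq10_95 (all_cons eq10_96 (all_cons eq10_97 (all_cons eq10_98 (all_cons eq10_99 (all_cons eq10_100 (all_cons eq10_101 (all_cons eq10_102 (all_cons eq10_103 (all_cons eq10_104 (all_cons eq10_105 (all_cons eq10_106 (all_cons eq10_107 (all_cons eq10_108 (all_cons eq10_109 (all_cons eq10_110 (all_cons eq10_111 (all_cons eq10_112 (all_cons eq10_113 (all_cons eq10_114 (all_cons eq10_115 (all_cons eq10_116 (all_cons eq10_117 (all_cons eq10_118 (all_cons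 eq10_119 (all_cons eq10_120 (all_cons eq10_121 (all_cons eq10_122 (all_cons eq10_123 (all_cons eq10_124 (all_cons eq10_125 (all_cons eq10_126 (all_cons eq10_127 (all_cons eq10_128 (all_cons eq10_129 (all_cons eq10_130 (all_cons eq10_131 (all_cons eq10_132 (all_cons eq10_133 (all_cons eq10_134 (all_cons eq10_135 (all_cons eq10_136 (all_cons eq10_137 (all_cons eq10_138 (all_cons eq10_139 (all_cons eq10_140 (all_cons eq10_141 (all_cons eq10_142 (all_cons eq10_143 (all_cons eq10_144 (all_cons eq10_145 (all_cons eq10_146 (all_cons eq10_147 (all_cons eq10_148 (all_cons eq10_149 (all_nil))))))))))))))))))))))))))))))))))))))))))))))))))))))))))))))))))))))))))))))))))))))))))))))))))))))))))))))))))))))))))))))))))))))))))))))))))))))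

theorem eq10_grp1 : ∀ c ∈ ([(384150, 2561), (386711, 2561), (389272, 2561), (391833, 2561), (394394, 2561), (396955, 2561), (399516, 2561), (402077, 2561), (404638, 2561), (407199, 2561), (409760, 2561), (412321, 2561), (414882, 2561), (417443, 2561), (420004, 2561), (422565, 2561), (425126, 2561), (427687, 2561), (430248, 2561), (432809, 2561), (435370, 2561), (437931, 2561), (440492, 2561), (443053, 2561), (445614, 2561), (448175, 2561), (450736, 2561), (453297, 2561), (455858, 2561), (458419, 2561), (460980, 2561), (463541, 2561), (466102, 2561), (468663, 2561), (471224, 2561), (473785, 2561), (476346, 2561), (478907, 2561), (481468, 2561), (484029, 2561), (486590, 2561), (489151, 2561), (491712, 2561), (494273, 2561), (496834, 2561), (499395, 2561), (501956, 2561), (504517, 2561), (507078, 2561), (509639, 2561), (512200, 2561), (514761, 2561), (517322, 2561), (519883, 2561), (522444, 2561), (525005, 2561), (527566, 2561), (530127, 2561), (532688, 2561), (535249, 2561), (537810, 2561), (540371, 2561), (542932, 2561), (545493, 2561), (548054, 2561), (550615,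 2561), (553176, 2561), (555737, 2561), (558298, 2561), (560859, 2561), (563420, 2561), (565981, 2561), (568542, 2561), (571103, 2561), (573664, 2561), (576225, 2561), (578786, 2561), (581347, 2561), (583908, 2561), (586469, 2561), (589030, 2561), (591591, 2561), (594152, 2561), (596713, 2561), (599274, 2561), (601835, 2561), (604396, 2561), (606957, 2561), (609518, 2561), (612079, 2561), (614640, 2561), (617201, 2561), (619762, 2561), (622323, 2561), (624884, 2561), (627445, 2561), (630006, 2561), (632567, 2561), (635128, 2561), (637689, 2561), (640250, 2561), (642811, 2561), (645372, 2561), (647933, 2561), (650494, 2561), (653055, 2561), (655616, 2561), (658177, 2561), (660738, 2561), (663299, 2561), (665860, 2561), (668421, 2561), (670982, 2561), (673543, 2561), (676104, 2561), (678665, 2561), (681226, 2561), (683787, 2561), (686348, 2561), (688909, 2561), (691470, 2561), (694031, 2561), (696592, 2561), (699153, 2561), (701714, 2561), (704275, 2561), (706836, 2561), (709397, 2561), (711958, 2561), (714519, 2561), (717080, 2561), (719641, 2561), (722202, 2561),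 (724763, 2561), (727324, 2561), (729885, 2561), (732446, 2561), (735007, 2561), (737568, 2561), (740129, 2561), (742690, 2561), (745251, 2561), (747812, 2561), (750373, 2561), (752934, 2561), (755495, 2561), (758056, 2561), (760617, 2561), (763178, 2561), (765739, 2561)] : List (ℕ × ℕ)), allR c.1 c.2 (fun q => Nat.beq (f10 q) ((fun q => f4 (f3 (f6 (f4 (f2 (f0 (f2 (f4 (f2 (f0 (f6 (f4 (f2 (f4 (f2 (f4 (f6 (f4 (f3 (f1 (f2 (f4 (f0 (f2 (f2 (f0 (f3 (f4 (f3 (f3 (f1 (f2 (f4 (f2 (f1 (f4 (f2 (f1 (q))))))))))))))))))))))))))))))))))))))) q)) = true :=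
  all_cons eq10_150 (all_cons eq10_151 (all_cons eq10_152 (all_cons eq10_153 (all_cons eq10_154 (all_cons eq10_155 (all_cons eq10_156 (all_cons eq10_157 (all_cons eq10_158 (all_cons eq10_159 (all_cons eq10_160 (all_cons eq10_161 (all_cons eq10_162 (all_cons eq10_163 (all_cons eq10_164 (all_cons eq10_165 (all_cons eq10_166 (all_cons eq10_167 (all_cons eq10_168 (all_cons eq10_169 (all_cons eq10_170 (all_cons eq10_171 (all_cons eq10_172 (all_cons eq10_173 (all_cons eq10_174 (all_cons eq10_175 (all_cons eq10_176 (all_cons eq10_177 (all_cons eq10_178 (all_cons eq10_179 (all_cons eq10_180 (all_cons eq10_181 (all_cons eq10_182 (all_cons eq10_183 (all_cons eq10_184 (all_cons eq10_185 (all_cons eq10_186 (all_cons eq10_187 (all_cons eq10_188 (all_cons eq10_189 (all_cons eq10_190 (all_cons eq10_191 (all_cons eq10_192 (all_cons eq10_193 (all_cons eq10_194 (all_cons eq10_195 (all_cons eq10_196 (all_cons eq10_197 (all_cons eq10_198 (all_cons eq10_199 (all_cons eq10_200 (all_cons eq10_201 (all_cons eq10_202 (all_cons eq10_203 (all_cons eq10_204 (all_cons eq10_205 (all_cons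 eq10_206 (all_cons eq10_207 (all_cons eq10_208 (all_cons eq10_209 (all_cons eq10_210 (all_cons eq10_211 (all_cons eq10_212 (all_cons eq10_213 (all_cons eq10_214 (all_cons eq10_215 (all_cons eq10_216 (all_cons eq10_217 (all_cons eq10_218 (all_cons eq10_219 (all_cons eq10_220 (all_cons eq10_221 (all_cons eq10_222 (all_cons eq10_223 (all_cons eq10_224 (all_cons eq10_225 (all_cons eq10_226 (all_cons eq10_227 (all_cons eq10_228 (all_cons eq10_229 (all_cons eq10_230 (all_cons eq10_231 (all_cons eq10_232 (all_cons eq10_233 (all_cons eq10_234 (all_cons eq10_235 (all_cons eq10_236 (all_cons eq10_237 (all_cons eq10_238 (all_cons eq10_239 (all_cons eq10_240 (all_cons eq10_241 (all_cons eq10_242 (all_cons eq10_243 (all_cons eq10_244 (all_cons eq10_245 (all_cons eq10_246 (all_cons eq10_247 (all_cons eq10_248 (all_cons eq10_249 (all_cons eq10_250 (all_cons eq10_251 (all_cons eq10_252 (all_cons eq10_253 (all_cons eq10_254 (all_cons eq10_255 (all_cons eq10_256 (all_cons eq10_257 (all_cons eq10_258 (all_cons eq10_259 (all_cons eq10_260 (all_cons eq10_261 (all_cons eq10_262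 (all_cons eq10_263 (all_cons eq10_264 (all_cons eq10_265 (all_cons eq10_266 (all_cons eq10_267 (all_cons eq10_268 (all_cons eq10_269 (all_cons eq10_270 (all_cons eq10_271 (all_cons eq10_272 (all_cons eq10_273 (all_cons eq10_274 (all_cons eq10_275 (all_cons eq10_276 (all_cons eq10_277 (all_cons eq10_278 (all_cons eq10_279 (all_cons eq10_280 (all_cons eq10_281 (all_cons eq10_282 (all_cons eq10_283 (all_cons eq10_284 (all_cons eq10_285 (all_cons eq10_286 (all_cons eq10_287 (all_cons eq10_288 (all_cons eq10_289 (all_cons eq10_290 (all_cons eq10_291 (all_cons eq10_292 (all_cons eq10_293 (all_cons eq10_294 (all_cons eq10_295 (all_cons eq10_296 (all_cons eq10_297 (all_cons eq10_298 (all_cons eq10_299 (all_nil))))))))))))))))))))))))))))))))))))))))))))))))))))))))))))))))))))))))))))))))))))))))))))))))))))))))))))))))))))))))))))))))))))))))))))))))))))))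

theorem eq10_grp2 : ∀ c ∈ ([(768300, 2561), (770861, 2561), (773422, 2561), (775983, 2561), (778544, 2561), (781105, 2561), (783666, 2561), (786227, 2561), (788788, 2561), (791349, 2561), (793910, 2561), (796471, 2561), (799032, 2561), (801593, 2561), (804154, 2561), (806715, 2561), (809276, 2561), (811837, 2561), (814398, 2561), (816959, 2561), (819520, 2561), (822081, 2561), (824642, 2561), (827203, 2561), (829764, 2561), (832325, 2561), (834886, 2561), (837447, 2561), (840008, 2561), (842569, 2561), (845130, 2561), (847691, 2561), (850252, 2561), (852813, 2561), (855374, 2561), (857935, 2561), (860496, 2561), (863057, 2561), (865618, 2561), (868179, 2561), (870740, 2561), (873301, 2561), (875862, 2561), (878423, 2561), (880984, 2561), (883545, 2561), (886106, 2561), (888667, 2561), (891228, 2561), (893789, 2561), (896350, 2561), (898911, 2561), (901472, 2561), (904033, 2561), (906594, 2561), (909155, 2561), (911716, 2561), (914277, 2561), (916838, 2561), (919399, 2561), (921960, 2561), (924521, 2561), (927082, 2561), (929643, 2561), (932204, 2561), (934765,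 2561), (937326, 2561), (939887, 2561), (942448, 2561), (945009, 2561), (947570, 2561), (950131, 2561), (952692, 2561), (955253, 2561), (957814, 2561), (960375, 2561), (962936, 2561), (965497, 2561), (968058, 2561), (970619, 2561), (973180, 2561), (975741, 2561), (978302, 2561), (980863, 2561), (983424, 2561), (985985, 2561), (988546, 2561), (991107, 2561), (993668, 2561), (996229, 2561), (998790, 2561), (1001351, 2561), (1003912, 2561), (1006473, 2561), (1009034, 2561), (1011595, 2561), (1014156, 2561), (1016717, 2561), (1019278, 2561), (1021839, 2561), (1024400, 2561), (1026961, 2561), (1029522, 2561), (1032083, 2561), (1034644, 2561), (1037205, 2561), (1039766, 2561), (1042327, 2561), (1044888, 2561), (1047449, 2561), (1050010, 2561), (1052571, 2561), (1055132, 2561), (1057693, 2561), (1060254, 2561), (1062815, 2561), (1065376, 2561), (1067937, 2561), (1070498, 2561), (1073059, 2561), (1075620, 2561), (1078181, 2561), (1080742, 2561), (1083303, 2561), (1085864, 2561), (1088425, 2561), (1090986, 2561), (1093547, 2561), (1096108, 2561), (1098669, 2561), (1101230,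 2561), (1103791, 2561), (1106352, 2561), (1108913, 2561), (1111474, 2561), (1114035, 2561), (1116596, 2561), (1119157, 2561), (1121718, 2561), (1124279, 2561), (1126840, 2561), (1129401, 2561), (1131962, 2561), (1134523, 2561), (1137084, 2561), (1139645, 2561), (1142206, 2561), (1144767, 2561), (1147328, 2561), (1149889, 2561)] : List (ℕ × ℕ)), allR c.1 c.2 (fun q => Nat.beq (f10 q) ((fun q => f4 (f3 (f6 (f4 (f2 (f0 (f2 (f4 (f2 (f0 (f6 (f4 (f2 (f4 (f2 (f4 (f6 (f4 (f3 (f1 (f2 (f4 (f0 (f2 (f2 (f0 (f3 (f4 (f3 (f3 (f1 (f2 (f4 (f2 (f1 (f4 (f2 (f1 (q))))))))))))))))))))))))))))))))))))))) q)) = true :=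
  all_cons eq10_300 (all_cons eq10_301 (all_cons eq10_302 (all_cons eq10_303 (all_cons eq10_304 (all_cons eq10_305 (all_cons eq10_306 (all_cons eq10_307 (all_cons eq10_308 (all_cons eq10_309 (all_cons eq10_310 (all_cons eq10_311 (all_cons eq10_312 (all_cons eq10_313 (all_cons eq10_314 (all_cons eq10_315 (all_cons eq10_316 (all_cons eq10_317 (all_cons eq10_318 (all_cons eq10_319 (all_cons eq10_320 (all_cons eq10_321 (all_cons eq10_322 (all_cons eq10_323 (all_cons eq10_324 (all_cons eq10_325 (all_cons eq10_326 (all_cons eq10_327 (all_cons eq10_328 (all_cons eq10_329 (all_cons eq10_330 (all_cons eq10_331 (all_cons eq10_332 (all_cons eq10_333 (all_cons eq10_334 (all_cons eq10_335 (all_cons eq10_336 (all_cons eq10_337 (all_cons eq10_338 (all_cons eq10_339 (all_cons eq10_340 (all_cons eq10_341 (all_cons eq10_342 (all_cons eq10_343 (all_cons eq10_344 (all_cons eq10_345 (all_cons eq10_346 (all_cons eq10_347 (all_cons eq10_348 (all_cons eq10_349 (all_cons eq10_350 (all_cons eq10_351 (all_cons eq10_352 (all_cons eq10_353 (all_cons eq10_354 (all_cons eq10_355 (all_cons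 eq10_356 (all_cons eq10_357 (all_cons eq10_358 (all_cons eq10_359 (all_cons eq10_360 (all_cons eq10_361 (all_cons eq10_362 (all_cons eq10_363 (all_cons eq10_364 (all_cons eq10_365 (all_cons eq10_366 (all_cons eq10_367 (all_cons eq10_368 (all_cons eq10_369 (all_cons eq10_370 (all_cons eq10_371 (all_cons eq10_372 (all_cons eq10_373 (all_cons eq10_374 (all_cons eq10_375 (all_cons eq10_376 (all_cons eq10_377 (all_cons eq10_378 (all_cons eq10_379 (all_cons eq10_380 (all_cons eq10_381 (all_cons eq10_382 (all_cons eq10_383 (all_cons eq10_384 (all_cons eq10_385 (all_cons eq10_386 (all_cons eq10_387 (all_cons eq10_388 (all_cons eq10_389 (all_cons eq10_390 (all_cons eq10_391 (all_cons eq10_392 (all_cons eq10_393 (all_cons eq10_394 (all_cons eq10_395 (all_cons eq10_396 (all_cons eq10_397 (all_cons eq10_398 (all_cons eq10_399 (all_cons eq10_400 (all_cons eq10_401 (all_cons eq10_402 (all_cons eq10_403 (all_cons eq10_404 (all_cons eq10_405 (all_cons eq10_406 (all_cons eq10_407 (all_cons eq10_408 (all_cons eq10_409 (all_cons eq10_410 (all_cons eq10_411 (all_cons eq10_412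 (all_cons eq10_413 (all_cons eq10_414 (all_cons eq10_415 (all_cons eq10_416 (all_cons eq10_417 (all_cons eq10_418 (all_cons eq10_419 (all_cons eq10_420 (all_cons eq10_421 (all_cons eq10_422 (all_cons eq10_423 (all_cons eq10_424 (all_cons eq10_425 (all_cons eq10_426 (all_cons eq10_427 (all_cons eq10_428 (all_cons eq10_429 (all_cons eq10_430 (all_cons eq10_431 (all_cons eq10_432 (all_cons eq10_433 (all_cons eq10_434 (all_cons eq10_435 (all_cons eq10_436 (all_cons eq10_437 (all_cons eq10_438 (all_cons eq10_439 (all_cons eq10_440 (all_cons eq10_441 (all_cons eq10_442 (all_cons eq10_443 (all_cons eq10_444 (all_cons eq10_445 (all_cons eq10_446 (all_cons eq10_447 (all_cons eq10_448 (all_cons eq10_449 (all_nil))))))))))))))))))))))))))))))))))))))))))))))))))))))))))))))))))))))))))))))))))))))))))))))))))))))))))))))))))))))))))))))))))))))))))))))))))))))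

theorem eq10_grp3 : ∀ c ∈ ([(1152450, 2561), (1155011, 2561), (1157572, 2561), (1160133, 2561), (1162694, 2561), (1165255, 2561), (1167816, 2561), (1170377, 2561), (1172938, 2561), (1175499, 2561), (1178060, 2561), (1180621, 2561), (1183182, 2561), (1185743, 2561), (1188304, 2561), (1190865, 2561), (1193426, 2561), (1195987, 2561), (1198548, 2561), (1201109, 2561), (1203670, 2561), (1206231, 2561), (1208792, 2561), (1211353, 2561), (1213914, 2561), (1216475, 2561), (1219036, 2561), (1221597, 2561), (1224158, 2561), (1226719, 2561), (1229280, 2561), (1231841, 2561), (1234402, 2561), (1236963, 2561), (1239524, 2561), (1242085, 2561), (1244646, 2561), (1247207, 2561), (1249768, 2561), (1252329, 2561), (1254890, 2561), (1257451, 2561), (1260012, 2561), (1262573, 2561), (1265134, 2561), (1267695, 2561), (1270256, 2561), (1272817, 2561), (1275378, 2561), (1277939, 2561), (1280500, 2561), (1283061, 2561), (1285622, 2561), (1288183, 2561), (1290744, 2561), (1293305, 2561), (1295866, 2561), (1298427, 2561), (1300988, 2561), (1303549, 2561), (1306110, 2561), (1308671,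 2561), (1311232, 2561), (1313793, 2561), (1316354, 2561), (1318915, 2561), (1321476, 2561), (1324037, 2561), (1326598, 2561), (1329159, 2561), (1331720, 2561), (1334281, 2561), (1336842, 2561), (1339403, 2561), (1341964, 2561), (1344525, 2561), (1347086, 2561), (1349647, 2561), (1352208, 2561), (1354769, 2561), (1357330, 2561), (1359891, 2561), (1362452, 2561), (1365013, 2561), (1367574, 2561), (1370135, 2561), (1372696, 2561), (1375257, 2561), (1377818, 2561), (1380379, 2561), (1382940, 2561), (1385501, 2561), (1388062, 2561), (1390623, 2561), (1393184, 2561), (1395745, 2561), (1398306, 2561), (1400867, 2561), (1403428, 2561), (1405989, 2561), (1408550, 2561), (1411111, 2561), (1413672, 2561), (1416233, 2561), (1418794, 2561), (1421355, 2561), (1423916, 2561), (1426477, 2561), (1429038, 2561), (1431599, 2561), (1434160, 2561), (1436721, 2561), (1439282, 2561), (1441843, 2561), (1444404, 2561), (1446965, 2561), (1449526, 2561), (1452087, 2561), (1454648, 2561), (1457209, 2561), (1459770, 2561), (1462331, 2561), (1464892, 2561), (1467453, 2561), (1470014, 2561),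 (1472575, 2561), (1475136, 2561), (1477697, 2561), (1480258, 2561), (1482819, 2561), (1485380, 2561), (1487941, 2561), (1490502, 2561), (1493063, 2561), (1495624, 2561), (1498185, 2561), (1500746, 2561), (1503307, 2561), (1505868, 2561), (1508429, 2561), (1510990, 2561), (1513551, 2561), (1516112, 2561), (1518673, 2561), (1521234, 2561), (1523795, 2561), (1526356, 2561), (1528917, 2561), (1531478, 2561), (1534039, 2561)] : List (ℕ × ℕ)), allR c.1 c.2 (fun q => Nat.beq (f10 q) ((fun q => f4 (f3 (f6 (f4 (f2 (f0 (f2 (f4 (f2 (f0 (f6 (f4 (f2 (f4 (f2 (f4 (f6 (f4 (f3 (f1 (f2 (f4 (f0 (f2 (f2 (f0 (f3 (f4 (f3 (f3 (f1 (f2 (f4 (f2 (f1 (f4 (f2 (f1 (q))))))))))))))))))))))))))))))))))))))) q)) = true :=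
  all_cons eq10_450 (all_cons eq10_451 (all_cons eq10_452 (all_cons eq10_453 (all_cons eq10_454 (all_cons eq10_455 (all_cons eq10_456 (all_cons eq10_457 (all_cons eq10_458 (all_cons eq10_459 (all_cons eq10_460 (all_cons eq10_461 (all_cons eq10_462 (all_cons eq10_463 (all_cons eq10_464 (all_cons eq10_465 (all_cons eq10_466 (all_cons eq10_467 (all_cons eq10_468 (all_cons eq10_469 (all_cons eq10_470 (all_cons eq10_471 (all_cons eq10_472 (all_cons eq10_473 (all_cons eq10_474 (all_cons eq10_475 (all_cons eq10_476 (all_cons eq10_477 (all_cons eq10_478 (all_cons eq10_479 (all_cons eq10_480 (all_cons eq10_481 (all_cons eq10_482 (all_cons eq10_483 (all_cons eq10_484 (all_cons eq10_485 (all_cons eq10_486 (all_cons eq10_487 (all_cons eq10_488 (all_cons eq10_489 (all_cons eq10_490 (all_cons eq10_491 (all_cons eq10_492 (all_cons eq10_493 (all_cons eq10_494 (all_cons eq10_495 (all_cons eq10_496 (all_cons eq10_497 (all_cons eq10_498 (all_cons eq10_499 (all_cons eq10_500 (all_cons eq10_501 (all_cons eq10_502 (all_cons eq10_503 (all_cons eq10_504 (all_cons eq10_505 (all_cons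 eq10_506 (all_cons eq10_507 (all_cons eq10_508 (all_cons eq10_509 (all_cons eq10_510 (all_cons eq10_511 (all_cons eq10_512 (all_cons eq10_513 (all_cons eq10_514 (all_cons eq10_515 (all_cons eq10_516 (all_cons eq10_517 (all_cons eq10_518 (all_cons eq10_519 (all_cons eq10_520 (all_cons eq10_521 (all_cons eq10_522 (all_cons eq10_523 (all_cons eq10_524 (all_cons eq10_525 (all_cons eq10_526 (all_cons eq10_527 (all_cons eq10_528 (all_cons eq10_529 (all_cons eq10_530 (all_cons eq10_531 (all_cons eq10_532 (all_cons eq10_533 (all_cons eq10_534 (all_cons eq10_535 (all_cons eq10_536 (all_cons eq10_537 (all_cons eq10_538 (all_cons eq10_539 (all_cons eq10_540 (all_cons eq10_541 (all_cons eq10_542 (all_cons eq10_543 (all_cons eq10_544 (all_cons eq10_545 (all_cons eq10_546 (all_cons eq10_547 (all_cons eq10_548 (all_cons eq10_549 (all_cons eq10_550 (all_cons eq10_551 (all_cons eq10_552 (all_cons eq10_553 (all_cons eq10_554 (all_cons eq10_555 (all_cons eq10_556 (all_cons eq10_557 (all_cons eq10_558 (all_cons eq10_559 (all_cons eq10_560 (all_cons eq10_561 (all_cons eq10_562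 (all_cons eq10_563 (all_cons eq10_564 (all_cons eq10_565 (all_cons eq10_566 (all_cons eq10_567 (all_cons eq10_568 (all_cons eq10_569 (all_cons eq10_570 (all_cons eq10_571 (all_cons eq10_572 (all_cons eq10_573 (all_cons eq10_574 (all_cons eq10_575 (all_cons eq10_576 (all_cons eq10_577 (all_cons eq10_578 (all_cons eq10_579 (all_cons eq10_580 (all_cons eq10_581 (all_cons eq10_582 (all_cons eq10_583 (all_cons eq10_584 (all_cons eq10_585 (all_cons eq10_586 (all_cons eq10_587 (all_cons eq10_588 (all_cons eq10_589 (all_cons eq10_590 (all_cons eq10_591 (all_cons eq10_592 (all_cons eq10_593 (all_cons eq10_594 (all_cons eq10_595 (all_cons eq10_596 (all_cons eq10_597 (all_cons eq10_598 (all_cons eq10_599 (all_nil))))))))))))))))))))))))))))))))))))))))))))))))))))))))))))))))))))))))))))))))))))))))))))))))))))))))))))))))))))))))))))))))))))))))))))))))))))))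

theorem eq10_grp4 : ∀ c ∈ ([(1536600, 2400)] : List (ℕ × ℕ)), allR c.1 c.2 (fun q => Nat.beq (f10 q) ((fun q => f4 (f3 (f6 (f4 (f2 (f0 (f2 (f4 (f2 (f0 (f6 (f4 (f2 (f4 (f2 (f4 (f6 (f4 (f3 (f1 (f2 (f4 (f0 (f2 (f2 (f0 (f3 (f4 (f3 (f3 (f1 (f2 (f4 (f2 (f1 (f4 (f2 (f1 (q))))))))))))))))))))))))))))))))))))))) q)) = true :=
  all_cons eq10_600 (all_nil)

/-- the table agrees with the word -/
theorem eq10 : ∀ q < 1539000, f10 q = wordF W10 q :=
  eq_of_chunks (f := f10) (g := (fun q => f4 (f3 (f6 (f4 (f2 (f0 (f2 (f4 (f2 (f0 (f6 (f4 (f2 (f4 (f2 (f4 (f6 (f4 (f3 (f1 (f2 (f4 (f0 (f2 (f2 (f0 (f3 (f4 (f3 (f3 (f1 (f2 (f4 (f2 (f1 (f4 (f2 (f1 (q)))))))))))))))))))))))))))))))))))))))) ([(0, 2561), (2561, 2561), (5122, 2561), (7683, 2561), (10244, 2561), (12805, 2561), (15366, 2561), (17927, 2561), (20488, 2561), (23049, 2561), (25610, 2561), (28171, 2561), (30732, 2561), (33293, 2561), (35854, 2561), (38415, 2561), (40976, 2561), (43537, 2561), (46098, 2561), (48659, 2561), (51220, 2561), (53781, 2561), (56342, 2561), (58903, 2561), (61464, 2561), (64025, 2561), (66586, 2561),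 (69147, 2561), (71708, 2561), (74269, 2561), (76830, 2561), (79391, 2561), (81952, 2561), (84513, 2561), (87074, 2561), (89635, 2561), (92196, 2561), (94757, 2561), (97318, 2561), (99879, 2561), (102440, 2561), (105001, 2561), (107562, 2561), (110123, 2561), (112684, 2561), (115245, 2561), (117806, 2561), (120367, 2561), (122928, 2561), (125489, 2561), (128050, 2561), (130611, 2561), (133172, 2561), (135733, 2561), (138294, 2561), (140855, 2561), (143416, 2561), (145977, 2561), (148538, 2561), (151099, 2561), (153660, 2561), (156221, 2561), (158782, 2561), (161343, 2561), (163904, 2561), (166465, 2561), (169026, 2561), (171587, 2561), (174148, 2561), (176709, 2561), (179270, 2561), (181831, 2561), (184392, 2561), (186953, 2561), (189514, 2561), (192075, 2561), (194636, 2561), (197197, 2561), (199758, 2561), (202319, 2561), (204880, 2561), (207441, 2561), (210002, 2561), (212563, 2561), (215124, 2561), (217685, 2561), (220246, 2561), (222807, 2561), (225368, 2561), (227929, 2561), (230490, 2561), (233051, 2561), (235612, 2561), (238173, 2561), (240734, 2561),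 (243295, 2561), (245856, 2561), (248417, 2561), (250978, 2561), (253539, 2561), (256100, 2561), (258661, 2561), (261222, 2561), (263783, 2561), (266344, 2561), (268905, 2561), (271466, 2561), (274027, 2561), (276588, 2561), (279149, 2561), (281710, 2561), (284271, 2561), (286832, 2561), (289393, 2561), (291954, 2561), (294515, 2561), (297076, 2561), (299637, 2561), (302198, 2561), (304759, 2561), (307320, 2561), (309881, 2561), (312442, 2561), (315003, 2561), (317564, 2561), (320125, 2561), (322686, 2561), (325247, 2561), (327808, 2561), (330369, 2561), (332930, 2561), (335491, 2561), (338052, 2561), (340613, 2561), (343174, 2561), (345735, 2561), (348296, 2561), (350857, 2561), (353418, 2561), (355979, 2561), (358540, 2561), (361101, 2561), (363662, 2561), (366223, 2561), (368784, 2561), (371345, 2561), (373906, 2561), (376467, 2561), (379028, 2561), (381589, 2561)] ++ [(384150, 2561), (386711, 2561), (389272, 2561), (391833, 2561), (394394, 2561), (396955, 2561), (399516, 2561), (402077, 2561), (404638, 2561), (407199, 2561), (409760, 2561), (412321, 2561),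 (414882, 2561), (417443, 2561), (420004, 2561), (422565, 2561), (425126, 2561), (427687, 2561), (430248, 2561), (432809, 2561), (435370, 2561), (437931, 2561), (440492, 2561), (443053, 2561), (445614, 2561), (448175, 2561), (450736, 2561), (453297, 2561), (455858, 2561), (458419, 2561), (460980, 2561), (463541, 2561), (466102, 2561), (468663, 2561), (471224, 2561), (473785, 2561), (476346, 2561), (478907, 2561), (481468, 2561), (484029, 2561), (486590, 2561), (489151, 2561), (491712, 2561), (494273, 2561), (496834, 2561), (499395, 2561), (501956, 2561), (504517, 2561), (507078, 2561), (509639, 2561), (512200, 2561), (514761, 2561), (517322, 2561), (519883, 2561), (522444, 2561), (525005, 2561), (527566, 2561), (530127, 2561), (532688, 2561), (535249, 2561), (537810, 2561), (540371, 2561), (542932, 2561), (545493, 2561), (548054, 2561), (550615, 2561), (553176, 2561), (555737, 2561), (558298, 2561), (560859, 2561), (563420, 2561), (565981, 2561), (568542, 2561), (571103, 2561), (573664, 2561), (576225, 2561), (578786, 2561), (581347, 2561), (583908, 2561), (586469,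 2561), (589030, 2561), (591591, 2561), (594152, 2561), (596713, 2561), (599274, 2561), (601835, 2561), (604396, 2561), (606957, 2561), (609518, 2561), (612079, 2561), (614640, 2561), (617201, 2561), (619762, 2561), (622323, 2561), (624884, 2561), (627445, 2561), (630006, 2561), (632567, 2561), (635128, 2561), (637689, 2561), (640250, 2561), (642811, 2561), (645372, 2561), (647933, 2561), (650494, 2561), (653055, 2561), (655616, 2561), (658177, 2561), (660738, 2561), (663299, 2561), (665860, 2561), (668421, 2561), (670982, 2561), (673543, 2561), (676104, 2561), (678665, 2561), (681226, 2561), (683787, 2561), (686348, 2561), (688909, 2561), (691470, 2561), (694031, 2561), (696592, 2561), (699153, 2561), (701714, 2561), (704275, 2561), (706836, 2561), (709397, 2561), (711958, 2561), (714519, 2561), (717080, 2561), (719641, 2561), (722202, 2561), (724763, 2561), (727324, 2561), (729885, 2561), (732446, 2561), (735007, 2561), (737568, 2561), (740129, 2561), (742690, 2561), (745251, 2561), (747812, 2561), (750373, 2561), (752934, 2561), (755495, 2561), (758056, 2561),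 (760617, 2561), (763178, 2561), (765739, 2561)] ++ [(768300, 2561), (770861, 2561), (773422, 2561), (775983, 2561), (778544, 2561), (781105, 2561), (783666, 2561), (786227, 2561), (788788, 2561), (791349, 2561), (793910, 2561), (796471, 2561), (799032, 2561), (801593, 2561), (804154, 2561), (806715, 2561), (809276, 2561), (811837, 2561), (814398, 2561), (816959, 2561), (819520, 2561), (822081, 2561), (824642, 2561), (827203, 2561), (829764, 2561), (832325, 2561), (834886, 2561), (837447, 2561), (840008, 2561), (842569, 2561), (845130, 2561), (847691, 2561), (850252, 2561), (852813, 2561), (855374, 2561), (857935, 2561), (860496, 2561), (863057, 2561), (865618, 2561), (868179, 2561), (870740, 2561), (873301, 2561), (875862, 2561), (878423, 2561), (880984, 2561), (883545, 2561), (886106, 2561), (888667, 2561), (891228, 2561), (893789, 2561), (896350, 2561), (898911, 2561), (901472, 2561), (904033, 2561), (906594, 2561), (909155, 2561), (911716, 2561), (914277, 2561), (916838, 2561), (919399, 2561), (921960, 2561), (924521, 2561), (927082, 2561), (929643, 2561),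 (932204, 2561), (934765, 2561), (937326, 2561), (939887, 2561), (942448, 2561), (945009, 2561), (947570, 2561), (950131, 2561), (952692, 2561), (955253, 2561), (957814, 2561), (960375, 2561), (962936, 2561), (965497, 2561), (968058, 2561), (970619, 2561), (973180, 2561), (975741, 2561), (978302, 2561), (980863, 2561), (983424, 2561), (985985, 2561), (988546, 2561), (991107, 2561), (993668, 2561), (996229, 2561), (998790, 2561), (1001351, 2561), (1003912, 2561), (1006473, 2561), (1009034, 2561), (1011595, 2561), (1014156, 2561), (1016717, 2561), (1019278, 2561), (1021839, 2561), (1024400, 2561), (1026961, 2561), (1029522, 2561), (1032083, 2561), (1034644, 2561), (1037205, 2561), (1039766, 2561), (1042327, 2561), (1044888, 2561), (1047449, 2561), (1050010, 2561), (1052571, 2561), (1055132, 2561), (1057693, 2561), (1060254, 2561), (1062815, 2561), (1065376, 2561), (1067937, 2561), (1070498, 2561), (1073059, 2561), (1075620, 2561), (1078181, 2561), (1080742, 2561), (1083303, 2561), (1085864, 2561), (1088425, 2561), (1090986, 2561), (1093547, 2561), (1096108, 2561),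 (1098669, 2561), (1101230, 2561), (1103791, 2561), (1106352, 2561), (1108913, 2561), (1111474, 2561), (1114035, 2561), (1116596, 2561), (1119157, 2561), (1121718, 2561), (1124279, 2561), (1126840, 2561), (1129401, 2561), (1131962, 2561), (1134523, 2561), (1137084, 2561), (1139645, 2561), (1142206, 2561), (1144767, 2561), (1147328, 2561), (1149889, 2561)] ++ [(1152450, 2561), (1155011, 2561), (1157572, 2561), (1160133, 2561), (1162694, 2561), (1165255, 2561), (1167816, 2561), (1170377, 2561), (1172938, 2561), (1175499, 2561), (1178060, 2561), (1180621, 2561), (1183182, 2561), (1185743, 2561), (1188304, 2561), (1190865, 2561), (1193426, 2561), (1195987, 2561), (1198548, 2561), (1201109, 2561), (1203670, 2561), (1206231, 2561), (1208792, 2561), (1211353, 2561), (1213914, 2561), (1216475, 2561), (1219036, 2561), (1221597, 2561), (1224158, 2561), (1226719, 2561), (1229280, 2561), (1231841, 2561), (1234402, 2561), (1236963, 2561), (1239524, 2561), (1242085, 2561), (1244646, 2561), (1247207, 2561), (1249768, 2561), (1252329, 2561), (1254890, 2561), (1257451, 2561),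 (1260012, 2561), (1262573, 2561), (1265134, 2561), (1267695, 2561), (1270256, 2561), (1272817, 2561), (1275378, 2561), (1277939, 2561), (1280500, 2561), (1283061, 2561), (1285622, 2561), (1288183, 2561), (1290744, 2561), (1293305, 2561), (1295866, 2561), (1298427, 2561), (1300988, 2561), (1303549, 2561), (1306110, 2561), (1308671, 2561), (1311232, 2561), (1313793, 2561), (1316354, 2561), (1318915, 2561), (1321476, 2561), (1324037, 2561), (1326598, 2561), (1329159, 2561), (1331720, 2561), (1334281, 2561), (1336842, 2561), (1339403, 2561), (1341964, 2561), (1344525, 2561), (1347086, 2561), (1349647, 2561), (1352208, 2561), (1354769, 2561), (1357330, 2561), (1359891, 2561), (1362452, 2561), (1365013, 2561), (1367574, 2561), (1370135, 2561), (1372696, 2561), (1375257, 2561), (1377818, 2561), (1380379, 2561), (1382940, 2561), (1385501, 2561), (1388062, 2561), (1390623, 2561), (1393184, 2561), (1395745, 2561), (1398306, 2561), (1400867, 2561), (1403428, 2561), (1405989, 2561), (1408550, 2561), (1411111, 2561), (1413672, 2561), (1416233, 2561), (1418794, 2561), (1421355,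 2561), (1423916, 2561), (1426477, 2561), (1429038, 2561), (1431599, 2561), (1434160, 2561), (1436721, 2561), (1439282, 2561), (1441843, 2561), (1444404, 2561), (1446965, 2561), (1449526, 2561), (1452087, 2561), (1454648, 2561), (1457209, 2561), (1459770, 2561), (1462331, 2561), (1464892, 2561), (1467453, 2561), (1470014, 2561), (1472575, 2561), (1475136, 2561), (1477697, 2561), (1480258, 2561), (1482819, 2561), (1485380, 2561), (1487941, 2561), (1490502, 2561), (1493063, 2561), (1495624, 2561), (1498185, 2561), (1500746, 2561), (1503307, 2561), (1505868, 2561), (1508429, 2561), (1510990, 2561), (1513551, 2561), (1516112, 2561), (1518673, 2561), (1521234, 2561), (1523795, 2561), (1526356, 2561), (1528917, 2561), (1531478, 2561), (1534039, 2561)] ++ [(1536600, 2400)]) (by decide +kernel) (all_append (all_append (all_append (all_append (eq10_grp0) eq10_grp1) eq10_grp2) eq10_grp3) eq10_grp4)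

end Cfsg.Agent.HNOut
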