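import Cfsg.Agent.Lib.Lead.HNOut.C12x0
import Cfsg.Agent.Lib.Lead.HNOut.C12x1
import Cfsg.Agent.Lib.Lead.HNOut.C12x2
import Cfsg.Agent.Lib.Lead.HNOut.C12x3
import Cfsg.Agent.Lib.Lead.HNOut.C12x4
import Cfsg.Agent.Lib.Lead.HNOut.C12x5
import Cfsg.Agent.Lib.Lead.HNOut.C12x6
import Cfsg.Agent.Lib.Lead.HNOut.C12x7
import Cfsg.Agent.Lib.Lead.HNOut.C12x8
import Cfsg.Agent.Lib.Lead.HNOut.C12x9

/-! # The outer automorphism group of the Harada–Norton group: the element number 12 (generated) -/

set_option autoImplicit false
set_option maxRecDepth 100000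

namespace Cfsg.Agent.HNOut

open Cfsg.Agent.PF Cfsg.Agent.Lib.Helper6 Cfsg.Agent.Lib.Helper6.TC Cfsg.Agent.Lib.Helper6.NatArr
open Cfsg.Agent.PL (Acts evalF)

theorem eq12_grp0 : ∀ c ∈ ([(0, 6231), (6231, 6231), (12462, 6231), (18693, 6231), (24924, 6231), (31155, 6231), (37386, 6231), (43617, 6231), (49848, 6231), (56079, 6231), (62310, 6231), (68541, 6231), (74772, 6231), (81003, 6231), (87234, 6231), (93465, 6231), (99696, 6231), (105927, 6231), (112158, 6231), (118389, 6231), (124620, 6231), (130851, 6231), (137082, 6231), (143313, 6231), (149544, 6231), (155775, 6231), (162006, 6231), (168237, 6231), (174468, 6231), (180699, 6231), (186930, 6231), (193161, 6231), (199392, 6231), (205623, 6231), (211854, 6231), (218085, 6231), (224316, 6231), (230547, 6231), (236778, 6231), (243009, 6231), (249240, 6231), (255471, 6231), (261702, 6231), (267933, 6231), (274164, 6231), (280395, 6231), (286626, 6231), (292857, 6231), (299088, 6231), (305319, 6231), (311550, 6231), (317781, 6231), (324012, 6231), (330243, 6231), (336474, 6231), (342705, 6231), (348936, 6231), (355167,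 6231), (361398, 6231), (367629, 6231), (373860, 6231), (380091, 6231), (386322, 6231), (392553, 6231), (398784, 6231), (405015, 6231), (411246, 6231), (417477, 6231), (423708, 6231), (429939, 6231), (436170, 6231), (442401, 6231), (448632, 6231), (454863, 6231), (461094, 6231), (467325, 6231), (473556, 6231), (479787, 6231), (486018, 6231), (492249, 6231), (498480, 6231), (504711, 6231), (510942, 6231), (517173, 6231), (523404, 6231), (529635, 6231), (535866, 6231), (542097, 6231), (548328, 6231), (554559, 6231), (560790, 6231), (567021, 6231), (573252, 6231), (579483, 6231), (585714, 6231), (591945, 6231), (598176, 6231), (604407, 6231), (610638, 6231), (616869, 6231), (623100, 6231), (629331, 6231), (635562, 6231), (641793, 6231), (648024, 6231), (654255, 6231), (660486, 6231), (666717, 6231), (672948, 6231), (679179, 6231), (685410, 6231), (691641, 6231), (697872, 6231), (704103, 6231), (710334, 6231), (716565, 6231), (722796, 6231), (729027, 6231), (735258, 6231), (741489, 6231), (747720, 6231), (753951, 6231), (760182, 6231), (766413, 6231), (772644, 6231), (778875,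 6231), (785106, 6231), (791337, 6231), (797568, 6231), (803799, 6231), (810030, 6231), (816261, 6231), (822492, 6231), (828723, 6231), (834954, 6231), (841185, 6231), (847416, 6231), (853647, 6231), (859878, 6231), (866109, 6231), (872340, 6231), (878571, 6231), (884802, 6231), (891033, 6231), (897264, 6231), (903495, 6231), (909726, 6231), (915957, 6231), (922188, 6231), (928419, 6231)] : List (ℕ × ℕ)), allR c.1 c.2 (fun q => Nat.beq (f12 q) ((fun q => f10 (f9 (f10 (f8 (f8 (f8 (f9 (f11 (f8 (f10 (f9 (f10 (f8 (f9 (f10 (q)))))))))))))))) q)) = true :=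
  all_cons eq12_0 (all_cons eq12_1 (all_cons eq12_2 (all_cons eq12_3 (all_cons eq12_4 (all_cons eq12_5 (all_cons eq12_6 (all_cons eq12_7 (all_cons eq12_8 (all_cons eq12_9 (all_cons eq12_10 (all_cons eq12_11 (all_cons eq12_12 (all_cons eq12_13 (all_cons eq12_14 (all_cons eq12_15 (all_cons eq12_16 (all_cons eq12_17 (all_cons eq12_18 (all_cons eq12_19 (all_cons eq12_20 (all_cons eq12_21 (all_cons eq12_22 (all_cons eq12_23 (all_cons eq12_24 (all_cons eq12_25 (all_cons eq12_26 (all_cons eq12_27 (all_cons eq12_28 (all_cons eq12_29 (all_cons eq12_30 (all_cons eq12_31 (all_cons eq12_32 (all_cons eq12_33 (all_cons eq12_34 (all_cons eq12_35 (all_cons eq12_36 (all_cons eq12_37 (all_cons eq12_38 (all_cons eq12_39 (all_cons eq12_40 (all_cons eq12_41 (all_cons eq12_42 (all_cons eq12_43 (all_cons eq12_44 (all_cons eq12_45 (all_cons eq12_46 (all_cons eq12_47 (all_cons eq12_48 (all_cons eq12_49 (all_cons eq12_50 (all_cons eq12_51 (all_cons eq12_52 (all_cons eq12_53 (all_cons eq12_54 (all_cons eq12_55 (all_cons eq12_56 (all_cons eq12_57 (all_cons eq12_58 (all_cons eq12_59 (all_cons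 eq12_60 (all_cons eq12_61 (all_cons eq12_62 (all_cons eq12_63 (all_cons eq12_64 (all_cons eq12_65 (all_cons eq12_66 (all_cons eq12_67 (all_cons eq12_68 (all_cons eq12_69 (all_cons eq12_70 (all_cons eq12_71 (all_cons eq12_72 (all_cons eq12_73 (all_cons eq12_74 (all_cons eq12_75 (all_cons eq12_76 (all_cons eq12_77 (all_cons eq12_78 (all_cons eq12_79 (all_cons eq12_80 (all_cons eq12_81 (all_cons eq12_82 (all_cons eq12_83 (all_cons eq12_84 (all_cons eq12_85 (all_cons eq12_86 (all_cons eq12_87 (all_cons eq12_88 (all_cons eq12_89 (all_cons eq12_90 (all_cons eq12_91 (all_cons eq12_92 (all_cons eq12_93 (all_cons eq12_94 (all_cons eq12_95 (all_cons eq12_96 (all_cons eq12_97 (all_cons eq12_98 (all_cons eq12_99 (all_cons eq12_100 (all_cons eq12_101 (all_cons eq12_102 (all_cons eq12_103 (all_cons eq12_104 (all_cons eq12_105 (all_cons eq12_106 (all_cons eq12_107 (all_cons eq12_108 (all_cons eq12_109 (all_cons eq12_110 (all_cons eq12_111 (all_cons eq12_112 (all_cons eq12_113 (all_cons eq12_114 (all_cons eq12_115 (all_cons eq12_116 (all_cons eq12_117 (all_cons eq12_118 (all_cons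 eq12_119 (all_cons eq12_120 (all_cons eq12_121 (all_cons eq12_122 (all_cons eq12_123 (all_cons eq12_124 (all_cons eq12_125 (all_cons eq12_126 (all_cons eq12_127 (all_cons eq12_128 (all_cons eq12_129 (all_cons eq12_130 (all_cons eq12_131 (all_cons eq12_132 (all_cons eq12_133 (all_cons eq12_134 (all_cons eq12_135 (all_cons eq12_136 (all_cons eq12_137 (all_cons eq12_138 (all_cons eq12_139 (all_cons eq12_140 (all_cons eq12_141 (all_cons eq12_142 (all_cons eq12_143 (all_cons eq12_144 (all_cons eq12_145 (all_cons eq12_146 (all_cons eq12_147 (all_cons eq12_148 (all_cons eq12_149 (all_nil))))))))))))))))))))))))))))))))))))))))))))))))))))))))))))))))))))))))))))))))))))))))))))))))))))))))))))))))))))))))))))))))))))))))))))))))))))))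

theorem eq12_grp1 : ∀ c ∈ ([(934650, 6231), (940881, 6231), (947112, 6231), (953343, 6231), (959574, 6231), (965805, 6231), (972036, 6231), (978267, 6231), (984498, 6231), (990729, 6231), (996960, 6231), (1003191, 6231), (1009422, 6231), (1015653, 6231), (1021884, 6231), (1028115, 6231), (1034346, 6231), (1040577, 6231), (1046808, 6231), (1053039, 6231), (1059270, 6231), (1065501, 6231), (1071732, 6231), (1077963, 6231), (1084194, 6231), (1090425, 6231), (1096656, 6231), (1102887, 6231), (1109118, 6231), (1115349, 6231), (1121580, 6231), (1127811, 6231), (1134042, 6231), (1140273, 6231), (1146504, 6231), (1152735, 6231), (1158966, 6231), (1165197, 6231), (1171428, 6231), (1177659, 6231), (1183890, 6231), (1190121, 6231), (1196352, 6231), (1202583, 6231), (1208814, 6231), (1215045, 6231), (1221276, 6231), (1227507, 6231), (1233738, 6231), (1239969, 6231), (1246200, 6231), (1252431, 6231), (1258662, 6231), (1264893, 6231), (1271124, 6231), (1277355, 6231), (1283586, 6231), (1289817, 6231), (1296048, 6231), (1302279, 6231), (1308510, 6231), (1314741, 6231), (1320972,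 6231), (1327203, 6231), (1333434, 6231), (1339665, 6231), (1345896, 6231), (1352127, 6231), (1358358, 6231), (1364589, 6231), (1370820, 6231), (1377051, 6231), (1383282, 6231), (1389513, 6231), (1395744, 6231), (1401975, 6231), (1408206, 6231), (1414437, 6231), (1420668, 6231), (1426899, 6231), (1433130, 6231), (1439361, 6231), (1445592, 6231), (1451823, 6231), (1458054, 6231), (1464285, 6231), (1470516, 6231), (1476747, 6231), (1482978, 6231), (1489209, 6231), (1495440, 6231), (1501671, 6231), (1507902, 6231), (1514133, 6231), (1520364, 6231), (1526595, 6231), (1532826, 6174)] : List (ℕ × ℕ)), allR c.1 c.2 (fun q => Nat.beq (f12 q) ((fun q => f10 (f9 (f10 (f8 (f8 (f8 (f9 (f11 (f8 (f10 (f9 (f10 (f8 (f9 (f10 (q)))))))))))))))) q)) = true :=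
  all_cons eq12_150 (all_cons eq12_151 (all_cons eq12_152 (all_cons eq12_153 (all_cons eq12_154 (all_cons eq12_155 (all_cons eq12_156 (all_cons eq12_157 (all_cons eq12_158 (all_cons eq12_159 (all_cons eq12_160 (all_cons eq12_161 (all_cons eq12_162 (all_cons eq12_163 (all_cons eq12_164 (all_cons eq12_165 (all_cons eq12_166 (all_cons eq12_167 (all_cons eq12_168 (all_cons eq12_169 (all_cons eq12_170 (all_cons eq12_171 (all_cons eq12_172 (all_cons eq12_173 (all_cons eq12_174 (all_cons eq12_175 (all_cons eq12_176 (all_cons eq12_177 (all_cons eq12_178 (all_cons eq12_179 (all_cons eq12_180 (all_cons eq12_181 (all_cons eq12_182 (all_cons eq12_183 (all_cons eq12_184 (all_cons eq12_185 (all_cons eq12_186 (all_cons eq12_187 (all_cons eq12_188 (all_cons eq12_189 (all_cons eq12_190 (all_cons eq12_191 (all_cons eq12_192 (all_cons eq12_193 (all_cons eq12_194 (all_cons eq12_195 (all_cons eq12_196 (all_cons eq12_197 (all_cons eq12_198 (all_cons eq12_199 (all_cons eq12_200 (all_cons eq12_201 (all_cons eq12_202 (all_cons eq12_203 (all_cons eq12_204 (all_cons eq12_205 (all_cons eq12_206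 (all_cons eq12_207 (all_cons eq12_208 (all_cons eq12_209 (all_cons eq12_210 (all_cons eq12_211 (all_cons eq12_212 (all_cons eq12_213 (all_cons eq12_214 (all_cons eq12_215 (all_cons eq12_216 (all_cons eq12_217 (all_cons eq12_218 (all_cons eq12_219 (all_cons eq12_220 (all_cons eq12_221 (all_cons eq12_222 (all_cons eq12_223 (all_cons eq12_224 (all_cons eq12_225 (all_cons eq12_226 (all_cons eq12_227 (all_cons eq12_228 (all_cons eq12_229 (all_cons eq12_230 (all_cons eq12_231 (all_cons eq12_232 (all_cons eq12_233 (all_cons eq12_234 (all_cons eq12_235 (all_cons eq12_236 (all_cons eq12_237 (all_cons eq12_238 (all_cons eq12_239 (all_cons eq12_240 (all_cons eq12_241 (all_cons eq12_242 (all_cons eq12_243 (all_cons eq12_244 (all_cons eq12_245 (all_cons eq12_246 (all_nil)))))))))))))))))))))))))))))))))))))))))))))))))))))))))))))))))))))))))))))))))))))))))))))))))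

/-- the table agrees with the word -/
theorem eq12 : ∀ q < 1539000, f12 q = wordF W12 q :=
  eq_of_chunks (f := f12) (g := (fun q => f10 (f9 (f10 (f8 (f8 (f8 (f9 (f11 (f8 (f10 (f9 (f10 (f8 (f9 (f10 (q))))))))))))))))) ([(0, 6231), (6231, 6231), (12462, 6231), (18693, 6231), (24924, 6231), (31155, 6231), (37386, 6231), (43617, 6231), (49848, 6231), (56079, 6231), (62310, 6231), (68541, 6231), (74772, 6231), (81003, 6231), (87234, 6231), (93465, 6231), (99696, 6231), (105927, 6231), (112158, 6231), (118389, 6231), (124620, 6231), (130851, 6231), (137082, 6231), (143313, 6231), (149544, 6231), (155775, 6231), (162006, 6231), (168237, 6231), (174468, 6231), (180699, 6231), (186930, 6231), (193161, 6231), (199392, 6231), (205623, 6231), (211854, 6231), (218085, 6231), (224316, 6231), (230547, 6231), (236778, 6231), (243009, 6231), (249240, 6231), (255471, 6231), (261702, 6231), (267933, 6231), (274164, 6231), (280395, 6231), (286626, 6231), (292857, 6231), (299088, 6231), (305319, 6231), (311550, 6231), (317781, 6231), (324012, 6231), (330243, 6231), (336474, 6231), (342705,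 6231), (348936, 6231), (355167, 6231), (361398, 6231), (367629, 6231), (373860, 6231), (380091, 6231), (386322, 6231), (392553, 6231), (398784, 6231), (405015, 6231), (411246, 6231), (417477, 6231), (423708, 6231), (429939, 6231), (436170, 6231), (442401, 6231), (448632, 6231), (454863, 6231), (461094, 6231), (467325, 6231), (473556, 6231), (479787, 6231), (486018, 6231), (492249, 6231), (498480, 6231), (504711, 6231), (510942, 6231), (517173, 6231), (523404, 6231), (529635, 6231), (535866, 6231), (542097, 6231), (548328, 6231), (554559, 6231), (560790, 6231), (567021, 6231), (573252, 6231), (579483, 6231), (585714, 6231), (591945, 6231), (598176, 6231), (604407, 6231), (610638, 6231), (616869, 6231), (623100, 6231), (629331, 6231), (635562, 6231), (641793, 6231), (648024, 6231), (654255, 6231), (660486, 6231), (666717, 6231), (672948, 6231), (679179, 6231), (685410, 6231), (691641, 6231), (697872, 6231), (704103, 6231), (710334, 6231), (716565, 6231), (722796, 6231), (729027, 6231), (735258, 6231), (741489, 6231), (747720, 6231), (753951, 6231), (760182, 6231), (766413,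 6231), (772644, 6231), (778875, 6231), (785106, 6231), (791337, 6231), (797568, 6231), (803799, 6231), (810030, 6231), (816261, 6231), (822492, 6231), (828723, 6231), (834954, 6231), (841185, 6231), (847416, 6231), (853647, 6231), (859878, 6231), (866109, 6231), (872340, 6231), (878571, 6231), (884802, 6231), (891033, 6231), (897264, 6231), (903495, 6231), (909726, 6231), (915957, 6231), (922188, 6231), (928419, 6231)] ++ [(934650, 6231), (940881, 6231), (947112, 6231), (953343, 6231), (959574, 6231), (965805, 6231), (972036, 6231), (978267, 6231), (984498, 6231), (990729, 6231), (996960, 6231), (1003191, 6231), (1009422, 6231), (1015653, 6231), (1021884, 6231), (1028115, 6231), (1034346, 6231), (1040577, 6231), (1046808, 6231), (1053039, 6231), (1059270, 6231), (1065501, 6231), (1071732, 6231), (1077963, 6231), (1084194, 6231), (1090425, 6231), (1096656, 6231), (1102887, 6231), (1109118, 6231), (1115349, 6231), (1121580, 6231), (1127811, 6231), (1134042, 6231), (1140273, 6231), (1146504, 6231), (1152735, 6231), (1158966, 6231), (1165197, 6231), (1171428, 6231), (1177659,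 6231), (1183890, 6231), (1190121, 6231), (1196352, 6231), (1202583, 6231), (1208814, 6231), (1215045, 6231), (1221276, 6231), (1227507, 6231), (1233738, 6231), (1239969, 6231), (1246200, 6231), (1252431, 6231), (1258662, 6231), (1264893, 6231), (1271124, 6231), (1277355, 6231), (1283586, 6231), (1289817, 6231), (1296048, 6231), (1302279, 6231), (1308510, 6231), (1314741, 6231), (1320972, 6231), (1327203, 6231), (1333434, 6231), (1339665, 6231), (1345896, 6231), (1352127, 6231), (1358358, 6231), (1364589, 6231), (1370820, 6231), (1377051, 6231), (1383282, 6231), (1389513, 6231), (1395744, 6231), (1401975, 6231), (1408206, 6231), (1414437, 6231), (1420668, 6231), (1426899, 6231), (1433130, 6231), (1439361, 6231), (1445592, 6231), (1451823, 6231), (1458054, 6231), (1464285, 6231), (1470516, 6231), (1476747, 6231), (1482978, 6231), (1489209, 6231), (1495440, 6231), (1501671, 6231), (1507902, 6231), (1514133, 6231), (1520364, 6231), (1526595, 6231), (1532826, 6174)]) (by decide +kernel) (all_append (eq12_grp0) eq12_grp1)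

end Cfsg.Agent.HNOut
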