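import Cfsg.Agent.Lib.Lead.HNOut.C13x0
import Cfsg.Agent.Lib.Lead.HNOut.C13x1
import Cfsg.Agent.Lib.Lead.HNOut.C13x2
import Cfsg.Agent.Lib.Lead.HNOut.C13x3
import Cfsg.Agent.Lib.Lead.HNOut.C13x4
import Cfsg.Agent.Lib.Lead.HNOut.C13x5
import Cfsg.Agent.Lib.Lead.HNOut.C13x6
import Cfsg.Agent.Lib.Lead.HNOut.C13x7
import Cfsg.Agent.Lib.Lead.HNOut.C13x8
import Cfsg.Agent.Lib.Lead.HNOut.C13x9
import Cfsg.Agent.Lib.Lead.HNOut.C13x10
import Cfsg.Agent.Lib.Lead.HNOut.C13x11
import Cfsg.Agent.Lib.Lead.HNOut.C13x12
import Cfsg.Agent.Lib.Lead.HNOut.C13x13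
import Cfsg.Agent.Lib.Lead.HNOut.C13x14
import Cfsg.Agent.Lib.Lead.HNOut.C13x15
import Cfsg.Agent.Lib.Lead.HNOut.C13x16
import Cfsg.Agent.Lib.Lead.HNOut.C13x17
import Cfsg.Agent.Lib.Lead.HNOut.C13x18
import Cfsg.Agent.Lib.Lead.HNOut.C13x19
import Cfsg.Agent.Lib.Lead.HNOut.C13x20
import Cfsg.Agent.Lib.Lead.HNOut.C13x21
import Cfsg.Agent.Lib.Lead.HNOut.C13x22

/-! # The outer automorphism group of the Harada–Norton group: the element number 13 (generated) -/

set_option autoImplicit false
set_option maxRecDepth 100000

namespace Cfsg.Agent.HNOut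

open Cfsg.Agent.PF Cfsg.Agent.Lib.Helper6 Cfsg.Agent.Lib.Helper6.TC Cfsg.Agent.Lib.Helper6.NatArr
open Cfsg.Agent.PL (Acts evalF)

theorem eq13_grp0 : ∀ c ∈ ([(0, 2773), (2773, 2773), (5546, 2773), (8319, 2773), (11092, 2773), (13865, 2773), (16638, 2773), (19411, 2773), (22184, 2773), (24957, 2773), (27730, 2773), (30503, 2773), (33276, 2773), (36049, 2773), (38822, 2773), (41595, 2773), (44368, 2773), (47141, 2773), (49914, 2773), (52687, 2773), (55460, 2773), (58233, 2773), (61006, 2773), (63779, 2773), (66552, 2773), (69325, 2773), (72098, 2773), (74871, 2773), (77644, 2773), (80417, 2773), (83190, 2773), (85963, 2773), (88736, 2773), (91509, 2773), (94282, 2773), (97055, 2773), (99828, 2773), (102601, 2773), (105374, 2773), (108147, 2773), (110920, 2773), (113693, 2773), (116466, 2773), (119239, 2773), (122012, 2773), (124785, 2773), (127558, 2773), (130331, 2773), (133104, 2773), (135877, 2773), (138650, 2773), (141423, 2773), (144196, 2773), (146969, 2773), (149742, 2773), (152515, 2773), (155288, 2773), (158061, 2773), (160834, 2773), (163607, 2773), (166380,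 2773), (169153, 2773), (171926, 2773), (174699, 2773), (177472, 2773), (180245, 2773), (183018, 2773), (185791, 2773), (188564, 2773), (191337, 2773), (194110, 2773), (196883, 2773), (199656, 2773), (202429, 2773), (205202, 2773), (207975, 2773), (210748, 2773), (213521, 2773), (216294, 2773), (219067, 2773), (221840, 2773), (224613, 2773), (227386, 2773), (230159, 2773), (232932, 2773), (235705, 2773), (238478, 2773), (241251, 2773), (244024, 2773), (246797, 2773), (249570, 2773), (252343, 2773), (255116, 2773), (257889, 2773), (260662, 2773), (263435, 2773), (266208, 2773), (268981, 2773), (271754, 2773), (274527, 2773), (277300, 2773), (280073, 2773), (282846, 2773), (285619, 2773), (288392, 2773), (291165, 2773), (293938, 2773), (296711, 2773), (299484, 2773), (302257, 2773), (305030, 2773), (307803, 2773), (310576, 2773), (313349, 2773), (316122, 2773), (318895, 2773), (321668, 2773), (324441, 2773), (327214, 2773), (329987, 2773), (332760, 2773), (335533, 2773), (338306, 2773), (341079, 2773), (343852, 2773), (346625, 2773), (349398, 2773), (352171, 2773), (354944,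 2773), (357717, 2773), (360490, 2773), (363263, 2773), (366036, 2773), (368809, 2773), (371582, 2773), (374355, 2773), (377128, 2773), (379901, 2773), (382674, 2773), (385447, 2773), (388220, 2773), (390993, 2773), (393766, 2773), (396539, 2773), (399312, 2773), (402085, 2773), (404858, 2773), (407631, 2773), (410404, 2773), (413177, 2773)] : List (ℕ × ℕ)), allR c.1 c.2 (fun q => Nat.beq (f13 q) ((fun q => f11 (f12 (f11 (f12 (f12 (f11 (f11 (f11 (f11 (f11 (f12 (f11 (f11 (f12 (f12 (f12 (f11 (f12 (f9 (f11 (f8 (f11 (f11 (f12 (f9 (f11 (f9 (f9 (f10 (f12 (f9 (f10 (f10 (f11 (f10 (q)))))))))))))))))))))))))))))))))))) q)) = true :=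
  all_cons eq13_0 (all_cons eq13_1 (all_cons eq13_2 (all_cons eq13_3 (all_cons eq13_4 (all_cons eq13_5 (all_cons eq13_6 (all_cons eq13_7 (all_cons eq13_8 (all_cons eq13_9 (all_cons eq13_10 (all_cons eq13_11 (all_cons eq13_12 (all_cons eq13_13 (all_cons eq13_14 (all_cons eq13_15 (all_cons eq13_16 (all_cons eq13_17 (all_cons eq13_18 (all_cons eq13_19 (all_cons eq13_20 (all_cons eq13_21 (all_cons eq13_22 (all_cons eq13_23 (all_cons eq13_24 (all_cons eq13_25 (all_cons eq13_26 (all_cons eq13_27 (all_cons eq13_28 (all_cons eq13_29 (all_cons eq13_30 (all_cons eq13_31 (all_cons eq13_32 (all_cons eq13_33 (all_cons eq13_34 (all_cons eq13_35 (all_cons eq13_36 (all_cons eq13_37 (all_cons eq13_38 (all_cons eq13_39 (all_cons eq13_40 (all_cons eq13_41 (all_cons eq13_42 (all_cons eq13_43 (all_cons eq13_44 (all_cons eq13_45 (all_cons eq13_46 (all_cons eq13_47 (all_cons eq13_48 (all_cons eq13_49 (all_cons eq13_50 (all_cons eq13_51 (all_cons eq13_52 (all_cons eq13_53 (all_cons eq13_54 (all_cons eq13_55 (all_cons eq13_56 (all_cons eq13_57 (all_cons eq13_58 (all_cons eq13_59 (all_cons eq13_60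 (all_cons eq13_61 (all_cons eq13_62 (all_cons eq13_63 (all_cons eq13_64 (all_cons eq13_65 (all_cons eq13_66 (all_cons eq13_67 (all_cons eq13_68 (all_cons eq13_69 (all_cons eq13_70 (all_cons eq13_71 (all_cons eq13_72 (all_cons eq13_73 (all_cons eq13_74 (all_cons eq13_75 (all_cons eq13_76 (all_cons eq13_77 (all_cons eq13_78 (all_cons eq13_79 (all_cons eq13_80 (all_cons eq13_81 (all_cons eq13_82 (all_cons eq13_83 (all_cons eq13_84 (all_cons eq13_85 (all_cons eq13_86 (all_cons eq13_87 (all_cons eq13_88 (all_cons eq13_89 (all_cons eq13_90 (all_cons eq13_91 (all_cons eq13_92 (all_cons eq13_93 (all_cons eq13_94 (all_cons eq13_95 (all_cons eq13_96 (all_cons eq13_97 (all_cons eq13_98 (all_cons eq13_99 (all_cons eq13_100 (all_cons eq13_101 (all_cons eq13_102 (all_cons eq13_103 (all_cons eq13_104 (all_cons eq13_105 (all_cons eq13_106 (all_cons eq13_107 (all_cons eq13_108 (all_cons eq13_109 (all_cons eq13_110 (all_cons eq13_111 (all_cons eq13_112 (all_cons eq13_113 (all_cons eq13_114 (all_cons eq13_115 (all_cons eq13_116 (all_cons eq13_117 (all_cons eq13_118 (all_cons eq13_119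 (all_cons eq13_120 (all_cons eq13_121 (all_cons eq13_122 (all_cons eq13_123 (all_cons eq13_124 (all_cons eq13_125 (all_cons eq13_126 (all_cons eq13_127 (all_cons eq13_128 (all_cons eq13_129 (all_cons eq13_130 (all_cons eq13_131 (all_cons eq13_132 (all_cons eq13_133 (all_cons eq13_134 (all_cons eq13_135 (all_cons eq13_136 (all_cons eq13_137 (all_cons eq13_138 (all_cons eq13_139 (all_cons eq13_140 (all_cons eq13_141 (all_cons eq13_142 (all_cons eq13_143 (all_cons eq13_144 (all_cons eq13_145 (all_cons eq13_146 (all_cons eq13_147 (all_cons eq13_148 (all_cons eq13_149 (all_nil))))))))))))))))))))))))))))))))))))))))))))))))))))))))))))))))))))))))))))))))))))))))))))))))))))))))))))))))))))))))))))))))))))))))))))))))))))))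

theorem eq13_grp1 : ∀ c ∈ ([(415950, 2773), (418723, 2773), (421496, 2773), (424269, 2773), (427042, 2773), (429815, 2773), (432588, 2773), (435361, 2773), (438134, 2773), (440907, 2773), (443680, 2773), (446453, 2773), (449226, 2773), (451999, 2773), (454772, 2773), (457545, 2773), (460318, 2773), (463091, 2773), (465864, 2773), (468637, 2773), (471410, 2773), (474183, 2773), (476956, 2773), (479729, 2773), (482502, 2773), (485275, 2773), (488048, 2773), (490821, 2773), (493594, 2773), (496367, 2773), (499140, 2773), (501913, 2773), (504686, 2773), (507459, 2773), (510232, 2773), (513005, 2773), (515778, 2773), (518551, 2773), (521324, 2773), (524097, 2773), (526870, 2773), (529643, 2773), (532416, 2773), (535189, 2773), (537962, 2773), (540735, 2773), (543508, 2773), (546281, 2773), (549054, 2773), (551827, 2773), (554600, 2773), (557373, 2773), (560146, 2773), (562919, 2773), (565692, 2773), (568465, 2773), (571238, 2773), (574011, 2773), (576784, 2773), (579557, 2773), (582330, 2773), (585103, 2773), (587876, 2773), (590649, 2773), (593422, 2773), (596195, 2773),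 (598968, 2773), (601741, 2773), (604514, 2773), (607287, 2773), (610060, 2773), (612833, 2773), (615606, 2773), (618379, 2773), (621152, 2773), (623925, 2773), (626698, 2773), (629471, 2773), (632244, 2773), (635017, 2773), (637790, 2773), (640563, 2773), (643336, 2773), (646109, 2773), (648882, 2773), (651655, 2773), (654428, 2773), (657201, 2773), (659974, 2773), (662747, 2773), (665520, 2773), (668293, 2773), (671066, 2773), (673839, 2773), (676612, 2773), (679385, 2773), (682158, 2773), (684931, 2773), (687704, 2773), (690477, 2773), (693250, 2773), (696023, 2773), (698796, 2773), (701569, 2773), (704342, 2773), (707115, 2773), (709888, 2773), (712661, 2773), (715434, 2773), (718207, 2773), (720980, 2773), (723753, 2773), (726526, 2773), (729299, 2773), (732072, 2773), (734845, 2773), (737618, 2773), (740391, 2773), (743164, 2773), (745937, 2773), (748710, 2773), (751483, 2773), (754256, 2773), (757029, 2773), (759802, 2773), (762575, 2773), (765348, 2773), (768121, 2773), (770894, 2773), (773667, 2773), (776440, 2773), (779213, 2773), (781986, 2773), (784759, 2773),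 (787532, 2773), (790305, 2773), (793078, 2773), (795851, 2773), (798624, 2773), (801397, 2773), (804170, 2773), (806943, 2773), (809716, 2773), (812489, 2773), (815262, 2773), (818035, 2773), (820808, 2773), (823581, 2773), (826354, 2773), (829127, 2773)] : List (ℕ × ℕ)), allR c.1 c.2 (fun q => Nat.beq (f13 q) ((fun q => f11 (f12 (f11 (f12 (f12 (f11 (f11 (f11 (f11 (f11 (f12 (f11 (f11 (f12 (f12 (f12 (f11 (f12 (f9 (f11 (f8 (f11 (f11 (f12 (f9 (f11 (f9 (f9 (f10 (f12 (f9 (f10 (f10 (f11 (f10 (q)))))))))))))))))))))))))))))))))))) q)) = true :=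
  all_cons eq13_150 (all_cons eq13_151 (all_cons eq13_152 (all_cons eq13_153 (all_cons eq13_154 (all_cons eq13_155 (all_cons eq13_156 (all_cons eq13_157 (all_cons eq13_158 (all_cons eq13_159 (all_cons eq13_160 (all_cons eq13_161 (all_cons eq13_162 (all_cons eq13_163 (all_cons eq13_164 (all_cons eq13_165 (all_cons eq13_166 (all_cons eq13_167 (all_cons eq13_168 (all_cons eq13_169 (all_cons eq13_170 (all_cons eq13_171 (all_cons eq13_172 (all_cons eq13_173 (all_cons eq13_174 (all_cons eq13_175 (all_cons eq13_176 (all_cons eq13_177 (all_cons eq13_178 (all_cons eq13_179 (all_cons eq13_180 (all_cons eq13_181 (all_cons eq13_182 (all_cons eq13_183 (all_cons eq13_184 (all_cons eq13_185 (all_cons eq13_186 (all_cons eq13_187 (all_cons eq13_188 (all_cons eq13_189 (all_cons eq13_190 (all_cons eq13_191 (all_cons eq13_192 (all_cons eq13_193 (all_cons eq13_194 (all_cons eq13_195 (all_cons eq13_196 (all_cons eq13_197 (all_cons eq13_198 (all_cons eq13_199 (all_cons eq13_200 (all_cons eq13_201 (all_cons eq13_202 (all_cons eq13_203 (all_cons eq13_204 (all_cons eq13_205 (all_cons eq13_206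 (all_cons eq13_207 (all_cons eq13_208 (all_cons eq13_209 (all_cons eq13_210 (all_cons eq13_211 (all_cons eq13_212 (all_cons eq13_213 (all_cons eq13_214 (all_cons eq13_215 (all_cons eq13_216 (all_cons eq13_217 (all_cons eq13_218 (all_cons eq13_219 (all_cons eq13_220 (all_cons eq13_221 (all_cons eq13_222 (all_cons eq13_223 (all_cons eq13_224 (all_cons eq13_225 (all_cons eq13_226 (all_cons eq13_227 (all_cons eq13_228 (all_cons eq13_229 (all_cons eq13_230 (all_cons eq13_231 (all_cons eq13_232 (all_cons eq13_233 (all_cons eq13_234 (all_cons eq13_235 (all_cons eq13_236 (all_cons eq13_237 (all_cons eq13_238 (all_cons eq13_239 (all_cons eq13_240 (all_cons eq13_241 (all_cons eq13_242 (all_cons eq13_243 (all_cons eq13_244 (all_cons eq13_245 (all_cons eq13_246 (all_cons eq13_247 (all_cons eq13_248 (all_cons eq13_249 (all_cons eq13_250 (all_cons eq13_251 (all_cons eq13_252 (all_cons eq13_253 (all_cons eq13_254 (all_cons eq13_255 (all_cons eq13_256 (all_cons eq13_257 (all_cons eq13_258 (all_cons eq13_259 (all_cons eq13_260 (all_cons eq13_261 (all_cons eq13_262 (all_cons eq13_263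 (all_cons eq13_264 (all_cons eq13_265 (all_cons eq13_266 (all_cons eq13_267 (all_cons eq13_268 (all_cons eq13_269 (all_cons eq13_270 (all_cons eq13_271 (all_cons eq13_272 (all_cons eq13_273 (all_cons eq13_274 (all_cons eq13_275 (all_cons eq13_276 (all_cons eq13_277 (all_cons eq13_278 (all_cons eq13_279 (all_cons eq13_280 (all_cons eq13_281 (all_cons eq13_282 (all_cons eq13_283 (all_cons eq13_284 (all_cons eq13_285 (all_cons eq13_286 (all_cons eq13_287 (all_cons eq13_288 (all_cons eq13_289 (all_cons eq13_290 (all_cons eq13_291 (all_cons eq13_292 (all_cons eq13_293 (all_cons eq13_294 (all_cons eq13_295 (all_cons eq13_296 (all_cons eq13_297 (all_cons eq13_298 (all_cons eq13_299 (all_nil))))))))))))))))))))))))))))))))))))))))))))))))))))))))))))))))))))))))))))))))))))))))))))))))))))))))))))))))))))))))))))))))))))))))))))))))))))))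

theorem eq13_grp2 : ∀ c ∈ ([(831900, 2773), (834673, 2773), (837446, 2773), (840219, 2773), (842992, 2773), (845765, 2773), (848538, 2773), (851311, 2773), (854084, 2773), (856857, 2773), (859630, 2773), (862403, 2773), (865176, 2773), (867949, 2773), (870722, 2773), (873495, 2773), (876268, 2773), (879041, 2773), (881814, 2773), (884587, 2773), (887360, 2773), (890133, 2773), (892906, 2773), (895679, 2773), (898452, 2773), (901225, 2773), (903998, 2773), (906771, 2773), (909544, 2773), (912317, 2773), (915090, 2773), (917863, 2773), (920636, 2773), (923409, 2773), (926182, 2773), (928955, 2773), (931728, 2773), (934501, 2773), (937274, 2773), (940047, 2773), (942820, 2773), (945593, 2773), (948366, 2773), (951139, 2773), (953912, 2773), (956685, 2773), (959458, 2773), (962231, 2773), (965004, 2773), (967777, 2773), (970550, 2773), (973323, 2773), (976096, 2773), (978869, 2773), (981642, 2773), (984415, 2773), (987188, 2773), (989961, 2773), (992734, 2773), (995507, 2773), (998280, 2773), (1001053, 2773), (1003826, 2773), (1006599, 2773), (1009372, 2773), (1012145,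 2773), (1014918, 2773), (1017691, 2773), (1020464, 2773), (1023237, 2773), (1026010, 2773), (1028783, 2773), (1031556, 2773), (1034329, 2773), (1037102, 2773), (1039875, 2773), (1042648, 2773), (1045421, 2773), (1048194, 2773), (1050967, 2773), (1053740, 2773), (1056513, 2773), (1059286, 2773), (1062059, 2773), (1064832, 2773), (1067605, 2773), (1070378, 2773), (1073151, 2773), (1075924, 2773), (1078697, 2773), (1081470, 2773), (1084243, 2773), (1087016, 2773), (1089789, 2773), (1092562, 2773), (1095335, 2773), (1098108, 2773), (1100881, 2773), (1103654, 2773), (1106427, 2773), (1109200, 2773), (1111973, 2773), (1114746, 2773), (1117519, 2773), (1120292, 2773), (1123065, 2773), (1125838, 2773), (1128611, 2773), (1131384, 2773), (1134157, 2773), (1136930, 2773), (1139703, 2773), (1142476, 2773), (1145249, 2773), (1148022, 2773), (1150795, 2773), (1153568, 2773), (1156341, 2773), (1159114, 2773), (1161887, 2773), (1164660, 2773), (1167433, 2773), (1170206, 2773), (1172979, 2773), (1175752, 2773), (1178525, 2773), (1181298, 2773), (1184071, 2773), (1186844, 2773), (1189617,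 2773), (1192390, 2773), (1195163, 2773), (1197936, 2773), (1200709, 2773), (1203482, 2773), (1206255, 2773), (1209028, 2773), (1211801, 2773), (1214574, 2773), (1217347, 2773), (1220120, 2773), (1222893, 2773), (1225666, 2773), (1228439, 2773), (1231212, 2773), (1233985, 2773), (1236758, 2773), (1239531, 2773), (1242304, 2773), (1245077, 2773)] : List (ℕ × ℕ)), allR c.1 c.2 (fun q => Nat.beq (f13 q) ((fun q => f11 (f12 (f11 (f12 (f12 (f11 (f11 (f11 (f11 (f11 (f12 (f11 (f11 (f12 (f12 (f12 (f11 (f12 (f9 (f11 (f8 (f11 (f11 (f12 (f9 (f11 (f9 (f9 (f10 (f12 (f9 (f10 (f10 (f11 (f10 (q)))))))))))))))))))))))))))))))))))) q)) = true :=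
  all_cons eq13_300 (all_cons eq13_301 (all_cons eq13_302 (all_cons eq13_303 (all_cons eq13_304 (all_cons eq13_305 (all_cons eq13_306 (all_cons eq13_307 (all_cons eq13_308 (all_cons eq13_309 (all_cons eq13_310 (all_cons eq13_311 (all_cons eq13_312 (all_cons eq13_313 (all_cons eq13_314 (all_cons eq13_315 (all_cons eq13_316 (all_cons eq13_317 (all_cons eq13_318 (all_cons eq13_319 (all_cons eq13_320 (all_cons eq13_321 (all_cons eq13_322 (all_cons eq13_323 (all_cons eq13_324 (all_cons eq13_325 (all_cons eq13_326 (all_cons eq13_327 (all_cons eq13_328 (all_cons eq13_329 (all_cons eq13_330 (all_cons eq13_331 (all_cons eq13_332 (all_cons eq13_333 (all_cons eq13_334 (all_cons eq13_335 (all_cons eq13_336 (all_cons eq13_337 (all_cons eq13_338 (all_cons eq13_339 (all_cons eq13_340 (all_cons eq13_341 (all_cons eq13_342 (all_cons eq13_343 (all_cons eq13_344 (all_cons eq13_345 (all_cons eq13_346 (all_cons eq13_347 (all_cons eq13_348 (all_cons eq13_349 (all_cons eq13_350 (all_cons eq13_351 (all_cons eq13_352 (all_cons eq13_353 (all_cons eq13_354 (all_cons eq13_355 (all_cons eq13_356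 (all_cons eq13_357 (all_cons eq13_358 (all_cons eq13_359 (all_cons eq13_360 (all_cons eq13_361 (all_cons eq13_362 (all_cons eq13_363 (all_cons eq13_364 (all_cons eq13_365 (all_cons eq13_366 (all_cons eq13_367 (all_cons eq13_368 (all_cons eq13_369 (all_cons eq13_370 (all_cons eq13_371 (all_cons eq13_372 (all_cons eq13_373 (all_cons eq13_374 (all_cons eq13_375 (all_cons eq13_376 (all_cons eq13_377 (all_cons eq13_378 (all_cons eq13_379 (all_cons eq13_380 (all_cons eq13_381 (all_cons eq13_382 (all_cons eq13_383 (all_cons eq13_384 (all_cons eq13_385 (all_cons eq13_386 (all_cons eq13_387 (all_cons eq13_388 (all_cons eq13_389 (all_cons eq13_390 (all_cons eq13_391 (all_cons eq13_392 (all_cons eq13_393 (all_cons eq13_394 (all_cons eq13_395 (all_cons eq13_396 (all_cons eq13_397 (all_cons eq13_398 (all_cons eq13_399 (all_cons eq13_400 (all_cons eq13_401 (all_cons eq13_402 (all_cons eq13_403 (all_cons eq13_404 (all_cons eq13_405 (all_cons eq13_406 (all_cons eq13_407 (all_cons eq13_408 (all_cons eq13_409 (all_cons eq13_410 (all_cons eq13_411 (all_cons eq13_412 (all_cons eq13_413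 (all_cons eq13_414 (all_cons eq13_415 (all_cons eq13_416 (all_cons eq13_417 (all_cons eq13_418 (all_cons eq13_419 (all_cons eq13_420 (all_cons eq13_421 (all_cons eq13_422 (all_cons eq13_423 (all_cons eq13_424 (all_cons eq13_425 (all_cons eq13_426 (all_cons eq13_427 (all_cons eq13_428 (all_cons eq13_429 (all_cons eq13_430 (all_cons eq13_431 (all_cons eq13_432 (all_cons eq13_433 (all_cons eq13_434 (all_cons eq13_435 (all_cons eq13_436 (all_cons eq13_437 (all_cons eq13_438 (all_cons eq13_439 (all_cons eq13_440 (all_cons eq13_441 (all_cons eq13_442 (all_cons eq13_443 (all_cons eq13_444 (all_cons eq13_445 (all_cons eq13_446 (all_cons eq13_447 (all_cons eq13_448 (all_cons eq13_449 (all_nil))))))))))))))))))))))))))))))))))))))))))))))))))))))))))))))))))))))))))))))))))))))))))))))))))))))))))))))))))))))))))))))))))))))))))))))))))))))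

theorem eq13_grp3 : ∀ c ∈ ([(1247850, 2773), (1250623, 2773), (1253396, 2773), (1256169, 2773), (1258942, 2773), (1261715, 2773), (1264488, 2773), (1267261, 2773), (1270034, 2773), (1272807, 2773), (1275580, 2773), (1278353, 2773), (1281126, 2773), (1283899, 2773), (1286672, 2773), (1289445, 2773), (1292218, 2773), (1294991, 2773), (1297764, 2773), (1300537, 2773), (1303310, 2773), (1306083, 2773), (1308856, 2773), (1311629, 2773), (1314402, 2773), (1317175, 2773), (1319948, 2773), (1322721, 2773), (1325494, 2773), (1328267, 2773), (1331040, 2773), (1333813, 2773), (1336586, 2773), (1339359, 2773), (1342132, 2773), (1344905, 2773), (1347678, 2773), (1350451, 2773), (1353224, 2773), (1355997, 2773), (1358770, 2773), (1361543, 2773), (1364316, 2773), (1367089, 2773), (1369862, 2773), (1372635, 2773), (1375408, 2773), (1378181, 2773), (1380954, 2773), (1383727, 2773), (1386500, 2773), (1389273, 2773), (1392046, 2773), (1394819, 2773), (1397592, 2773), (1400365, 2773), (1403138, 2773), (1405911, 2773), (1408684, 2773), (1411457, 2773), (1414230, 2773), (1417003, 2773),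 (1419776, 2773), (1422549, 2773), (1425322, 2773), (1428095, 2773), (1430868, 2773), (1433641, 2773), (1436414, 2773), (1439187, 2773), (1441960, 2773), (1444733, 2773), (1447506, 2773), (1450279, 2773), (1453052, 2773), (1455825, 2773), (1458598, 2773), (1461371, 2773), (1464144, 2773), (1466917, 2773), (1469690, 2773), (1472463, 2773), (1475236, 2773), (1478009, 2773), (1480782, 2773), (1483555, 2773), (1486328, 2773), (1489101, 2773), (1491874, 2773), (1494647, 2773), (1497420, 2773), (1500193, 2773), (1502966, 2773), (1505739, 2773), (1508512, 2773), (1511285, 2773), (1514058, 2773), (1516831, 2773), (1519604, 2773), (1522377, 2773), (1525150, 2773), (1527923, 2773), (1530696, 2773), (1533469, 2773), (1536242, 2758)] : List (ℕ × ℕ)), allR c.1 c.2 (fun q => Nat.beq (f13 q) ((fun q => f11 (f12 (f11 (f12 (f12 (f11 (f11 (f11 (f11 (f11 (f12 (f11 (f11 (f12 (f12 (f12 (f11 (f12 (f9 (f11 (f8 (f11 (f11 (f12 (f9 (f11 (f9 (f9 (f10 (f12 (f9 (f10 (f10 (f11 (f10 (q)))))))))))))))))))))))))))))))))))) q)) = true :=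
  all_cons eq13_450 (all_cons eq13_451 (all_cons eq13_452 (all_cons eq13_453 (all_cons eq13_454 (all_cons eq13_455 (all_cons eq13_456 (all_cons eq13_457 (all_cons eq13_458 (all_cons eq13_459 (all_cons eq13_460 (all_cons eq13_461 (all_cons eq13_462 (all_cons eq13_463 (all_cons eq13_464 (all_cons eq13_465 (all_cons eq13_466 (all_cons eq13_467 (all_cons eq13_468 (all_cons eq13_469 (all_cons eq13_470 (all_cons eq13_471 (all_cons eq13_472 (all_cons eq13_473 (all_cons eq13_474 (all_cons eq13_475 (all_cons eq13_476 (all_cons eq13_477 (all_cons eq13_478 (all_cons eq13_479 (all_cons eq13_480 (all_cons eq13_481 (all_cons eq13_482 (all_cons eq13_483 (all_cons eq13_484 (all_cons eq13_485 (all_cons eq13_486 (all_cons eq13_487 (all_cons eq13_488 (all_cons eq13_489 (all_cons eq13_490 (all_cons eq13_491 (all_cons eq13_492 (all_cons eq13_493 (all_cons eq13_494 (all_cons eq13_495 (all_cons eq13_496 (all_cons eq13_497 (all_cons eq13_498 (all_cons eq13_499 (all_cons eq13_500 (all_cons eq13_501 (all_cons eq13_502 (all_cons eq13_503 (all_cons eq13_504 (all_cons eq13_505 (all_cons eq13_506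 (all_cons eq13_507 (all_cons eq13_508 (all_cons eq13_509 (all_cons eq13_510 (all_cons eq13_511 (all_cons eq13_512 (all_cons eq13_513 (all_cons eq13_514 (all_cons eq13_515 (all_cons eq13_516 (all_cons eq13_517 (all_cons eq13_518 (all_cons eq13_519 (all_cons eq13_520 (all_cons eq13_521 (all_cons eq13_522 (all_cons eq13_523 (all_cons eq13_524 (all_cons eq13_525 (all_cons eq13_526 (all_cons eq13_527 (all_cons eq13_528 (all_cons eq13_529 (all_cons eq13_530 (all_cons eq13_531 (all_cons eq13_532 (all_cons eq13_533 (all_cons eq13_534 (all_cons eq13_535 (all_cons eq13_536 (all_cons eq13_537 (all_cons eq13_538 (all_cons eq13_539 (all_cons eq13_540 (all_cons eq13_541 (all_cons eq13_542 (all_cons eq13_543 (all_cons eq13_544 (all_cons eq13_545 (all_cons eq13_546 (all_cons eq13_547 (all_cons eq13_548 (all_cons eq13_549 (all_cons eq13_550 (all_cons eq13_551 (all_cons eq13_552 (all_cons eq13_553 (all_cons eq13_554 (all_nil)))))))))))))))))))))))))))))))))))))))))))))))))))))))))))))))))))))))))))))))))))))))))))))))))))))))))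

/-- the table agrees with the word -/
theorem eq13 : ∀ q < 1539000, f13 q = wordF W13 q :=
  eq_of_chunks (f := f13) (g := (fun q => f11 (f12 (f11 (f12 (f12 (f11 (f11 (f11 (f11 (f11 (f12 (f11 (f11 (f12 (f12 (f12 (f11 (f12 (f9 (f11 (f8 (f11 (f11 (f12 (f9 (f11 (f9 (f9 (f10 (f12 (f9 (f10 (f10 (f11 (f10 (q))))))))))))))))))))))))))))))))))))) ([(0, 2773), (2773, 2773), (5546, 2773), (8319, 2773), (11092, 2773), (13865, 2773), (16638, 2773), (19411, 2773), (22184, 2773), (24957, 2773), (27730, 2773), (30503, 2773), (33276, 2773), (36049, 2773), (38822, 2773), (41595, 2773), (44368, 2773), (47141, 2773), (49914, 2773), (52687, 2773), (55460, 2773), (58233, 2773), (61006, 2773), (63779, 2773), (66552, 2773), (69325, 2773), (72098, 2773), (74871, 2773), (77644, 2773), (80417, 2773), (83190, 2773), (85963, 2773), (88736, 2773), (91509, 2773), (94282, 2773), (97055, 2773), (99828, 2773), (102601, 2773), (105374, 2773), (108147, 2773), (110920, 2773), (113693, 2773), (116466, 2773), (119239, 2773), (122012, 2773), (124785, 2773), (127558, 2773), (130331, 2773), (133104, 2773),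 (135877, 2773), (138650, 2773), (141423, 2773), (144196, 2773), (146969, 2773), (149742, 2773), (152515, 2773), (155288, 2773), (158061, 2773), (160834, 2773), (163607, 2773), (166380, 2773), (169153, 2773), (171926, 2773), (174699, 2773), (177472, 2773), (180245, 2773), (183018, 2773), (185791, 2773), (188564, 2773), (191337, 2773), (194110, 2773), (196883, 2773), (199656, 2773), (202429, 2773), (205202, 2773), (207975, 2773), (210748, 2773), (213521, 2773), (216294, 2773), (219067, 2773), (221840, 2773), (224613, 2773), (227386, 2773), (230159, 2773), (232932, 2773), (235705, 2773), (238478, 2773), (241251, 2773), (244024, 2773), (246797, 2773), (249570, 2773), (252343, 2773), (255116, 2773), (257889, 2773), (260662, 2773), (263435, 2773), (266208, 2773), (268981, 2773), (271754, 2773), (274527, 2773), (277300, 2773), (280073, 2773), (282846, 2773), (285619, 2773), (288392, 2773), (291165, 2773), (293938, 2773), (296711, 2773), (299484, 2773), (302257, 2773), (305030, 2773), (307803, 2773), (310576, 2773), (313349, 2773), (316122, 2773), (318895, 2773), (321668, 2773),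 (324441, 2773), (327214, 2773), (329987, 2773), (332760, 2773), (335533, 2773), (338306, 2773), (341079, 2773), (343852, 2773), (346625, 2773), (349398, 2773), (352171, 2773), (354944, 2773), (357717, 2773), (360490, 2773), (363263, 2773), (366036, 2773), (368809, 2773), (371582, 2773), (374355, 2773), (377128, 2773), (379901, 2773), (382674, 2773), (385447, 2773), (388220, 2773), (390993, 2773), (393766, 2773), (396539, 2773), (399312, 2773), (402085, 2773), (404858, 2773), (407631, 2773), (410404, 2773), (413177, 2773)] ++ [(415950, 2773), (418723, 2773), (421496, 2773), (424269, 2773), (427042, 2773), (429815, 2773), (432588, 2773), (435361, 2773), (438134, 2773), (440907, 2773), (443680, 2773), (446453, 2773), (449226, 2773), (451999, 2773), (454772, 2773), (457545, 2773), (460318, 2773), (463091, 2773), (465864, 2773), (468637, 2773), (471410, 2773), (474183, 2773), (476956, 2773), (479729, 2773), (482502, 2773), (485275, 2773), (488048, 2773), (490821, 2773), (493594, 2773), (496367, 2773), (499140, 2773), (501913, 2773), (504686, 2773), (507459, 2773), (510232,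 2773), (513005, 2773), (515778, 2773), (518551, 2773), (521324, 2773), (524097, 2773), (526870, 2773), (529643, 2773), (532416, 2773), (535189, 2773), (537962, 2773), (540735, 2773), (543508, 2773), (546281, 2773), (549054, 2773), (551827, 2773), (554600, 2773), (557373, 2773), (560146, 2773), (562919, 2773), (565692, 2773), (568465, 2773), (571238, 2773), (574011, 2773), (576784, 2773), (579557, 2773), (582330, 2773), (585103, 2773), (587876, 2773), (590649, 2773), (593422, 2773), (596195, 2773), (598968, 2773), (601741, 2773), (604514, 2773), (607287, 2773), (610060, 2773), (612833, 2773), (615606, 2773), (618379, 2773), (621152, 2773), (623925, 2773), (626698, 2773), (629471, 2773), (632244, 2773), (635017, 2773), (637790, 2773), (640563, 2773), (643336, 2773), (646109, 2773), (648882, 2773), (651655, 2773), (654428, 2773), (657201, 2773), (659974, 2773), (662747, 2773), (665520, 2773), (668293, 2773), (671066, 2773), (673839, 2773), (676612, 2773), (679385, 2773), (682158, 2773), (684931, 2773), (687704, 2773), (690477, 2773), (693250, 2773), (696023, 2773), (698796,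 2773), (701569, 2773), (704342, 2773), (707115, 2773), (709888, 2773), (712661, 2773), (715434, 2773), (718207, 2773), (720980, 2773), (723753, 2773), (726526, 2773), (729299, 2773), (732072, 2773), (734845, 2773), (737618, 2773), (740391, 2773), (743164, 2773), (745937, 2773), (748710, 2773), (751483, 2773), (754256, 2773), (757029, 2773), (759802, 2773), (762575, 2773), (765348, 2773), (768121, 2773), (770894, 2773), (773667, 2773), (776440, 2773), (779213, 2773), (781986, 2773), (784759, 2773), (787532, 2773), (790305, 2773), (793078, 2773), (795851, 2773), (798624, 2773), (801397, 2773), (804170, 2773), (806943, 2773), (809716, 2773), (812489, 2773), (815262, 2773), (818035, 2773), (820808, 2773), (823581, 2773), (826354, 2773), (829127, 2773)] ++ [(831900, 2773), (834673, 2773), (837446, 2773), (840219, 2773), (842992, 2773), (845765, 2773), (848538, 2773), (851311, 2773), (854084, 2773), (856857, 2773), (859630, 2773), (862403, 2773), (865176, 2773), (867949, 2773), (870722, 2773), (873495, 2773), (876268, 2773), (879041, 2773), (881814, 2773), (884587, 2773),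 (887360, 2773), (890133, 2773), (892906, 2773), (895679, 2773), (898452, 2773), (901225, 2773), (903998, 2773), (906771, 2773), (909544, 2773), (912317, 2773), (915090, 2773), (917863, 2773), (920636, 2773), (923409, 2773), (926182, 2773), (928955, 2773), (931728, 2773), (934501, 2773), (937274, 2773), (940047, 2773), (942820, 2773), (945593, 2773), (948366, 2773), (951139, 2773), (953912, 2773), (956685, 2773), (959458, 2773), (962231, 2773), (965004, 2773), (967777, 2773), (970550, 2773), (973323, 2773), (976096, 2773), (978869, 2773), (981642, 2773), (984415, 2773), (987188, 2773), (989961, 2773), (992734, 2773), (995507, 2773), (998280, 2773), (1001053, 2773), (1003826, 2773), (1006599, 2773), (1009372, 2773), (1012145, 2773), (1014918, 2773), (1017691, 2773), (1020464, 2773), (1023237, 2773), (1026010, 2773), (1028783, 2773), (1031556, 2773), (1034329, 2773), (1037102, 2773), (1039875, 2773), (1042648, 2773), (1045421, 2773), (1048194, 2773), (1050967, 2773), (1053740, 2773), (1056513, 2773), (1059286, 2773), (1062059, 2773), (1064832, 2773), (1067605, 2773), (1070378,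 2773), (1073151, 2773), (1075924, 2773), (1078697, 2773), (1081470, 2773), (1084243, 2773), (1087016, 2773), (1089789, 2773), (1092562, 2773), (1095335, 2773), (1098108, 2773), (1100881, 2773), (1103654, 2773), (1106427, 2773), (1109200, 2773), (1111973, 2773), (1114746, 2773), (1117519, 2773), (1120292, 2773), (1123065, 2773), (1125838, 2773), (1128611, 2773), (1131384, 2773), (1134157, 2773), (1136930, 2773), (1139703, 2773), (1142476, 2773), (1145249, 2773), (1148022, 2773), (1150795, 2773), (1153568, 2773), (1156341, 2773), (1159114, 2773), (1161887, 2773), (1164660, 2773), (1167433, 2773), (1170206, 2773), (1172979, 2773), (1175752, 2773), (1178525, 2773), (1181298, 2773), (1184071, 2773), (1186844, 2773), (1189617, 2773), (1192390, 2773), (1195163, 2773), (1197936, 2773), (1200709, 2773), (1203482, 2773), (1206255, 2773), (1209028, 2773), (1211801, 2773), (1214574, 2773), (1217347, 2773), (1220120, 2773), (1222893, 2773), (1225666, 2773), (1228439, 2773), (1231212, 2773), (1233985, 2773), (1236758, 2773), (1239531, 2773), (1242304, 2773), (1245077, 2773)] ++ [(1247850,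 2773), (1250623, 2773), (1253396, 2773), (1256169, 2773), (1258942, 2773), (1261715, 2773), (1264488, 2773), (1267261, 2773), (1270034, 2773), (1272807, 2773), (1275580, 2773), (1278353, 2773), (1281126, 2773), (1283899, 2773), (1286672, 2773), (1289445, 2773), (1292218, 2773), (1294991, 2773), (1297764, 2773), (1300537, 2773), (1303310, 2773), (1306083, 2773), (1308856, 2773), (1311629, 2773), (1314402, 2773), (1317175, 2773), (1319948, 2773), (1322721, 2773), (1325494, 2773), (1328267, 2773), (1331040, 2773), (1333813, 2773), (1336586, 2773), (1339359, 2773), (1342132, 2773), (1344905, 2773), (1347678, 2773), (1350451, 2773), (1353224, 2773), (1355997, 2773), (1358770, 2773), (1361543, 2773), (1364316, 2773), (1367089, 2773), (1369862, 2773), (1372635, 2773), (1375408, 2773), (1378181, 2773), (1380954, 2773), (1383727, 2773), (1386500, 2773), (1389273, 2773), (1392046, 2773), (1394819, 2773), (1397592, 2773), (1400365, 2773), (1403138, 2773), (1405911, 2773), (1408684, 2773), (1411457, 2773), (1414230, 2773), (1417003, 2773), (1419776, 2773), (1422549, 2773), (1425322,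 2773), (1428095, 2773), (1430868, 2773), (1433641, 2773), (1436414, 2773), (1439187, 2773), (1441960, 2773), (1444733, 2773), (1447506, 2773), (1450279, 2773), (1453052, 2773), (1455825, 2773), (1458598, 2773), (1461371, 2773), (1464144, 2773), (1466917, 2773), (1469690, 2773), (1472463, 2773), (1475236, 2773), (1478009, 2773), (1480782, 2773), (1483555, 2773), (1486328, 2773), (1489101, 2773), (1491874, 2773), (1494647, 2773), (1497420, 2773), (1500193, 2773), (1502966, 2773), (1505739, 2773), (1508512, 2773), (1511285, 2773), (1514058, 2773), (1516831, 2773), (1519604, 2773), (1522377, 2773), (1525150, 2773), (1527923, 2773), (1530696, 2773), (1533469, 2773), (1536242, 2758)]) (by decide +kernel) (all_append (all_append (all_append (eq13_grp0) eq13_grp1) eq13_grp2) eq13_grp3)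

end Cfsg.Agent.HNOut
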