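import Cfsg.Agent.Lib.Lead.HNOut.C14x0
import Cfsg.Agent.Lib.Lead.HNOut.C14x1
import Cfsg.Agent.Lib.Lead.HNOut.C14x2
import Cfsg.Agent.Lib.Lead.HNOut.C14x3
import Cfsg.Agent.Lib.Lead.HNOut.C14x4
import Cfsg.Agent.Lib.Lead.HNOut.C14x5
import Cfsg.Agent.Lib.Lead.HNOut.C14x6
import Cfsg.Agent.Lib.Lead.HNOut.C14x7
import Cfsg.Agent.Lib.Lead.HNOut.C14x8
import Cfsg.Agent.Lib.Lead.HNOut.C14x9
import Cfsg.Agent.Lib.Lead.HNOut.C14x10
import Cfsg.Agent.Lib.Lead.HNOut.C14x11
import Cfsg.Agent.Lib.Lead.HNOut.C14x12
import Cfsg.Agent.Lib.Lead.HNOut.C14x13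
import Cfsg.Agent.Lib.Lead.HNOut.C14x14
import Cfsg.Agent.Lib.Lead.HNOut.C14x15
import Cfsg.Agent.Lib.Lead.HNOut.C14x16
import Cfsg.Agent.Lib.Lead.HNOut.C14x17
import Cfsg.Agent.Lib.Lead.HNOut.C14x18
import Cfsg.Agent.Lib.Lead.HNOut.C14x19

/-! # The outer automorphism group of the Harada–Norton group: the element number 14 (generated) -/

set_option autoImplicit false
set_option maxRecDepth 100000

namespace Cfsg.Agent.HNOut

open Cfsg.Agent.PF Cfsg.Agent.Lib.Helper6 Cfsg.Agent.Lib.Helper6.TC Cfsg.Agent.Lib.Helper6.NatArr
open Cfsg.Agent.PL (Acts evalF)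

theorem eq14_grp0 : ∀ c ∈ ([(0, 3220), (3220, 3220), (6440, 3220), (9660, 3220), (12880, 3220), (16100, 3220), (19320, 3220), (22540, 3220), (25760, 3220), (28980, 3220), (32200, 3220), (35420, 3220), (38640, 3220), (41860, 3220), (45080, 3220), (48300, 3220), (51520, 3220), (54740, 3220), (57960, 3220), (61180, 3220), (64400, 3220), (67620, 3220), (70840, 3220), (74060, 3220), (77280, 3220), (80500, 3220), (83720, 3220), (86940, 3220), (90160, 3220), (93380, 3220), (96600, 3220), (99820, 3220), (103040, 3220), (106260, 3220), (109480, 3220), (112700, 3220), (115920, 3220), (119140, 3220), (122360, 3220), (125580, 3220), (128800, 3220), (132020, 3220), (135240, 3220), (138460, 3220), (141680, 3220), (144900, 3220), (148120, 3220), (151340, 3220), (154560, 3220), (157780, 3220), (161000, 3220), (164220, 3220), (167440, 3220), (170660, 3220), (173880, 3220), (177100, 3220), (180320, 3220), (183540, 3220), (186760, 3220), (189980, 3220), (193200, 3220), (196420, 3220), (199640, 3220), (202860, 3220), (206080, 3220), (209300, 3220), (212520, 3220), (215740, 3220), (218960,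 3220), (222180, 3220), (225400, 3220), (228620, 3220), (231840, 3220), (235060, 3220), (238280, 3220), (241500, 3220), (244720, 3220), (247940, 3220), (251160, 3220), (254380, 3220), (257600, 3220), (260820, 3220), (264040, 3220), (267260, 3220), (270480, 3220), (273700, 3220), (276920, 3220), (280140, 3220), (283360, 3220), (286580, 3220), (289800, 3220), (293020, 3220), (296240, 3220), (299460, 3220), (302680, 3220), (305900, 3220), (309120, 3220), (312340, 3220), (315560, 3220), (318780, 3220), (322000, 3220), (325220, 3220), (328440, 3220), (331660, 3220), (334880, 3220), (338100, 3220), (341320, 3220), (344540, 3220), (347760, 3220), (350980, 3220), (354200, 3220), (357420, 3220), (360640, 3220), (363860, 3220), (367080, 3220), (370300, 3220), (373520, 3220), (376740, 3220), (379960, 3220), (383180, 3220), (386400, 3220), (389620, 3220), (392840, 3220), (396060, 3220), (399280, 3220), (402500, 3220), (405720, 3220), (408940, 3220), (412160, 3220), (415380, 3220), (418600, 3220), (421820, 3220), (425040, 3220), (428260, 3220), (431480, 3220), (434700, 3220), (437920,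 3220), (441140, 3220), (444360, 3220), (447580, 3220), (450800, 3220), (454020, 3220), (457240, 3220), (460460, 3220), (463680, 3220), (466900, 3220), (470120, 3220), (473340, 3220), (476560, 3220), (479780, 3220)] : List (ℕ × ℕ)), allR c.1 c.2 (fun q => Nat.beq (f14 q) ((fun q => f11 (f11 (f13 (f12 (f12 (f11 (f13 (f12 (f13 (f11 (f13 (f13 (f13 (f8 (f9 (f10 (f8 (f10 (f9 (f8 (f12 (f9 (f8 (f10 (f11 (f10 (f11 (f9 (f10 (f8 (q))))))))))))))))))))))))))))))) q)) = true :=
  all_cons eq14_0 (all_cons eq14_1 (all_cons eq14_2 (all_cons eq14_3 (all_cons eq14_4 (all_cons eq14_5 (all_cons eq14_6 (all_cons eq14_7 (all_cons eq14_8 (all_cons eq14_9 (all_cons eq14_10 (all_cons eq14_11 (all_cons eq14_12 (all_cons eq14_13 (all_cons eq14_14 (all_cons eq14_15 (all_cons eq14_16 (all_cons eq14_17 (all_cons eq14_18 (all_cons eq14_19 (all_cons eq14_20 (all_cons eq14_21 (all_cons eq14_22 (all_cons eq14_23 (all_cons eq14_24 (all_cons eq14_25 (all_cons eq14_26 (all_cons eq14_27 (all_cons eq14_28 (all_cons eq14_29 (all_cons eq14_30 (all_cons eq14_31 (all_cons eq14_32 (all_cons eq14_33 (all_cons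 eq14_34 (all_cons eq14_35 (all_cons eq14_36 (all_cons eq14_37 (all_cons eq14_38 (all_cons eq14_39 (all_cons eq14_40 (all_cons eq14_41 (all_cons eq14_42 (all_cons eq14_43 (all_cons eq14_44 (all_cons eq14_45 (all_cons eq14_46 (all_cons eq14_47 (all_cons eq14_48 (all_cons eq14_49 (all_cons eq14_50 (all_cons eq14_51 (all_cons eq14_52 (all_cons eq14_53 (all_cons eq14_54 (all_cons eq14_55 (all_cons eq14_56 (all_cons eq14_57 (all_cons eq14_58 (all_cons eq14_59 (all_cons eq14_60 (all_cons eq14_61 (all_cons eq14_62 (all_cons eq14_63 (all_cons eq14_64 (all_cons eq14_65 (all_cons eq14_66 (all_cons eq14_67 (all_cons eq14_68 (all_cons eq14_69 (all_cons eq14_70 (all_cons eq14_71 (all_cons eq14_72 (all_cons eq14_73 (all_cons eq14_74 (all_cons eq14_75 (all_cons eq14_76 (all_cons eq14_77 (all_cons eq14_78 (all_cons eq14_79 (all_cons eq14_80 (all_cons eq14_81 (all_cons eq14_82 (all_cons eq14_83 (all_cons eq14_84 (all_cons eq14_85 (all_cons eq14_86 (all_cons eq14_87 (all_cons eq14_88 (all_cons eq14_89 (all_cons eq14_90 (all_cons eq14_91 (all_cons eq14_92 (all_cons eq14_93 (all_cons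 eq14_94 (all_cons eq14_95 (all_cons eq14_96 (all_cons eq14_97 (all_cons eq14_98 (all_cons eq14_99 (all_cons eq14_100 (all_cons eq14_101 (all_cons eq14_102 (all_cons eq14_103 (all_cons eq14_104 (all_cons eq14_105 (all_cons eq14_106 (all_cons eq14_107 (all_cons eq14_108 (all_cons eq14_109 (all_cons eq14_110 (all_cons eq14_111 (all_cons eq14_112 (all_cons eq14_113 (all_cons eq14_114 (all_cons eq14_115 (all_cons eq14_116 (all_cons eq14_117 (all_cons eq14_118 (all_cons eq14_119 (all_cons eq14_120 (all_cons eq14_121 (all_cons eq14_122 (all_cons eq14_123 (all_cons eq14_124 (all_cons eq14_125 (all_cons eq14_126 (all_cons eq14_127 (all_cons eq14_128 (all_cons eq14_129 (all_cons eq14_130 (all_cons eq14_131 (all_cons eq14_132 (all_cons eq14_133 (all_cons eq14_134 (all_cons eq14_135 (all_cons eq14_136 (all_cons eq14_137 (all_cons eq14_138 (all_cons eq14_139 (all_cons eq14_140 (all_cons eq14_141 (all_cons eq14_142 (all_cons eq14_143 (all_cons eq14_144 (all_cons eq14_145 (all_cons eq14_146 (all_cons eq14_147 (all_cons eq14_148 (all_cons eq14_149 (all_nil))))))))))))))))))))))))))))))))))))))))))))))))))))))))))))))))))))))))))))))))))))))))))))))))))))))))))))))))))))))))))))))))))))))))))))))))))))))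

theorem eq14_grp1 : ∀ c ∈ ([(483000, 3220), (486220, 3220), (489440, 3220), (492660, 3220), (495880, 3220), (499100, 3220), (502320, 3220), (505540, 3220), (508760, 3220), (511980, 3220), (515200, 3220), (518420, 3220), (521640, 3220), (524860, 3220), (528080, 3220), (531300, 3220), (534520, 3220), (537740, 3220), (540960, 3220), (544180, 3220), (547400, 3220), (550620, 3220), (553840, 3220), (557060, 3220), (560280, 3220), (563500, 3220), (566720, 3220), (569940, 3220), (573160, 3220), (576380, 3220), (579600, 3220), (582820, 3220), (586040, 3220), (589260, 3220), (592480, 3220), (595700, 3220), (598920, 3220), (602140, 3220), (605360, 3220), (608580, 3220), (611800, 3220), (615020, 3220), (618240, 3220), (621460, 3220), (624680, 3220), (627900, 3220), (631120, 3220), (634340, 3220), (637560, 3220), (640780, 3220), (644000, 3220), (647220, 3220), (650440, 3220), (653660, 3220), (656880, 3220), (660100, 3220), (663320, 3220), (666540, 3220), (669760, 3220), (672980, 3220), (676200, 3220), (679420, 3220), (682640, 3220), (685860, 3220), (689080, 3220), (692300, 3220),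 (695520, 3220), (698740, 3220), (701960, 3220), (705180, 3220), (708400, 3220), (711620, 3220), (714840, 3220), (718060, 3220), (721280, 3220), (724500, 3220), (727720, 3220), (730940, 3220), (734160, 3220), (737380, 3220), (740600, 3220), (743820, 3220), (747040, 3220), (750260, 3220), (753480, 3220), (756700, 3220), (759920, 3220), (763140, 3220), (766360, 3220), (769580, 3220), (772800, 3220), (776020, 3220), (779240, 3220), (782460, 3220), (785680, 3220), (788900, 3220), (792120, 3220), (795340, 3220), (798560, 3220), (801780, 3220), (805000, 3220), (808220, 3220), (811440, 3220), (814660, 3220), (817880, 3220), (821100, 3220), (824320, 3220), (827540, 3220), (830760, 3220), (833980, 3220), (837200, 3220), (840420, 3220), (843640, 3220), (846860, 3220), (850080, 3220), (853300, 3220), (856520, 3220), (859740, 3220), (862960, 3220), (866180, 3220), (869400, 3220), (872620, 3220), (875840, 3220), (879060, 3220), (882280, 3220), (885500, 3220), (888720, 3220), (891940, 3220), (895160, 3220), (898380, 3220), (901600, 3220), (904820, 3220), (908040, 3220), (911260,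 3220), (914480, 3220), (917700, 3220), (920920, 3220), (924140, 3220), (927360, 3220), (930580, 3220), (933800, 3220), (937020, 3220), (940240, 3220), (943460, 3220), (946680, 3220), (949900, 3220), (953120, 3220), (956340, 3220), (959560, 3220), (962780, 3220)] : List (ℕ × ℕ)), allR c.1 c.2 (fun q => Nat.beq (f14 q) ((fun q => f11 (f11 (f13 (f12 (f12 (f11 (f13 (f12 (f13 (f11 (f13 (f13 (f13 (f8 (f9 (f10 (f8 (f10 (f9 (f8 (f12 (f9 (f8 (f10 (f11 (f10 (f11 (f9 (f10 (f8 (q))))))))))))))))))))))))))))))) q)) = true :=
  all_cons eq14_150 (all_cons eq14_151 (all_cons eq14_152 (all_cons eq14_153 (all_cons eq14_154 (all_cons eq14_155 (all_cons eq14_156 (all_cons eq14_157 (all_cons eq14_158 (all_cons eq14_159 (all_cons eq14_160 (all_cons eq14_161 (all_cons eq14_162 (all_cons eq14_163 (all_cons eq14_164 (all_cons eq14_165 (all_cons eq14_166 (all_cons eq14_167 (all_cons eq14_168 (all_cons eq14_169 (all_cons eq14_170 (all_cons eq14_171 (all_cons eq14_172 (all_cons eq14_173 (all_cons eq14_174 (all_cons eq14_175 (all_cons eq14_176 (all_cons eq14_177 (all_cons eq14_178 (all_cons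 eq14_179 (all_cons eq14_180 (all_cons eq14_181 (all_cons eq14_182 (all_cons eq14_183 (all_cons eq14_184 (all_cons eq14_185 (all_cons eq14_186 (all_cons eq14_187 (all_cons eq14_188 (all_cons eq14_189 (all_cons eq14_190 (all_cons eq14_191 (all_cons eq14_192 (all_cons eq14_193 (all_cons eq14_194 (all_cons eq14_195 (all_cons eq14_196 (all_cons eq14_197 (all_cons eq14_198 (all_cons eq14_199 (all_cons eq14_200 (all_cons eq14_201 (all_cons eq14_202 (all_cons eq14_203 (all_cons eq14_204 (all_cons eq14_205 (all_cons eq14_206 (all_cons eq14_207 (all_cons eq14_208 (all_cons eq14_209 (all_cons eq14_210 (all_cons eq14_211 (all_cons eq14_212 (all_cons eq14_213 (all_cons eq14_214 (all_cons eq14_215 (all_cons eq14_216 (all_cons eq14_217 (all_cons eq14_218 (all_cons eq14_219 (all_cons eq14_220 (all_cons eq14_221 (all_cons eq14_222 (all_cons eq14_223 (all_cons eq14_224 (all_cons eq14_225 (all_cons eq14_226 (all_cons eq14_227 (all_cons eq14_228 (all_cons eq14_229 (all_cons eq14_230 (all_cons eq14_231 (all_cons eq14_232 (all_cons eq14_233 (all_cons eq14_234 (all_cons eq14_235 (all_cons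 eq14_236 (all_cons eq14_237 (all_cons eq14_238 (all_cons eq14_239 (all_cons eq14_240 (all_cons eq14_241 (all_cons eq14_242 (all_cons eq14_243 (all_cons eq14_244 (all_cons eq14_245 (all_cons eq14_246 (all_cons eq14_247 (all_cons eq14_248 (all_cons eq14_249 (all_cons eq14_250 (all_cons eq14_251 (all_cons eq14_252 (all_cons eq14_253 (all_cons eq14_254 (all_cons eq14_255 (all_cons eq14_256 (all_cons eq14_257 (all_cons eq14_258 (all_cons eq14_259 (all_cons eq14_260 (all_cons eq14_261 (all_cons eq14_262 (all_cons eq14_263 (all_cons eq14_264 (all_cons eq14_265 (all_cons eq14_266 (all_cons eq14_267 (all_cons eq14_268 (all_cons eq14_269 (all_cons eq14_270 (all_cons eq14_271 (all_cons eq14_272 (all_cons eq14_273 (all_cons eq14_274 (all_cons eq14_275 (all_cons eq14_276 (all_cons eq14_277 (all_cons eq14_278 (all_cons eq14_279 (all_cons eq14_280 (all_cons eq14_281 (all_cons eq14_282 (all_cons eq14_283 (all_cons eq14_284 (all_cons eq14_285 (all_cons eq14_286 (all_cons eq14_287 (all_cons eq14_288 (all_cons eq14_289 (all_cons eq14_290 (all_cons eq14_291 (all_cons eq14_292 (all_cons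 eq14_293 (all_cons eq14_294 (all_cons eq14_295 (all_cons eq14_296 (all_cons eq14_297 (all_cons eq14_298 (all_cons eq14_299 (all_nil))))))))))))))))))))))))))))))))))))))))))))))))))))))))))))))))))))))))))))))))))))))))))))))))))))))))))))))))))))))))))))))))))))))))))))))))))))))

theorem eq14_grp2 : ∀ c ∈ ([(966000, 3220), (969220, 3220), (972440, 3220), (975660, 3220), (978880, 3220), (982100, 3220), (985320, 3220), (988540, 3220), (991760, 3220), (994980, 3220), (998200, 3220), (1001420, 3220), (1004640, 3220), (1007860, 3220), (1011080, 3220), (1014300, 3220), (1017520, 3220), (1020740, 3220), (1023960, 3220), (1027180, 3220), (1030400, 3220), (1033620, 3220), (1036840, 3220), (1040060, 3220), (1043280, 3220), (1046500, 3220), (1049720, 3220), (1052940, 3220), (1056160, 3220), (1059380, 3220), (1062600, 3220), (1065820, 3220), (1069040, 3220), (1072260, 3220), (1075480, 3220), (1078700, 3220), (1081920, 3220), (1085140, 3220), (1088360, 3220), (1091580, 3220), (1094800, 3220), (1098020, 3220), (1101240, 3220), (1104460, 3220), (1107680, 3220), (1110900, 3220),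 (1114120, 3220), (1117340, 3220), (1120560, 3220), (1123780, 3220), (1127000, 3220), (1130220, 3220), (1133440, 3220), (1136660, 3220), (1139880, 3220), (1143100, 3220), (1146320, 3220), (1149540, 3220), (1152760, 3220), (1155980, 3220), (1159200, 3220), (1162420, 3220), (1165640, 3220), (1168860, 3220), (1172080, 3220), (1175300, 3220), (1178520, 3220), (1181740, 3220), (1184960, 3220), (1188180, 3220), (1191400, 3220), (1194620, 3220), (1197840, 3220), (1201060, 3220), (1204280, 3220), (1207500, 3220), (1210720, 3220), (1213940, 3220), (1217160, 3220), (1220380, 3220), (1223600, 3220), (1226820, 3220), (1230040, 3220), (1233260, 3220), (1236480, 3220), (1239700, 3220), (1242920, 3220), (1246140, 3220), (1249360, 3220), (1252580, 3220), (1255800, 3220), (1259020, 3220), (1262240, 3220), (1265460, 3220), (1268680, 3220), (1271900, 3220), (1275120, 3220), (1278340, 3220), (1281560, 3220), (1284780, 3220), (1288000, 3220), (1291220, 3220), (1294440, 3220), (1297660, 3220), (1300880, 3220), (1304100, 3220), (1307320, 3220), (1310540, 3220), (1313760, 3220), (1316980,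 3220), (1320200, 3220), (1323420, 3220), (1326640, 3220), (1329860, 3220), (1333080, 3220), (1336300, 3220), (1339520, 3220), (1342740, 3220), (1345960, 3220), (1349180, 3220), (1352400, 3220), (1355620, 3220), (1358840, 3220), (1362060, 3220), (1365280, 3220), (1368500, 3220), (1371720, 3220), (1374940, 3220), (1378160, 3220), (1381380, 3220), (1384600, 3220), (1387820, 3220), (1391040, 3220), (1394260, 3220), (1397480, 3220), (1400700, 3220), (1403920, 3220), (1407140, 3220), (1410360, 3220), (1413580, 3220), (1416800, 3220), (1420020, 3220), (1423240, 3220), (1426460, 3220), (1429680, 3220), (1432900, 3220), (1436120, 3220), (1439340, 3220), (1442560, 3220), (1445780, 3220)] : List (ℕ × ℕ)), allR c.1 c.2 (fun q => Nat.beq (f14 q) ((fun q => f11 (f11 (f13 (f12 (f12 (f11 (f13 (f12 (f13 (f11 (f13 (f13 (f13 (f8 (f9 (f10 (f8 (f10 (f9 (f8 (f12 (f9 (f8 (f10 (f11 (f10 (f11 (f9 (f10 (f8 (q))))))))))))))))))))))))))))))) q)) = true :=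
  all_cons eq14_300 (all_cons eq14_301 (all_cons eq14_302 (all_cons eq14_303 (all_cons eq14_304 (all_cons eq14_305 (all_cons eq14_306 (all_cons eq14_307 (all_cons eq14_308 (all_cons eq14_309 (all_cons eq14_310 (all_cons eq14_311 (all_cons eq14_312 (all_cons eq14_313 (all_cons eq14_314 (all_cons eq14_315 (all_cons eq14_316 (all_cons eq14_317 (all_cons eq14_318 (all_cons eq14_319 (all_cons eq14_320 (all_cons eq14_321 (all_cons eq14_322 (all_cons eq14_323 (all_cons eq14_324 (all_cons eq14_325 (all_cons eq14_326 (all_cons eq14_327 (all_cons eq14_328 (all_cons eq14_329 (all_cons eq14_330 (all_cons eq14_331 (all_cons eq14_332 (all_cons eq14_333 (all_cons eq14_334 (all_cons eq14_335 (all_cons eq14_336 (all_cons eq14_337 (all_cons eq14_338 (all_cons eq14_339 (all_cons eq14_340 (all_cons eq14_341 (all_cons eq14_342 (all_cons eq14_343 (all_cons eq14_344 (all_cons eq14_345 (all_cons eq14_346 (all_cons eq14_347 (all_cons eq14_348 (all_cons eq14_349 (all_cons eq14_350 (all_cons eq14_351 (all_cons eq14_352 (all_cons eq14_353 (all_cons eq14_354 (all_cons eq14_355 (all_cons eq14_356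 (all_cons eq14_357 (all_cons eq14_358 (all_cons eq14_359 (all_cons eq14_360 (all_cons eq14_361 (all_cons eq14_362 (all_cons eq14_363 (all_cons eq14_364 (all_cons eq14_365 (all_cons eq14_366 (all_cons eq14_367 (all_cons eq14_368 (all_cons eq14_369 (all_cons eq14_370 (all_cons eq14_371 (all_cons eq14_372 (all_cons eq14_373 (all_cons eq14_374 (all_cons eq14_375 (all_cons eq14_376 (all_cons eq14_377 (all_cons eq14_378 (all_cons eq14_379 (all_cons eq14_380 (all_cons eq14_381 (all_cons eq14_382 (all_cons eq14_383 (all_cons eq14_384 (all_cons eq14_385 (all_cons eq14_386 (all_cons eq14_387 (all_cons eq14_388 (all_cons eq14_389 (all_cons eq14_390 (all_cons eq14_391 (all_cons eq14_392 (all_cons eq14_393 (all_cons eq14_394 (all_cons eq14_395 (all_cons eq14_396 (all_cons eq14_397 (all_cons eq14_398 (all_cons eq14_399 (all_cons eq14_400 (all_cons eq14_401 (all_cons eq14_402 (all_cons eq14_403 (all_cons eq14_404 (all_cons eq14_405 (all_cons eq14_406 (all_cons eq14_407 (all_cons eq14_408 (all_cons eq14_409 (all_cons eq14_410 (all_cons eq14_411 (all_cons eq14_412 (all_cons eq14_413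 (all_cons eq14_414 (all_cons eq14_415 (all_cons eq14_416 (all_cons eq14_417 (all_cons eq14_418 (all_cons eq14_419 (all_cons eq14_420 (all_cons eq14_421 (all_cons eq14_422 (all_cons eq14_423 (all_cons eq14_424 (all_cons eq14_425 (all_cons eq14_426 (all_cons eq14_427 (all_cons eq14_428 (all_cons eq14_429 (all_cons eq14_430 (all_cons eq14_431 (all_cons eq14_432 (all_cons eq14_433 (all_cons eq14_434 (all_cons eq14_435 (all_cons eq14_436 (all_cons eq14_437 (all_cons eq14_438 (all_cons eq14_439 (all_cons eq14_440 (all_cons eq14_441 (all_cons eq14_442 (all_cons eq14_443 (all_cons eq14_444 (all_cons eq14_445 (all_cons eq14_446 (all_cons eq14_447 (all_cons eq14_448 (all_cons eq14_449 (all_nil))))))))))))))))))))))))))))))))))))))))))))))))))))))))))))))))))))))))))))))))))))))))))))))))))))))))))))))))))))))))))))))))))))))))))))))))))))))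

theorem eq14_grp3 : ∀ c ∈ ([(1449000, 3220), (1452220, 3220), (1455440, 3220), (1458660, 3220), (1461880, 3220), (1465100, 3220), (1468320, 3220), (1471540, 3220), (1474760, 3220), (1477980, 3220), (1481200, 3220), (1484420, 3220), (1487640, 3220), (1490860, 3220), (1494080, 3220), (1497300, 3220), (1500520, 3220), (1503740, 3220), (1506960, 3220), (1510180, 3220), (1513400, 3220), (1516620, 3220), (1519840, 3220), (1523060, 3220), (1526280, 3220), (1529500, 3220), (1532720, 3220), (1535940, 3060)] : List (ℕ × ℕ)), allR c.1 c.2 (fun q => Nat.beq (f14 q) ((fun q => f11 (f11 (f13 (f12 (f12 (f11 (f13 (f12 (f13 (f11 (f13 (f13 (f13 (f8 (f9 (f10 (f8 (f10 (f9 (f8 (f12 (f9 (f8 (f10 (f11 (f10 (f11 (f9 (f10 (f8 (q))))))))))))))))))))))))))))))) q)) = true :=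
  all_cons eq14_450 (all_cons eq14_451 (all_cons eq14_452 (all_cons eq14_453 (all_cons eq14_454 (all_cons eq14_455 (all_cons eq14_456 (all_cons eq14_457 (all_cons eq14_458 (all_cons eq14_459 (all_cons eq14_460 (all_cons eq14_461 (all_cons eq14_462 (all_cons eq14_463 (all_cons eq14_464 (all_cons eq14_465 (all_cons eq14_466 (all_cons eq14_467 (all_cons eq14_468 (all_cons eq14_469 (all_cons eq14_470 (all_cons eq14_471 (all_cons eq14_472 (all_cons eq14_473 (all_cons eq14_474 (all_cons eq14_475 (all_cons eq14_476 (all_cons eq14_477 (all_nil))))))))))))))))))))))))))))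

/-- the table agrees with the word -/
theorem eq14 : ∀ q < 1539000, f14 q = wordF W14 q :=
  eq_of_chunks (f := f14) (g := (fun q => f11 (f11 (f13 (f12 (f12 (f11 (f13 (f12 (f13 (f11 (f13 (f13 (f13 (f8 (f9 (f10 (f8 (f10 (f9 (f8 (f12 (f9 (f8 (f10 (f11 (f10 (f11 (f9 (f10 (f8 (q)))))))))))))))))))))))))))))))) ([(0, 3220), (3220, 3220), (6440, 3220), (9660, 3220), (12880, 3220), (16100, 3220), (19320, 3220), (22540, 3220), (25760, 3220), (28980, 3220), (32200, 3220), (35420, 3220), (38640, 3220), (41860, 3220), (45080, 3220), (48300, 3220), (51520, 3220), (54740, 3220), (57960, 3220), (61180, 3220), (64400, 3220), (67620, 3220), (70840, 3220), (74060, 3220), (77280, 3220), (80500, 3220), (83720, 3220), (86940, 3220), (90160, 3220), (93380, 3220), (96600, 3220), (99820, 3220), (103040, 3220), (106260, 3220), (109480, 3220), (112700, 3220), (115920, 3220), (119140, 3220), (122360, 3220), (125580, 3220), (128800, 3220), (132020, 3220), (135240, 3220), (138460, 3220), (141680, 3220), (144900, 3220), (148120, 3220), (151340, 3220), (154560, 3220), (157780, 3220), (161000,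 3220), (164220, 3220), (167440, 3220), (170660, 3220), (173880, 3220), (177100, 3220), (180320, 3220), (183540, 3220), (186760, 3220), (189980, 3220), (193200, 3220), (196420, 3220), (199640, 3220), (202860, 3220), (206080, 3220), (209300, 3220), (212520, 3220), (215740, 3220), (218960, 3220), (222180, 3220), (225400, 3220), (228620, 3220), (231840, 3220), (235060, 3220), (238280, 3220), (241500, 3220), (244720, 3220), (247940, 3220), (251160, 3220), (254380, 3220), (257600, 3220), (260820, 3220), (264040, 3220), (267260, 3220), (270480, 3220), (273700, 3220), (276920, 3220), (280140, 3220), (283360, 3220), (286580, 3220), (289800, 3220), (293020, 3220), (296240, 3220), (299460, 3220), (302680, 3220), (305900, 3220), (309120, 3220), (312340, 3220), (315560, 3220), (318780, 3220), (322000, 3220), (325220, 3220), (328440, 3220), (331660, 3220), (334880, 3220), (338100, 3220), (341320, 3220), (344540, 3220), (347760, 3220), (350980, 3220), (354200, 3220), (357420, 3220), (360640, 3220), (363860, 3220), (367080, 3220), (370300, 3220), (373520, 3220), (376740, 3220), (379960,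 3220), (383180, 3220), (386400, 3220), (389620, 3220), (392840, 3220), (396060, 3220), (399280, 3220), (402500, 3220), (405720, 3220), (408940, 3220), (412160, 3220), (415380, 3220), (418600, 3220), (421820, 3220), (425040, 3220), (428260, 3220), (431480, 3220), (434700, 3220), (437920, 3220), (441140, 3220), (444360, 3220), (447580, 3220), (450800, 3220), (454020, 3220), (457240, 3220), (460460, 3220), (463680, 3220), (466900, 3220), (470120, 3220), (473340, 3220), (476560, 3220), (479780, 3220)] ++ [(483000, 3220), (486220, 3220), (489440, 3220), (492660, 3220), (495880, 3220), (499100, 3220), (502320, 3220), (505540, 3220), (508760, 3220), (511980, 3220), (515200, 3220), (518420, 3220), (521640, 3220), (524860, 3220), (528080, 3220), (531300, 3220), (534520, 3220), (537740, 3220), (540960, 3220), (544180, 3220), (547400, 3220), (550620, 3220), (553840, 3220), (557060, 3220), (560280, 3220), (563500, 3220), (566720, 3220), (569940, 3220), (573160, 3220), (576380, 3220), (579600, 3220), (582820, 3220), (586040, 3220), (589260, 3220), (592480, 3220), (595700, 3220),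 (598920, 3220), (602140, 3220), (605360, 3220), (608580, 3220), (611800, 3220), (615020, 3220), (618240, 3220), (621460, 3220), (624680, 3220), (627900, 3220), (631120, 3220), (634340, 3220), (637560, 3220), (640780, 3220), (644000, 3220), (647220, 3220), (650440, 3220), (653660, 3220), (656880, 3220), (660100, 3220), (663320, 3220), (666540, 3220), (669760, 3220), (672980, 3220), (676200, 3220), (679420, 3220), (682640, 3220), (685860, 3220), (689080, 3220), (692300, 3220), (695520, 3220), (698740, 3220), (701960, 3220), (705180, 3220), (708400, 3220), (711620, 3220), (714840, 3220), (718060, 3220), (721280, 3220), (724500, 3220), (727720, 3220), (730940, 3220), (734160, 3220), (737380, 3220), (740600, 3220), (743820, 3220), (747040, 3220), (750260, 3220), (753480, 3220), (756700, 3220), (759920, 3220), (763140, 3220), (766360, 3220), (769580, 3220), (772800, 3220), (776020, 3220), (779240, 3220), (782460, 3220), (785680, 3220), (788900, 3220), (792120, 3220), (795340, 3220), (798560, 3220), (801780, 3220), (805000, 3220), (808220, 3220), (811440, 3220), (814660,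 3220), (817880, 3220), (821100, 3220), (824320, 3220), (827540, 3220), (830760, 3220), (833980, 3220), (837200, 3220), (840420, 3220), (843640, 3220), (846860, 3220), (850080, 3220), (853300, 3220), (856520, 3220), (859740, 3220), (862960, 3220), (866180, 3220), (869400, 3220), (872620, 3220), (875840, 3220), (879060, 3220), (882280, 3220), (885500, 3220), (888720, 3220), (891940, 3220), (895160, 3220), (898380, 3220), (901600, 3220), (904820, 3220), (908040, 3220), (911260, 3220), (914480, 3220), (917700, 3220), (920920, 3220), (924140, 3220), (927360, 3220), (930580, 3220), (933800, 3220), (937020, 3220), (940240, 3220), (943460, 3220), (946680, 3220), (949900, 3220), (953120, 3220), (956340, 3220), (959560, 3220), (962780, 3220)] ++ [(966000, 3220), (969220, 3220), (972440, 3220), (975660, 3220), (978880, 3220), (982100, 3220), (985320, 3220), (988540, 3220), (991760, 3220), (994980, 3220), (998200, 3220), (1001420, 3220), (1004640, 3220), (1007860, 3220), (1011080, 3220), (1014300, 3220), (1017520, 3220), (1020740, 3220), (1023960, 3220), (1027180, 3220), (1030400,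 3220), (1033620, 3220), (1036840, 3220), (1040060, 3220), (1043280, 3220), (1046500, 3220), (1049720, 3220), (1052940, 3220), (1056160, 3220), (1059380, 3220), (1062600, 3220), (1065820, 3220), (1069040, 3220), (1072260, 3220), (1075480, 3220), (1078700, 3220), (1081920, 3220), (1085140, 3220), (1088360, 3220), (1091580, 3220), (1094800, 3220), (1098020, 3220), (1101240, 3220), (1104460, 3220), (1107680, 3220), (1110900, 3220), (1114120, 3220), (1117340, 3220), (1120560, 3220), (1123780, 3220), (1127000, 3220), (1130220, 3220), (1133440, 3220), (1136660, 3220), (1139880, 3220), (1143100, 3220), (1146320, 3220), (1149540, 3220), (1152760, 3220), (1155980, 3220), (1159200, 3220), (1162420, 3220), (1165640, 3220), (1168860, 3220), (1172080, 3220), (1175300, 3220), (1178520, 3220), (1181740, 3220), (1184960, 3220), (1188180, 3220), (1191400, 3220), (1194620, 3220), (1197840, 3220), (1201060, 3220), (1204280, 3220), (1207500, 3220), (1210720, 3220), (1213940, 3220), (1217160, 3220), (1220380, 3220), (1223600, 3220), (1226820, 3220), (1230040, 3220), (1233260, 3220), (1236480,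 3220), (1239700, 3220), (1242920, 3220), (1246140, 3220), (1249360, 3220), (1252580, 3220), (1255800, 3220), (1259020, 3220), (1262240, 3220), (1265460, 3220), (1268680, 3220), (1271900, 3220), (1275120, 3220), (1278340, 3220), (1281560, 3220), (1284780, 3220), (1288000, 3220), (1291220, 3220), (1294440, 3220), (1297660, 3220), (1300880, 3220), (1304100, 3220), (1307320, 3220), (1310540, 3220), (1313760, 3220), (1316980, 3220), (1320200, 3220), (1323420, 3220), (1326640, 3220), (1329860, 3220), (1333080, 3220), (1336300, 3220), (1339520, 3220), (1342740, 3220), (1345960, 3220), (1349180, 3220), (1352400, 3220), (1355620, 3220), (1358840, 3220), (1362060, 3220), (1365280, 3220), (1368500, 3220), (1371720, 3220), (1374940, 3220), (1378160, 3220), (1381380, 3220), (1384600, 3220), (1387820, 3220), (1391040, 3220), (1394260, 3220), (1397480, 3220), (1400700, 3220), (1403920, 3220), (1407140, 3220), (1410360, 3220), (1413580, 3220), (1416800, 3220), (1420020, 3220), (1423240, 3220), (1426460, 3220), (1429680, 3220), (1432900, 3220), (1436120, 3220), (1439340, 3220), (1442560,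 3220), (1445780, 3220)] ++ [(1449000, 3220), (1452220, 3220), (1455440, 3220), (1458660, 3220), (1461880, 3220), (1465100, 3220), (1468320, 3220), (1471540, 3220), (1474760, 3220), (1477980, 3220), (1481200, 3220), (1484420, 3220), (1487640, 3220), (1490860, 3220), (1494080, 3220), (1497300, 3220), (1500520, 3220), (1503740, 3220), (1506960, 3220), (1510180, 3220), (1513400, 3220), (1516620, 3220), (1519840, 3220), (1523060, 3220), (1526280, 3220), (1529500, 3220), (1532720, 3220), (1535940, 3060)]) (by decide +kernel) (all_append (all_append (all_append (eq14_grp0) eq14_grp1) eq14_grp2) eq14_grp3)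

end Cfsg.Agent.HNOut
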