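import Cfsg.Agent.Lib.Lead.HNOut.C15x0
import Cfsg.Agent.Lib.Lead.HNOut.C15x1
import Cfsg.Agent.Lib.Lead.HNOut.C15x2
import Cfsg.Agent.Lib.Lead.HNOut.C15x3
import Cfsg.Agent.Lib.Lead.HNOut.C15x4
import Cfsg.Agent.Lib.Lead.HNOut.C15x5
import Cfsg.Agent.Lib.Lead.HNOut.C15x6
import Cfsg.Agent.Lib.Lead.HNOut.C15x7
import Cfsg.Agent.Lib.Lead.HNOut.C15x8
import Cfsg.Agent.Lib.Lead.HNOut.C15x9
import Cfsg.Agent.Lib.Lead.HNOut.C15x10
import Cfsg.Agent.Lib.Lead.HNOut.C15x11
import Cfsg.Agent.Lib.Lead.HNOut.C15x12
import Cfsg.Agent.Lib.Lead.HNOut.C15x13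

/-! # The outer automorphism group of the Harada–Norton group: the element number 15 (generated) -/

set_option autoImplicit false
set_option maxRecDepth 100000

namespace Cfsg.Agent.HNOut

open Cfsg.Agent.PF Cfsg.Agent.Lib.Helper6 Cfsg.Agent.Lib.Helper6.TC Cfsg.Agent.Lib.Helper6.NatArr
open Cfsg.Agent.PL (Acts evalF)

theorem eq15_grp0 : ∀ c ∈ ([(0, 4540), (4540, 4540), (9080, 4540), (13620, 4540), (18160, 4540), (22700, 4540), (27240, 4540), (31780, 4540), (36320, 4540), (40860, 4540), (45400, 4540), (49940, 4540), (54480, 4540), (59020, 4540), (63560, 4540), (68100, 4540), (72640, 4540), (77180, 4540), (81720, 4540), (86260, 4540), (90800, 4540), (95340, 4540), (99880, 4540), (104420, 4540), (108960, 4540), (113500, 4540), (118040, 4540), (122580, 4540), (127120, 4540), (131660, 4540), (136200, 4540), (140740, 4540), (145280, 4540), (149820, 4540), (154360, 4540), (158900, 4540), (163440, 4540), (167980, 4540), (172520, 4540), (177060, 4540), (181600, 4540), (186140, 4540), (190680, 4540), (195220, 4540), (199760, 4540), (204300, 4540), (208840, 4540), (213380,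 4540), (217920, 4540), (222460, 4540), (227000, 4540), (231540, 4540), (236080, 4540), (240620, 4540), (245160, 4540), (249700, 4540), (254240, 4540), (258780, 4540), (263320, 4540), (267860, 4540), (272400, 4540), (276940, 4540), (281480, 4540), (286020, 4540), (290560, 4540), (295100, 4540), (299640, 4540), (304180, 4540), (308720, 4540), (313260, 4540), (317800, 4540), (322340, 4540), (326880, 4540), (331420, 4540), (335960, 4540), (340500, 4540), (345040, 4540), (349580, 4540), (354120, 4540), (358660, 4540), (363200, 4540), (367740, 4540), (372280, 4540), (376820, 4540), (381360, 4540), (385900, 4540), (390440, 4540), (394980, 4540), (399520, 4540), (404060, 4540), (408600, 4540), (413140, 4540), (417680, 4540), (422220, 4540), (426760, 4540), (431300, 4540), (435840, 4540), (440380, 4540), (444920, 4540), (449460, 4540), (454000, 4540), (458540, 4540), (463080, 4540), (467620, 4540), (472160, 4540), (476700, 4540), (481240, 4540), (485780, 4540), (490320, 4540), (494860, 4540), (499400, 4540), (503940, 4540), (508480, 4540), (513020, 4540), (517560, 4540), (522100,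 4540), (526640, 4540), (531180, 4540), (535720, 4540), (540260, 4540), (544800, 4540), (549340, 4540), (553880, 4540), (558420, 4540), (562960, 4540), (567500, 4540), (572040, 4540), (576580, 4540), (581120, 4540), (585660, 4540), (590200, 4540), (594740, 4540), (599280, 4540), (603820, 4540), (608360, 4540), (612900, 4540), (617440, 4540), (621980, 4540), (626520, 4540), (631060, 4540), (635600, 4540), (640140, 4540), (644680, 4540), (649220, 4540), (653760, 4540), (658300, 4540), (662840, 4540), (667380, 4540), (671920, 4540), (676460, 4540)] : List (ℕ × ℕ)), allR c.1 c.2 (fun q => Nat.beq (f15 q) ((fun q => f12 (f14 (f12 (f11 (f14 (f13 (f13 (f13 (f9 (f12 (f14 (f8 (f9 (f9 (f14 (f14 (f8 (f8 (f8 (f10 (f14 (q)))))))))))))))))))))) q)) = true :=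
  all_cons eq15_0 (all_cons eq15_1 (all_cons eq15_2 (all_cons eq15_3 (all_cons eq15_4 (all_cons eq15_5 (all_cons eq15_6 (all_cons eq15_7 (all_cons eq15_8 (all_cons eq15_9 (all_cons eq15_10 (all_cons eq15_11 (all_cons eq15_12 (all_cons eq15_13 (all_cons eq15_14 (all_cons eq15_15 (all_cons eq15_16 (all_cons eq15_17 (all_cons eq15_18 (all_cons eq15_19 (all_cons eq15_20 (all_cons eq15_21 (all_cons eq15_22 (all_cons eq15_23 (all_cons eq15_24 (all_cons eq15_25 (all_cons eq15_26 (all_cons eq15_27 (all_cons eq15_28 (all_cons eq15_29 (all_cons eq15_30 (all_cons eq15_31 (all_cons eq15_32 (all_cons eq15_33 (all_cons eq15_34 (all_cons eq15_35 (all_cons eq15_36 (all_cons eq15_37 (all_cons eq15_38 (all_cons eq15_39 (all_cons eq15_40 (all_cons eq15_41 (all_cons eq15_42 (all_cons eq15_43 (all_cons eq15_44 (all_cons eq15_45 (all_cons eq15_46 (all_cons eq15_47 (all_cons eq15_48 (all_cons eq15_49 (all_cons eq15_50 (all_cons eq15_51 (all_cons eq15_52 (all_cons eq15_53 (all_cons eq15_54 (all_cons eq15_55 (all_cons eq15_56 (all_cons eq15_57 (all_cons eq15_58 (all_cons eq15_59 (all_cons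 eq15_60 (all_cons eq15_61 (all_cons eq15_62 (all_cons eq15_63 (all_cons eq15_64 (all_cons eq15_65 (all_cons eq15_66 (all_cons eq15_67 (all_cons eq15_68 (all_cons eq15_69 (all_cons eq15_70 (all_cons eq15_71 (all_cons eq15_72 (all_cons eq15_73 (all_cons eq15_74 (all_cons eq15_75 (all_cons eq15_76 (all_cons eq15_77 (all_cons eq15_78 (all_cons eq15_79 (all_cons eq15_80 (all_cons eq15_81 (all_cons eq15_82 (all_cons eq15_83 (all_cons eq15_84 (all_cons eq15_85 (all_cons eq15_86 (all_cons eq15_87 (all_cons eq15_88 (all_cons eq15_89 (all_cons eq15_90 (all_cons eq15_91 (all_cons eq15_92 (all_cons eq15_93 (all_cons eq15_94 (all_cons eq15_95 (all_cons eq15_96 (all_cons eq15_97 (all_cons eq15_98 (all_cons eq15_99 (all_cons eq15_100 (all_cons eq15_101 (all_cons eq15_102 (all_cons eq15_103 (all_cons eq15_104 (all_cons eq15_105 (all_cons eq15_106 (all_cons eq15_107 (all_cons eq15_108 (all_cons eq15_109 (all_cons eq15_110 (all_cons eq15_111 (all_cons eq15_112 (all_cons eq15_113 (all_cons eq15_114 (all_cons eq15_115 (all_cons eq15_116 (all_cons eq15_117 (all_cons eq15_118 (all_cons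 eq15_119 (all_cons eq15_120 (all_cons eq15_121 (all_cons eq15_122 (all_cons eq15_123 (all_cons eq15_124 (all_cons eq15_125 (all_cons eq15_126 (all_cons eq15_127 (all_cons eq15_128 (all_cons eq15_129 (all_cons eq15_130 (all_cons eq15_131 (all_cons eq15_132 (all_cons eq15_133 (all_cons eq15_134 (all_cons eq15_135 (all_cons eq15_136 (all_cons eq15_137 (all_cons eq15_138 (all_cons eq15_139 (all_cons eq15_140 (all_cons eq15_141 (all_cons eq15_142 (all_cons eq15_143 (all_cons eq15_144 (all_cons eq15_145 (all_cons eq15_146 (all_cons eq15_147 (all_cons eq15_148 (all_cons eq15_149 (all_nil))))))))))))))))))))))))))))))))))))))))))))))))))))))))))))))))))))))))))))))))))))))))))))))))))))))))))))))))))))))))))))))))))))))))))))))))))))))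

theorem eq15_grp1 : ∀ c ∈ ([(681000, 4540), (685540, 4540), (690080, 4540), (694620, 4540), (699160, 4540), (703700, 4540), (708240, 4540), (712780, 4540), (717320, 4540), (721860, 4540), (726400, 4540), (730940, 4540), (735480, 4540), (740020, 4540), (744560, 4540), (749100, 4540), (753640, 4540), (758180, 4540), (762720, 4540), (767260, 4540), (771800, 4540), (776340, 4540), (780880, 4540), (785420, 4540), (789960, 4540), (794500, 4540), (799040, 4540), (803580, 4540), (808120, 4540), (812660, 4540), (817200, 4540), (821740, 4540), (826280, 4540), (830820, 4540), (835360, 4540), (839900, 4540), (844440, 4540), (848980, 4540), (853520, 4540), (858060, 4540), (862600, 4540), (867140, 4540), (871680, 4540), (876220, 4540), (880760, 4540), (885300, 4540), (889840, 4540), (894380, 4540), (898920, 4540), (903460, 4540), (908000, 4540), (912540, 4540), (917080, 4540), (921620, 4540), (926160, 4540), (930700, 4540), (935240, 4540), (939780, 4540), (944320, 4540), (948860, 4540), (953400, 4540), (957940, 4540), (962480, 4540), (967020, 4540), (971560, 4540), (976100, 4540),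 (980640, 4540), (985180, 4540), (989720, 4540), (994260, 4540), (998800, 4540), (1003340, 4540), (1007880, 4540), (1012420, 4540), (1016960, 4540), (1021500, 4540), (1026040, 4540), (1030580, 4540), (1035120, 4540), (1039660, 4540), (1044200, 4540), (1048740, 4540), (1053280, 4540), (1057820, 4540), (1062360, 4540), (1066900, 4540), (1071440, 4540), (1075980, 4540), (1080520, 4540), (1085060, 4540), (1089600, 4540), (1094140, 4540), (1098680, 4540), (1103220, 4540), (1107760, 4540), (1112300, 4540), (1116840, 4540), (1121380, 4540), (1125920, 4540), (1130460, 4540), (1135000, 4540), (1139540, 4540), (1144080, 4540), (1148620, 4540), (1153160, 4540), (1157700, 4540), (1162240, 4540), (1166780, 4540), (1171320, 4540), (1175860, 4540), (1180400, 4540), (1184940, 4540), (1189480, 4540), (1194020, 4540), (1198560, 4540), (1203100, 4540), (1207640, 4540), (1212180, 4540), (1216720, 4540), (1221260, 4540), (1225800, 4540), (1230340, 4540), (1234880, 4540), (1239420, 4540), (1243960, 4540), (1248500, 4540), (1253040, 4540), (1257580, 4540), (1262120, 4540), (1266660, 4540),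 (1271200, 4540), (1275740, 4540), (1280280, 4540), (1284820, 4540), (1289360, 4540), (1293900, 4540), (1298440, 4540), (1302980, 4540), (1307520, 4540), (1312060, 4540), (1316600, 4540), (1321140, 4540), (1325680, 4540), (1330220, 4540), (1334760, 4540), (1339300, 4540), (1343840, 4540), (1348380, 4540), (1352920, 4540), (1357460, 4540)] : List (ℕ × ℕ)), allR c.1 c.2 (fun q => Nat.beq (f15 q) ((fun q => f12 (f14 (f12 (f11 (f14 (f13 (f13 (f13 (f9 (f12 (f14 (f8 (f9 (f9 (f14 (f14 (f8 (f8 (f8 (f10 (f14 (q)))))))))))))))))))))) q)) = true :=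
  all_cons eq15_150 (all_cons eq15_151 (all_cons eq15_152 (all_cons eq15_153 (all_cons eq15_154 (all_cons eq15_155 (all_cons eq15_156 (all_cons eq15_157 (all_cons eq15_158 (all_cons eq15_159 (all_cons eq15_160 (all_cons eq15_161 (all_cons eq15_162 (all_cons eq15_163 (all_cons eq15_164 (all_cons eq15_165 (all_cons eq15_166 (all_cons eq15_167 (all_cons eq15_168 (all_cons eq15_169 (all_cons eq15_170 (all_cons eq15_171 (all_cons eq15_172 (all_cons eq15_173 (all_cons eq15_174 (all_cons eq15_175 (all_cons eq15_176 (all_cons eq15_177 (all_cons eq15_178 (all_cons eq15_179 (all_cons eq15_180 (all_cons eq15_181 (all_cons eq15_182 (all_cons eq15_183 (all_cons eq15_184 (all_cons eq15_185 (all_cons eq15_186 (all_cons eq15_187 (all_cons eq15_188 (all_cons eq15_189 (all_cons eq15_190 (all_cons eq15_191 (all_cons eq15_192 (all_cons eq15_193 (all_cons eq15_194 (all_cons eq15_195 (all_cons eq15_196 (all_cons eq15_197 (all_cons eq15_198 (all_cons eq15_199 (all_cons eq15_200 (all_cons eq15_201 (all_cons eq15_202 (all_cons eq15_203 (all_cons eq15_204 (all_cons eq15_205 (all_cons eq15_206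 (all_cons eq15_207 (all_cons eq15_208 (all_cons eq15_209 (all_cons eq15_210 (all_cons eq15_211 (all_cons eq15_212 (all_cons eq15_213 (all_cons eq15_214 (all_cons eq15_215 (all_cons eq15_216 (all_cons eq15_217 (all_cons eq15_218 (all_cons eq15_219 (all_cons eq15_220 (all_cons eq15_221 (all_cons eq15_222 (all_cons eq15_223 (all_cons eq15_224 (all_cons eq15_225 (all_cons eq15_226 (all_cons eq15_227 (all_cons eq15_228 (all_cons eq15_229 (all_cons eq15_230 (all_cons eq15_231 (all_cons eq15_232 (all_cons eq15_233 (all_cons eq15_234 (all_cons eq15_235 (all_cons eq15_236 (all_cons eq15_237 (all_cons eq15_238 (all_cons eq15_239 (all_cons eq15_240 (all_cons eq15_241 (all_cons eq15_242 (all_cons eq15_243 (all_cons eq15_244 (all_cons eq15_245 (all_cons eq15_246 (all_cons eq15_247 (all_cons eq15_248 (all_cons eq15_249 (all_cons eq15_250 (all_cons eq15_251 (all_cons eq15_252 (all_cons eq15_253 (all_cons eq15_254 (all_cons eq15_255 (all_cons eq15_256 (all_cons eq15_257 (all_cons eq15_258 (all_cons eq15_259 (all_cons eq15_260 (all_cons eq15_261 (all_cons eq15_262 (all_cons eq15_263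 (all_cons eq15_264 (all_cons eq15_265 (all_cons eq15_266 (all_cons eq15_267 (all_cons eq15_268 (all_cons eq15_269 (all_cons eq15_270 (all_cons eq15_271 (all_cons eq15_272 (all_cons eq15_273 (all_cons eq15_274 (all_cons eq15_275 (all_cons eq15_276 (all_cons eq15_277 (all_cons eq15_278 (all_cons eq15_279 (all_cons eq15_280 (all_cons eq15_281 (all_cons eq15_282 (all_cons eq15_283 (all_cons eq15_284 (all_cons eq15_285 (all_cons eq15_286 (all_cons eq15_287 (all_cons eq15_288 (all_cons eq15_289 (all_cons eq15_290 (all_cons eq15_291 (all_cons eq15_292 (all_cons eq15_293 (all_cons eq15_294 (all_cons eq15_295 (all_cons eq15_296 (all_cons eq15_297 (all_cons eq15_298 (all_cons eq15_299 (all_nil))))))))))))))))))))))))))))))))))))))))))))))))))))))))))))))))))))))))))))))))))))))))))))))))))))))))))))))))))))))))))))))))))))))))))))))))))))))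

theorem eq15_grp2 : ∀ c ∈ ([(1362000, 4540), (1366540, 4540), (1371080, 4540), (1375620, 4540), (1380160, 4540), (1384700, 4540), (1389240, 4540), (1393780, 4540), (1398320, 4540), (1402860, 4540), (1407400, 4540), (1411940, 4540), (1416480, 4540), (1421020, 4540), (1425560, 4540), (1430100, 4540), (1434640, 4540), (1439180, 4540), (1443720, 4540), (1448260, 4540), (1452800, 4540), (1457340, 4540), (1461880, 4540), (1466420, 4540), (1470960, 4540), (1475500, 4540), (1480040, 4540), (1484580, 4540), (1489120, 4540), (1493660, 4540), (1498200, 4540), (1502740, 4540), (1507280, 4540), (1511820, 4540), (1516360, 4540), (1520900, 4540), (1525440, 4540), (1529980, 4540), (1534520, 4480)] : List (ℕ × ℕ)), allR c.1 c.2 (fun q => Nat.beq (f15 q) ((fun q => f12 (f14 (f12 (f11 (f14 (f13 (f13 (f13 (f9 (f12 (f14 (f8 (f9 (f9 (f14 (f14 (f8 (f8 (f8 (f10 (f14 (q)))))))))))))))))))))) q)) = true :=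
  all_cons eq15_300 (all_cons eq15_301 (all_cons eq15_302 (all_cons eq15_303 (all_cons eq15_304 (all_cons eq15_305 (all_cons eq15_306 (all_cons eq15_307 (all_cons eq15_308 (all_cons eq15_309 (all_cons eq15_310 (all_cons eq15_311 (all_cons eq15_312 (all_cons eq15_313 (all_cons eq15_314 (all_cons eq15_315 (all_cons eq15_316 (all_cons eq15_317 (all_cons eq15_318 (all_cons eq15_319 (all_cons eq15_320 (all_cons eq15_321 (all_cons eq15_322 (all_cons eq15_323 (all_cons eq15_324 (all_cons eq15_325 (all_cons eq15_326 (all_cons eq15_327 (all_cons eq15_328 (all_cons eq15_329 (all_cons eq15_330 (all_cons eq15_331 (all_cons eq15_332 (all_cons eq15_333 (all_cons eq15_334 (all_cons eq15_335 (all_cons eq15_336 (all_cons eq15_337 (all_cons eq15_338 (all_nil)))))))))))))))))))))))))))))))))))))))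

/-- the table agrees with the word -/
theorem eq15 : ∀ q < 1539000, f15 q = wordF W15 q :=
  eq_of_chunks (f := f15) (g := (fun q => f12 (f14 (f12 (f11 (f14 (f13 (f13 (f13 (f9 (f12 (f14 (f8 (f9 (f9 (f14 (f14 (f8 (f8 (f8 (f10 (f14 (q))))))))))))))))))))))) ([(0, 4540), (4540, 4540), (9080, 4540), (13620, 4540), (18160, 4540), (22700, 4540), (27240, 4540), (31780, 4540), (36320, 4540), (40860, 4540), (45400, 4540), (49940, 4540), (54480, 4540), (59020, 4540), (63560, 4540), (68100, 4540), (72640, 4540), (77180, 4540), (81720, 4540), (86260, 4540), (90800, 4540), (95340, 4540), (99880, 4540), (104420, 4540), (108960, 4540), (113500, 4540), (118040, 4540), (122580, 4540), (127120, 4540), (131660, 4540), (136200, 4540), (140740, 4540), (145280, 4540), (149820, 4540), (154360, 4540), (158900, 4540), (163440, 4540), (167980, 4540), (172520, 4540), (177060, 4540), (181600, 4540), (186140, 4540), (190680, 4540), (195220, 4540), (199760, 4540), (204300, 4540), (208840, 4540), (213380, 4540), (217920, 4540), (222460, 4540), (227000, 4540), (231540, 4540), (236080, 4540), (240620,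 4540), (245160, 4540), (249700, 4540), (254240, 4540), (258780, 4540), (263320, 4540), (267860, 4540), (272400, 4540), (276940, 4540), (281480, 4540), (286020, 4540), (290560, 4540), (295100, 4540), (299640, 4540), (304180, 4540), (308720, 4540), (313260, 4540), (317800, 4540), (322340, 4540), (326880, 4540), (331420, 4540), (335960, 4540), (340500, 4540), (345040, 4540), (349580, 4540), (354120, 4540), (358660, 4540), (363200, 4540), (367740, 4540), (372280, 4540), (376820, 4540), (381360, 4540), (385900, 4540), (390440, 4540), (394980, 4540), (399520, 4540), (404060, 4540), (408600, 4540), (413140, 4540), (417680, 4540), (422220, 4540), (426760, 4540), (431300, 4540), (435840, 4540), (440380, 4540), (444920, 4540), (449460, 4540), (454000, 4540), (458540, 4540), (463080, 4540), (467620, 4540), (472160, 4540), (476700, 4540), (481240, 4540), (485780, 4540), (490320, 4540), (494860, 4540), (499400, 4540), (503940, 4540), (508480, 4540), (513020, 4540), (517560, 4540), (522100, 4540), (526640, 4540), (531180, 4540), (535720, 4540), (540260, 4540), (544800, 4540), (549340,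 4540), (553880, 4540), (558420, 4540), (562960, 4540), (567500, 4540), (572040, 4540), (576580, 4540), (581120, 4540), (585660, 4540), (590200, 4540), (594740, 4540), (599280, 4540), (603820, 4540), (608360, 4540), (612900, 4540), (617440, 4540), (621980, 4540), (626520, 4540), (631060, 4540), (635600, 4540), (640140, 4540), (644680, 4540), (649220, 4540), (653760, 4540), (658300, 4540), (662840, 4540), (667380, 4540), (671920, 4540), (676460, 4540)] ++ [(681000, 4540), (685540, 4540), (690080, 4540), (694620, 4540), (699160, 4540), (703700, 4540), (708240, 4540), (712780, 4540), (717320, 4540), (721860, 4540), (726400, 4540), (730940, 4540), (735480, 4540), (740020, 4540), (744560, 4540), (749100, 4540), (753640, 4540), (758180, 4540), (762720, 4540), (767260, 4540), (771800, 4540), (776340, 4540), (780880, 4540), (785420, 4540), (789960, 4540), (794500, 4540), (799040, 4540), (803580, 4540), (808120, 4540), (812660, 4540), (817200, 4540), (821740, 4540), (826280, 4540), (830820, 4540), (835360, 4540), (839900, 4540), (844440, 4540), (848980, 4540), (853520, 4540),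 (858060, 4540), (862600, 4540), (867140, 4540), (871680, 4540), (876220, 4540), (880760, 4540), (885300, 4540), (889840, 4540), (894380, 4540), (898920, 4540), (903460, 4540), (908000, 4540), (912540, 4540), (917080, 4540), (921620, 4540), (926160, 4540), (930700, 4540), (935240, 4540), (939780, 4540), (944320, 4540), (948860, 4540), (953400, 4540), (957940, 4540), (962480, 4540), (967020, 4540), (971560, 4540), (976100, 4540), (980640, 4540), (985180, 4540), (989720, 4540), (994260, 4540), (998800, 4540), (1003340, 4540), (1007880, 4540), (1012420, 4540), (1016960, 4540), (1021500, 4540), (1026040, 4540), (1030580, 4540), (1035120, 4540), (1039660, 4540), (1044200, 4540), (1048740, 4540), (1053280, 4540), (1057820, 4540), (1062360, 4540), (1066900, 4540), (1071440, 4540), (1075980, 4540), (1080520, 4540), (1085060, 4540), (1089600, 4540), (1094140, 4540), (1098680, 4540), (1103220, 4540), (1107760, 4540), (1112300, 4540), (1116840, 4540), (1121380, 4540), (1125920, 4540), (1130460, 4540), (1135000, 4540), (1139540, 4540), (1144080, 4540), (1148620, 4540), (1153160,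 4540), (1157700, 4540), (1162240, 4540), (1166780, 4540), (1171320, 4540), (1175860, 4540), (1180400, 4540), (1184940, 4540), (1189480, 4540), (1194020, 4540), (1198560, 4540), (1203100, 4540), (1207640, 4540), (1212180, 4540), (1216720, 4540), (1221260, 4540), (1225800, 4540), (1230340, 4540), (1234880, 4540), (1239420, 4540), (1243960, 4540), (1248500, 4540), (1253040, 4540), (1257580, 4540), (1262120, 4540), (1266660, 4540), (1271200, 4540), (1275740, 4540), (1280280, 4540), (1284820, 4540), (1289360, 4540), (1293900, 4540), (1298440, 4540), (1302980, 4540), (1307520, 4540), (1312060, 4540), (1316600, 4540), (1321140, 4540), (1325680, 4540), (1330220, 4540), (1334760, 4540), (1339300, 4540), (1343840, 4540), (1348380, 4540), (1352920, 4540), (1357460, 4540)] ++ [(1362000, 4540), (1366540, 4540), (1371080, 4540), (1375620, 4540), (1380160, 4540), (1384700, 4540), (1389240, 4540), (1393780, 4540), (1398320, 4540), (1402860, 4540), (1407400, 4540), (1411940, 4540), (1416480, 4540), (1421020, 4540), (1425560, 4540), (1430100, 4540), (1434640, 4540), (1439180, 4540),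 (1443720, 4540), (1448260, 4540), (1452800, 4540), (1457340, 4540), (1461880, 4540), (1466420, 4540), (1470960, 4540), (1475500, 4540), (1480040, 4540), (1484580, 4540), (1489120, 4540), (1493660, 4540), (1498200, 4540), (1502740, 4540), (1507280, 4540), (1511820, 4540), (1516360, 4540), (1520900, 4540), (1525440, 4540), (1529980, 4540), (1534520, 4480)]) (by decide +kernel) (all_append (all_append (eq15_grp0) eq15_grp1) eq15_grp2)

end Cfsg.Agent.HNOut
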