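import Cfsg.Agent.Lib.Lead.HNOut.C16x0
import Cfsg.Agent.Lib.Lead.HNOut.C16x1
import Cfsg.Agent.Lib.Lead.HNOut.C16x2
import Cfsg.Agent.Lib.Lead.HNOut.C16x3
import Cfsg.Agent.Lib.Lead.HNOut.C16x4
import Cfsg.Agent.Lib.Lead.HNOut.C16x5
import Cfsg.Agent.Lib.Lead.HNOut.C16x6
import Cfsg.Agent.Lib.Lead.HNOut.C16x7
import Cfsg.Agent.Lib.Lead.HNOut.C16x8
import Cfsg.Agent.Lib.Lead.HNOut.C16x9

/-! # The outer automorphism group of the Harada–Norton group: the element number 16 (generated) -/

set_option autoImplicit false
set_option maxRecDepth 100000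

namespace Cfsg.Agent.HNOut

open Cfsg.Agent.PF Cfsg.Agent.Lib.Helper6 Cfsg.Agent.Lib.Helper6.TC Cfsg.Agent.Lib.Helper6.NatArr
open Cfsg.Agent.PL (Acts evalF)

theorem eq16_grp0 : ∀ c ∈ ([(0, 6231), (6231, 6231), (12462, 6231), (18693, 6231), (24924, 6231), (31155, 6231), (37386, 6231), (43617, 6231), (49848, 6231), (56079, 6231), (62310, 6231), (68541, 6231), (74772, 6231), (81003, 6231), (87234, 6231), (93465, 6231), (99696, 6231), (105927, 6231), (112158, 6231), (118389, 6231), (124620, 6231), (130851, 6231), (137082, 6231), (143313, 6231), (149544, 6231), (155775, 6231), (162006, 6231), (168237, 6231), (174468, 6231), (180699, 6231), (186930, 6231), (193161, 6231), (199392, 6231), (205623, 6231), (211854, 6231), (218085, 6231), (224316, 6231), (230547, 6231), (236778, 6231), (243009, 6231), (249240, 6231), (255471, 6231), (261702, 6231), (267933, 6231), (274164, 6231), (280395, 6231), (286626, 6231), (292857, 6231), (299088, 6231), (305319, 6231), (311550, 6231), (317781, 6231), (324012, 6231), (330243, 6231), (336474, 6231), (342705, 6231), (348936, 6231), (355167,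 6231), (361398, 6231), (367629, 6231), (373860, 6231), (380091, 6231), (386322, 6231), (392553, 6231), (398784, 6231), (405015, 6231), (411246, 6231), (417477, 6231), (423708, 6231), (429939, 6231), (436170, 6231), (442401, 6231), (448632, 6231), (454863, 6231), (461094, 6231), (467325, 6231), (473556, 6231), (479787, 6231), (486018, 6231), (492249, 6231), (498480, 6231), (504711, 6231), (510942, 6231), (517173, 6231), (523404, 6231), (529635, 6231), (535866, 6231), (542097, 6231), (548328, 6231), (554559, 6231), (560790, 6231), (567021, 6231), (573252, 6231), (579483, 6231), (585714, 6231), (591945, 6231), (598176, 6231), (604407, 6231), (610638, 6231), (616869, 6231), (623100, 6231), (629331, 6231), (635562, 6231), (641793, 6231), (648024, 6231), (654255, 6231), (660486, 6231), (666717, 6231), (672948, 6231), (679179, 6231), (685410, 6231), (691641, 6231), (697872, 6231), (704103, 6231), (710334, 6231), (716565, 6231), (722796, 6231), (729027, 6231), (735258, 6231), (741489, 6231), (747720, 6231), (753951, 6231), (760182, 6231), (766413, 6231), (772644, 6231), (778875,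 6231), (785106, 6231), (791337, 6231), (797568, 6231), (803799, 6231), (810030, 6231), (816261, 6231), (822492, 6231), (828723, 6231), (834954, 6231), (841185, 6231), (847416, 6231), (853647, 6231), (859878, 6231), (866109, 6231), (872340, 6231), (878571, 6231), (884802, 6231), (891033, 6231), (897264, 6231), (903495, 6231), (909726, 6231), (915957, 6231), (922188, 6231), (928419, 6231)] : List (ℕ × ℕ)), allR c.1 c.2 (fun q => Nat.beq (f16 q) ((fun q => f11 (f13 (f15 (f13 (f12 (f15 (f13 (f13 (f13 (f13 (f15 (f12 (f15 (f11 (f15 (q)))))))))))))))) q)) = true :=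
  all_cons eq16_0 (all_cons eq16_1 (all_cons eq16_2 (all_cons eq16_3 (all_cons eq16_4 (all_cons eq16_5 (all_cons eq16_6 (all_cons eq16_7 (all_cons eq16_8 (all_cons eq16_9 (all_cons eq16_10 (all_cons eq16_11 (all_cons eq16_12 (all_cons eq16_13 (all_cons eq16_14 (all_cons eq16_15 (all_cons eq16_16 (all_cons eq16_17 (all_cons eq16_18 (all_cons eq16_19 (all_cons eq16_20 (all_cons eq16_21 (all_cons eq16_22 (all_cons eq16_23 (all_cons eq16_24 (all_cons eq16_25 (all_cons eq16_26 (all_cons eq16_27 (all_cons eq16_28 (all_cons eq16_29 (all_cons eq16_30 (all_cons eq16_31 (all_cons eq16_32 (all_cons eq16_33 (all_cons eq16_34 (all_cons eq16_35 (all_cons eq16_36 (all_cons eq16_37 (all_cons eq16_38 (all_cons eq16_39 (all_cons eq16_40 (all_cons eq16_41 (all_cons eq16_42 (all_cons eq16_43 (all_cons eq16_44 (all_cons eq16_45 (all_cons eq16_46 (all_cons eq16_47 (all_cons eq16_48 (all_cons eq16_49 (all_cons eq16_50 (all_cons eq16_51 (all_cons eq16_52 (all_cons eq16_53 (all_cons eq16_54 (all_cons eq16_55 (all_cons eq16_56 (all_cons eq16_57 (all_cons eq16_58 (all_cons eq16_59 (all_cons eq16_60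 (all_cons eq16_61 (all_cons eq16_62 (all_cons eq16_63 (all_cons eq16_64 (all_cons eq16_65 (all_cons eq16_66 (all_cons eq16_67 (all_cons eq16_68 (all_cons eq16_69 (all_cons eq16_70 (all_cons eq16_71 (all_cons eq16_72 (all_cons eq16_73 (all_cons eq16_74 (all_cons eq16_75 (all_cons eq16_76 (all_cons eq16_77 (all_cons eq16_78 (all_cons eq16_79 (all_cons eq16_80 (all_cons eq16_81 (all_cons eq16_82 (all_cons eq16_83 (all_cons eq16_84 (all_cons eq16_85 (all_cons eq16_86 (all_cons eq16_87 (all_cons eq16_88 (all_cons eq16_89 (all_cons eq16_90 (all_cons eq16_91 (all_cons eq16_92 (all_cons eq16_93 (all_cons eq16_94 (all_cons eq16_95 (all_cons eq16_96 (all_cons eq16_97 (all_cons eq16_98 (all_cons eq16_99 (all_cons eq16_100 (all_cons eq16_101 (all_cons eq16_102 (all_cons eq16_103 (all_cons eq16_104 (all_cons eq16_105 (all_cons eq16_106 (all_cons eq16_107 (all_cons eq16_108 (all_cons eq16_109 (all_cons eq16_110 (all_cons eq16_111 (all_cons eq16_112 (all_cons eq16_113 (all_cons eq16_114 (all_cons eq16_115 (all_cons eq16_116 (all_cons eq16_117 (all_cons eq16_118 (all_cons eq16_119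 (all_cons eq16_120 (all_cons eq16_121 (all_cons eq16_122 (all_cons eq16_123 (all_cons eq16_124 (all_cons eq16_125 (all_cons eq16_126 (all_cons eq16_127 (all_cons eq16_128 (all_cons eq16_129 (all_cons eq16_130 (all_cons eq16_131 (all_cons eq16_132 (all_cons eq16_133 (all_cons eq16_134 (all_cons eq16_135 (all_cons eq16_136 (all_cons eq16_137 (all_cons eq16_138 (all_cons eq16_139 (all_cons eq16_140 (all_cons eq16_141 (all_cons eq16_142 (all_cons eq16_143 (all_cons eq16_144 (all_cons eq16_145 (all_cons eq16_146 (all_cons eq16_147 (all_cons eq16_148 (all_cons eq16_149 (all_nil))))))))))))))))))))))))))))))))))))))))))))))))))))))))))))))))))))))))))))))))))))))))))))))))))))))))))))))))))))))))))))))))))))))))))))))))))))))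

theorem eq16_grp1 : ∀ c ∈ ([(934650, 6231), (940881, 6231), (947112, 6231), (953343, 6231), (959574, 6231), (965805, 6231), (972036, 6231), (978267, 6231), (984498, 6231), (990729, 6231), (996960, 6231), (1003191, 6231), (1009422, 6231), (1015653, 6231), (1021884, 6231), (1028115, 6231), (1034346, 6231), (1040577, 6231), (1046808, 6231), (1053039, 6231), (1059270, 6231), (1065501, 6231), (1071732, 6231), (1077963, 6231), (1084194, 6231), (1090425, 6231), (1096656, 6231), (1102887, 6231), (1109118, 6231), (1115349, 6231), (1121580, 6231), (1127811, 6231), (1134042, 6231), (1140273, 6231), (1146504, 6231), (1152735, 6231), (1158966, 6231), (1165197, 6231), (1171428, 6231), (1177659, 6231), (1183890, 6231), (1190121, 6231), (1196352, 6231), (1202583, 6231), (1208814, 6231), (1215045, 6231), (1221276, 6231), (1227507, 6231), (1233738, 6231), (1239969, 6231), (1246200, 6231), (1252431, 6231), (1258662, 6231), (1264893, 6231), (1271124, 6231), (1277355, 6231), (1283586, 6231), (1289817, 6231), (1296048, 6231), (1302279, 6231), (1308510, 6231), (1314741, 6231), (1320972,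 6231), (1327203, 6231), (1333434, 6231), (1339665, 6231), (1345896, 6231), (1352127, 6231), (1358358, 6231), (1364589, 6231), (1370820, 6231), (1377051, 6231), (1383282, 6231), (1389513, 6231), (1395744, 6231), (1401975, 6231), (1408206, 6231), (1414437, 6231), (1420668, 6231), (1426899, 6231), (1433130, 6231), (1439361, 6231), (1445592, 6231), (1451823, 6231), (1458054, 6231), (1464285, 6231), (1470516, 6231), (1476747, 6231), (1482978, 6231), (1489209, 6231), (1495440, 6231), (1501671, 6231), (1507902, 6231), (1514133, 6231), (1520364, 6231), (1526595, 6231), (1532826, 6174)] : List (ℕ × ℕ)), allR c.1 c.2 (fun q => Nat.beq (f16 q) ((fun q => f11 (f13 (f15 (f13 (f12 (f15 (f13 (f13 (f13 (f13 (f15 (f12 (f15 (f11 (f15 (q)))))))))))))))) q)) = true :=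
  all_cons eq16_150 (all_cons eq16_151 (all_cons eq16_152 (all_cons eq16_153 (all_cons eq16_154 (all_cons eq16_155 (all_cons eq16_156 (all_cons eq16_157 (all_cons eq16_158 (all_cons eq16_159 (all_cons eq16_160 (all_cons eq16_161 (all_cons eq16_162 (all_cons eq16_163 (all_cons eq16_164 (all_cons eq16_165 (all_cons eq16_166 (all_cons eq16_167 (all_cons eq16_168 (all_cons eq16_169 (all_cons eq16_170 (all_cons eq16_171 (all_cons eq16_172 (all_cons eq16_173 (all_cons eq16_174 (all_cons eq16_175 (all_cons eq16_176 (all_cons eq16_177 (all_cons eq16_178 (all_cons eq16_179 (all_cons eq16_180 (all_cons eq16_181 (all_cons eq16_182 (all_cons eq16_183 (all_cons eq16_184 (all_cons eq16_185 (all_cons eq16_186 (all_cons eq16_187 (all_cons eq16_188 (all_cons eq16_189 (all_cons eq16_190 (all_cons eq16_191 (all_cons eq16_192 (all_cons eq16_193 (all_cons eq16_194 (all_cons eq16_195 (all_cons eq16_196 (all_cons eq16_197 (all_cons eq16_198 (all_cons eq16_199 (all_cons eq16_200 (all_cons eq16_201 (all_cons eq16_202 (all_cons eq16_203 (all_cons eq16_204 (all_cons eq16_205 (all_cons eq16_206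 (all_cons eq16_207 (all_cons eq16_208 (all_cons eq16_209 (all_cons eq16_210 (all_cons eq16_211 (all_cons eq16_212 (all_cons eq16_213 (all_cons eq16_214 (all_cons eq16_215 (all_cons eq16_216 (all_cons eq16_217 (all_cons eq16_218 (all_cons eq16_219 (all_cons eq16_220 (all_cons eq16_221 (all_cons eq16_222 (all_cons eq16_223 (all_cons eq16_224 (all_cons eq16_225 (all_cons eq16_226 (all_cons eq16_227 (all_cons eq16_228 (all_cons eq16_229 (all_cons eq16_230 (all_cons eq16_231 (all_cons eq16_232 (all_cons eq16_233 (all_cons eq16_234 (all_cons eq16_235 (all_cons eq16_236 (all_cons eq16_237 (all_cons eq16_238 (all_cons eq16_239 (all_cons eq16_240 (all_cons eq16_241 (all_cons eq16_242 (all_cons eq16_243 (all_cons eq16_244 (all_cons eq16_245 (all_cons eq16_246 (all_nil)))))))))))))))))))))))))))))))))))))))))))))))))))))))))))))))))))))))))))))))))))))))))))))))))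

/-- the table agrees with the word -/
theorem eq16 : ∀ q < 1539000, f16 q = wordF W16 q :=
  eq_of_chunks (f := f16) (g := (fun q => f11 (f13 (f15 (f13 (f12 (f15 (f13 (f13 (f13 (f13 (f15 (f12 (f15 (f11 (f15 (q))))))))))))))))) ([(0, 6231), (6231, 6231), (12462, 6231), (18693, 6231), (24924, 6231), (31155, 6231), (37386, 6231), (43617, 6231), (49848, 6231), (56079, 6231), (62310, 6231), (68541, 6231), (74772, 6231), (81003, 6231), (87234, 6231), (93465, 6231), (99696, 6231), (105927, 6231), (112158, 6231), (118389, 6231), (124620, 6231), (130851, 6231), (137082, 6231), (143313, 6231), (149544, 6231), (155775, 6231), (162006, 6231), (168237, 6231), (174468, 6231), (180699, 6231), (186930, 6231), (193161, 6231), (199392, 6231), (205623, 6231), (211854, 6231), (218085, 6231), (224316, 6231), (230547, 6231), (236778, 6231), (243009, 6231), (249240, 6231), (255471, 6231), (261702, 6231), (267933, 6231), (274164, 6231), (280395, 6231), (286626, 6231), (292857, 6231), (299088, 6231), (305319, 6231), (311550, 6231), (317781, 6231), (324012, 6231), (330243, 6231), (336474, 6231),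 (342705, 6231), (348936, 6231), (355167, 6231), (361398, 6231), (367629, 6231), (373860, 6231), (380091, 6231), (386322, 6231), (392553, 6231), (398784, 6231), (405015, 6231), (411246, 6231), (417477, 6231), (423708, 6231), (429939, 6231), (436170, 6231), (442401, 6231), (448632, 6231), (454863, 6231), (461094, 6231), (467325, 6231), (473556, 6231), (479787, 6231), (486018, 6231), (492249, 6231), (498480, 6231), (504711, 6231), (510942, 6231), (517173, 6231), (523404, 6231), (529635, 6231), (535866, 6231), (542097, 6231), (548328, 6231), (554559, 6231), (560790, 6231), (567021, 6231), (573252, 6231), (579483, 6231), (585714, 6231), (591945, 6231), (598176, 6231), (604407, 6231), (610638, 6231), (616869, 6231), (623100, 6231), (629331, 6231), (635562, 6231), (641793, 6231), (648024, 6231), (654255, 6231), (660486, 6231), (666717, 6231), (672948, 6231), (679179, 6231), (685410, 6231), (691641, 6231), (697872, 6231), (704103, 6231), (710334, 6231), (716565, 6231), (722796, 6231), (729027, 6231), (735258, 6231), (741489, 6231), (747720, 6231), (753951, 6231), (760182, 6231),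 (766413, 6231), (772644, 6231), (778875, 6231), (785106, 6231), (791337, 6231), (797568, 6231), (803799, 6231), (810030, 6231), (816261, 6231), (822492, 6231), (828723, 6231), (834954, 6231), (841185, 6231), (847416, 6231), (853647, 6231), (859878, 6231), (866109, 6231), (872340, 6231), (878571, 6231), (884802, 6231), (891033, 6231), (897264, 6231), (903495, 6231), (909726, 6231), (915957, 6231), (922188, 6231), (928419, 6231)] ++ [(934650, 6231), (940881, 6231), (947112, 6231), (953343, 6231), (959574, 6231), (965805, 6231), (972036, 6231), (978267, 6231), (984498, 6231), (990729, 6231), (996960, 6231), (1003191, 6231), (1009422, 6231), (1015653, 6231), (1021884, 6231), (1028115, 6231), (1034346, 6231), (1040577, 6231), (1046808, 6231), (1053039, 6231), (1059270, 6231), (1065501, 6231), (1071732, 6231), (1077963, 6231), (1084194, 6231), (1090425, 6231), (1096656, 6231), (1102887, 6231), (1109118, 6231), (1115349, 6231), (1121580, 6231), (1127811, 6231), (1134042, 6231), (1140273, 6231), (1146504, 6231), (1152735, 6231), (1158966, 6231), (1165197, 6231), (1171428, 6231),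 (1177659, 6231), (1183890, 6231), (1190121, 6231), (1196352, 6231), (1202583, 6231), (1208814, 6231), (1215045, 6231), (1221276, 6231), (1227507, 6231), (1233738, 6231), (1239969, 6231), (1246200, 6231), (1252431, 6231), (1258662, 6231), (1264893, 6231), (1271124, 6231), (1277355, 6231), (1283586, 6231), (1289817, 6231), (1296048, 6231), (1302279, 6231), (1308510, 6231), (1314741, 6231), (1320972, 6231), (1327203, 6231), (1333434, 6231), (1339665, 6231), (1345896, 6231), (1352127, 6231), (1358358, 6231), (1364589, 6231), (1370820, 6231), (1377051, 6231), (1383282, 6231), (1389513, 6231), (1395744, 6231), (1401975, 6231), (1408206, 6231), (1414437, 6231), (1420668, 6231), (1426899, 6231), (1433130, 6231), (1439361, 6231), (1445592, 6231), (1451823, 6231), (1458054, 6231), (1464285, 6231), (1470516, 6231), (1476747, 6231), (1482978, 6231), (1489209, 6231), (1495440, 6231), (1501671, 6231), (1507902, 6231), (1514133, 6231), (1520364, 6231), (1526595, 6231), (1532826, 6174)]) (by decide +kernel) (all_append (eq16_grp0) eq16_grp1)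

end Cfsg.Agent.HNOut
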