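import Cfsg.Agent.Lib.Lead.HNOut.C8x0
import Cfsg.Agent.Lib.Lead.HNOut.C8x1
import Cfsg.Agent.Lib.Lead.HNOut.C8x2
import Cfsg.Agent.Lib.Lead.HNOut.C8x3
import Cfsg.Agent.Lib.Lead.HNOut.C8x4
import Cfsg.Agent.Lib.Lead.HNOut.C8x5
import Cfsg.Agent.Lib.Lead.HNOut.C8x6
import Cfsg.Agent.Lib.Lead.HNOut.C8x7
import Cfsg.Agent.Lib.Lead.HNOut.C8x8

/-! # The outer automorphism group of the Harada–Norton group: the element number 8 (generated) -/

set_option autoImplicit false
set_option maxRecDepth 100000

namespace Cfsg.Agent.HNOut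

open Cfsg.Agent.PF Cfsg.Agent.Lib.Helper6 Cfsg.Agent.Lib.Helper6.TC Cfsg.Agent.Lib.Helper6.NatArr
open Cfsg.Agent.PL (Acts evalF)

theorem eq8_grp0 : ∀ c ∈ ([(0, 7125), (7125, 7125), (14250, 7125), (21375, 7125), (28500, 7125), (35625, 7125), (42750, 7125), (49875, 7125), (57000, 7125), (64125, 7125), (71250, 7125), (78375, 7125), (85500, 7125), (92625, 7125), (99750, 7125), (106875, 7125), (114000, 7125), (121125, 7125), (128250, 7125), (135375, 7125), (142500, 7125), (149625, 7125), (156750, 7125), (163875, 7125), (171000, 7125), (178125, 7125), (185250, 7125), (192375, 7125), (199500, 7125), (206625, 7125), (213750, 7125), (220875, 7125), (228000, 7125), (235125, 7125), (242250, 7125), (249375, 7125), (256500, 7125), (263625, 7125), (270750, 7125), (277875, 7125), (285000, 7125), (292125, 7125), (299250, 7125), (306375, 7125), (313500, 7125), (320625, 7125), (327750, 7125), (334875, 7125), (342000, 7125), (349125, 7125), (356250, 7125), (363375, 7125), (370500, 7125), (377625, 7125), (384750, 7125), (391875, 7125), (399000, 7125), (406125,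 7125), (413250, 7125), (420375, 7125), (427500, 7125), (434625, 7125), (441750, 7125), (448875, 7125), (456000, 7125), (463125, 7125), (470250, 7125), (477375, 7125), (484500, 7125), (491625, 7125), (498750, 7125), (505875, 7125), (513000, 7125), (520125, 7125), (527250, 7125), (534375, 7125), (541500, 7125), (548625, 7125), (555750, 7125), (562875, 7125), (570000, 7125), (577125, 7125), (584250, 7125), (591375, 7125), (598500, 7125), (605625, 7125), (612750, 7125), (619875, 7125), (627000, 7125), (634125, 7125), (641250, 7125), (648375, 7125), (655500, 7125), (662625, 7125), (669750, 7125), (676875, 7125), (684000, 7125), (691125, 7125), (698250, 7125), (705375, 7125), (712500, 7125), (719625, 7125), (726750, 7125), (733875, 7125), (741000, 7125), (748125, 7125), (755250, 7125), (762375, 7125), (769500, 7125), (776625, 7125), (783750, 7125), (790875, 7125), (798000, 7125), (805125, 7125), (812250, 7125), (819375, 7125), (826500, 7125), (833625, 7125), (840750, 7125), (847875, 7125), (855000, 7125), (862125, 7125), (869250, 7125), (876375,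 7125), (883500, 7125), (890625, 7125), (897750, 7125), (904875, 7125), (912000, 7125), (919125, 7125), (926250, 7125), (933375, 7125), (940500, 7125), (947625, 7125), (954750, 7125), (961875, 7125), (969000, 7125), (976125, 7125), (983250, 7125), (990375, 7125), (997500, 7125), (1004625, 7125), (1011750, 7125), (1018875, 7125), (1026000, 7125), (1033125, 7125), (1040250, 7125), (1047375, 7125), (1054500, 7125), (1061625, 7125)] : List (ℕ × ℕ)), allR c.1 c.2 (fun q => Nat.beq (f8 q) ((fun q => f7 (f2 (f1 (f7 (f4 (f6 (f0 (f3 (f1 (f1 (f3 (f1 (f6 (q)))))))))))))) q)) = true :=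
  all_cons eq8_0 (all_cons eq8_1 (all_cons eq8_2 (all_cons eq8_3 (all_cons eq8_4 (all_cons eq8_5 (all_cons eq8_6 (all_cons eq8_7 (all_cons eq8_8 (all_cons eq8_9 (all_cons eq8_10 (all_cons eq8_11 (all_cons eq8_12 (all_cons eq8_13 (all_cons eq8_14 (all_cons eq8_15 (all_cons eq8_16 (all_cons eq8_17 (all_cons eq8_18 (all_cons eq8_19 (all_cons eq8_20 (all_cons eq8_21 (all_cons eq8_22 (all_cons eq8_23 (all_cons eq8_24 (all_cons eq8_25 (all_cons eq8_26 (all_cons eq8_27 (all_cons eq8_28 (all_cons eq8_29 (all_cons eq8_30 (all_cons eq8_31 (all_cons eq8_32 (all_cons eq8_33 (all_cons eq8_34 (all_cons eq8_35 (all_cons eq8_36 (all_cons eq8_37 (all_cons eq8_38 (all_cons eq8_39 (all_cons eq8_40 (all_cons eq8_41 (all_cons eq8_42 (all_cons eq8_43 (all_cons eq8_44 (all_cons eq8_45 (all_cons eq8_46 (all_cons eq8_47 (all_cons eq8_48 (all_cons eq8_49 (all_cons eq8_50 (all_cons eq8_51 (all_cons eq8_52 (all_cons eq8_53 (all_cons eq8_54 (all_cons eq8_55 (all_cons eq8_56 (all_cons eq8_57 (all_cons eq8_58 (all_cons eq8_59 (all_cons eq8_60 (all_cons eq8_61 (all_cons eq8_62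 (all_cons eq8_63 (all_cons eq8_64 (all_cons eq8_65 (all_cons eq8_66 (all_cons eq8_67 (all_cons eq8_68 (all_cons eq8_69 (all_cons eq8_70 (all_cons eq8_71 (all_cons eq8_72 (all_cons eq8_73 (all_cons eq8_74 (all_cons eq8_75 (all_cons eq8_76 (all_cons eq8_77 (all_cons eq8_78 (all_cons eq8_79 (all_cons eq8_80 (all_cons eq8_81 (all_cons eq8_82 (all_cons eq8_83 (all_cons eq8_84 (all_cons eq8_85 (all_cons eq8_86 (all_cons eq8_87 (all_cons eq8_88 (all_cons eq8_89 (all_cons eq8_90 (all_cons eq8_91 (all_cons eq8_92 (all_cons eq8_93 (all_cons eq8_94 (all_cons eq8_95 (all_cons eq8_96 (all_cons eq8_97 (all_cons eq8_98 (all_cons eq8_99 (all_cons eq8_100 (all_cons eq8_101 (all_cons eq8_102 (all_cons eq8_103 (all_cons eq8_104 (all_cons eq8_105 (all_cons eq8_106 (all_cons eq8_107 (all_cons eq8_108 (all_cons eq8_109 (all_cons eq8_110 (all_cons eq8_111 (all_cons eq8_112 (all_cons eq8_113 (all_cons eq8_114 (all_cons eq8_115 (all_cons eq8_116 (all_cons eq8_117 (all_cons eq8_118 (all_cons eq8_119 (all_cons eq8_120 (all_cons eq8_121 (all_cons eq8_122 (all_cons eq8_123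 (all_cons eq8_124 (all_cons eq8_125 (all_cons eq8_126 (all_cons eq8_127 (all_cons eq8_128 (all_cons eq8_129 (all_cons eq8_130 (all_cons eq8_131 (all_cons eq8_132 (all_cons eq8_133 (all_cons eq8_134 (all_cons eq8_135 (all_cons eq8_136 (all_cons eq8_137 (all_cons eq8_138 (all_cons eq8_139 (all_cons eq8_140 (all_cons eq8_141 (all_cons eq8_142 (all_cons eq8_143 (all_cons eq8_144 (all_cons eq8_145 (all_cons eq8_146 (all_cons eq8_147 (all_cons eq8_148 (all_cons eq8_149 (all_nil))))))))))))))))))))))))))))))))))))))))))))))))))))))))))))))))))))))))))))))))))))))))))))))))))))))))))))))))))))))))))))))))))))))))))))))))))))))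

theorem eq8_grp1 : ∀ c ∈ ([(1068750, 7125), (1075875, 7125), (1083000, 7125), (1090125, 7125), (1097250, 7125), (1104375, 7125), (1111500, 7125), (1118625, 7125), (1125750, 7125), (1132875, 7125), (1140000, 7125), (1147125, 7125), (1154250, 7125), (1161375, 7125), (1168500, 7125), (1175625, 7125), (1182750, 7125), (1189875, 7125), (1197000, 7125), (1204125, 7125), (1211250, 7125), (1218375, 7125), (1225500, 7125), (1232625, 7125), (1239750, 7125), (1246875, 7125), (1254000, 7125), (1261125, 7125), (1268250, 7125), (1275375, 7125), (1282500, 7125), (1289625, 7125), (1296750, 7125), (1303875, 7125), (1311000, 7125), (1318125, 7125), (1325250, 7125), (1332375, 7125), (1339500, 7125), (1346625, 7125), (1353750, 7125), (1360875, 7125), (1368000, 7125), (1375125, 7125), (1382250, 7125), (1389375, 7125), (1396500, 7125), (1403625, 7125), (1410750, 7125), (1417875, 7125), (1425000, 7125), (1432125, 7125), (1439250, 7125), (1446375, 7125), (1453500, 7125), (1460625, 7125), (1467750, 7125), (1474875, 7125), (1482000, 7125), (1489125, 7125), (1496250,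 7125), (1503375, 7125), (1510500, 7125), (1517625, 7125), (1524750, 7125), (1531875, 7125)] : List (ℕ × ℕ)), allR c.1 c.2 (fun q => Nat.beq (f8 q) ((fun q => f7 (f2 (f1 (f7 (f4 (f6 (f0 (f3 (f1 (f1 (f3 (f1 (f6 (q)))))))))))))) q)) = true :=
  all_cons eq8_150 (all_cons eq8_151 (all_cons eq8_152 (all_cons eq8_153 (all_cons eq8_154 (all_cons eq8_155 (all_cons eq8_156 (all_cons eq8_157 (all_cons eq8_158 (all_cons eq8_159 (all_cons eq8_160 (all_cons eq8_161 (all_cons eq8_162 (all_cons eq8_163 (all_cons eq8_164 (all_cons eq8_165 (all_cons eq8_166 (all_cons eq8_167 (all_cons eq8_168 (all_cons eq8_169 (all_cons eq8_170 (all_cons eq8_171 (all_cons eq8_172 (all_cons eq8_173 (all_cons eq8_174 (all_cons eq8_175 (all_cons eq8_176 (all_cons eq8_177 (all_cons eq8_178 (all_cons eq8_179 (all_cons eq8_180 (all_cons eq8_181 (all_cons eq8_182 (all_cons eq8_183 (all_cons eq8_184 (all_cons eq8_185 (all_cons eq8_186 (all_cons eq8_187 (all_cons eq8_188 (all_cons eq8_189 (all_cons eq8_190 (all_cons eq8_191 (all_cons eq8_192 (all_cons eq8_193 (all_cons eq8_194 (all_cons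 eq8_195 (all_cons eq8_196 (all_cons eq8_197 (all_cons eq8_198 (all_cons eq8_199 (all_cons eq8_200 (all_cons eq8_201 (all_cons eq8_202 (all_cons eq8_203 (all_cons eq8_204 (all_cons eq8_205 (all_cons eq8_206 (all_cons eq8_207 (all_cons eq8_208 (all_cons eq8_209 (all_cons eq8_210 (all_cons eq8_211 (all_cons eq8_212 (all_cons eq8_213 (all_cons eq8_214 (all_cons eq8_215 (all_nil))))))))))))))))))))))))))))))))))))))))))))))))))))))))))))))))))

/-- the table agrees with the word -/
theorem eq8 : ∀ q < 1539000, f8 q = wordF W8 q :=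
  eq_of_chunks (f := f8) (g := (fun q => f7 (f2 (f1 (f7 (f4 (f6 (f0 (f3 (f1 (f1 (f3 (f1 (f6 (q))))))))))))))) ([(0, 7125), (7125, 7125), (14250, 7125), (21375, 7125), (28500, 7125), (35625, 7125), (42750, 7125), (49875, 7125), (57000, 7125), (64125, 7125), (71250, 7125), (78375, 7125), (85500, 7125), (92625, 7125), (99750, 7125), (106875, 7125), (114000, 7125), (121125, 7125), (128250, 7125), (135375, 7125), (142500, 7125), (149625, 7125), (156750, 7125), (163875, 7125), (171000, 7125), (178125, 7125), (185250, 7125), (192375, 7125), (199500, 7125), (206625, 7125), (213750, 7125), (220875, 7125), (228000, 7125), (235125, 7125), (242250, 7125), (249375, 7125), (256500, 7125), (263625, 7125), (270750, 7125), (277875, 7125), (285000, 7125), (292125, 7125), (299250, 7125), (306375, 7125), (313500, 7125), (320625, 7125), (327750, 7125), (334875, 7125), (342000, 7125), (349125, 7125), (356250, 7125), (363375, 7125), (370500, 7125), (377625, 7125), (384750, 7125), (391875, 7125), (399000, 7125), (406125, 7125), (413250, 7125), (420375, 7125), (427500,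 7125), (434625, 7125), (441750, 7125), (448875, 7125), (456000, 7125), (463125, 7125), (470250, 7125), (477375, 7125), (484500, 7125), (491625, 7125), (498750, 7125), (505875, 7125), (513000, 7125), (520125, 7125), (527250, 7125), (534375, 7125), (541500, 7125), (548625, 7125), (555750, 7125), (562875, 7125), (570000, 7125), (577125, 7125), (584250, 7125), (591375, 7125), (598500, 7125), (605625, 7125), (612750, 7125), (619875, 7125), (627000, 7125), (634125, 7125), (641250, 7125), (648375, 7125), (655500, 7125), (662625, 7125), (669750, 7125), (676875, 7125), (684000, 7125), (691125, 7125), (698250, 7125), (705375, 7125), (712500, 7125), (719625, 7125), (726750, 7125), (733875, 7125), (741000, 7125), (748125, 7125), (755250, 7125), (762375, 7125), (769500, 7125), (776625, 7125), (783750, 7125), (790875, 7125), (798000, 7125), (805125, 7125), (812250, 7125), (819375, 7125), (826500, 7125), (833625, 7125), (840750, 7125), (847875, 7125), (855000, 7125), (862125, 7125), (869250, 7125), (876375, 7125), (883500, 7125), (890625, 7125), (897750,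 7125), (904875, 7125), (912000, 7125), (919125, 7125), (926250, 7125), (933375, 7125), (940500, 7125), (947625, 7125), (954750, 7125), (961875, 7125), (969000, 7125), (976125, 7125), (983250, 7125), (990375, 7125), (997500, 7125), (1004625, 7125), (1011750, 7125), (1018875, 7125), (1026000, 7125), (1033125, 7125), (1040250, 7125), (1047375, 7125), (1054500, 7125), (1061625, 7125)] ++ [(1068750, 7125), (1075875, 7125), (1083000, 7125), (1090125, 7125), (1097250, 7125), (1104375, 7125), (1111500, 7125), (1118625, 7125), (1125750, 7125), (1132875, 7125), (1140000, 7125), (1147125, 7125), (1154250, 7125), (1161375, 7125), (1168500, 7125), (1175625, 7125), (1182750, 7125), (1189875, 7125), (1197000, 7125), (1204125, 7125), (1211250, 7125), (1218375, 7125), (1225500, 7125), (1232625, 7125), (1239750, 7125), (1246875, 7125), (1254000, 7125), (1261125, 7125), (1268250, 7125), (1275375, 7125), (1282500, 7125), (1289625, 7125), (1296750, 7125), (1303875, 7125), (1311000, 7125), (1318125, 7125), (1325250, 7125), (1332375, 7125), (1339500, 7125), (1346625,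 7125), (1353750, 7125), (1360875, 7125), (1368000, 7125), (1375125, 7125), (1382250, 7125), (1389375, 7125), (1396500, 7125), (1403625, 7125), (1410750, 7125), (1417875, 7125), (1425000, 7125), (1432125, 7125), (1439250, 7125), (1446375, 7125), (1453500, 7125), (1460625, 7125), (1467750, 7125), (1474875, 7125), (1482000, 7125), (1489125, 7125), (1496250, 7125), (1503375, 7125), (1510500, 7125), (1517625, 7125), (1524750, 7125), (1531875, 7125)]) (by decide +kernel) (all_append (eq8_grp0) eq8_grp1)

end Cfsg.Agent.HNOut
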