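import Cfsg.Agent.Lib.Helper8.HNBase
import Cfsg.Agent.Lib.Lead.HNOut.Fgen
import Cfsg.Agent.Lib.Lead.HNOut.T0
import Cfsg.Agent.Lib.Lead.HNOut.T1
import Cfsg.Agent.Lib.Lead.HNOut.T2
import Cfsg.Agent.Lib.Lead.HNOut.T3
import Cfsg.Agent.Lib.Lead.HNOut.T4
import Cfsg.Agent.Lib.Lead.HNOut.T6
import Cfsg.Agent.Lib.Lead.HNOut.T7
import Cfsg.Agent.Lib.Lead.HNOut.T8
import Cfsg.Agent.Lib.Lead.HNOut.T9
import Cfsg.Agent.Lib.Lead.HNOut.T10
import Cfsg.Agent.Lib.Lead.HNOut.T11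
import Cfsg.Agent.Lib.Lead.HNOut.T12
import Cfsg.Agent.Lib.Lead.HNOut.T13
import Cfsg.Agent.Lib.Lead.HNOut.T14
import Cfsg.Agent.Lib.Lead.HNOut.T15
import Cfsg.Agent.Lib.Lead.HNOut.T16
import Cfsg.Agent.Lib.Lead.HNOut.T17
import Cfsg.Agent.Lib.Lead.HNOut.T5
import Cfsg.Agent.Lib.Lead.HNOut.LevA
import Cfsg.Agent.Lib.Lead.HNOut.LevB

/-! # The outer automorphism group of the Harada–Norton group: the tables are actions of elements of the permutation group (generated) -/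

set_option autoImplicit false
set_option maxRecDepth 100000

namespace Cfsg.Agent.HNOut

open Cfsg.Agent.PF Cfsg.Agent.Lib.Helper6 Cfsg.Agent.Lib.Helper6.TC Cfsg.Agent.Lib.Helper6.NatArr
open Cfsg.Agent.PL (Acts evalF)
open Cfsg.Agent.Lib.Helper5 Cfsg.Agent.Lib.Helper8.HNBase Cfsg.Agent.Lib.Lead.HNP

theorem rep0 : Rep P f0 := (rep_fgen (i := 0) (by norm_num)).congr eq0

theorem actsP0 : Acts (gP 0) f0 := Cfsg.Agent.PF.Acts.congr (acts_fgen (i := 0) (by norm_num)) eq0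

theorem rep1 : Rep P f1 := (rep_fgen (i := 1) (by norm_num)).congr eq1

theorem actsP1 : Acts (gP 1) f1 := Cfsg.Agent.PF.Acts.congr (acts_fgen (i := 1) (by norm_num)) eq1

theorem rep2 : Rep P f2 := (rep_fgen (i := 2) (by norm_num)).congr eq2

theorem actsP2 : Acts (gP 2) f2 := Cfsg.Agent.PF.Acts.congr (acts_fgen (i := 2) (by norm_num)) eq2

theorem rep3 : Rep P f3 := (rep_fgen (i := 3) (by norm_num)).congr eq3

theorem actsP3 : Acts (gP 3) f3 := Cfsg.Agent.PF.Acts.congr (acts_fgen (i := 3) (by norm_num)) eq3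

theorem rep4 : Rep P f4 := (rep_fgen (i := 4) (by norm_num)).congr eq4

theorem actsP4 : Acts (gP 4) f4 := Cfsg.Agent.PF.Acts.congr (acts_fgen (i := 4) (by norm_num)) eq4

theorem rep6 : Rep P f6 := (rep_fgen (i := 6) (by norm_num)).congr eq6

theorem actsP6 : Acts (gP 6) f6 := Cfsg.Agent.PF.Acts.congr (acts_fgen (i := 6) (by norm_num)) eq6

theorem rep7 : Rep P f7 := (rep_fgen (i := 7) (by norm_num)).congr eq7

theorem actsP7 : Acts (gP 7) f7 := Cfsg.Agent.PF.Acts.congr (acts_fgen (i := 7) (by norm_num)) eq7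

theorem rep8 : Rep P f8 :=
  (rep_wordF (l := W8) (Reps.cons rep7 (Reps.cons rep2 (Reps.cons rep1 (Reps.cons rep7 (Reps.cons rep4 (Reps.cons rep6 (Reps.cons rep0 (Reps.cons rep3 (Reps.cons rep1 (Reps.cons rep1 (Reps.cons rep3 (Reps.cons rep1 (Reps.cons rep6 (Reps.nil P))))))))))))))).congr eq8

theorem rep9 : Rep P f9 :=
  (rep_wordF (l := W9) (Reps.cons rep6 (Reps.cons rep6 (Reps.cons rep4 (Reps.cons rep3 (Reps.cons rep4 (Reps.cons rep6 (Reps.cons rep2 (Reps.cons rep2 (Reps.cons rep0 (Reps.cons rep3 (Reps.cons rep3 (Reps.cons rep4 (Reps.cons rep2 (Reps.cons rep4 (Reps.cons rep0 (Reps.cons rep2 (Reps.cons rep2 (Reps.cons rep1 (Reps.cons rep2 (Reps.cons rep4 (Reps.cons rep2 (Reps.cons rep1 (Reps.cons rep3 (Reps.cons rep3 (Reps.cons rep1 (Reps.cons rep3 (Reps.cons rep4 (Reps.nil P))))))))))))))))))))))))))))).congr eq9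

theorem rep10 : Rep P f10 :=
  (rep_wordF (l := W10) (Reps.cons rep4 (Reps.cons rep3 (Reps.cons rep6 (Reps.cons rep4 (Reps.cons rep2 (Reps.cons rep0 (Reps.cons rep2 (Reps.cons rep4 (Reps.cons rep2 (Reps.cons rep0 (Reps.cons rep6 (Reps.cons rep4 (Reps.cons rep2 (Reps.cons rep4 (Reps.cons rep2 (Reps.cons rep4 (Reps.cons rep6 (Reps.cons rep4 (Reps.cons rep3 (Reps.cons rep1 (Reps.cons rep2 (Reps.cons rep4 (Reps.cons rep0 (Reps.cons rep2 (Reps.cons rep2 (Reps.cons rep0 (Reps.cons rep3 (Reps.cons rep4 (Reps.cons rep3 (Reps.cons rep3 (Reps.cons rep1 (Reps.cons rep2 (Reps.cons rep4 (Reps.cons rep2 (Reps.cons rep1 (Reps.cons rep4 (Reps.cons rep2 (Reps.cons rep1 (Reps.nil P)))))))))))))))))))))))))))))))))))))))).congr eq10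

/-- the element `x` of order 19, as the image of a word -/
noncomputable def x : Equiv.Perm (Fin 1539000) := HNTC.data.ρ (SimpG.wordG HNTC.data [6, 3, 0, 6, 5, 7, 1, 2, 0, 0, 2, 0, 7])
/-- the element `y` normalising `⟨x⟩` -/
noncomputable def y : Equiv.Perm (Fin 1539000) := Classical.choose rep9
/-- the element `w` normalising `⟨y⟩` -/
noncomputable def w : Equiv.Perm (Fin 1539000) := Classical.choose rep10

theorem hx : x ∈ P := ⟨_, rfl⟩
theorem hy : y ∈ P := (Classical.choose_spec rep9).1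
theorem hw : w ∈ P := (Classical.choose_spec rep10).1

theorem x_eq : x = gP 7 * (gP 2 * (gP 1 * (gP 7 * (gP 4 * (gP 6 * (gP 0 * (gP 3 * (gP 1 * (gP 1 * (gP 3 * (gP 1 * (gP 6 * (1))))))))))))) :=
  GenBridge.ρ_wordG_prod HNTC.data [6, 3, 0, 6, 5, 7, 1, 2, 0, 0, 2, 0, 7] (by decide)

theorem ax : Acts x f8 := by
  rw [x_eq]
  have h := (actsP7.mul (actsP2.mul (actsP1.mul (actsP7.mul (actsP4.mul (actsP6.mul (actsP0.mul (actsP3.mul (actsP1.mul (actsP1.mul (actsP3.mul (actsP1.mul (actsP6.mul (Cfsg.Agent.PL.Acts.one (n := 1539000)))))))))))))))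
  exact Cfsg.Agent.PF.Acts.congr h eq8
theorem ay : Acts y f9 := (Classical.choose_spec rep9).2
theorem aw : Acts w f10 := (Classical.choose_spec rep10).2

/-- the subgroup generated by `x`, `y`, `w` -/
noncomputable abbrev K : Subgroup (Equiv.Perm (Fin 1539000)) := Subgroup.closure {x, y, w}

theorem K_le : K ≤ P := by
  rw [Subgroup.closure_le]
  intro g hg
  rcases hg with rfl | rfl | rfl
  · exact hx
  · exact hy
  · exact hw

theorem repK8 : Rep K f8 := ⟨x, Subgroup.subset_closure (by simp), ax⟩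
theorem repK9 : Rep K f9 := ⟨y, Subgroup.subset_closure (by simp), ay⟩
theorem repK10 : Rep K f10 := ⟨w, Subgroup.subset_closure (by simp), aw⟩

theorem rep11 : Rep K f11 :=
  (rep_wordF (l := W11) (Reps.cons repK8 (Reps.cons repK8 (Reps.cons repK9 (Reps.cons repK9 (Reps.cons repK10 (Reps.cons repK8 (Reps.cons repK8 (Reps.cons repK8 (Reps.cons repK10 (Reps.cons repK8 (Reps.cons repK8 (Reps.cons repK8 (Reps.cons repK10 (Reps.cons repK9 (Reps.cons repK8 (Reps.cons repK10 (Reps.cons repK8 (Reps.cons repK8 (Reps.cons repK10 (Reps.cons repK9 (Reps.cons repK8 (Reps.cons repK10 (Reps.cons repK8 (Reps.cons repK8 (Reps.nil K)))))))))))))))))))))))))).congr eq11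

theorem repQ11 : Rep P f11 := rep11.mono K_le

theorem rep12 : Rep K f12 :=
  (rep_wordF (l := W12) (Reps.cons repK10 (Reps.cons repK9 (Reps.cons repK10 (Reps.cons repK8 (Reps.cons repK8 (Reps.cons repK8 (Reps.cons repK9 (Reps.cons rep11 (Reps.cons repK8 (Reps.cons repK10 (Reps.cons repK9 (Reps.cons repK10 (Reps.cons repK8 (Reps.cons repK9 (Reps.cons repK10 (Reps.nil K))))))))))))))))).congr eq12

theorem repQ12 : Rep P f12 := rep12.mono K_le

theorem rep13 : Rep K f13 :=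
  (rep_wordF (l := W13) (Reps.cons rep11 (Reps.cons rep12 (Reps.cons rep11 (Reps.cons rep12 (Reps.cons rep12 (Reps.cons rep11 (Reps.cons rep11 (Reps.cons rep11 (Reps.cons rep11 (Reps.cons rep11 (Reps.cons rep12 (Reps.cons rep11 (Reps.cons rep11 (Reps.cons rep12 (Reps.cons rep12 (Reps.cons rep12 (Reps.cons rep11 (Reps.cons rep12 (Reps.cons repK9 (Reps.cons rep11 (Reps.cons repK8 (Reps.cons rep11 (Reps.cons rep11 (Reps.cons rep12 (Reps.cons repK9 (Reps.cons rep11 (Reps.cons repK9 (Reps.cons repK9 (Reps.cons repK10 (Reps.cons rep12 (Reps.cons repK9 (Reps.cons repK10 (Reps.cons repK10 (Reps.cons rep11 (Reps.cons repK10 (Reps.nil K))))))))))))))))))))))))))))))))))))).congr eq13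

theorem repQ13 : Rep P f13 := rep13.mono K_le

theorem rep14 : Rep K f14 :=
  (rep_wordF (l := W14) (Reps.cons rep11 (Reps.cons rep11 (Reps.cons rep13 (Reps.cons rep12 (Reps.cons rep12 (Reps.cons rep11 (Reps.cons rep13 (Reps.cons rep12 (Reps.cons rep13 (Reps.cons rep11 (Reps.cons rep13 (Reps.cons rep13 (Reps.cons rep13 (Reps.cons repK8 (Reps.cons repK9 (Reps.cons repK10 (Reps.cons repK8 (Reps.cons repK10 (Reps.cons repK9 (Reps.cons repK8 (Reps.cons rep12 (Reps.cons repK9 (Reps.cons repK8 (Reps.cons repK10 (Reps.cons rep11 (Reps.cons repK10 (Reps.cons rep11 (Reps.cons repK9 (Reps.cons repK10 (Reps.cons repK8 (Reps.nil K)))))))))))))))))))))))))))))))).congr eq14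

theorem repQ14 : Rep P f14 := rep14.mono K_le

theorem rep15 : Rep P f15 :=
  (rep_wordF (l := W15) (Reps.cons repQ12 (Reps.cons repQ14 (Reps.cons repQ12 (Reps.cons repQ11 (Reps.cons repQ14 (Reps.cons repQ13 (Reps.cons repQ13 (Reps.cons repQ13 (Reps.cons rep9 (Reps.cons repQ12 (Reps.cons repQ14 (Reps.cons rep8 (Reps.cons rep9 (Reps.cons rep9 (Reps.cons repQ14 (Reps.cons repQ14 (Reps.cons rep8 (Reps.cons rep8 (Reps.cons rep8 (Reps.cons rep10 (Reps.cons repQ14 (Reps.nil P))))))))))))))))))))))).congr eq15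

theorem rep16 : Rep P f16 :=
  (rep_wordF (l := W16) (Reps.cons repQ11 (Reps.cons repQ13 (Reps.cons rep15 (Reps.cons repQ13 (Reps.cons repQ12 (Reps.cons rep15 (Reps.cons repQ13 (Reps.cons repQ13 (Reps.cons repQ13 (Reps.cons repQ13 (Reps.cons rep15 (Reps.cons repQ12 (Reps.cons rep15 (Reps.cons repQ11 (Reps.cons rep15 (Reps.nil P))))))))))))))))).congr eq16

theorem rep17 : Rep P f17 :=
  (rep_wordF (l := W17) (Reps.cons repQ11 (Reps.cons repQ11 (Reps.cons repQ12 (Reps.cons rep16 (Reps.cons repQ13 (Reps.cons repQ14 (Reps.cons rep16 (Reps.cons rep15 (Reps.cons repQ14 (Reps.cons rep16 (Reps.cons repQ13 (Reps.cons repQ13 (Reps.cons repQ13 (Reps.nil P))))))))))))))).congr eq17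

theorem repsA0 : Reps P LA0.2.1 :=
  (Reps.cons rep8 (Reps.cons rep9 (Reps.cons rep10 (Reps.cons repQ11 (Reps.cons repQ12 (Reps.cons repQ13 (Reps.cons repQ14 (Reps.nil P))))))))

theorem repsKA0 : Reps K LA0.2.1 :=
  (Reps.cons repK8 (Reps.cons repK9 (Reps.cons repK10 (Reps.cons rep11 (Reps.cons rep12 (Reps.cons rep13 (Reps.cons rep14 (Reps.nil K))))))))

theorem repsA1 : Reps P LA1.2.1 :=
  (Reps.cons repQ11 (Reps.cons repQ12 (Reps.cons repQ13 (Reps.cons repQ14 (Reps.nil P)))))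

theorem repsKA1 : Reps K LA1.2.1 :=
  (Reps.cons rep11 (Reps.cons rep12 (Reps.cons rep13 (Reps.cons rep14 (Reps.nil K)))))

theorem repsA2 : Reps P LA2.2.1 :=
  (Reps.cons repQ13 (Reps.cons repQ14 (Reps.nil P)))

theorem repsKA2 : Reps K LA2.2.1 :=
  (Reps.cons rep13 (Reps.cons rep14 (Reps.nil K)))

theorem hA : ∀ L ∈ LA0 :: LsA, ∀ c ∈ L.2.1, Rep P c := by
  intro L hL
  simp only [LsA, List.mem_cons, List.not_mem_nil, or_false] at hL
  rcases hL with rfl | rfl | rfl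
  · exact repsA0
  · exact repsA1
  · exact repsA2

theorem hKA : ∀ L ∈ LA0 :: LsA, ∀ c ∈ L.2.1, Rep K c := by
  intro L hL
  simp only [LsA, List.mem_cons, List.not_mem_nil, or_false] at hL
  rcases hL with rfl | rfl | rfl
  · exact repsKA0
  · exact repsKA1
  · exact repsKA2

theorem repsB0 : Reps P LB0.2.1 :=
  (Reps.cons rep8 (Reps.cons rep9 (Reps.cons rep10 (Reps.cons repQ11 (Reps.cons repQ12 (Reps.cons repQ13 (Reps.cons repQ14 (Reps.cons rep15 (Reps.cons rep16 (Reps.cons rep17 (Reps.nil P)))))))))))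

theorem repsB1 : Reps P LB1.2.1 :=
  (Reps.cons repQ11 (Reps.cons repQ12 (Reps.cons repQ13 (Reps.cons repQ14 (Reps.cons rep15 (Reps.cons rep16 (Reps.cons rep17 (Reps.nil P))))))))

theorem repsB2 : Reps P LB2.2.1 :=
  (Reps.cons rep15 (Reps.cons rep16 (Reps.cons rep17 (Reps.nil P))))

theorem hB : ∀ L ∈ LB0 :: LsB, ∀ c ∈ L.2.1, Rep P c := by
  intro L hL
  simp only [LsB, List.mem_cons, List.not_mem_nil, or_false] at hL
  rcases hL with rfl | rfl | rfl
  · exact repsB0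
  · exact repsB1
  · exact repsB2


end Cfsg.Agent.HNOut
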