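import Cfsg.Agent.Lib.Lead.HNOut.C11x0
import Cfsg.Agent.Lib.Lead.HNOut.C11x1
import Cfsg.Agent.Lib.Lead.HNOut.C11x2
import Cfsg.Agent.Lib.Lead.HNOut.C11x3
import Cfsg.Agent.Lib.Lead.HNOut.C11x4
import Cfsg.Agent.Lib.Lead.HNOut.C11x5
import Cfsg.Agent.Lib.Lead.HNOut.C11x6
import Cfsg.Agent.Lib.Lead.HNOut.C11x7
import Cfsg.Agent.Lib.Lead.HNOut.C11x8
import Cfsg.Agent.Lib.Lead.HNOut.C11x9
import Cfsg.Agent.Lib.Lead.HNOut.C11x10
import Cfsg.Agent.Lib.Lead.HNOut.C11x11
import Cfsg.Agent.Lib.Lead.HNOut.C11x12
import Cfsg.Agent.Lib.Lead.HNOut.C11x13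
import Cfsg.Agent.Lib.Lead.HNOut.C11x14
import Cfsg.Agent.Lib.Lead.HNOut.C11x15

/-! # The outer automorphism group of the Harada–Norton group: the element number 11 (generated) -/

set_option autoImplicit false
set_option maxRecDepth 100000

namespace Cfsg.Agent.HNOut

open Cfsg.Agent.PF Cfsg.Agent.Lib.Helper6 Cfsg.Agent.Lib.Helper6.TC Cfsg.Agent.Lib.Helper6.NatArr
open Cfsg.Agent.PL (Acts evalF)

theorem eq11_grp0 : ∀ c ∈ ([(0, 3998), (3998, 3998), (7996, 3998), (11994, 3998), (15992, 3998), (19990, 3998), (23988, 3998), (27986, 3998), (31984, 3998), (35982, 3998), (39980, 3998), (43978, 3998), (47976, 3998), (51974, 3998), (55972, 3998), (59970, 3998), (63968, 3998), (67966, 3998), (71964, 3998), (75962, 3998), (79960, 3998), (83958, 3998), (87956, 3998), (91954, 3998), (95952, 3998), (99950, 3998), (103948, 3998), (107946, 3998), (111944, 3998), (115942, 3998), (119940, 3998), (123938, 3998), (127936, 3998), (131934, 3998), (135932, 3998), (139930, 3998), (143928, 3998), (147926, 3998), (151924, 3998), (155922, 3998), (159920, 3998), (163918, 3998), (167916, 3998),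 (171914, 3998), (175912, 3998), (179910, 3998), (183908, 3998), (187906, 3998), (191904, 3998), (195902, 3998), (199900, 3998), (203898, 3998), (207896, 3998), (211894, 3998), (215892, 3998), (219890, 3998), (223888, 3998), (227886, 3998), (231884, 3998), (235882, 3998), (239880, 3998), (243878, 3998), (247876, 3998), (251874, 3998), (255872, 3998), (259870, 3998), (263868, 3998), (267866, 3998), (271864, 3998), (275862, 3998), (279860, 3998), (283858, 3998), (287856, 3998), (291854, 3998), (295852, 3998), (299850, 3998), (303848, 3998), (307846, 3998), (311844, 3998), (315842, 3998), (319840, 3998), (323838, 3998), (327836, 3998), (331834, 3998), (335832, 3998), (339830, 3998), (343828, 3998), (347826, 3998), (351824, 3998), (355822, 3998), (359820, 3998), (363818, 3998), (367816, 3998), (371814, 3998), (375812, 3998), (379810, 3998), (383808, 3998), (387806, 3998), (391804, 3998), (395802, 3998), (399800, 3998), (403798, 3998), (407796, 3998), (411794, 3998), (415792, 3998), (419790, 3998), (423788, 3998), (427786, 3998), (431784, 3998), (435782, 3998), (439780,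 3998), (443778, 3998), (447776, 3998), (451774, 3998), (455772, 3998), (459770, 3998), (463768, 3998), (467766, 3998), (471764, 3998), (475762, 3998), (479760, 3998), (483758, 3998), (487756, 3998), (491754, 3998), (495752, 3998), (499750, 3998), (503748, 3998), (507746, 3998), (511744, 3998), (515742, 3998), (519740, 3998), (523738, 3998), (527736, 3998), (531734, 3998), (535732, 3998), (539730, 3998), (543728, 3998), (547726, 3998), (551724, 3998), (555722, 3998), (559720, 3998), (563718, 3998), (567716, 3998), (571714, 3998), (575712, 3998), (579710, 3998), (583708, 3998), (587706, 3998), (591704, 3998), (595702, 3998)] : List (ℕ × ℕ)), allR c.1 c.2 (fun q => Nat.beq (f11 q) ((fun q => f8 (f8 (f9 (f9 (f10 (f8 (f8 (f8 (f10 (f8 (f8 (f8 (f10 (f9 (f8 (f10 (f8 (f8 (f10 (f9 (f8 (f10 (f8 (f8 (q))))))))))))))))))))))))) q)) = true :=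
  all_cons eq11_0 (all_cons eq11_1 (all_cons eq11_2 (all_cons eq11_3 (all_cons eq11_4 (all_cons eq11_5 (all_cons eq11_6 (all_cons eq11_7 (all_cons eq11_8 (all_cons eq11_9 (all_cons eq11_10 (all_cons eq11_11 (all_cons eq11_12 (all_cons eq11_13 (all_cons eq11_14 (all_cons eq11_15 (all_cons eq11_16 (all_cons eq11_17 (all_cons eq11_18 (all_cons eq11_19 (all_cons eq11_20 (all_cons eq11_21 (all_cons eq11_22 (all_cons eq11_23 (all_cons eq11_24 (all_cons eq11_25 (all_cons eq11_26 (all_cons eq11_27 (all_cons eq11_28 (all_cons eq11_29 (all_cons eq11_30 (all_cons eq11_31 (all_cons eq11_32 (all_cons eq11_33 (all_cons eq11_34 (all_cons eq11_35 (all_cons eq11_36 (all_cons eq11_37 (all_cons eq11_38 (all_cons eq11_39 (all_cons eq11_40 (all_cons eq11_41 (all_cons eq11_42 (all_cons eq11_43 (all_cons eq11_44 (all_cons eq11_45 (all_cons eq11_46 (all_cons eq11_47 (all_cons eq11_48 (all_cons eq11_49 (all_cons eq11_50 (all_cons eq11_51 (all_cons eq11_52 (all_cons eq11_53 (all_cons eq11_54 (all_cons eq11_55 (all_cons eq11_56 (all_cons eq11_57 (all_cons eq11_58 (all_cons eq11_59 (all_cons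 eq11_60 (all_cons eq11_61 (all_cons eq11_62 (all_cons eq11_63 (all_cons eq11_64 (all_cons eq11_65 (all_cons eq11_66 (all_cons eq11_67 (all_cons eq11_68 (all_cons eq11_69 (all_cons eq11_70 (all_cons eq11_71 (all_cons eq11_72 (all_cons eq11_73 (all_cons eq11_74 (all_cons eq11_75 (all_cons eq11_76 (all_cons eq11_77 (all_cons eq11_78 (all_cons eq11_79 (all_cons eq11_80 (all_cons eq11_81 (all_cons eq11_82 (all_cons eq11_83 (all_cons eq11_84 (all_cons eq11_85 (all_cons eq11_86 (all_cons eq11_87 (all_cons eq11_88 (all_cons eq11_89 (all_cons eq11_90 (all_cons eq11_91 (all_cons eq11_92 (all_cons eq11_93 (all_cons eq11_94 (all_cons eq11_95 (all_cons eq11_96 (all_cons eq11_97 (all_cons eq11_98 (all_cons eq11_99 (all_cons eq11_100 (all_cons eq11_101 (all_cons eq11_102 (all_cons eq11_103 (all_cons eq11_104 (all_cons eq11_105 (all_cons eq11_106 (all_cons eq11_107 (all_cons eq11_108 (all_cons eq11_109 (all_cons eq11_110 (all_cons eq11_111 (all_cons eq11_112 (all_cons eq11_113 (all_cons eq11_114 (all_cons eq11_115 (all_cons eq11_116 (all_cons eq11_117 (all_cons eq11_118 (all_cons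 eq11_119 (all_cons eq11_120 (all_cons eq11_121 (all_cons eq11_122 (all_cons eq11_123 (all_cons eq11_124 (all_cons eq11_125 (all_cons eq11_126 (all_cons eq11_127 (all_cons eq11_128 (all_cons eq11_129 (all_cons eq11_130 (all_cons eq11_131 (all_cons eq11_132 (all_cons eq11_133 (all_cons eq11_134 (all_cons eq11_135 (all_cons eq11_136 (all_cons eq11_137 (all_cons eq11_138 (all_cons eq11_139 (all_cons eq11_140 (all_cons eq11_141 (all_cons eq11_142 (all_cons eq11_143 (all_cons eq11_144 (all_cons eq11_145 (all_cons eq11_146 (all_cons eq11_147 (all_cons eq11_148 (all_cons eq11_149 (all_nil))))))))))))))))))))))))))))))))))))))))))))))))))))))))))))))))))))))))))))))))))))))))))))))))))))))))))))))))))))))))))))))))))))))))))))))))))))))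

theorem eq11_grp1 : ∀ c ∈ ([(599700, 3998), (603698, 3998), (607696, 3998), (611694, 3998), (615692, 3998), (619690, 3998), (623688, 3998), (627686, 3998), (631684, 3998), (635682, 3998), (639680, 3998), (643678, 3998), (647676, 3998), (651674, 3998), (655672, 3998), (659670, 3998), (663668, 3998), (667666, 3998), (671664, 3998), (675662, 3998), (679660, 3998), (683658, 3998), (687656, 3998), (691654, 3998), (695652, 3998), (699650, 3998), (703648, 3998), (707646, 3998), (711644, 3998), (715642, 3998), (719640, 3998), (723638, 3998), (727636, 3998), (731634, 3998), (735632, 3998), (739630, 3998), (743628, 3998), (747626, 3998), (751624, 3998), (755622, 3998), (759620, 3998), (763618, 3998), (767616, 3998), (771614, 3998), (775612, 3998), (779610, 3998), (783608, 3998), (787606, 3998), (791604, 3998), (795602, 3998), (799600, 3998), (803598, 3998), (807596, 3998), (811594, 3998), (815592, 3998), (819590, 3998), (823588, 3998), (827586, 3998), (831584, 3998), (835582, 3998), (839580, 3998), (843578, 3998), (847576, 3998), (851574, 3998), (855572, 3998), (859570, 3998),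 (863568, 3998), (867566, 3998), (871564, 3998), (875562, 3998), (879560, 3998), (883558, 3998), (887556, 3998), (891554, 3998), (895552, 3998), (899550, 3998), (903548, 3998), (907546, 3998), (911544, 3998), (915542, 3998), (919540, 3998), (923538, 3998), (927536, 3998), (931534, 3998), (935532, 3998), (939530, 3998), (943528, 3998), (947526, 3998), (951524, 3998), (955522, 3998), (959520, 3998), (963518, 3998), (967516, 3998), (971514, 3998), (975512, 3998), (979510, 3998), (983508, 3998), (987506, 3998), (991504, 3998), (995502, 3998), (999500, 3998), (1003498, 3998), (1007496, 3998), (1011494, 3998), (1015492, 3998), (1019490, 3998), (1023488, 3998), (1027486, 3998), (1031484, 3998), (1035482, 3998), (1039480, 3998), (1043478, 3998), (1047476, 3998), (1051474, 3998), (1055472, 3998), (1059470, 3998), (1063468, 3998), (1067466, 3998), (1071464, 3998), (1075462, 3998), (1079460, 3998), (1083458, 3998), (1087456, 3998), (1091454, 3998), (1095452, 3998), (1099450, 3998), (1103448, 3998), (1107446, 3998), (1111444, 3998), (1115442, 3998), (1119440, 3998), (1123438,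 3998), (1127436, 3998), (1131434, 3998), (1135432, 3998), (1139430, 3998), (1143428, 3998), (1147426, 3998), (1151424, 3998), (1155422, 3998), (1159420, 3998), (1163418, 3998), (1167416, 3998), (1171414, 3998), (1175412, 3998), (1179410, 3998), (1183408, 3998), (1187406, 3998), (1191404, 3998), (1195402, 3998)] : List (ℕ × ℕ)), allR c.1 c.2 (fun q => Nat.beq (f11 q) ((fun q => f8 (f8 (f9 (f9 (f10 (f8 (f8 (f8 (f10 (f8 (f8 (f8 (f10 (f9 (f8 (f10 (f8 (f8 (f10 (f9 (f8 (f10 (f8 (f8 (q))))))))))))))))))))))))) q)) = true :=
  all_cons eq11_150 (all_cons eq11_151 (all_cons eq11_152 (all_cons eq11_153 (all_cons eq11_154 (all_cons eq11_155 (all_cons eq11_156 (all_cons eq11_157 (all_cons eq11_158 (all_cons eq11_159 (all_cons eq11_160 (all_cons eq11_161 (all_cons eq11_162 (all_cons eq11_163 (all_cons eq11_164 (all_cons eq11_165 (all_cons eq11_166 (all_cons eq11_167 (all_cons eq11_168 (all_cons eq11_169 (all_cons eq11_170 (all_cons eq11_171 (all_cons eq11_172 (all_cons eq11_173 (all_cons eq11_174 (all_cons eq11_175 (all_cons eq11_176 (all_cons eq11_177 (all_cons eq11_178 (all_cons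 eq11_179 (all_cons eq11_180 (all_cons eq11_181 (all_cons eq11_182 (all_cons eq11_183 (all_cons eq11_184 (all_cons eq11_185 (all_cons eq11_186 (all_cons eq11_187 (all_cons eq11_188 (all_cons eq11_189 (all_cons eq11_190 (all_cons eq11_191 (all_cons eq11_192 (all_cons eq11_193 (all_cons eq11_194 (all_cons eq11_195 (all_cons eq11_196 (all_cons eq11_197 (all_cons eq11_198 (all_cons eq11_199 (all_cons eq11_200 (all_cons eq11_201 (all_cons eq11_202 (all_cons eq11_203 (all_cons eq11_204 (all_cons eq11_205 (all_cons eq11_206 (all_cons eq11_207 (all_cons eq11_208 (all_cons eq11_209 (all_cons eq11_210 (all_cons eq11_211 (all_cons eq11_212 (all_cons eq11_213 (all_cons eq11_214 (all_cons eq11_215 (all_cons eq11_216 (all_cons eq11_217 (all_cons eq11_218 (all_cons eq11_219 (all_cons eq11_220 (all_cons eq11_221 (all_cons eq11_222 (all_cons eq11_223 (all_cons eq11_224 (all_cons eq11_225 (all_cons eq11_226 (all_cons eq11_227 (all_cons eq11_228 (all_cons eq11_229 (all_cons eq11_230 (all_cons eq11_231 (all_cons eq11_232 (all_cons eq11_233 (all_cons eq11_234 (all_cons eq11_235 (all_cons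 eq11_236 (all_cons eq11_237 (all_cons eq11_238 (all_cons eq11_239 (all_cons eq11_240 (all_cons eq11_241 (all_cons eq11_242 (all_cons eq11_243 (all_cons eq11_244 (all_cons eq11_245 (all_cons eq11_246 (all_cons eq11_247 (all_cons eq11_248 (all_cons eq11_249 (all_cons eq11_250 (all_cons eq11_251 (all_cons eq11_252 (all_cons eq11_253 (all_cons eq11_254 (all_cons eq11_255 (all_cons eq11_256 (all_cons eq11_257 (all_cons eq11_258 (all_cons eq11_259 (all_cons eq11_260 (all_cons eq11_261 (all_cons eq11_262 (all_cons eq11_263 (all_cons eq11_264 (all_cons eq11_265 (all_cons eq11_266 (all_cons eq11_267 (all_cons eq11_268 (all_cons eq11_269 (all_cons eq11_270 (all_cons eq11_271 (all_cons eq11_272 (all_cons eq11_273 (all_cons eq11_274 (all_cons eq11_275 (all_cons eq11_276 (all_cons eq11_277 (all_cons eq11_278 (all_cons eq11_279 (all_cons eq11_280 (all_cons eq11_281 (all_cons eq11_282 (all_cons eq11_283 (all_cons eq11_284 (all_cons eq11_285 (all_cons eq11_286 (all_cons eq11_287 (all_cons eq11_288 (all_cons eq11_289 (all_cons eq11_290 (all_cons eq11_291 (all_cons eq11_292 (all_cons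 eq11_293 (all_cons eq11_294 (all_cons eq11_295 (all_cons eq11_296 (all_cons eq11_297 (all_cons eq11_298 (all_cons eq11_299 (all_nil))))))))))))))))))))))))))))))))))))))))))))))))))))))))))))))))))))))))))))))))))))))))))))))))))))))))))))))))))))))))))))))))))))))))))))))))))))))

theorem eq11_grp2 : ∀ c ∈ ([(1199400, 3998), (1203398, 3998), (1207396, 3998), (1211394, 3998), (1215392, 3998), (1219390, 3998), (1223388, 3998), (1227386, 3998), (1231384, 3998), (1235382, 3998), (1239380, 3998), (1243378, 3998), (1247376, 3998), (1251374, 3998), (1255372, 3998), (1259370, 3998), (1263368, 3998), (1267366, 3998), (1271364, 3998), (1275362, 3998), (1279360, 3998), (1283358, 3998), (1287356, 3998), (1291354, 3998), (1295352, 3998), (1299350, 3998), (1303348, 3998), (1307346, 3998), (1311344, 3998), (1315342, 3998), (1319340, 3998), (1323338, 3998), (1327336, 3998), (1331334, 3998), (1335332, 3998), (1339330, 3998), (1343328, 3998), (1347326, 3998), (1351324, 3998), (1355322, 3998), (1359320, 3998), (1363318, 3998), (1367316, 3998), (1371314, 3998), (1375312, 3998), (1379310,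 3998), (1383308, 3998), (1387306, 3998), (1391304, 3998), (1395302, 3998), (1399300, 3998), (1403298, 3998), (1407296, 3998), (1411294, 3998), (1415292, 3998), (1419290, 3998), (1423288, 3998), (1427286, 3998), (1431284, 3998), (1435282, 3998), (1439280, 3998), (1443278, 3998), (1447276, 3998), (1451274, 3998), (1455272, 3998), (1459270, 3998), (1463268, 3998), (1467266, 3998), (1471264, 3998), (1475262, 3998), (1479260, 3998), (1483258, 3998), (1487256, 3998), (1491254, 3998), (1495252, 3998), (1499250, 3998), (1503248, 3998), (1507246, 3998), (1511244, 3998), (1515242, 3998), (1519240, 3998), (1523238, 3998), (1527236, 3998), (1531234, 3998), (1535232, 3768)] : List (ℕ × ℕ)), allR c.1 c.2 (fun q => Nat.beq (f11 q) ((fun q => f8 (f8 (f9 (f9 (f10 (f8 (f8 (f8 (f10 (f8 (f8 (f8 (f10 (f9 (f8 (f10 (f8 (f8 (f10 (f9 (f8 (f10 (f8 (f8 (q))))))))))))))))))))))))) q)) = true :=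
  all_cons eq11_300 (all_cons eq11_301 (all_cons eq11_302 (all_cons eq11_303 (all_cons eq11_304 (all_cons eq11_305 (all_cons eq11_306 (all_cons eq11_307 (all_cons eq11_308 (all_cons eq11_309 (all_cons eq11_310 (all_cons eq11_311 (all_cons eq11_312 (all_cons eq11_313 (all_cons eq11_314 (all_cons eq11_315 (all_cons eq11_316 (all_cons eq11_317 (all_cons eq11_318 (all_cons eq11_319 (all_cons eq11_320 (all_cons eq11_321 (all_cons eq11_322 (all_cons eq11_323 (all_cons eq11_324 (all_cons eq11_325 (all_cons eq11_326 (all_cons eq11_327 (all_cons eq11_328 (all_cons eq11_329 (all_cons eq11_330 (all_cons eq11_331 (all_cons eq11_332 (all_cons eq11_333 (all_cons eq11_334 (all_cons eq11_335 (all_cons eq11_336 (all_cons eq11_337 (all_cons eq11_338 (all_cons eq11_339 (all_cons eq11_340 (all_cons eq11_341 (all_cons eq11_342 (all_cons eq11_343 (all_cons eq11_344 (all_cons eq11_345 (all_cons eq11_346 (all_cons eq11_347 (all_cons eq11_348 (all_cons eq11_349 (all_cons eq11_350 (all_cons eq11_351 (all_cons eq11_352 (all_cons eq11_353 (all_cons eq11_354 (all_cons eq11_355 (all_cons eq11_356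 (all_cons eq11_357 (all_cons eq11_358 (all_cons eq11_359 (all_cons eq11_360 (all_cons eq11_361 (all_cons eq11_362 (all_cons eq11_363 (all_cons eq11_364 (all_cons eq11_365 (all_cons eq11_366 (all_cons eq11_367 (all_cons eq11_368 (all_cons eq11_369 (all_cons eq11_370 (all_cons eq11_371 (all_cons eq11_372 (all_cons eq11_373 (all_cons eq11_374 (all_cons eq11_375 (all_cons eq11_376 (all_cons eq11_377 (all_cons eq11_378 (all_cons eq11_379 (all_cons eq11_380 (all_cons eq11_381 (all_cons eq11_382 (all_cons eq11_383 (all_cons eq11_384 (all_nil)))))))))))))))))))))))))))))))))))))))))))))))))))))))))))))))))))))))))))))))))))))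

/-- the table agrees with the word -/
theorem eq11 : ∀ q < 1539000, f11 q = wordF W11 q :=
  eq_of_chunks (f := f11) (g := (fun q => f8 (f8 (f9 (f9 (f10 (f8 (f8 (f8 (f10 (f8 (f8 (f8 (f10 (f9 (f8 (f10 (f8 (f8 (f10 (f9 (f8 (f10 (f8 (f8 (q)))))))))))))))))))))))))) ([(0, 3998), (3998, 3998), (7996, 3998), (11994, 3998), (15992, 3998), (19990, 3998), (23988, 3998), (27986, 3998), (31984, 3998), (35982, 3998), (39980, 3998), (43978, 3998), (47976, 3998), (51974, 3998), (55972, 3998), (59970, 3998), (63968, 3998), (67966, 3998), (71964, 3998), (75962, 3998), (79960, 3998), (83958, 3998), (87956, 3998), (91954, 3998), (95952, 3998), (99950, 3998), (103948, 3998), (107946, 3998), (111944, 3998), (115942, 3998), (119940, 3998), (123938, 3998), (127936, 3998), (131934, 3998), (135932, 3998), (139930, 3998), (143928, 3998), (147926, 3998), (151924, 3998), (155922, 3998), (159920, 3998), (163918, 3998), (167916, 3998), (171914, 3998), (175912, 3998), (179910, 3998), (183908, 3998), (187906, 3998), (191904, 3998), (195902, 3998), (199900, 3998), (203898, 3998), (207896, 3998),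 (211894, 3998), (215892, 3998), (219890, 3998), (223888, 3998), (227886, 3998), (231884, 3998), (235882, 3998), (239880, 3998), (243878, 3998), (247876, 3998), (251874, 3998), (255872, 3998), (259870, 3998), (263868, 3998), (267866, 3998), (271864, 3998), (275862, 3998), (279860, 3998), (283858, 3998), (287856, 3998), (291854, 3998), (295852, 3998), (299850, 3998), (303848, 3998), (307846, 3998), (311844, 3998), (315842, 3998), (319840, 3998), (323838, 3998), (327836, 3998), (331834, 3998), (335832, 3998), (339830, 3998), (343828, 3998), (347826, 3998), (351824, 3998), (355822, 3998), (359820, 3998), (363818, 3998), (367816, 3998), (371814, 3998), (375812, 3998), (379810, 3998), (383808, 3998), (387806, 3998), (391804, 3998), (395802, 3998), (399800, 3998), (403798, 3998), (407796, 3998), (411794, 3998), (415792, 3998), (419790, 3998), (423788, 3998), (427786, 3998), (431784, 3998), (435782, 3998), (439780, 3998), (443778, 3998), (447776, 3998), (451774, 3998), (455772, 3998), (459770, 3998), (463768, 3998), (467766, 3998), (471764, 3998), (475762, 3998), (479760,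 3998), (483758, 3998), (487756, 3998), (491754, 3998), (495752, 3998), (499750, 3998), (503748, 3998), (507746, 3998), (511744, 3998), (515742, 3998), (519740, 3998), (523738, 3998), (527736, 3998), (531734, 3998), (535732, 3998), (539730, 3998), (543728, 3998), (547726, 3998), (551724, 3998), (555722, 3998), (559720, 3998), (563718, 3998), (567716, 3998), (571714, 3998), (575712, 3998), (579710, 3998), (583708, 3998), (587706, 3998), (591704, 3998), (595702, 3998)] ++ [(599700, 3998), (603698, 3998), (607696, 3998), (611694, 3998), (615692, 3998), (619690, 3998), (623688, 3998), (627686, 3998), (631684, 3998), (635682, 3998), (639680, 3998), (643678, 3998), (647676, 3998), (651674, 3998), (655672, 3998), (659670, 3998), (663668, 3998), (667666, 3998), (671664, 3998), (675662, 3998), (679660, 3998), (683658, 3998), (687656, 3998), (691654, 3998), (695652, 3998), (699650, 3998), (703648, 3998), (707646, 3998), (711644, 3998), (715642, 3998), (719640, 3998), (723638, 3998), (727636, 3998), (731634, 3998), (735632, 3998), (739630, 3998), (743628, 3998), (747626, 3998),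 (751624, 3998), (755622, 3998), (759620, 3998), (763618, 3998), (767616, 3998), (771614, 3998), (775612, 3998), (779610, 3998), (783608, 3998), (787606, 3998), (791604, 3998), (795602, 3998), (799600, 3998), (803598, 3998), (807596, 3998), (811594, 3998), (815592, 3998), (819590, 3998), (823588, 3998), (827586, 3998), (831584, 3998), (835582, 3998), (839580, 3998), (843578, 3998), (847576, 3998), (851574, 3998), (855572, 3998), (859570, 3998), (863568, 3998), (867566, 3998), (871564, 3998), (875562, 3998), (879560, 3998), (883558, 3998), (887556, 3998), (891554, 3998), (895552, 3998), (899550, 3998), (903548, 3998), (907546, 3998), (911544, 3998), (915542, 3998), (919540, 3998), (923538, 3998), (927536, 3998), (931534, 3998), (935532, 3998), (939530, 3998), (943528, 3998), (947526, 3998), (951524, 3998), (955522, 3998), (959520, 3998), (963518, 3998), (967516, 3998), (971514, 3998), (975512, 3998), (979510, 3998), (983508, 3998), (987506, 3998), (991504, 3998), (995502, 3998), (999500, 3998), (1003498, 3998), (1007496, 3998), (1011494, 3998), (1015492, 3998), (1019490,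 3998), (1023488, 3998), (1027486, 3998), (1031484, 3998), (1035482, 3998), (1039480, 3998), (1043478, 3998), (1047476, 3998), (1051474, 3998), (1055472, 3998), (1059470, 3998), (1063468, 3998), (1067466, 3998), (1071464, 3998), (1075462, 3998), (1079460, 3998), (1083458, 3998), (1087456, 3998), (1091454, 3998), (1095452, 3998), (1099450, 3998), (1103448, 3998), (1107446, 3998), (1111444, 3998), (1115442, 3998), (1119440, 3998), (1123438, 3998), (1127436, 3998), (1131434, 3998), (1135432, 3998), (1139430, 3998), (1143428, 3998), (1147426, 3998), (1151424, 3998), (1155422, 3998), (1159420, 3998), (1163418, 3998), (1167416, 3998), (1171414, 3998), (1175412, 3998), (1179410, 3998), (1183408, 3998), (1187406, 3998), (1191404, 3998), (1195402, 3998)] ++ [(1199400, 3998), (1203398, 3998), (1207396, 3998), (1211394, 3998), (1215392, 3998), (1219390, 3998), (1223388, 3998), (1227386, 3998), (1231384, 3998), (1235382, 3998), (1239380, 3998), (1243378, 3998), (1247376, 3998), (1251374, 3998), (1255372, 3998), (1259370, 3998), (1263368, 3998), (1267366, 3998), (1271364, 3998),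 (1275362, 3998), (1279360, 3998), (1283358, 3998), (1287356, 3998), (1291354, 3998), (1295352, 3998), (1299350, 3998), (1303348, 3998), (1307346, 3998), (1311344, 3998), (1315342, 3998), (1319340, 3998), (1323338, 3998), (1327336, 3998), (1331334, 3998), (1335332, 3998), (1339330, 3998), (1343328, 3998), (1347326, 3998), (1351324, 3998), (1355322, 3998), (1359320, 3998), (1363318, 3998), (1367316, 3998), (1371314, 3998), (1375312, 3998), (1379310, 3998), (1383308, 3998), (1387306, 3998), (1391304, 3998), (1395302, 3998), (1399300, 3998), (1403298, 3998), (1407296, 3998), (1411294, 3998), (1415292, 3998), (1419290, 3998), (1423288, 3998), (1427286, 3998), (1431284, 3998), (1435282, 3998), (1439280, 3998), (1443278, 3998), (1447276, 3998), (1451274, 3998), (1455272, 3998), (1459270, 3998), (1463268, 3998), (1467266, 3998), (1471264, 3998), (1475262, 3998), (1479260, 3998), (1483258, 3998), (1487256, 3998), (1491254, 3998), (1495252, 3998), (1499250, 3998), (1503248, 3998), (1507246, 3998), (1511244, 3998), (1515242, 3998), (1519240, 3998), (1523238, 3998), (1527236,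 3998), (1531234, 3998), (1535232, 3768)]) (by decide +kernel) (all_append (all_append (eq11_grp0) eq11_grp1) eq11_grp2)

end Cfsg.Agent.HNOut
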