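import Cfsg.Agent.Lib.Lead.HNOut.D0
import Cfsg.Agent.Lib.Lead.HNOut.D1
import Cfsg.Agent.Lib.Lead.HNOut.D2
import Cfsg.Agent.Lib.Lead.HNOut.D3
import Cfsg.Agent.Lib.Lead.HNOut.D4
import Cfsg.Agent.Lib.Lead.HNOut.D6
import Cfsg.Agent.Lib.Lead.HNOut.D7

/-! # The outer automorphism group of the Harada–Norton group: the further relator number 10 for the images of the letters, a part (generated) -/

set_option autoImplicit false
set_option maxRecDepth 100000

namespace Cfsg.Agent.HNOut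

open Cfsg.Agent.PF Cfsg.Agent.Lib.Helper6 Cfsg.Agent.Lib.Helper6.TC Cfsg.Agent.Lib.Helper6.NatArr
open Cfsg.Agent.PL (Acts evalF)

theorem pextra10_0 : allR 0 9053 (fun q => Nat.beq ((fun q => f7 (f7 (f7 (f7 (f7 (f7 (f7 (f7 (f7 (f7 (q))))))))))) q) ((fun q => q) q)) = true := by decide +kernel

theorem pextra10_1 : allR 9053 9053 (fun q => Nat.beq ((fun q => f7 (f7 (f7 (f7 (f7 (f7 (f7 (f7 (f7 (f7 (q))))))))))) q) ((fun q => q) q)) = true := by decide +kernel

theorem pextra10_2 : allR 18106 9053 (fun q => Nat.beq ((fun q => f7 (f7 (f7 (f7 (f7 (f7 (f7 (f7 (f7 (f7 (q))))))))))) q) ((fun q => q) q)) = true := by decide +kernel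

theorem pextra10_3 : allR 27159 9053 (fun q => Nat.beq ((fun q => f7 (f7 (f7 (f7 (f7 (f7 (f7 (f7 (f7 (f7 (q))))))))))) q) ((fun q => q) q)) = true := by decide +kernel

theorem pextra10_4 : allR 36212 9053 (fun q => Nat.beq ((fun q => f7 (f7 (f7 (f7 (f7 (f7 (f7 (f7 (f7 (f7 (q))))))))))) q) ((fun q => q) q)) = true := by decide +kernel

theorem pextra10_5 : allR 45265 9053 (fun q => Nat.beq ((fun q => f7 (f7 (f7 (f7 (f7 (f7 (f7 (f7 (f7 (f7 (q))))))))))) q) ((fun q => q) q)) = true := by decide +kernel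

theorem pextra10_6 : allR 54318 9053 (fun q => Nat.beq ((fun q => f7 (f7 (f7 (f7 (f7 (f7 (f7 (f7 (f7 (f7 (q))))))))))) q) ((fun q => q) q)) = true := by decide +kernel

theorem pextra10_7 : allR 63371 9053 (fun q => Nat.beq ((fun q => f7 (f7 (f7 (f7 (f7 (f7 (f7 (f7 (f7 (f7 (q))))))))))) q) ((fun q => q) q)) = true := by decide +kernel

theorem pextra10_8 : allR 72424 9053 (fun q => Nat.beq ((fun q => f7 (f7 (f7 (f7 (f7 (f7 (f7 (f7 (f7 (f7 (q))))))))))) q) ((fun q => q) q)) = true := by decide +kernel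

theorem pextra10_9 : allR 81477 9053 (fun q => Nat.beq ((fun q => f7 (f7 (f7 (f7 (f7 (f7 (f7 (f7 (f7 (f7 (q))))))))))) q) ((fun q => q) q)) = true := by decide +kernel

theorem pextra10_10 : allR 90530 9053 (fun q => Nat.beq ((fun q => f7 (f7 (f7 (f7 (f7 (f7 (f7 (f7 (f7 (f7 (q))))))))))) q) ((fun q => q) q)) = true := by decide +kernel

theorem pextra10_11 : allR 99583 9053 (fun q => Nat.beq ((fun q => f7 (f7 (f7 (f7 (f7 (f7 (f7 (f7 (f7 (f7 (q))))))))))) q) ((fun q => q) q)) = true := by decide +kernel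

theorem pextra10_12 : allR 108636 9053 (fun q => Nat.beq ((fun q => f7 (f7 (f7 (f7 (f7 (f7 (f7 (f7 (f7 (f7 (q))))))))))) q) ((fun q => q) q)) = true := by decide +kernel

theorem pextra10_13 : allR 117689 9053 (fun q => Nat.beq ((fun q => f7 (f7 (f7 (f7 (f7 (f7 (f7 (f7 (f7 (f7 (q))))))))))) q) ((fun q => q) q)) = true := by decide +kernel

theorem pextra10_14 : allR 126742 9053 (fun q => Nat.beq ((fun q => f7 (f7 (f7 (f7 (f7 (f7 (f7 (f7 (f7 (f7 (q))))))))))) q) ((fun q => q) q)) = true := by decide +kernel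

theorem pextra10_15 : allR 135795 9053 (fun q => Nat.beq ((fun q => f7 (f7 (f7 (f7 (f7 (f7 (f7 (f7 (f7 (f7 (q))))))))))) q) ((fun q => q) q)) = true := by decide +kernel

theorem pextra10_16 : allR 144848 9053 (fun q => Nat.beq ((fun q => f7 (f7 (f7 (f7 (f7 (f7 (f7 (f7 (f7 (f7 (q))))))))))) q) ((fun q => q) q)) = true := by decide +kernel

theorem pextra10_17 : allR 153901 9053 (fun q => Nat.beq ((fun q => f7 (f7 (f7 (f7 (f7 (f7 (f7 (f7 (f7 (f7 (q))))))))))) q) ((fun q => q) q)) = true := by decide +kernel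

theorem pextra10_18 : allR 162954 9053 (fun q => Nat.beq ((fun q => f7 (f7 (f7 (f7 (f7 (f7 (f7 (f7 (f7 (f7 (q))))))))))) q) ((fun q => q) q)) = true := by decide +kernel

theorem pextra10_19 : allR 172007 9053 (fun q => Nat.beq ((fun q => f7 (f7 (f7 (f7 (f7 (f7 (f7 (f7 (f7 (f7 (q))))))))))) q) ((fun q => q) q)) = true := by decide +kernel

theorem pextra10_20 : allR 181060 9053 (fun q => Nat.beq ((fun q => f7 (f7 (f7 (f7 (f7 (f7 (f7 (f7 (f7 (f7 (q))))))))))) q) ((fun q => q) q)) = true := by decide +kernel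

theorem pextra10_21 : allR 190113 9053 (fun q => Nat.beq ((fun q => f7 (f7 (f7 (f7 (f7 (f7 (f7 (f7 (f7 (f7 (q))))))))))) q) ((fun q => q) q)) = true := by decide +kernel

theorem pextra10_22 : allR 199166 9053 (fun q => Nat.beq ((fun q => f7 (f7 (f7 (f7 (f7 (f7 (f7 (f7 (f7 (f7 (q))))))))))) q) ((fun q => q) q)) = true := by decide +kernel

theorem pextra10_23 : allR 208219 9053 (fun q => Nat.beq ((fun q => f7 (f7 (f7 (f7 (f7 (f7 (f7 (f7 (f7 (f7 (q))))))))))) q) ((fun q => q) q)) = true := by decide +kernel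

theorem pextra10_24 : allR 217272 9053 (fun q => Nat.beq ((fun q => f7 (f7 (f7 (f7 (f7 (f7 (f7 (f7 (f7 (f7 (q))))))))))) q) ((fun q => q) q)) = true := by decide +kernel


end Cfsg.Agent.HNOut
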