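import Cfsg.Agent.Lib.Lead.HNOut.D0
import Cfsg.Agent.Lib.Lead.HNOut.D1
import Cfsg.Agent.Lib.Lead.HNOut.D2
import Cfsg.Agent.Lib.Lead.HNOut.D3
import Cfsg.Agent.Lib.Lead.HNOut.D4
import Cfsg.Agent.Lib.Lead.HNOut.D6
import Cfsg.Agent.Lib.Lead.HNOut.D7

/-! # The outer automorphism group of the Harada–Norton group: the further relator number 6 for the images of the letters, a part (generated) -/

set_option autoImplicit false
set_option maxRecDepth 100000

namespace Cfsg.Agent.HNOut

open Cfsg.Agent.PF Cfsg.Agent.Lib.Helper6 Cfsg.Agent.Lib.Helper6.TC Cfsg.Agent.Lib.Helper6.NatArr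
open Cfsg.Agent.PL (Acts evalF)

theorem pextra6_0 : allR 0 14250 (fun q => Nat.beq ((fun q => f0 (f0 (f4 (f0 (f0 (f4 (q))))))) q) ((fun q => q) q)) = true := by decide +kernel

theorem pextra6_1 : allR 14250 14250 (fun q => Nat.beq ((fun q => f0 (f0 (f4 (f0 (f0 (f4 (q))))))) q) ((fun q => q) q)) = true := by decide +kernel

theorem pextra6_2 : allR 28500 14250 (fun q => Nat.beq ((fun q => f0 (f0 (f4 (f0 (f0 (f4 (q))))))) q) ((fun q => q) q)) = true := by decide +kernel

theorem pextra6_3 : allR 42750 14250 (fun q => Nat.beq ((fun q => f0 (f0 (f4 (f0 (f0 (f4 (q))))))) q) ((fun q => q) q)) = true := by decide +kernel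

theorem pextra6_4 : allR 57000 14250 (fun q => Nat.beq ((fun q => f0 (f0 (f4 (f0 (f0 (f4 (q))))))) q) ((fun q => q) q)) = true := by decide +kernel

theorem pextra6_5 : allR 71250 14250 (fun q => Nat.beq ((fun q => f0 (f0 (f4 (f0 (f0 (f4 (q))))))) q) ((fun q => q) q)) = true := by decide +kernel

theorem pextra6_6 : allR 85500 14250 (fun q => Nat.beq ((fun q => f0 (f0 (f4 (f0 (f0 (f4 (q))))))) q) ((fun q => q) q)) = true := by decide +kernel

theorem pextra6_7 : allR 99750 14250 (fun q => Nat.beq ((fun q => f0 (f0 (f4 (f0 (f0 (f4 (q))))))) q) ((fun q => q) q)) = true := by decide +kernel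

theorem pextra6_8 : allR 114000 14250 (fun q => Nat.beq ((fun q => f0 (f0 (f4 (f0 (f0 (f4 (q))))))) q) ((fun q => q) q)) = true := by decide +kernel

theorem pextra6_9 : allR 128250 14250 (fun q => Nat.beq ((fun q => f0 (f0 (f4 (f0 (f0 (f4 (q))))))) q) ((fun q => q) q)) = true := by decide +kernel

theorem pextra6_10 : allR 142500 14250 (fun q => Nat.beq ((fun q => f0 (f0 (f4 (f0 (f0 (f4 (q))))))) q) ((fun q => q) q)) = true := by decide +kernel

theorem pextra6_11 : allR 156750 14250 (fun q => Nat.beq ((fun q => f0 (f0 (f4 (f0 (f0 (f4 (q))))))) q) ((fun q => q) q)) = true := by decide +kernel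

theorem pextra6_12 : allR 171000 14250 (fun q => Nat.beq ((fun q => f0 (f0 (f4 (f0 (f0 (f4 (q))))))) q) ((fun q => q) q)) = true := by decide +kernel

theorem pextra6_13 : allR 185250 14250 (fun q => Nat.beq ((fun q => f0 (f0 (f4 (f0 (f0 (f4 (q))))))) q) ((fun q => q) q)) = true := by decide +kernel

theorem pextra6_14 : allR 199500 14250 (fun q => Nat.beq ((fun q => f0 (f0 (f4 (f0 (f0 (f4 (q))))))) q) ((fun q => q) q)) = true := by decide +kernel

theorem pextra6_15 : allR 213750 14250 (fun q => Nat.beq ((fun q => f0 (f0 (f4 (f0 (f0 (f4 (q))))))) q) ((fun q => q) q)) = true := by decide +kernel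

theorem pextra6_16 : allR 228000 14250 (fun q => Nat.beq ((fun q => f0 (f0 (f4 (f0 (f0 (f4 (q))))))) q) ((fun q => q) q)) = true := by decide +kernel

theorem pextra6_17 : allR 242250 14250 (fun q => Nat.beq ((fun q => f0 (f0 (f4 (f0 (f0 (f4 (q))))))) q) ((fun q => q) q)) = true := by decide +kernel

theorem pextra6_18 : allR 256500 14250 (fun q => Nat.beq ((fun q => f0 (f0 (f4 (f0 (f0 (f4 (q))))))) q) ((fun q => q) q)) = true := by decide +kernel

theorem pextra6_19 : allR 270750 14250 (fun q => Nat.beq ((fun q => f0 (f0 (f4 (f0 (f0 (f4 (q))))))) q) ((fun q => q) q)) = true := by decide +kernel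

theorem pextra6_20 : allR 285000 14250 (fun q => Nat.beq ((fun q => f0 (f0 (f4 (f0 (f0 (f4 (q))))))) q) ((fun q => q) q)) = true := by decide +kernel

theorem pextra6_21 : allR 299250 14250 (fun q => Nat.beq ((fun q => f0 (f0 (f4 (f0 (f0 (f4 (q))))))) q) ((fun q => q) q)) = true := by decide +kernel

theorem pextra6_22 : allR 313500 14250 (fun q => Nat.beq ((fun q => f0 (f0 (f4 (f0 (f0 (f4 (q))))))) q) ((fun q => q) q)) = true := by decide +kernel

theorem pextra6_23 : allR 327750 14250 (fun q => Nat.beq ((fun q => f0 (f0 (f4 (f0 (f0 (f4 (q))))))) q) ((fun q => q) q)) = true := by decide +kernel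

theorem pextra6_24 : allR 342000 14250 (fun q => Nat.beq ((fun q => f0 (f0 (f4 (f0 (f0 (f4 (q))))))) q) ((fun q => q) q)) = true := by decide +kernel


end Cfsg.Agent.HNOut
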