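import Cfsg.Agent.Lib.Lead.HNOut.D0
import Cfsg.Agent.Lib.Lead.HNOut.D1
import Cfsg.Agent.Lib.Lead.HNOut.D2
import Cfsg.Agent.Lib.Lead.HNOut.D3
import Cfsg.Agent.Lib.Lead.HNOut.D4
import Cfsg.Agent.Lib.Lead.HNOut.D6
import Cfsg.Agent.Lib.Lead.HNOut.D7

/-! # The outer automorphism group of the Harada–Norton group: the further relator number 7 for the images of the letters, a part (generated) -/

set_option autoImplicit false
set_option maxRecDepth 100000

namespace Cfsg.Agent.HNOut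

open Cfsg.Agent.PF Cfsg.Agent.Lib.Helper6 Cfsg.Agent.Lib.Helper6.TC Cfsg.Agent.Lib.Helper6.NatArr
open Cfsg.Agent.PL (Acts evalF)

theorem pextra7_0 : allR 0 11072 (fun q => Nat.beq ((fun q => f0 (f0 (f4 (f1 (f0 (f0 (f4 (f1 (q))))))))) q) ((fun q => q) q)) = true := by decide +kernel

theorem pextra7_1 : allR 11072 11072 (fun q => Nat.beq ((fun q => f0 (f0 (f4 (f1 (f0 (f0 (f4 (f1 (q))))))))) q) ((fun q => q) q)) = true := by decide +kernel

theorem pextra7_2 : allR 22144 11072 (fun q => Nat.beq ((fun q => f0 (f0 (f4 (f1 (f0 (f0 (f4 (f1 (q))))))))) q) ((fun q => q) q)) = true := by decide +kernel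

theorem pextra7_3 : allR 33216 11072 (fun q => Nat.beq ((fun q => f0 (f0 (f4 (f1 (f0 (f0 (f4 (f1 (q))))))))) q) ((fun q => q) q)) = true := by decide +kernel

theorem pextra7_4 : allR 44288 11072 (fun q => Nat.beq ((fun q => f0 (f0 (f4 (f1 (f0 (f0 (f4 (f1 (q))))))))) q) ((fun q => q) q)) = true := by decide +kernel

theorem pextra7_5 : allR 55360 11072 (fun q => Nat.beq ((fun q => f0 (f0 (f4 (f1 (f0 (f0 (f4 (f1 (q))))))))) q) ((fun q => q) q)) = true := by decide +kernel

theorem pextra7_6 : allR 66432 11072 (fun q => Nat.beq ((fun q => f0 (f0 (f4 (f1 (f0 (f0 (f4 (f1 (q))))))))) q) ((fun q => q) q)) = true := by decide +kernel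

theorem pextra7_7 : allR 77504 11072 (fun q => Nat.beq ((fun q => f0 (f0 (f4 (f1 (f0 (f0 (f4 (f1 (q))))))))) q) ((fun q => q) q)) = true := by decide +kernel

theorem pextra7_8 : allR 88576 11072 (fun q => Nat.beq ((fun q => f0 (f0 (f4 (f1 (f0 (f0 (f4 (f1 (q))))))))) q) ((fun q => q) q)) = true := by decide +kernel

theorem pextra7_9 : allR 99648 11072 (fun q => Nat.beq ((fun q => f0 (f0 (f4 (f1 (f0 (f0 (f4 (f1 (q))))))))) q) ((fun q => q) q)) = true := by decide +kernel

theorem pextra7_10 : allR 110720 11072 (fun q => Nat.beq ((fun q => f0 (f0 (f4 (f1 (f0 (f0 (f4 (f1 (q))))))))) q) ((fun q => q) q)) = true := by decide +kernel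

theorem pextra7_11 : allR 121792 11072 (fun q => Nat.beq ((fun q => f0 (f0 (f4 (f1 (f0 (f0 (f4 (f1 (q))))))))) q) ((fun q => q) q)) = true := by decide +kernel

theorem pextra7_12 : allR 132864 11072 (fun q => Nat.beq ((fun q => f0 (f0 (f4 (f1 (f0 (f0 (f4 (f1 (q))))))))) q) ((fun q => q) q)) = true := by decide +kernel

theorem pextra7_13 : allR 143936 11072 (fun q => Nat.beq ((fun q => f0 (f0 (f4 (f1 (f0 (f0 (f4 (f1 (q))))))))) q) ((fun q => q) q)) = true := by decide +kernel

theorem pextra7_14 : allR 155008 11072 (fun q => Nat.beq ((fun q => f0 (f0 (f4 (f1 (f0 (f0 (f4 (f1 (q))))))))) q) ((fun q => q) q)) = true := by decide +kernel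

theorem pextra7_15 : allR 166080 11072 (fun q => Nat.beq ((fun q => f0 (f0 (f4 (f1 (f0 (f0 (f4 (f1 (q))))))))) q) ((fun q => q) q)) = true := by decide +kernel

theorem pextra7_16 : allR 177152 11072 (fun q => Nat.beq ((fun q => f0 (f0 (f4 (f1 (f0 (f0 (f4 (f1 (q))))))))) q) ((fun q => q) q)) = true := by decide +kernel

theorem pextra7_17 : allR 188224 11072 (fun q => Nat.beq ((fun q => f0 (f0 (f4 (f1 (f0 (f0 (f4 (f1 (q))))))))) q) ((fun q => q) q)) = true := by decide +kernel

theorem pextra7_18 : allR 199296 11072 (fun q => Nat.beq ((fun q => f0 (f0 (f4 (f1 (f0 (f0 (f4 (f1 (q))))))))) q) ((fun q => q) q)) = true := by decide +kernel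

theorem pextra7_19 : allR 210368 11072 (fun q => Nat.beq ((fun q => f0 (f0 (f4 (f1 (f0 (f0 (f4 (f1 (q))))))))) q) ((fun q => q) q)) = true := by decide +kernel

theorem pextra7_20 : allR 221440 11072 (fun q => Nat.beq ((fun q => f0 (f0 (f4 (f1 (f0 (f0 (f4 (f1 (q))))))))) q) ((fun q => q) q)) = true := by decide +kernel

theorem pextra7_21 : allR 232512 11072 (fun q => Nat.beq ((fun q => f0 (f0 (f4 (f1 (f0 (f0 (f4 (f1 (q))))))))) q) ((fun q => q) q)) = true := by decide +kernel

theorem pextra7_22 : allR 243584 11072 (fun q => Nat.beq ((fun q => f0 (f0 (f4 (f1 (f0 (f0 (f4 (f1 (q))))))))) q) ((fun q => q) q)) = true := by decide +kernel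

theorem pextra7_23 : allR 254656 11072 (fun q => Nat.beq ((fun q => f0 (f0 (f4 (f1 (f0 (f0 (f4 (f1 (q))))))))) q) ((fun q => q) q)) = true := by decide +kernel

theorem pextra7_24 : allR 265728 11072 (fun q => Nat.beq ((fun q => f0 (f0 (f4 (f1 (f0 (f0 (f4 (f1 (q))))))))) q) ((fun q => q) q)) = true := by decide +kernel


end Cfsg.Agent.HNOut
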