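import Cfsg.Agent.Lib.Lead.HNOut.D0
import Cfsg.Agent.Lib.Lead.HNOut.D1
import Cfsg.Agent.Lib.Lead.HNOut.D2
import Cfsg.Agent.Lib.Lead.HNOut.D3
import Cfsg.Agent.Lib.Lead.HNOut.D4
import Cfsg.Agent.Lib.Lead.HNOut.D6
import Cfsg.Agent.Lib.Lead.HNOut.D7

/-! # The outer automorphism group of the Harada–Norton group: the images of the letters 0 and 1, a part (generated) -/

set_option autoImplicit false
set_option maxRecDepth 100000

namespace Cfsg.Agent.HNOut

open Cfsg.Agent.PF Cfsg.Agent.Lib.Helper6 Cfsg.Agent.Lib.Helper6.TC Cfsg.Agent.Lib.Helper6.NatArr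
open Cfsg.Agent.PL (Acts evalF)

theorem pinv0_0 : allR 0 32745 (fun q => Nat.beq ((fun q => f0 (f1 (q))) q) ((fun q => q) q)) = true := by decide +kernel

theorem pinv0_1 : allR 32745 32745 (fun q => Nat.beq ((fun q => f0 (f1 (q))) q) ((fun q => q) q)) = true := by decide +kernel

theorem pinv0_2 : allR 65490 32745 (fun q => Nat.beq ((fun q => f0 (f1 (q))) q) ((fun q => q) q)) = true := by decide +kernel

theorem pinv0_3 : allR 98235 32745 (fun q => Nat.beq ((fun q => f0 (f1 (q))) q) ((fun q => q) q)) = true := by decide +kernel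

theorem pinv0_4 : allR 130980 32745 (fun q => Nat.beq ((fun q => f0 (f1 (q))) q) ((fun q => q) q)) = true := by decide +kernel

theorem pinv0_5 : allR 163725 32745 (fun q => Nat.beq ((fun q => f0 (f1 (q))) q) ((fun q => q) q)) = true := by decide +kernel

theorem pinv0_6 : allR 196470 32745 (fun q => Nat.beq ((fun q => f0 (f1 (q))) q) ((fun q => q) q)) = true := by decide +kernel

theorem pinv0_7 : allR 229215 32745 (fun q => Nat.beq ((fun q => f0 (f1 (q))) q) ((fun q => q) q)) = true := by decide +kernel

theorem pinv0_8 : allR 261960 32745 (fun q => Nat.beq ((fun q => f0 (f1 (q))) q) ((fun q => q) q)) = true := by decide +kernel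

theorem pinv0_9 : allR 294705 32745 (fun q => Nat.beq ((fun q => f0 (f1 (q))) q) ((fun q => q) q)) = true := by decide +kernel

theorem pinv0_10 : allR 327450 32745 (fun q => Nat.beq ((fun q => f0 (f1 (q))) q) ((fun q => q) q)) = true := by decide +kernel

theorem pinv0_11 : allR 360195 32745 (fun q => Nat.beq ((fun q => f0 (f1 (q))) q) ((fun q => q) q)) = true := by decide +kernel

theorem pinv0_12 : allR 392940 32745 (fun q => Nat.beq ((fun q => f0 (f1 (q))) q) ((fun q => q) q)) = true := by decide +kernel

theorem pinv0_13 : allR 425685 32745 (fun q => Nat.beq ((fun q => f0 (f1 (q))) q) ((fun q => q) q)) = true := by decide +kernel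

theorem pinv0_14 : allR 458430 32745 (fun q => Nat.beq ((fun q => f0 (f1 (q))) q) ((fun q => q) q)) = true := by decide +kernel

theorem pinv0_15 : allR 491175 32745 (fun q => Nat.beq ((fun q => f0 (f1 (q))) q) ((fun q => q) q)) = true := by decide +kernel

theorem pinv0_16 : allR 523920 32745 (fun q => Nat.beq ((fun q => f0 (f1 (q))) q) ((fun q => q) q)) = true := by decide +kernel

theorem pinv0_17 : allR 556665 32745 (fun q => Nat.beq ((fun q => f0 (f1 (q))) q) ((fun q => q) q)) = true := by decide +kernel

theorem pinv0_18 : allR 589410 32745 (fun q => Nat.beq ((fun q => f0 (f1 (q))) q) ((fun q => q) q)) = true := by decide +kernel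

theorem pinv0_19 : allR 622155 32745 (fun q => Nat.beq ((fun q => f0 (f1 (q))) q) ((fun q => q) q)) = true := by decide +kernel

theorem pinv0_20 : allR 654900 32745 (fun q => Nat.beq ((fun q => f0 (f1 (q))) q) ((fun q => q) q)) = true := by decide +kernel

theorem pinv0_21 : allR 687645 32745 (fun q => Nat.beq ((fun q => f0 (f1 (q))) q) ((fun q => q) q)) = true := by decide +kernel

theorem pinv0_22 : allR 720390 32745 (fun q => Nat.beq ((fun q => f0 (f1 (q))) q) ((fun q => q) q)) = true := by decide +kernel

theorem pinv0_23 : allR 753135 32745 (fun q => Nat.beq ((fun q => f0 (f1 (q))) q) ((fun q => q) q)) = true := by decide +kernel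

theorem pinv0_24 : allR 785880 32745 (fun q => Nat.beq ((fun q => f0 (f1 (q))) q) ((fun q => q) q)) = true := by decide +kernel


end Cfsg.Agent.HNOut
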